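import Mathlib.GroupTheory.Perm.Basic
import Mathlib.GroupTheory.Index
import Mathlib.Algebra.Group.Subgroup.ZPowers.Basic

/-!
Owner: helper11. Aschbacher's criterion, slice D: the statement that a transitive group of affine maps of
an elementary 2-group whose point stabiliser normalises a Singer cycle contains the translations, or the
group has eight points.  See `notes/aschbacher_proof_v3.md`.
-/

set_option autoImplicit false

namespace CfsgLib.AschCrit

/-- A transitive affine group with a normal Singer cycle in the stabiliser of zero has the translations,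
except possibly on eight points. -/
def TranslationsOrEight.{v} : Prop :=
  ∀ (V : Type v) [AddCommGroup V] [Finite V] (Γ : Subgroup (Equiv.Perm V)),
    (∀ x : V, x + x = 0) →
    (∀ g ∈ Γ, ∀ x y : V, g (x + y) = g x + g y + g 0) →
    (∀ x : V, ∃ g ∈ Γ, g 0 = x) →
    (∃ c ∈ Γ, c 0 = 0 ∧ (∀ x y : V, x ≠ 0 → y ≠ 0 → ∃ j : ℕ, (c ^ j) x = y) ∧
      ∀ g ∈ Γ, g 0 = 0 → g * c * g⁻¹ ∈ Subgroup.zpowers c) →
    (∀ w : V, Equiv.addRight w ∈ Γ) ∨ Nat.card V = 8

end CfsgLib.AschCrit
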