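import Mathlib.FieldTheory.Galois.NormalBasis
import Mathlib.FieldTheory.Finite.GaloisField
import Mathlib.FieldTheory.Fixed
import Mathlib.RingTheory.IntegralDomain
import Mathlib.Algebra.Algebra.ZMod
import Mathlib.Algebra.BigOperators.Ring.Finset
import Mathlib.Algebra.CharP.Lemmas
import Mathlib.Algebra.Ring.Subring.Basic
import Mathlib.Tactic.Group

/-!
Owner: helper8. Aschbacher's criterion, slice D: maps normalising a Singer cycle of an elementary two-group
are field automorphisms of a field structure on it.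
-/

set_option autoImplicit false
set_option linter.style.haveILetI false

namespace CfsgLib.AschCrit

universe v w

theorem zmod_two_cases : ∀ k : ZMod 2, k = 0 ∨ k = 1 := by decide

/-- In exponent two a symmetric double sum is its diagonal. -/
theorem sum_sum_of_symm {ι M : Type*} [Fintype ι] [AddCommGroup M] (hM : ∀ x : M, x + x = 0)
    (f : ι → ι → M) (hf : ∀ i j, f i j = f j i) : ∑ i, ∑ j, f i j = ∑ i, f i i := by
  classical
  rw [← Fintype.sum_prod_type' (fun i j => f i j)]
  rw [← Finset.sum_filter_add_sum_filter_not Finset.univ (fun p : ι × ι => p.1 = p.2)]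
  have h2 : ∑ p ∈ (Finset.univ : Finset (ι × ι)).filter (fun p => ¬ p.1 = p.2), f p.1 p.2 = 0 := by
    refine Finset.sum_involution (fun p _ => (p.2, p.1)) (fun p _ => by rw [hf p.2 p.1]; exact hM _)
      (fun p hp _ e => (Finset.mem_filter.mp hp).2 (congrArg Prod.fst e).symm)
      (fun p hp => Finset.mem_filter.mpr ⟨Finset.mem_univ _, fun e => (Finset.mem_filter.mp hp).2 e.symm⟩)
      (fun p _ => rfl)
  rw [h2, add_zero]
  refine Finset.sum_nbij' (fun p => p.1) (fun i => (i, i)) (fun p _ => Finset.mem_univ _)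
    (fun i _ => Finset.mem_filter.mpr ⟨Finset.mem_univ _, rfl⟩) ?_ (fun i _ => rfl) ?_
  · intro p hp
    exact Prod.ext rfl (Finset.mem_filter.mp hp).2
  · intro p hp
    rw [← (Finset.mem_filter.mp hp).2]

variable {V : Type v} [AddCommGroup V] [Finite V]

/-- An additive action fixing `v` and normalising a Singer cycle is cyclic; when an element of prime order
`r` fixes only `0` and `v` it generates, there are `2 ^ r` vectors and no involutive additive map commutes
with it. -/
theorem singer_facts (h2 : ∀ x : V, x + x = 0) (c : V →+ V) (v : V) (hv : v ≠ 0)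
    (hgen : ∀ x y : V, x ≠ 0 → y ≠ 0 → ∃ j : ℕ, c^[j] x = y)
    (S : Type w) [Group S] [Finite S] [DistribMulAction S V] [FaithfulSMul S V]
    (hSv : ∀ s : S, s • v = v) (hS : ∀ s : S, ∃ a : ℕ, ∀ x : V, s • c x = c^[a] (s • x)) :
    IsCyclic S ∧
    ∀ (y : S) (r : ℕ), Nat.Prime r → orderOf y = r → (∀ x : V, y • x = x → x = 0 ∨ x = v) →
      Nat.card V = 2 ^ r ∧ Nat.card S = r ∧
        (r ≠ 2 → ∀ T : V →+ V, (∀ x, T (T x) = x) → (∀ x, T (y • x) = y • T x) → ∀ x, T x = x) := by
  classical
  haveI : Fact (Nat.Prime 2) := ⟨Nat.prime_two⟩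
  let cE : AddMonoid.End V := c
  let R : Subring (AddMonoid.End V) := Subring.centralizer {cE}
  have hR : ∀ f : AddMonoid.End V, f ∈ R ↔ ∀ x : V, f (c x) = c (f x) := by
    intro f
    show f ∈ Subring.centralizer {cE} ↔ _
    rw [Subring.mem_centralizer_iff]
    constructor
    · intro h x
      exact (DFunLike.congr_fun (h c rfl) x).symm
    · rintro h g rfl
      exact AddMonoidHom.ext fun x => (h x).symm
  have hit : ∀ (f : R) (j : ℕ) (x : V), (f : AddMonoid.End V) (c^[j] x) = c^[j] ((f : AddMonoid.End V) x) := by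
    intro f j
    induction j with
    | zero => intro x; rfl
    | succ j ih => intro x; rw [Function.iterate_succ_apply', Function.iterate_succ_apply', (hR _).mp f.2, ih]
  -- evaluation at `v` is bijective
  have hinj : ∀ f g : R, (f : AddMonoid.End V) v = (g : AddMonoid.End V) v → f = g := by
    intro f g e
    refine Subtype.ext (AddMonoidHom.ext fun x => ?_)
    by_cases hx : x = 0
    · subst hx
      exact (map_zero (f : AddMonoid.End V)).trans (map_zero (g : AddMonoid.End V)).symm
    · obtain ⟨j, rfl⟩ := hgen v x hv hx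
      exact (hit f j v).trans ((congrArg _ e).trans (hit g j v).symm)
  have hcR : ∀ j : ℕ, (cE ^ j) ∈ R := fun j => pow_mem ((hR _).mpr fun x => rfl) j
  have hcpow : ∀ (j : ℕ) (x : V), (cE ^ j) x = c^[j] x := fun j x => by
    rw [AddMonoid.End.coe_pow]; rfl
  have hsurj : ∀ x : V, ∃ f : R, (f : AddMonoid.End V) v = x := by
    intro x
    by_cases hx : x = 0
    · exact ⟨0, hx ▸ rfl⟩
    · obtain ⟨j, hj⟩ := hgen v x hv hx
      exact ⟨⟨_, hcR j⟩, (hcpow j v).trans hj⟩
  let ev : R ≃ V := Equiv.ofBijective (fun f => (f : AddMonoid.End V) v) ⟨fun f g e => hinj f g e, hsurj⟩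
  have hev : ∀ f : R, ev f = (f : AddMonoid.End V) v := fun f => rfl
  haveI : Finite R := Finite.of_equiv V ev.symm
  -- every element is zero or a power of `c`
  have hcases : ∀ f : R, f = 0 ∨ ∃ j, f = ⟨_, hcR j⟩ := by
    intro f
    by_cases hx : (f : AddMonoid.End V) v = 0
    · exact Or.inl (hinj f 0 hx)
    · obtain ⟨j, hj⟩ := hgen v _ hv hx
      exact Or.inr ⟨j, hinj f _ (hj.symm.trans (hcpow j v).symm)⟩
  letI : CommRing R :=
    { (inferInstance : Ring R) with
      mul_comm := fun f g => by
        rcases hcases f with rfl | ⟨i, rfl⟩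
        · exact (zero_mul g).trans (mul_zero g).symm
        rcases hcases g with rfl | ⟨j, rfl⟩
        · exact (mul_zero _).trans (zero_mul _).symm
        exact Subtype.ext (pow_mul_comm cE i j) }
  haveI : Nontrivial R := ⟨⟨0, 1, fun e => hv (congrArg (fun f : R => (f : AddMonoid.End V) v) e).symm⟩⟩
  haveI : NoZeroDivisors R := ⟨fun {f g} e => by
    by_contra hcon
    push Not at hcon
    obtain ⟨hf, hg⟩ := hcon
    have hfv : (f : AddMonoid.End V) v ≠ 0 := fun e => hf (hinj f 0 e)
    have hgv : (g : AddMonoid.End V) v ≠ 0 := fun e => hg (hinj g 0 e)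
    obtain ⟨j, hj⟩ := hgen v _ hv hgv
    have h1 : (f : AddMonoid.End V) (c^[j] v) = 0 := by
      rw [hj]; exact congrArg (fun f : R => (f : AddMonoid.End V) v) e
    rw [hit] at h1
    obtain ⟨i, hi⟩ := hgen ((g : AddMonoid.End V) v) v hgv hv
    refine hfv ?_
    have h2 := hit f i (c^[j] v)
    rw [hit f j v, h1, hj, hi] at h2
    rw [h2]
    clear h2 hi
    induction i with
    | zero => rfl
    | succ i ih => rw [Function.iterate_succ_apply', ih]; exact map_zero c⟩
  haveI : IsDomain R := NoZeroDivisors.to_isDomain R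
  letI : Field R := (Finite.isField_of_domain R).toField
  haveI : CharP R 2 := by
    refine CharTwo.of_one_ne_zero_of_two_eq_zero one_ne_zero ?_
    rw [← one_add_one_eq_two]
    exact hinj _ 0 (h2 v)
  letI : Algebra (ZMod 2) R := ZMod.algebra R 2
  -- the action on the field
  have hact : ∀ (s : S) (f : R), (DistribMulAction.toAddMonoidEnd S V s * f *
      DistribMulAction.toAddMonoidEnd S V s⁻¹) ∈ R := by
    intro s f
    obtain ⟨a, ha⟩ := hS s⁻¹
    obtain ⟨b, hb⟩ := hS s
    have hb' : ∀ (a : ℕ) (x : V), s • c^[a] x = c^[a * b] (s • x) := by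
      intro a
      induction a with
      | zero => intro x; simp
      | succ a ih => intro x; rw [Function.iterate_succ_apply', hb, ih, ← Function.iterate_add_apply, add_comm, Nat.succ_mul]
    refine (hR _).mpr fun x => ?_
    show s • ((f : AddMonoid.End V) (s⁻¹ • c x)) = c (s • ((f : AddMonoid.End V) (s⁻¹ • x)))
    have h1 : ∀ z : V, c^[a * b] z = c z := fun z => by
      have := hb' a (s⁻¹ • z)
      rw [← ha, smul_inv_smul, smul_inv_smul] at this
      exact this.symm
    rw [ha, hit, hb', h1]
  let cj : S → R → R := fun s f => ⟨_, hact s f⟩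
  have hcjv : ∀ (s : S) (f : R), ev (cj s f) = s • ev f := fun s f => by
    show s • ((f : AddMonoid.End V) (s⁻¹ • v)) = s • ((f : AddMonoid.End V) v)
    rw [hSv]
  have hcjx : ∀ (s : S) (f : R) (x : V), ((cj s f : R) : AddMonoid.End V) x =
      s • ((f : AddMonoid.End V) (s⁻¹ • x)) := fun s f x => rfl
  have hevadd : ∀ f g : R, ev (f + g) = ev f + ev g := fun f g => rfl
  letI : MulSemiringAction S R :=
    { smul := cj
      one_smul := fun f => ev.injective (by
        show ev (cj 1 f) = ev f
        rw [hcjv, one_smul])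
      mul_smul := fun s t f => ev.injective (by
        show ev (cj (s * t) f) = ev (cj s (cj t f))
        rw [hcjv, hcjv, hcjv, mul_smul])
      smul_zero := fun s => ev.injective (by
        show ev (cj s 0) = ev 0
        rw [hcjv]; exact smul_zero s)
      smul_add := fun s f g => ev.injective (by
        show ev (cj s (f + g)) = ev (cj s f + cj s g)
        rw [hcjv, hevadd, hevadd, smul_add, hcjv, hcjv])
      smul_one := fun s => ev.injective (by
        show ev (cj s 1) = ev 1
        rw [hcjv]; exact hSv s)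
      smul_mul := fun s f g => Subtype.ext (AddMonoidHom.ext fun x => by
        show s • ((f : AddMonoid.End V) ((g : AddMonoid.End V) (s⁻¹ • x))) =
          s • ((f : AddMonoid.End V) (s⁻¹ • (s • ((g : AddMonoid.End V) (s⁻¹ • x)))))
        rw [inv_smul_smul]) }
  have hsmul : ∀ (s : S) (f : R), ev (s • f) = s • ev f := hcjv
  haveI : SMulCommClass S (ZMod 2) R := ⟨fun s k f => by
    rcases zmod_two_cases k with rfl | rfl
    · rw [zero_smul, smul_zero, zero_smul]
    · rw [one_smul, one_smul]⟩
  haveI : FaithfulSMul S R := ⟨fun {s t} h => FaithfulSMul.eq_of_smul_eq_smul fun x : V => by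
    rw [← ev.apply_symm_apply x, ← hsmul, ← hsmul, h]⟩
  let φ : S →* Gal(R/ZMod 2) := MulSemiringAction.toAlgAut S (ZMod 2) R
  have hφ : ∀ (s : S) (f : R), φ s f = s • f := fun s f => rfl
  have hφi : Function.Injective φ := fun s t e => FaithfulSMul.eq_of_smul_eq_smul fun f : R => by
    rw [← hφ, ← hφ, e]
  refine ⟨isCyclic_of_injective φ hφi, fun y r hr hy hfix => ?_⟩
  -- the fixed field of `y` has two elements
  haveI : FaithfulSMul (Subgroup.zpowers y) R := ⟨fun {s t} h => Subtype.ext (FaithfulSMul.eq_of_smul_eq_smul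
    fun f : R => h f)⟩
  set K := FixedPoints.subfield (Subgroup.zpowers y) R with hK
  have hK2 : Nat.card K = 2 := by
    refine le_antisymm ?_ Finite.one_lt_card
    rw [← Nat.card_fin 2]
    refine Nat.card_le_card_of_injective (fun k : K => if (k : R) = 0 then (0 : Fin 2) else 1) ?_
    intro k l hkl
    have hone : ∀ k : K, (k : R) ≠ 0 → (k : R) = 1 := by
      intro k hk
      have h1 : y • ev (k : R) = ev (k : R) := by
        rw [← hsmul]; exact congrArg ev (k.2 ⟨y, Subgroup.mem_zpowers y⟩)
      rcases hfix _ h1 with h | h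
      · exact absurd (ev.injective (h.trans (rfl : (0 : V) = ev 0))) hk
      · exact ev.injective (h.trans (rfl : v = ev 1))
    refine Subtype.ext ?_
    by_cases hk : (k : R) = 0 <;> by_cases hl : (l : R) = 0
    · rw [hk, hl]
    · simp [hk, hl] at hkl
    · simp [hk, hl] at hkl
    · rw [hone k hk, hone l hl]
  have hcardR : Nat.card R = 2 ^ r := by
    haveI := Fintype.ofFinite (Subgroup.zpowers y)
    rw [Module.natCard_eq_pow_finrank (K := K), hK2, FixedPoints.finrank_eq_card,
      ← Nat.card_eq_fintype_card, Nat.card_zpowers, hy]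
  have hV : Nat.card V = 2 ^ r := by rw [← Nat.card_congr ev]; exact hcardR
  have hdim : Module.finrank (ZMod 2) R = r := by
    have := Module.natCard_eq_pow_finrank (K := ZMod 2) (V := R)
    rw [hcardR, Nat.card_zmod] at this
    exact (Nat.pow_right_injective le_rfl this).symm
  have hgal : Nat.card Gal(R/ZMod 2) = r := (IsGalois.card_aut_eq_finrank _ _).trans hdim
  have hSr : Nat.card S = r := by
    refine le_antisymm (hgal ▸ Nat.card_le_card_of_injective φ hφi) ?_
    rw [← hy]
    exact Nat.le_of_dvd Nat.card_pos (orderOf_dvd_natCard y)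
  have hφb : Function.Bijective φ := (Nat.bijective_iff_injective_and_card φ).mpr ⟨hφi, hSr.trans hgal.symm⟩
  refine ⟨hV, hSr, fun hr2 T hTT hTy x => ?_⟩
  -- all elements of `S` are powers of `y`
  have htop : ∀ s : S, s ∈ Subgroup.zpowers y := fun s => by
    rw [Subgroup.eq_top_of_card_eq (Subgroup.zpowers y) (by rw [Nat.card_zpowers, hy, hSr])]
    trivial
  have hTs : ∀ (s : S) (x : V), T (s • x) = s • T x := by
    intro s x
    obtain ⟨i, hi⟩ := htop s
    obtain ⟨n, rfl⟩ : ∃ n : ℕ, y ^ n = s := (mem_powers_iff_mem_zpowers.mpr ⟨i, hi⟩)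
    clear hi
    induction n generalizing x with
    | zero => simp
    | succ n ih => rw [pow_succ', mul_smul, mul_smul, hTy, ih]
  obtain ⟨θ, hθ⟩ := exists_linearIndependent_algEquiv_apply (ZMod 2) R
  haveI : Fintype S := Fintype.ofFinite S
  -- the orbit of `θ` is a basis
  have hθS : LinearIndependent (ZMod 2) fun s : S => s • θ := hθ.comp φ hφi
  have hspan : Submodule.span (ZMod 2) (Set.range fun s : S => s • θ) = ⊤ :=
    hθS.span_eq_top_of_card_eq_finrank' (by rw [← Nat.card_eq_fintype_card, hSr, hdim])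
  have hV2 : ∀ f : R, f + f = 0 := fun f => CharTwo.add_self_eq_zero f
  let T' : R → R := fun f => ev.symm (T (ev f))
  have hT'add : ∀ f g, T' (f + g) = T' f + T' g := fun f g => ev.injective (by
    rw [hevadd, ev.apply_symm_apply, ev.apply_symm_apply, ev.apply_symm_apply, hevadd, map_add])
  let TL : R →ₗ[ZMod 2] R := (AddMonoidHom.mk' T' hT'add).toZModLinearMap 2
  have hTL : ∀ f, TL f = T' f := fun f => rfl
  have hTLs : ∀ (s : S) f, TL (s • f) = s • TL f := fun s f => ev.injective (by
    rw [hTL, hTL, hsmul, ev.apply_symm_apply, ev.apply_symm_apply, hsmul, hTs])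
  obtain ⟨a, ha⟩ := (Submodule.mem_span_range_iff_exists_fun (ZMod 2)).mp
    (hspan ▸ Submodule.mem_top : TL θ ∈ Submodule.span (ZMod 2) (Set.range fun s : S => s • θ))
  have hsq : TL (TL θ) = ∑ s : S, (a s * a s) • ((s * s) • θ) := by
    conv_lhs => rw [← ha]
    rw [map_sum]
    simp only [map_smul, hTLs, ← ha, Finset.smul_sum, smul_smul, smul_comm (_ : S) (_ : ZMod 2)]
    refine sum_sum_of_symm hV2 (fun s t => (a s * a t) • ((s * t) • θ)) fun s t => ?_
    show (a s * a t) • ((s * t) • θ) = (a t * a s) • ((t * s) • θ)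
    have hcy : IsCyclic S := isCyclic_of_injective φ hφi
    rw [mul_comm (a s), show s * t = t * s from @mul_comm S (IsCyclic.commGroup).toCommMagma s t]
  have hodd : Nat.Coprime (Nat.card S) 2 := by
    rw [hSr]; exact (Nat.coprime_primes hr Nat.prime_two).mpr hr2
  let sq : S ≃ S := powCoprime hodd
  have h1 : ∑ s : S, a (sq.symm s) • (s • θ) = ∑ s : S, (if s = 1 then (1 : ZMod 2) else 0) • (s • θ) := by
    have e0 : TL (TL θ) = θ := ev.injective (by
      rw [hTL, hTL, ev.apply_symm_apply, ev.apply_symm_apply, hTT])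
    rw [show ∑ s : S, (if s = 1 then (1 : ZMod 2) else 0) • (s • θ) = θ by simp, ← sq.sum_comp]
    refine Eq.trans ?_ (hsq.symm.trans e0)
    refine Finset.sum_congr rfl fun s _ => ?_
    rw [sq.symm_apply_apply, show sq s = s * s from pow_two s]
    congr 1
    rcases zmod_two_cases (a s) with h | h <;> rw [h] <;> rfl
  have h2' := Fintype.linearIndependent_iffₛ.mp hθS _ _ h1
  have hTθ : TL θ = θ := by
    rw [← ha]
    have : ∀ s : S, a s = if s = 1 then (1 : ZMod 2) else 0 := fun s => by
      have := h2' (sq s)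
      rw [sq.symm_apply_apply] at this
      rw [this]
      refine if_congr ?_ rfl rfl
      exact ⟨fun e => sq.injective (e.trans (show sq 1 = 1 from one_pow 2).symm), fun e => (congrArg sq e).trans (one_pow 2)⟩
    simp [this]
  have hid : ∀ f, TL f = f := by
    intro f
    have hf : f ∈ Submodule.span (ZMod 2) (Set.range fun s : S => s • θ) := hspan ▸ Submodule.mem_top
    induction hf using Submodule.span_induction with
    | mem g hg =>
      obtain ⟨s, rfl⟩ := hg
      rw [hTLs, hTθ]
    | zero => exact map_zero _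
    | add g g' _ _ h h' => rw [map_add, h, h']
    | smul k g _ h => rw [map_smul, h]
  have := congrArg ev (hid (ev.symm x))
  rwa [hTL, ev.apply_symm_apply, ev.apply_symm_apply] at this

end CfsgLib.AschCrit
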