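import Cfsg.Agent.Lib.Invol.AschCrit.AffineDef
import Cfsg.Agent.Lib.Invol.AschCrit.AffineField
import Cfsg.Agent.Lib.ThreePrime.Sz.Facts
import Cfsg.Agent.Lib.Classical.Dickson.SubgroupFacts
import Cfsg.Agent.S3726
import Cfsg.Agent.S0564
import Mathlib.GroupTheory.Transfer
import Mathlib.GroupTheory.Solvable

/-!
Owner: helper8. Aschbacher's criterion, slice D: proof of the affine lemma.

A transitive affine group on an elementary two-group whose stabiliser of zero normalises a Singer cycle `c`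
contains the translations, except possibly on eight points.  Otherwise the linear part is injective.  The
complement `Σ` of `⟨c⟩` in the stabiliser is a cyclic group of field automorphisms.  If it is a two-group
the group is soluble (Kegel, Wielandt).  If an element of odd prime order `r` of `Σ` fixes more than two
points, the transfer gives a smaller transitive subgroup.  Otherwise there are `2 ^ r` points and every
element centralising an involution moves all points, so S3726 applies.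
-/

set_option autoImplicit false
set_option linter.style.haveILetI false
set_option linter.unusedSectionVars false

namespace CfsgLib.AschCrit

universe v

/-- `2 ^ a * k` determines `a` for odd `k`. -/
theorem two_pow_mul_odd_inj {a b k l : ℕ} (hk : Odd k) (hl : Odd l) (e : 2 ^ a * k = 2 ^ b * l) : a = b := by
  have h1 : ∀ {a b k l : ℕ}, Odd l → 2 ^ a * k = 2 ^ b * l → a ≤ b := by
    intro a b k l hl e
    refine (Nat.pow_dvd_pow_iff_le_right (by norm_num)).mp
      (Nat.Coprime.dvd_of_dvd_mul_right ?_ ⟨k, e.symm⟩)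
    exact Nat.Coprime.pow_left a (Nat.coprime_two_left.mpr hl)
  exact le_antisymm (h1 hl e) (h1 hk e.symm)

variable {V : Type v} [AddCommGroup V] [Finite V]

/-- The setting of the affine lemma. -/
structure AffSinger (Γ : Subgroup (Equiv.Perm V)) (c : Γ) : Prop where
  two : ∀ x : V, x + x = 0
  affine : ∀ (g : Γ) (x y : V), g • (x + y) = g • x + g • y + g • (0 : V)
  trans : ∀ x : V, ∃ g : Γ, g • (0 : V) = x
  c0 : c • (0 : V) = 0
  gen : ∀ x y : V, x ≠ 0 → y ≠ 0 → ∃ j : ℕ, (c ^ j) • x = y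
  norm : ∀ g : Γ, g • (0 : V) = 0 → g * c * g⁻¹ ∈ Subgroup.zpowers c

/-- No element is a translation. -/
def NoTrans (Γ : Subgroup (Equiv.Perm V)) : Prop :=
  ∀ g : Γ, (∀ x : V, g • x = x + g • (0 : V)) → g = 1

namespace AffSinger

variable {Γ : Subgroup (Equiv.Perm V)} {c : Γ} (h : AffSinger Γ c)
include h

theorem lin_add {g : Γ} (hg : g • (0 : V) = 0) (x y : V) : g • (x + y) = g • x + g • y := by
  rw [h.affine, hg, add_zero]

/-- A translation other than the identity gives all translations. -/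
theorem all_or_noTrans : (∀ w : V, Equiv.addRight w ∈ Γ) ∨ NoTrans Γ := by
  by_cases hno : NoTrans Γ
  · exact Or.inr hno
  refine Or.inl fun w => ?_
  simp only [NoTrans, not_forall] at hno
  obtain ⟨g, hg, hg1⟩ := hno
  by_cases hw : w = 0
  · subst hw
    rw [Equiv.addRight_zero]
    exact one_mem Γ
  have hu : g • (0 : V) ≠ 0 := fun e => hg1 (Subtype.ext (Equiv.ext fun x => by
    show g • x = x
    rw [hg, e, add_zero]))
  obtain ⟨j, hj⟩ := h.gen _ w hu hw
  have hj0 : (c ^ j) • (0 : V) = 0 := pow_mem (show c ∈ MulAction.stabilizer Γ (0 : V) from h.c0) j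
  have he : ((c ^ j * g * (c ^ j)⁻¹ : Γ) : Equiv.Perm V) = Equiv.addRight w := by
    refine Equiv.ext fun x => ?_
    show (c ^ j * g * (c ^ j)⁻¹) • x = x + w
    rw [mul_smul, mul_smul, hg, h.lin_add hj0, smul_inv_smul, hj]
  exact he ▸ (c ^ j * g * (c ^ j)⁻¹).2

/-- The linear part. -/
theorem lin_mul (g k : Γ) (x : V) :
    g • (k • x + k • (0 : V)) + g • (0 : V) = (g * k) • x + (g * k) • (0 : V) := by
  rw [h.affine, mul_smul, mul_smul, add_assoc, h.two, add_zero]

theorem cpow_zero {k : Γ} (hk : k ∈ Subgroup.zpowers c) : k • (0 : V) = 0 :=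
  (Subgroup.zpowers_le.mpr (show c ∈ MulAction.stabilizer Γ (0 : V) from h.c0)) hk

/-- A power of `c` fixing a nonzero vector is trivial. -/
theorem cpow_eq_one {k : Γ} (hk : k ∈ Subgroup.zpowers c) {w : V} (hw : w ≠ 0) (hkw : k • w = w) : k = 1 := by
  refine Subtype.ext (Equiv.ext fun x => ?_)
  show k • x = x
  by_cases hx : x = 0
  · subst hx; exact h.cpow_zero hk
  obtain ⟨i, rfl⟩ := hk
  obtain ⟨j, rfl⟩ := h.gen w x hw hx
  calc c ^ i • c ^ j • w = (c ^ i * c ^ j) • w := (mul_smul _ _ _).symm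
    _ = (c ^ j * c ^ i) • w := by rw [((Commute.refl c).zpow_left i).pow_right j |>.eq]
    _ = c ^ j • w := by rw [mul_smul, hkw]

theorem cpow_ext {k l : Γ} (hk : k ∈ Subgroup.zpowers c) (hl : l ∈ Subgroup.zpowers c) {w : V} (hw : w ≠ 0)
    (e : k • w = l • w) : k = l :=
  (inv_mul_eq_one.mp (h.cpow_eq_one (mul_mem (inv_mem hl) hk) hw (by rw [mul_smul, e, inv_smul_smul]))).symm

theorem normalize {g k : Γ} (hg : g • (0 : V) = 0) (hk : k ∈ Subgroup.zpowers c) :
    g * k * g⁻¹ ∈ Subgroup.zpowers c := by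
  obtain ⟨i, rfl⟩ := hk
  show g * c ^ i * g⁻¹ ∈ Subgroup.zpowers c
  rw [← conj_zpow]
  exact zpow_mem (h.norm g hg) i

theorem inv_zero {g : Γ} (hg : g • (0 : V) = 0) : g⁻¹ • (0 : V) = 0 :=
  inv_smul_eq_iff.mpr hg.symm

theorem card_two_dvd {v : V} (hv : v ≠ 0) : 2 ∣ Nat.card V := by
  haveI : Fact (Nat.Prime 2) := ⟨Nat.prime_two⟩
  have h2 : addOrderOf v = 2 := addOrderOf_eq_prime (by rw [two_nsmul, h.two]) hv
  exact h2 ▸ addOrderOf_dvd_natCard v

theorem exists_card_eq : ∃ s : ℕ, Nat.card V = 2 ^ s := by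
  haveI : Fact (Nat.Prime 2) := ⟨Nat.prime_two⟩
  have hp : IsPGroup 2 (Multiplicative V) := fun g => ⟨1, Multiplicative.toAdd.injective (by
    rw [toAdd_pow, pow_one, two_nsmul, h.two, toAdd_one])⟩
  obtain ⟨s, hs⟩ := IsPGroup.iff_card.mp hp
  exact ⟨s, hs⟩

/-- Without translations there is no normal two-subgroup. -/
theorem no_two_normal (hno : NoTrans Γ) {v : V} (hv : v ≠ 0) (R : Subgroup Γ) [hR : R.Normal]
    (hR2 : IsPGroup 2 R) : R = ⊥ := by
  haveI : Fact (Nat.Prime 2) := ⟨Nat.prime_two⟩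
  letI : MulAction R V :=
    { smul := fun r x => (r : Γ) • x + (r : Γ) • (0 : V)
      one_smul := fun x => by show (1 : Γ) • x + (1 : Γ) • (0 : V) = x; rw [one_smul, one_smul, add_zero]
      mul_smul := fun r r' x => by
        show ((r : Γ) * r') • x + ((r : Γ) * r') • (0 : V) =
          (r : Γ) • ((r' : Γ) • x + (r' : Γ) • (0 : V)) + (r : Γ) • (0 : V)
        rw [h.lin_mul] }
  obtain ⟨w, hw, hw0⟩ := hR2.exists_fixed_point_of_prime_dvd_card_of_fixed_point V (h.card_two_dvd hv) (a := 0)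
    (fun r => h.two ((r : Γ) • (0 : V)))
  have hfix : ∀ r : R, (r : Γ) • w + (r : Γ) • (0 : V) = w := fun r => hw r
  refine (Subgroup.eq_bot_iff_forall R).mpr fun r hr => hno r fun x => ?_
  have key : r • x + r • (0 : V) = x := by
    by_cases hx : x = 0
    · subst hx; exact h.two _
    · obtain ⟨j, rfl⟩ := h.gen w x hw0.symm hx
      have hj0 : (c ^ j) • (0 : V) = 0 := pow_mem (show c ∈ MulAction.stabilizer Γ (0 : V) from h.c0) j
      have hk := hfix ⟨(c ^ j)⁻¹ * r * c ^ j, by simpa using hR.conj_mem r hr (c ^ j)⁻¹⟩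
      have hk' : (c ^ j)⁻¹ • (r • c ^ j • w) + (c ^ j)⁻¹ • (r • (0 : V)) = w := by
        have hk'' : ((c ^ j)⁻¹ * r * c ^ j) • w + ((c ^ j)⁻¹ * r * c ^ j) • (0 : V) = w := hk
        rwa [mul_smul, mul_smul, mul_smul, mul_smul, hj0] at hk''
      rw [← h.lin_add (h.inv_zero hj0), inv_smul_eq_iff] at hk'
      exact hk'
  calc r • x = r • x + (r • (0 : V) + r • (0 : V)) := by rw [h.two, add_zero]
    _ = x + r • (0 : V) := by rw [← add_assoc, key]

theorem not_solvable (hno : NoTrans Γ) {v : V} (hv : v ≠ 0) : ¬ Group.IsSolvable Γ := by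
  classical
  intro hsol
  haveI : Fact (Nat.Prime 2) := ⟨Nat.prime_two⟩
  obtain ⟨n, hn⟩ := hsol.solvable
  have hne : derivedSeries Γ 0 ≠ ⊥ := fun e => by
    obtain ⟨g, hg⟩ := h.trans v
    have hg1 : g ∈ derivedSeries Γ 0 := (derivedSeries_zero Γ).symm ▸ Subgroup.mem_top g
    rw [e, Subgroup.mem_bot] at hg1
    rw [hg1, one_smul] at hg
    exact hv hg.symm
  have hex : ∃ m, derivedSeries Γ m = ⊥ := ⟨n, hn⟩
  obtain ⟨m, hm⟩ : ∃ m, Nat.find hex = m + 1 := by
    refine Nat.exists_eq_succ_of_ne_zero fun e => hne ?_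
    have := Nat.find_spec hex
    rwa [e] at this
  set A := derivedSeries Γ m with hA
  haveI hAn : A.Normal := derivedSeries_normal Γ m
  have hA1 : A ≠ ⊥ := Nat.find_min hex (by omega)
  have hAc : ∀ a ∈ A, ∀ b ∈ A, a * b = b * a := by
    intro a ha b hb
    have h0 : derivedSeries Γ (m + 1) = ⊥ := hm ▸ Nat.find_spec hex
    rw [derivedSeries_succ, Subgroup.commutator_eq_bot_iff_le_centralizer] at h0
    exact (Subgroup.mem_centralizer_iff.mp (h0 ha) b hb).symm
  -- the subgroup is transitive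
  have hreach : ∀ x : V, ∃ a ∈ A, a • (0 : V) = x := by
    obtain ⟨u, hu, a, ha, hau⟩ : ∃ u : V, u ≠ 0 ∧ ∃ a ∈ A, a • (0 : V) = u := by
      by_contra hcon
      push Not at hcon
      refine hA1 ((Subgroup.eq_bot_iff_forall A).mpr fun a ha => Subtype.ext (Equiv.ext fun x => ?_))
      show a • x = x
      obtain ⟨g, rfl⟩ := h.trans x
      have h0 : (g⁻¹ * a * g) • (0 : V) = 0 := by
        by_contra hne'
        exact hcon _ hne' (g⁻¹ * a * g) (by simpa using hAn.conj_mem a ha g⁻¹) rfl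
      rw [mul_smul, mul_smul, inv_smul_eq_iff] at h0
      exact h0
    intro x
    by_cases hx : x = 0
    · exact ⟨1, one_mem _, by rw [hx, one_smul]⟩
    · obtain ⟨j, rfl⟩ := h.gen u x hu hx
      refine ⟨c ^ j * a * (c ^ j)⁻¹, hAn.conj_mem a ha _, ?_⟩
      rw [mul_smul, mul_smul, h.inv_zero (h.cpow_zero (Subgroup.npow_mem_zpowers c j)), hau]
  have hcard : Nat.card A = Nat.card V := by
    refine Nat.card_eq_of_bijective (fun a : A => (a : Γ) • (0 : V)) ⟨fun a b e => ?_, fun x => ?_⟩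
    · refine Subtype.ext (Subtype.ext (Equiv.ext fun x => ?_))
      show (a : Γ) • x = (b : Γ) • x
      obtain ⟨d, hd, rfl⟩ := hreach x
      rw [← mul_smul, ← mul_smul, hAc _ a.2 _ hd, hAc _ b.2 _ hd, mul_smul, mul_smul]
      exact congrArg _ e
    · obtain ⟨a, ha, e⟩ := hreach x
      exact ⟨⟨a, ha⟩, e⟩
  obtain ⟨s, hs⟩ := h.exists_card_eq
  exact hA1 (h.no_two_normal hno hv A (IsPGroup.of_card (hcard.trans hs)))

/-- The stabiliser of `0` and `v`. -/
def comp (_h : AffSinger Γ c) (v : V) : Subgroup Γ := MulAction.stabilizer Γ (0 : V) ⊓ MulAction.stabilizer Γ v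

theorem mem_comp {v : V} {g : Γ} : g ∈ h.comp v ↔ g • (0 : V) = 0 ∧ g • v = v := Iff.rfl

/-- The stabiliser of zero is the product of `⟨c⟩` and the complement. -/
theorem exists_decomp {v : V} (hv : v ≠ 0) {g : Γ} (hg : g • (0 : V) = 0) :
    ∃ k ∈ Subgroup.zpowers c, ∃ s ∈ h.comp v, k * s = g := by
  obtain ⟨j, hj⟩ := h.gen v (g • v) hv (fun e => hv (by
    have := congrArg (g⁻¹ • ·) e
    simpa [h.inv_zero hg] using this))
  refine ⟨c ^ j, Subgroup.npow_mem_zpowers c j, (c ^ j)⁻¹ * g, ⟨?_, ?_⟩, by group⟩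
  · show ((c ^ j)⁻¹ * g) • (0 : V) = 0
    rw [mul_smul, hg, h.inv_zero (h.cpow_zero (Subgroup.npow_mem_zpowers c j))]
  · show ((c ^ j)⁻¹ * g) • v = v
    rw [mul_smul, ← hj, inv_smul_smul]

theorem decomp_unique {v : V} (hv : v ≠ 0) {k k' s s' : Γ} (hk : k ∈ Subgroup.zpowers c)
    (hk' : k' ∈ Subgroup.zpowers c) (hs : s ∈ h.comp v) (hs' : s' ∈ h.comp v) (e : k * s = k' * s') :
    k = k' ∧ s = s' := by
  have e1 : k = k' := h.cpow_ext hk hk' hv (by
    have := congrArg (· • v) e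
    simp only [mul_smul, (h.mem_comp.mp hs).2, (h.mem_comp.mp hs').2] at this
    exact this)
  exact ⟨e1, mul_left_cancel (e1 ▸ e)⟩

/-- The complement as a group of field automorphisms. -/
theorem comp_facts {v : V} (hv : v ≠ 0) :
    IsCyclic (h.comp v) ∧
    ∀ (y : h.comp v) (r : ℕ), Nat.Prime r → orderOf y = r →
      (∀ x : V, (y : Γ) • x = x → x = 0 ∨ x = v) →
      Nat.card V = 2 ^ r ∧ Nat.card (h.comp v) = r ∧
        (r ≠ 2 → ∀ T : V →+ V, (∀ x, T (T x) = x) →
          (∀ x, T ((y : Γ) • x) = (y : Γ) • T x) → ∀ x, T x = x) := by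
  letI : DistribMulAction (h.comp v) V :=
    { smul := fun s x => (s : Γ) • x
      one_smul := fun x => one_smul Γ x
      mul_smul := fun s t x => mul_smul (s : Γ) (t : Γ) x
      smul_zero := fun s => s.2.1
      smul_add := fun s x y => h.lin_add s.2.1 x y }
  haveI : FaithfulSMul (h.comp v) V := ⟨fun {s t} e => Subtype.ext (Subtype.ext (Equiv.ext e))⟩
  have hit : ∀ (a : ℕ) (x : V), (fun y : V => c • y)^[a] x = (c ^ a) • x := by
    intro a
    induction a with
    | zero => intro x; simp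
    | succ a ih => intro x; rw [Function.iterate_succ_apply', ih, pow_succ', mul_smul]
  refine singer_facts h.two (AddMonoidHom.mk' (fun x : V => c • x) (h.lin_add h.c0)) v hv
    (fun x y hx hy => ?_) (h.comp v) (fun s => s.2.2) fun s => ?_
  · obtain ⟨j, hj⟩ := h.gen x y hx hy
    exact ⟨j, (hit j x).trans hj⟩
  · obtain ⟨a, ha⟩ := mem_powers_iff_mem_zpowers.mpr (h.normalize s.2.1 (Subgroup.mem_zpowers c))
    refine ⟨a, fun x => ?_⟩
    show (s : Γ) • c • x = (fun y : V => c • y)^[a] ((s : Γ) • x)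
    rw [hit, show c ^ a = (s : Γ) * c * (s : Γ)⁻¹ from ha, mul_smul, mul_smul, inv_smul_smul]

/-- A point stabiliser with complement a two-group gives a soluble group. -/
theorem solvable_of_two {v : V} (hv : v ≠ 0) (hS : ∃ a : ℕ, Nat.card (h.comp v) = 2 ^ a) :
    Group.IsSolvable Γ := by
  classical
  obtain ⟨a, ha⟩ := hS
  haveI : Fact (Nat.Prime 2) := ⟨Nat.prime_two⟩
  let H : Subgroup Γ :=
    { carrier := {g | g • v + g • (0 : V) = v}
      one_mem' := by show (1 : Γ) • v + (1 : Γ) • (0 : V) = v; rw [one_smul, one_smul, add_zero]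
      mul_mem' := by
        intro g k hg hk
        show (g * k) • v + (g * k) • (0 : V) = v
        rw [← h.lin_mul, show k • v + k • (0 : V) = v from hk]
        exact hg
      inv_mem' := by
        intro g hg
        show g⁻¹ • v + g⁻¹ • (0 : V) = v
        conv_lhs => rw [← (show g • v + g • (0 : V) = v from hg)]
        rw [h.lin_mul, inv_mul_cancel, one_smul, one_smul, add_zero] }
  have hlin0 : ∀ g : Γ, g⁻¹ • v + g⁻¹ • (0 : V) ≠ 0 := by
    intro g e
    have := h.lin_mul g g⁻¹ v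
    rw [e, mul_inv_cancel, one_smul, one_smul, add_zero, h.two] at this
    exact hv this.symm
  have hfac : ∀ g : Γ, ∃ a ∈ H, ∃ b ∈ Subgroup.zpowers c, g = a * b := by
    intro g
    obtain ⟨j, hj⟩ := h.gen v _ hv (hlin0 g)
    have hj0 := h.cpow_zero (Subgroup.npow_mem_zpowers c j)
    refine ⟨g * c ^ j, ?_, (c ^ j)⁻¹, inv_mem (Subgroup.npow_mem_zpowers c j), by group⟩
    show (g * c ^ j) • v + (g * c ^ j) • (0 : V) = v
    rw [← h.lin_mul, hj0, add_zero, hj, h.lin_mul, mul_inv_cancel, one_smul, one_smul, add_zero]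
  have hcardL : Nat.card (MulAction.stabilizer Γ (0 : V)) =
      Nat.card (Subgroup.zpowers c) * Nat.card (h.comp v) := by
    rw [← Nat.card_prod]
    refine (Nat.card_eq_of_bijective (fun p : Subgroup.zpowers c × h.comp v =>
      (⟨(p.1 : Γ) * p.2, mul_mem (h.cpow_zero p.1.2) p.2.2.1⟩ : MulAction.stabilizer Γ (0 : V))) ⟨?_, ?_⟩).symm
    · intro p q e
      obtain ⟨e1, e2⟩ := h.decomp_unique hv p.1.2 q.1.2 p.2.2 q.2.2 (congrArg Subtype.val e)
      exact Prod.ext (Subtype.ext e1) (Subtype.ext e2)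
    · intro g
      obtain ⟨k, hk, s, hs, e⟩ := h.exists_decomp hv g.2
      exact ⟨(⟨k, hk⟩, ⟨s, hs⟩), Subtype.ext e⟩
  have hcardG : Nat.card Γ = Nat.card V * Nat.card (MulAction.stabilizer Γ (0 : V)) := by
    rw [← (MulAction.stabilizer Γ (0 : V)).index_mul_card, MulAction.index_stabilizer,
      show MulAction.orbit Γ (0 : V) = Set.univ from Set.eq_univ_of_forall h.trans, Set.ncard_univ]
  have hcardH : Nat.card Γ = Nat.card H * Nat.card (Subgroup.zpowers c) := by
    rw [← Nat.card_prod]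
    refine (Nat.card_eq_of_bijective (fun p : H × Subgroup.zpowers c => (p.1 : Γ) * p.2) ⟨?_, ?_⟩).symm
    · intro p q e
      have e1 : (q.1 : Γ)⁻¹ * p.1 = q.2 * (p.2 : Γ)⁻¹ := by
        rw [eq_mul_inv_iff_mul_eq, mul_assoc, show (p.1 : Γ) * p.2 = q.1 * q.2 from e, inv_mul_cancel_left]
      have hz : (q.1 : Γ)⁻¹ * p.1 = 1 := by
        have hm : (q.1 : Γ)⁻¹ * p.1 ∈ H := mul_mem (inv_mem q.1.2) p.1.2
        have hC : (q.1 : Γ)⁻¹ * p.1 ∈ Subgroup.zpowers c := e1 ▸ mul_mem q.2.2 (inv_mem p.2.2)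
        refine h.cpow_eq_one hC hv ?_
        have hm' : ((q.1 : Γ)⁻¹ * p.1) • v + ((q.1 : Γ)⁻¹ * p.1) • (0 : V) = v := hm
        rwa [h.cpow_zero hC, add_zero] at hm'
      refine Prod.ext (Subtype.ext (inv_mul_eq_one.mp hz).symm) (Subtype.ext ?_)
      rw [hz, eq_comm, mul_inv_eq_one] at e1
      exact e1.symm
    · intro g
      obtain ⟨x, hx, y, hy, e⟩ := hfac g
      exact ⟨(⟨x, hx⟩, ⟨y, hy⟩), e.symm⟩
  obtain ⟨s, hs⟩ := h.exists_card_eq
  have hH2 : IsPGroup 2 H := by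
    refine IsPGroup.of_card (n := s + a) ?_
    refine Nat.eq_of_mul_eq_mul_right (m := Nat.card (Subgroup.zpowers c)) Nat.card_pos ?_
    rw [← hcardH, hcardG, hcardL, hs, ha, pow_add]
    ring
  refine Cfsg.Agent.S0564.result H (Subgroup.zpowers c) hH2.isNilpotent ?_ hfac
  letI : CommGroup (Subgroup.zpowers c) := IsCyclic.commGroup
  infer_instance

/-- The projection of the stabiliser of zero to the complement. -/
theorem exists_proj {v : V} (hv : v ≠ 0) :
    ∃ π : MulAction.stabilizer Γ (0 : V) →* h.comp v,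
      (∀ (g : MulAction.stabilizer Γ (0 : V)) (k : Γ) (s : h.comp v), k ∈ Subgroup.zpowers c →
        k * (s : Γ) = g → π g = s) := by
  classical
  have hex : ∀ g : MulAction.stabilizer Γ (0 : V), ∃ s : h.comp v, ∃ k ∈ Subgroup.zpowers c, k * (s : Γ) = g := by
    intro g
    obtain ⟨k, hk, s, hs, e⟩ := h.exists_decomp hv g.2
    exact ⟨⟨s, hs⟩, k, hk, e⟩
  choose f k hk hf using hex
  have huniq : ∀ (g : MulAction.stabilizer Γ (0 : V)) (k' : Γ) (s : h.comp v), k' ∈ Subgroup.zpowers c →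
      k' * (s : Γ) = g → f g = s := fun g k' s hk' e =>
    Subtype.ext (h.decomp_unique hv (hk g) hk' (f g).2 s.2 ((hf g).trans e.symm)).2
  refine ⟨MonoidHom.mk' f fun g g' => ?_, huniq⟩
  refine huniq _ (k g * ((f g : Γ) * k g' * (f g : Γ)⁻¹)) _
    (mul_mem (hk g) (h.normalize (f g).2.1 (hk g'))) ?_
  show k g * ((f g : Γ) * k g' * (f g : Γ)⁻¹) * ((f g : Γ) * (f g' : Γ)) = (g : Γ) * (g' : Γ)
  rw [← hf g, ← hf g']
  group

/-- An element of the complement of order fixing a further point is centralised by its normaliser. -/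
theorem commute_of_normalizing {v : V} (hv : v ≠ 0) {a g : Γ} (ha : a ∈ h.comp v) {x₀ : V}
    (hx₀ : a • x₀ = x₀) (hx₀0 : x₀ ≠ 0) (hx₀v : x₀ ≠ v) (hg : g * a * g⁻¹ ∈ Subgroup.zpowers a) :
    g * a * g⁻¹ = a := by
  classical
  obtain ⟨hcyc, -⟩ := h.comp_facts hv
  obtain ⟨π, hπ⟩ := h.exists_proj hv
  have hπs : ∀ (g : MulAction.stabilizer Γ (0 : V)) (hg : (g : Γ) ∈ h.comp v), π g = ⟨g, hg⟩ :=
    fun g hg => hπ g 1 ⟨g, hg⟩ (one_mem _) (one_mul _)
  -- inside the stabiliser of zero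
  have hstab : ∀ m : Γ, m • (0 : V) = 0 → m * a * m⁻¹ ∈ Subgroup.zpowers a → m * a * m⁻¹ = a := by
    intro m hm hma
    have hmem : m * a * m⁻¹ ∈ h.comp v := Subgroup.zpowers_le.mpr ha hma
    have e : π ((⟨m, hm⟩ : MulAction.stabilizer Γ (0 : V)) * ⟨a, ha.1⟩ * ⟨m, hm⟩⁻¹) = π ⟨a, ha.1⟩ := by
      rw [map_mul, map_mul, map_inv]
      letI := IsCyclic.commGroup (α := h.comp v)
      exact mul_inv_cancel_comm _ _
    rw [hπs _ hmem, hπs _ ha] at e
    exact congrArg Subtype.val e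
  have hinv : ∀ m : Γ, m * a * m⁻¹ ∈ Subgroup.zpowers a → m⁻¹ * a * m ∈ Subgroup.zpowers a := by
    intro m hm
    have hle : (Subgroup.zpowers a).map (MulAut.conj m).toMonoidHom ≤ Subgroup.zpowers a := by
      rw [MonoidHom.map_zpowers, Subgroup.zpowers_le]
      exact hm
    have heq := Subgroup.eq_of_le_of_card_ge hle
      (Subgroup.card_map_of_injective (MulAut.conj m).injective).ge
    obtain ⟨y, hy, hya⟩ : a ∈ (Subgroup.zpowers a).map (MulAut.conj m).toMonoidHom :=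
      heq.symm ▸ Subgroup.mem_zpowers a
    have hya' : m * y * m⁻¹ = a := hya
    rw [← hya', show m⁻¹ * (m * y * m⁻¹) * m = y by group]
    rwa [hya']
  have hmove : ∀ m : Γ, m * a * m⁻¹ ∈ Subgroup.zpowers a → a • (m • (0 : V)) = m • (0 : V) := by
    intro m hm
    have hz : (m⁻¹ * a * m) • (0 : V) = 0 :=
      (Subgroup.zpowers_le.mpr (show a ∈ MulAction.stabilizer Γ (0 : V) from ha.1)) (hinv m hm)
    rw [mul_smul, mul_smul, inv_smul_eq_iff] at hz
    exact hz
  -- powers of `c` joining fixed points commute with `a`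
  have hcomm : ∀ x y : V, x ≠ 0 → y ≠ 0 → a • x = x → a • y = y →
      ∃ k : Γ, k ∈ Subgroup.zpowers c ∧ k • x = y ∧ Commute k a := by
    intro x y hx hy hax hay
    obtain ⟨j, hj⟩ := h.gen x y hx hy
    refine ⟨c ^ j, Subgroup.npow_mem_zpowers c j, hj, ?_⟩
    have e : a * c ^ j * a⁻¹ = c ^ j := h.cpow_ext (h.normalize ha.1 (Subgroup.npow_mem_zpowers c j))
      (Subgroup.npow_mem_zpowers c j) hx (by
        rw [mul_smul, mul_smul, inv_smul_eq_iff.mpr hax.symm, hj, hay])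
    exact (mul_inv_eq_iff_eq_mul.mp e).symm
  by_cases hg0 : g • (0 : V) = 0
  · exact hstab g hg0 hg
  set x := g • (0 : V) with hx
  have hax : a • x = x := hmove g hg
  obtain ⟨x', hx'0, hx'x, hax'⟩ : ∃ x' : V, x' ≠ 0 ∧ x' ≠ x ∧ a • x' = x' := by
    by_cases e : v = x
    · exact ⟨x₀, hx₀0, e ▸ hx₀v, hx₀⟩
    · exact ⟨v, hv, e, ha.2⟩
  obtain ⟨k₁, hk₁c, hk₁, hk₁a⟩ := hcomm x x' hg0 hx'0 hax hax'
  -- an element centralising `a` moving `0`
  set k := g⁻¹ * k₁ * g with hk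
  have hka : k * a * k⁻¹ = a := by
    obtain ⟨i, hi⟩ := hg
    have hi' : a ^ i = g * a * g⁻¹ := hi
    have h1 : k₁ * (g * a * g⁻¹) * k₁⁻¹ = g * a * g⁻¹ := by
      rw [← hi', (hk₁a.zpow_right i).eq, mul_inv_cancel_right]
    calc k * a * k⁻¹ = g⁻¹ * (k₁ * (g * a * g⁻¹) * k₁⁻¹) * g := by rw [hk]; group
      _ = a := by rw [h1]; group
  have hk0 : k • (0 : V) ≠ 0 := by
    rw [hk, mul_smul, mul_smul, ← hx, hk₁]
    exact fun e => hx'x (by rw [inv_smul_eq_iff] at e; exact e)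
  obtain ⟨k₂, hk₂c, hk₂, hk₂a⟩ := hcomm (k • (0 : V)) x hk0 hg0
    (hmove k (by rw [hka]; exact Subgroup.mem_zpowers a)) hax
  -- `g` differs from a centralising element by one fixing `0`
  have hka' : (k₂ * k) * a * (k₂ * k)⁻¹ = a := by
    calc (k₂ * k) * a * (k₂ * k)⁻¹ = k₂ * (k * a * k⁻¹) * k₂⁻¹ := by group
      _ = a := by rw [hka, hk₂a.eq, mul_inv_cancel_right]
  set m := (k₂ * k)⁻¹ * g with hm
  have hm0 : m • (0 : V) = 0 := by
    rw [hm, mul_smul, ← hx, inv_smul_eq_iff, mul_smul, hk₂]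
  have hconj : g * a * g⁻¹ = (k₂ * k) * (m * a * m⁻¹) * (k₂ * k)⁻¹ := by rw [hm]; group
  have hma : m * a * m⁻¹ ∈ Subgroup.zpowers a := by
    obtain ⟨i, hi⟩ := hg
    refine ⟨i, ?_⟩
    show a ^ i = m * a * m⁻¹
    have hi' : a ^ i = g * a * g⁻¹ := hi
    calc a ^ i = (k₂ * k)⁻¹ * ((k₂ * k) * a * (k₂ * k)⁻¹) ^ i * (k₂ * k) := by rw [conj_zpow]; group
      _ = (k₂ * k)⁻¹ * (g * a * g⁻¹) * (k₂ * k) := by rw [hka', hi']
      _ = _ := by rw [hm]; group
  rw [hconj, hstab m hm0 hma, hka']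

/-- An element of odd prime order of the complement fixing a third point gives a smaller transitive
subgroup. -/
theorem exists_smaller {v : V} (hv : v ≠ 0) {r : ℕ} (hr : r.Prime) (hr2 : r ≠ 2)
    (hrd : r ∣ Nat.card (h.comp v))
    (hfix : ∀ a ∈ h.comp v, orderOf a = r → ∃ x : V, a • x = x ∧ x ≠ 0 ∧ x ≠ v) :
    ∃ (Γ₁ : Subgroup (Equiv.Perm V)) (c₁ : Γ₁),
      Γ₁ ≤ Γ ∧ Nat.card Γ₁ < Nat.card Γ ∧ AffSinger Γ₁ c₁ := by
  classical
  obtain ⟨hcyc, -⟩ := h.comp_facts hv
  letI := IsCyclic.commGroup (α := h.comp v)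
  obtain ⟨π, hπ⟩ := h.exists_proj hv
  have hπs : ∀ (g : MulAction.stabilizer Γ (0 : V)) (hg : (g : Γ) ∈ h.comp v), π g = ⟨g, hg⟩ :=
    fun g hg => hπ g 1 ⟨g, hg⟩ (one_mem _) (one_mul _)
  have hπc : ∀ (g : MulAction.stabilizer Γ (0 : V)), (g : Γ) ∈ Subgroup.zpowers c → π g = 1 :=
    fun g hg => hπ g g 1 hg (by simp)
  obtain ⟨d, hd⟩ := hrd
  let P : h.comp v →* h.comp v := powMonoidHom d
  let φ : MulAction.stabilizer Γ (0 : V) →* P.range := P.rangeRestrict.comp π
  have hφval : ∀ g, ((φ g : P.range) : h.comp v) = π g ^ d := fun g => rfl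
  have hPr : ∀ p : P.range, p ^ r = 1 := by
    rintro ⟨_, s, rfl⟩
    refine Subtype.ext ?_
    show (s ^ d) ^ r = 1
    rw [← pow_mul, mul_comm, ← hd]
    exact pow_card_eq_one'
  -- fusion does not change the value of `φ`
  have hkey : ∀ (y : Γ) (hy : y • (0 : V) = 0) (g : Γ) (hgy : (g⁻¹ * y * g) • (0 : V) = 0),
      φ ⟨g⁻¹ * y * g, hgy⟩ = φ ⟨y, hy⟩ := by
    have hsame : ∀ (y m : MulAction.stabilizer Γ (0 : V)), φ (m⁻¹ * y * m) = φ y := fun y m => by
      rw [map_mul, map_mul, map_inv, mul_right_comm, inv_mul_cancel, one_mul]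
    intro y hy g hgy
    by_cases hg : g • (0 : V) = 0
    · exact hsame ⟨y, hy⟩ ⟨g, hg⟩
    set w := g • (0 : V) with hw
    have hyw : y • w = w := by
      rw [mul_smul, mul_smul, inv_smul_eq_iff] at hgy
      exact hgy
    -- move both into the complement
    obtain ⟨i, hi⟩ := h.gen v w hv hg
    have hu : g⁻¹ • (0 : V) ≠ 0 := fun e => hg (by
      rw [inv_smul_eq_iff] at e
      exact e.symm)
    obtain ⟨j, hj⟩ := h.gen v _ hv hu
    have hi0 := h.cpow_zero (Subgroup.npow_mem_zpowers c i)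
    have hj0 := h.cpow_zero (Subgroup.npow_mem_zpowers c j)
    set a₁ := (c ^ i)⁻¹ * y * c ^ i with ha₁
    set g₁ := (c ^ i)⁻¹ * g * c ^ j with hg₁
    have ha₁S : a₁ ∈ h.comp v := by
      refine ⟨?_, ?_⟩
      · show a₁ • (0 : V) = 0
        rw [ha₁, mul_smul, mul_smul, hi0, hy, h.inv_zero hi0]
      · show a₁ • v = v
        rw [ha₁, mul_smul, mul_smul, hi, hyw, inv_smul_eq_iff, hi]
    have hb₁S : g₁⁻¹ * a₁ * g₁ ∈ h.comp v := by
      have e : g₁⁻¹ * a₁ * g₁ = (c ^ j)⁻¹ * (g⁻¹ * y * g) * c ^ j := by rw [hg₁, ha₁]; group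
      rw [e]
      refine ⟨?_, ?_⟩
      · show ((c ^ j)⁻¹ * (g⁻¹ * y * g) * c ^ j) • (0 : V) = 0
        rw [mul_smul, mul_smul, hj0, hgy, h.inv_zero hj0]
      · show ((c ^ j)⁻¹ * (g⁻¹ * y * g) * c ^ j) • v = v
        rw [mul_smul, mul_smul, hj, inv_smul_eq_iff, hj, mul_smul, mul_smul, smul_inv_smul, hy]
    have hmain : φ ⟨g₁⁻¹ * a₁ * g₁, hb₁S.1⟩ = φ ⟨a₁, ha₁S.1⟩ := by
      refine Subtype.ext ?_
      rw [hφval, hφval, hπs _ hb₁S, hπs _ ha₁S]
      set A : h.comp v := ⟨a₁, ha₁S⟩ ^ d with hA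
      set B : h.comp v := ⟨g₁⁻¹ * a₁ * g₁, hb₁S⟩ ^ d with hB
      have hBA : (B : Γ) = g₁⁻¹ * (A : Γ) * g₁ := by
        rw [hA, hB, SubgroupClass.coe_pow, SubgroupClass.coe_pow]
        have := conj_pow (i := d) (a := g₁⁻¹) (b := a₁)
        rwa [inv_inv] at this
      have hAr : A ^ r = 1 := by
        rw [hA, ← pow_mul, mul_comm, ← hd]; exact pow_card_eq_one'
      rcases hr.eq_one_or_self_of_dvd _ (orderOf_dvd_of_pow_eq_one hAr) with hA1 | hA1
      · rw [orderOf_eq_one_iff] at hA1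
        rw [hA1] at hBA ⊢
        exact Subtype.ext (by rw [hBA]; simp)
      · have hzB : orderOf B = r := by
          rw [← Subgroup.orderOf_coe, hBA, ← hA1, ← Subgroup.orderOf_coe A]
          conv_lhs => rw [show g₁⁻¹ * (A : Γ) * g₁ = MulAut.conj g₁⁻¹ (A : Γ) by simp]
          rw [MulEquiv.orderOf_eq]
        haveI : Fintype (h.comp v) := Fintype.ofFinite _
        have hz : B ∈ Subgroup.zpowers A := by
          have hsub : (Subgroup.zpowers A : Set (h.comp v)).toFinset ⊆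
              Finset.univ.filter fun x : h.comp v => x ^ r = 1 := fun x hx => by
            obtain ⟨l, rfl⟩ := Set.mem_toFinset.mp hx
            refine Finset.mem_filter.mpr ⟨Finset.mem_univ _, ?_⟩
            show (A ^ l) ^ r = 1
            rw [← zpow_natCast, ← zpow_mul, mul_comm, zpow_mul, zpow_natCast, hAr, one_zpow]
          have heq := Finset.eq_of_subset_of_card_le hsub (by
            refine (IsCyclic.card_pow_eq_one_le hr.pos).trans ?_
            rw [Set.toFinset_card, ← Nat.card_eq_fintype_card]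
            exact ((Nat.card_zpowers A).trans hA1).ge)
          have hBmem' : B ∈ Finset.univ.filter fun x : h.comp v => x ^ r = 1 :=
            Finset.mem_filter.mpr ⟨Finset.mem_univ _, hzB ▸ pow_orderOf_eq_one B⟩
          rw [← heq] at hBmem'
          exact Set.mem_toFinset.mp hBmem'
        obtain ⟨x, hx, hx0, hxv⟩ := hfix (A : Γ) A.2 (by rw [Subgroup.orderOf_coe]; exact hA1)
        have hBmem : g₁⁻¹ * (A : Γ) * (g₁⁻¹)⁻¹ ∈ Subgroup.zpowers (A : Γ) := by
          rw [inv_inv, ← hBA]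
          obtain ⟨l, hl⟩ := hz
          exact ⟨l, by rw [← hl]; simp⟩
        have := h.commute_of_normalizing hv A.2 hx hx0 hxv hBmem
        rw [inv_inv, ← hBA] at this
        exact Subtype.ext this
    have e1 : φ ⟨a₁, ha₁S.1⟩ = φ ⟨y, hy⟩ := hsame ⟨y, hy⟩ ⟨c ^ i, hi0⟩
    have e2 : φ ⟨g₁⁻¹ * a₁ * g₁, hb₁S.1⟩ = φ ⟨g⁻¹ * y * g, hgy⟩ := by
      rw [show (⟨g₁⁻¹ * a₁ * g₁, hb₁S.1⟩ : MulAction.stabilizer Γ (0 : V)) = ⟨c ^ j, hj0⟩⁻¹ * ⟨g⁻¹ * y * g, hgy⟩ * ⟨c ^ j, hj0⟩ from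
        Subtype.ext (by
          show g₁⁻¹ * a₁ * g₁ = (c ^ j)⁻¹ * (g⁻¹ * y * g) * c ^ j
          rw [hg₁, ha₁]; group)]
      exact hsame _ _
    rw [← e2, hmain, e1]
  -- the transfer
  letI : Fintype (Γ ⧸ MulAction.stabilizer Γ (0 : V)) := Fintype.ofFinite _
  set T : Γ →* P.range := MonoidHom.transfer φ with hT
  have hidx : (MulAction.stabilizer Γ (0 : V)).index = Nat.card V := by
    rw [MulAction.index_stabilizer,
      show MulAction.orbit Γ (0 : V) = Set.univ from Set.eq_univ_of_forall h.trans, Set.ncard_univ]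
  have hTval : ∀ g : MulAction.stabilizer Γ (0 : V), T g = φ g ^ Nat.card V := by
    intro g
    haveI : Fintype (Quotient (MulAction.orbitRel (Subgroup.zpowers (g : Γ))
        (Γ ⧸ MulAction.stabilizer Γ (0 : V)))) := Fintype.ofFinite _
    rw [hT, MonoidHom.transfer_eq_prod_quotient_orbitRel_zpowers_quot]
    have : ∀ q : Quotient (MulAction.orbitRel (Subgroup.zpowers (g : Γ)) (Γ ⧸ MulAction.stabilizer Γ (0 : V))),
        φ ⟨q.out.out⁻¹ * (g : Γ) ^ Function.minimalPeriod ((g : Γ) • ·) q.out * q.out.out,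
          QuotientGroup.out_conj_pow_minimalPeriod_mem _ (g : Γ) q.out⟩ =
        φ g ^ Function.minimalPeriod ((g : Γ) • ·) q.out := fun q => by
      rw [← map_pow]
      exact hkey _ (pow_mem g.2 _) _ _
    rw [Finset.prod_congr rfl fun q _ => this q, Finset.prod_pow_eq_pow_sum,
      ← Subgroup.index_eq_sum_minimalPeriod, hidx]
  obtain ⟨s, hs⟩ := h.exists_card_eq
  have hcop : Nat.Coprime (Nat.card V) r := by
    rw [hs]
    exact Nat.Coprime.pow_left s ((Nat.coprime_primes Nat.prime_two hr).mpr (Ne.symm hr2))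
  obtain ⟨n, hn⟩ := Nat.exists_mul_mod_eq_one_of_coprime hcop hr.one_lt
  -- `T` maps the stabiliser onto the target
  have hsurj : ∀ p : P.range, ∃ l : MulAction.stabilizer Γ (0 : V), T l = p := by
    intro p
    obtain ⟨q, hq⟩ := P.rangeRestrict_surjective p
    refine ⟨⟨(q : Γ), q.2.1⟩ ^ n, ?_⟩
    have hφq : φ ⟨(q : Γ), q.2.1⟩ = p := by
      rw [← hq]
      show P.rangeRestrict (π _) = _
      rw [hπs _ q.2]
    rw [SubgroupClass.coe_pow, map_pow, hTval, hφq, ← pow_mul]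
    conv_lhs => rw [← Nat.div_add_mod (Nat.card V * n) r, hn.2, pow_succ, pow_mul, hPr, one_pow, one_mul]
  let Γ₁ : Subgroup (Equiv.Perm V) := T.ker.map Γ.subtype
  have hle : Γ₁ ≤ Γ := Subgroup.map_subtype_le _
  have hcker : c ∈ T.ker := by
    rw [MonoidHom.mem_ker]
    have hφc : φ ⟨c, h.c0⟩ = 1 := by
      show P.rangeRestrict (π _) = 1
      rw [hπc _ (Subgroup.mem_zpowers c), map_one]
    have := hTval ⟨c, h.c0⟩
    rwa [hφc, one_pow] at this
  refine ⟨Γ₁, ⟨(c : Equiv.Perm V), c, hcker, rfl⟩, hle, ?_, ?_⟩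
  · rw [Subgroup.card_map_of_injective Γ.subtype_injective]
    refine lt_of_le_of_ne (Subgroup.card_le_card_group _) fun e => ?_
    obtain ⟨a, ha⟩ : ∃ a : h.comp v, a ^ d ≠ 1 := by
      haveI := Fact.mk hr
      obtain ⟨b, hb⟩ := IsCyclic.exists_generator (α := h.comp v)
      refine ⟨b, fun e1 => ?_⟩
      have hdpos : 0 < d := Nat.pos_of_ne_zero fun e0 => Nat.card_pos.ne' (hd.trans (by rw [e0, mul_zero]))
      have := Nat.le_of_dvd hdpos (orderOf_dvd_of_pow_eq_one e1)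
      rw [orderOf_eq_card_of_forall_mem_zpowers hb, hd] at this
      nlinarith [hr.two_le]
    obtain ⟨l, hl⟩ := hsurj ⟨_, a, rfl⟩
    have hmem : (l : Γ) ∈ T.ker := (Subgroup.eq_top_of_card_eq T.ker e).symm ▸ Subgroup.mem_top _
    rw [MonoidHom.mem_ker, hl] at hmem
    exact ha (congrArg Subtype.val hmem)
  · have hsm : ∀ (g : Γ₁) (x : V), g • x = (⟨_, hle g.2⟩ : Γ) • x := fun g x => rfl
    refine
      { two := h.two
        affine := fun g x y => by rw [hsm, hsm, hsm, hsm, h.affine]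
        trans := fun x => ?_
        c0 := h.c0
        gen := fun x y hx hy => ?_
        norm := fun g hg => ?_ }
    · obtain ⟨g, hg⟩ := h.trans x
      obtain ⟨l, hl⟩ := hsurj (T g)
      have hker : g * (l : Γ)⁻¹ ∈ T.ker := by rw [MonoidHom.mem_ker, map_mul, map_inv, hl, mul_inv_cancel]
      refine ⟨⟨((g * (l : Γ)⁻¹ : Γ) : Equiv.Perm V), _, hker, rfl⟩, ?_⟩
      show (g * (l : Γ)⁻¹) • (0 : V) = x
      rw [mul_smul, h.inv_zero l.2, hg]
    · obtain ⟨j, hj⟩ := h.gen x y hx hy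
      refine ⟨j, ?_⟩
      rw [Subgroup.smul_def, SubgroupClass.coe_pow] at hj ⊢
      exact hj
    · obtain ⟨i, hi⟩ := h.norm ⟨_, hle g.2⟩ (by rwa [← hsm])
      refine ⟨i, Subtype.ext ?_⟩
      have := congrArg (fun k : Γ => (k : Equiv.Perm V)) hi
      simpa using this

/-- The last case: `2 ^ r` points with a complement of prime order `r ≥ 5`. -/
theorem final_case (hno : NoTrans Γ) {v : V} (hv : v ≠ 0) {r : ℕ} (hr : r.Prime) (hr5 : 5 ≤ r)
    {y : h.comp v} (hy : orderOf y = r) (hfix : ∀ x : V, (y : Γ) • x = x → x = 0 ∨ x = v) : False := by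
  classical
  haveI : Fact (Nat.Prime 2) := ⟨Nat.prime_two⟩
  obtain ⟨hcyc, hfacts⟩ := h.comp_facts hv
  obtain ⟨hq, hS, hT⟩ := hfacts y r hr hy hfix
  have hQ : 2 ^ r = Nat.card V := hq.symm
  have hbig : 2 * r + 3 ≤ 2 ^ r := by
    have hind : ∀ n, 2 * (n + 5) + 3 ≤ 2 ^ (n + 5) := by
      intro n
      induction n with
      | zero => norm_num
      | succ n ih => rw [Nat.succ_add, pow_succ]; omega
    obtain ⟨n, rfl⟩ := Nat.exists_eq_add_of_le' hr5
    exact hind n
  -- orders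
  have hC : Nat.card (Subgroup.zpowers c) = 2 ^ r - 1 := by
    haveI : Fintype V := Fintype.ofFinite V
    have e : Nat.card (Subgroup.zpowers c) = Nat.card {x : V // x ≠ 0} := by
      refine Nat.card_eq_of_bijective (fun k => (⟨(k : Γ) • v, fun e => hv (by
        have := congrArg ((k : Γ)⁻¹ • ·) e
        simpa [h.inv_zero (h.cpow_zero k.2)] using this)⟩ : {x : V // x ≠ 0})) ⟨?_, ?_⟩
      · intro k l e
        exact Subtype.ext (h.cpow_ext k.2 l.2 hv (congrArg Subtype.val e))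
      · intro x
        obtain ⟨j, hj⟩ := h.gen v x hv x.2
        exact ⟨⟨c ^ j, Subgroup.npow_mem_zpowers c j⟩, Subtype.ext hj⟩
    rw [e, Nat.card_eq_fintype_card, Fintype.card_subtype_compl, Fintype.card_subtype_eq,
      ← Nat.card_eq_fintype_card, hQ]
  have hL : Nat.card (MulAction.stabilizer Γ (0 : V)) = (2 ^ r - 1) * r := by
    rw [← hC, ← hS, ← Nat.card_prod]
    refine (Nat.card_eq_of_bijective (fun p : Subgroup.zpowers c × h.comp v =>
      (⟨(p.1 : Γ) * p.2, mul_mem (h.cpow_zero p.1.2) p.2.2.1⟩ : MulAction.stabilizer Γ (0 : V))) ⟨?_, ?_⟩).symm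
    · intro p q e
      obtain ⟨e1, e2⟩ := h.decomp_unique hv p.1.2 q.1.2 p.2.2 q.2.2 (congrArg Subtype.val e)
      exact Prod.ext (Subtype.ext e1) (Subtype.ext e2)
    · intro g
      obtain ⟨k, hk, s, hs, e⟩ := h.exists_decomp hv g.2
      exact ⟨(⟨k, hk⟩, ⟨s, hs⟩), Subtype.ext e⟩
  have hG : Nat.card Γ = 2 ^ r * ((2 ^ r - 1) * r) := by
    rw [← (MulAction.stabilizer Γ (0 : V)).index_mul_card, MulAction.index_stabilizer,
      show MulAction.orbit Γ (0 : V) = Set.univ from Set.eq_univ_of_forall h.trans, Set.ncard_univ, hL, hQ]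
  have hrodd : Odd r := hr.odd_of_ne_two (by omega)
  have hpodd : Odd (2 ^ r - 1) := Nat.Even.sub_odd Nat.one_le_two_pow
    (Nat.even_pow.mpr ⟨even_two, by omega⟩) odd_one
  have hoddk : Odd ((2 ^ r - 1) * r) := hpodd.mul hrodd
  -- an involution moves every point
  obtain ⟨t, ht⟩ := exists_prime_orderOf_dvd_card' (G := Γ) 2
    (hG ▸ dvd_mul_of_dvd_left (dvd_pow_self 2 (by omega)) _)
  have hmoves : ∀ x : V, t • x ≠ x := by
    intro x hx
    obtain ⟨g, rfl⟩ := h.trans x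
    have h0 : g⁻¹ * t * g ∈ MulAction.stabilizer Γ (0 : V) := by
      show (g⁻¹ * t * g) • (0 : V) = 0
      rw [mul_smul, mul_smul, hx, inv_smul_smul]
    have hdvd : orderOf (g⁻¹ * t * g) ∣ (2 ^ r - 1) * r := hL ▸ Subgroup.orderOf_dvd_natCard _ h0
    rw [show g⁻¹ * t * g = MulAut.conj g⁻¹ t by simp, MulEquiv.orderOf_eq, ht] at hdvd
    exact Nat.not_even_iff_odd.mpr hoddk (even_iff_two_dvd.mpr hdvd)
  -- so does every other element centralising it
  have hcent : ∀ g : Γ, Commute g t → g ≠ 1 → ∀ x : V, g • x ≠ x := by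
    intro g hgt hg1 x hgx
    obtain ⟨g₀, rfl⟩ := h.trans x
    have hu : g₀⁻¹ • t • g₀ • (0 : V) ≠ 0 := fun e => hmoves _ (by rw [inv_smul_eq_iff] at e; exact e)
    obtain ⟨j, hj⟩ := h.gen v _ hv hu
    set m := g₀ * c ^ j with hm
    have hj0 := h.cpow_zero (Subgroup.npow_mem_zpowers c j)
    have hm0 : m • (0 : V) = g₀ • (0 : V) := by rw [hm, mul_smul, hj0]
    have hmv : m • v = t • g₀ • (0 : V) := by rw [hm, mul_smul, hj, smul_inv_smul]
    have hg' : m⁻¹ * g * m ∈ h.comp v := by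
      refine ⟨?_, ?_⟩
      · show (m⁻¹ * g * m) • (0 : V) = 0
        rw [mul_smul, mul_smul, inv_smul_eq_iff, hm0, hgx]
      · show (m⁻¹ * g * m) • v = v
        rw [mul_smul, mul_smul, inv_smul_eq_iff, hmv, ← mul_smul, hgt.eq, mul_smul, hgx]
    have hne : (⟨_, hg'⟩ : h.comp v) ≠ 1 := fun e => hg1 (by
      have e' : m⁻¹ * g * m = 1 := congrArg Subtype.val e
      calc g = m * (m⁻¹ * g * m) * m⁻¹ := by group
        _ = 1 := by rw [e']; group)
    haveI := Fact.mk hr
    have hgen' : y ∈ Subgroup.zpowers (⟨_, hg'⟩ : h.comp v) := by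
      rw [zpowers_eq_top_of_prime_card hS hne]
      exact Subgroup.mem_top y
    have hyt : Commute (y : Γ) (m⁻¹ * t * m) := by
      obtain ⟨i, hi⟩ := hgen'
      have hi' : (m⁻¹ * g * m) ^ i = (y : Γ) := by rw [← hi]; simp
      rw [← hi']
      refine Commute.zpow_left ?_ i
      show m⁻¹ * g * m * (m⁻¹ * t * m) = m⁻¹ * t * m * (m⁻¹ * g * m)
      calc m⁻¹ * g * m * (m⁻¹ * t * m) = m⁻¹ * (g * t) * m := by group
        _ = m⁻¹ * (t * g) * m := by rw [hgt.eq]
        _ = _ := by group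
    set t' := m⁻¹ * t * m with ht'
    have ht'2 : t' * t' = 1 := by
      have htt : t * t = 1 := by rw [← pow_two, ← ht, pow_orderOf_eq_one]
      calc t' * t' = m⁻¹ * (t * t) * m := by rw [ht']; group
        _ = 1 := by rw [htt]; group
    let T : V →+ V := AddMonoidHom.mk' (fun x => t' • x + t' • (0 : V)) fun a b => by
      rw [h.affine]
      calc t' • a + t' • b + t' • (0 : V) + t' • (0 : V)
          = t' • a + t' • (0 : V) + (t' • b + t' • (0 : V)) := by abel
        _ = _ := rfl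
    have hid := hT (by omega) T (fun x => by
      show t' • (t' • x + t' • (0 : V)) + t' • (0 : V) = x
      rw [h.lin_mul, ht'2, one_smul, one_smul, add_zero]) (fun x => by
      show t' • ((y : Γ) • x) + t' • (0 : V) = (y : Γ) • (t' • x + t' • (0 : V))
      have h1 := h.lin_mul t' (y : Γ) x
      have h2 := h.lin_mul (y : Γ) t' x
      rw [show (y : Γ) • (0 : V) = 0 from y.2.1, add_zero] at h1 h2
      rw [h1, h2, hyt.eq])
    have : t' = 1 := hno t' fun x => by
      have hx : t' • x + t' • (0 : V) = x := hid x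
      calc t' • x = t' • x + (t' • (0 : V) + t' • (0 : V)) := by rw [h.two, add_zero]
        _ = x + t' • (0 : V) := by rw [← add_assoc, hx]
    have htone : t = 1 := by
      calc t = m * t' * m⁻¹ := by rw [ht']; group
        _ = 1 := by rw [this]; group
    rw [htone, orderOf_one] at ht
    omega
  haveI : Fintype V := Fintype.ofFinite V
  have h2t : MulAction.IsMultiplyPretransitive Γ V 2 := by
    rw [MulAction.is_two_pretransitive_iff]
    intro a b a' b' hab hab'
    obtain ⟨g, hga⟩ := h.trans a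
    obtain ⟨g', hga'⟩ := h.trans a'
    have hb : g⁻¹ • b ≠ 0 := fun e => hab (by rw [inv_smul_eq_iff, hga] at e; exact e.symm)
    have hb' : g'⁻¹ • b' ≠ 0 := fun e => hab' (by rw [inv_smul_eq_iff, hga'] at e; exact e.symm)
    obtain ⟨j, hj⟩ := h.gen _ _ hb hb'
    refine ⟨g' * c ^ j * g⁻¹, ?_, ?_⟩
    · rw [mul_smul, mul_smul, ← hga, inv_smul_smul, h.cpow_zero (Subgroup.npow_mem_zpowers c j), hga']
    · rw [mul_smul, mul_smul, hj, smul_inv_smul]
  have hzero : ∀ g : Γ, (∀ x : V, g • x ≠ x) → Nat.card {x : V // g • x = x} = 0 := fun g hg =>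
    Nat.card_eq_zero.mpr (Or.inl ⟨fun x => hg x.1 x.2⟩)
  rcases Cfsg.Agent.S3726.result (G := Γ) (Ω := V) h2t 0 t ht (hzero t hmoves)
      (fun g hg hg1 => hzero g (hcent g hg hg1)) with ⟨F, _, _, ⟨e⟩⟩ | hsz | ⟨R, hRn, hRt, hRs⟩
  · -- projective special linear
    have hc := CfsgLib.Classical.Dickson.gcd_mul_card_psl (F := F) (q := Fintype.card F) rfl
    rw [← Nat.card_congr e.toEquiv, hG] at hc
    set q := Fintype.card F with hq'
    have hq2 : 2 ≤ q := Fintype.one_lt_card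
    rcases Nat.even_or_odd q with hqe | hqo
    · have hg : Nat.gcd 2 (q - 1) = 1 :=
        Nat.coprime_two_left.mpr (Nat.Even.sub_odd (by omega) hqe odd_one)
      rw [hg, one_mul] at hc
      haveI : Fact (ringChar F).Prime := ⟨CharP.char_is_prime F _⟩
      obtain ⟨n, hn⟩ := FiniteField.card F (ringChar F)
      have hp2 : ringChar F = 2 := by
        have hd2 : 2 ∣ ringChar F ^ (n : ℕ) := hn.2 ▸ even_iff_two_dvd.mp hqe
        exact ((Nat.prime_dvd_prime_iff_eq Nat.prime_two hn.1).mp (Nat.prime_two.dvd_of_dvd_pow hd2)).symm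
      have hqn : q = 2 ^ (n : ℕ) := by rw [hq', hn.2, hp2]
      have hq1 : Odd (q ^ 2 - 1) :=
        Nat.Even.sub_odd (Nat.one_le_pow _ _ (by omega)) (Nat.even_pow.mpr ⟨hqe, by omega⟩) odd_one
      rw [hqn] at hc hq1
      have hnr : r = n := two_pow_mul_odd_inj hoddk hq1 hc
      rw [← hnr] at hc
      have hc' : (2 ^ r - 1) * r = (2 ^ r - 1) * (2 ^ r + 1) := by
        have := Nat.eq_of_mul_eq_mul_left (by positivity) hc
        rw [this, mul_comm, ← Nat.sq_sub_sq, one_pow]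
      have := Nat.eq_of_mul_eq_mul_left (by omega : 0 < 2 ^ r - 1) hc'
      omega
    · have hg : Nat.gcd 2 (q - 1) = 2 := Nat.gcd_eq_left (by obtain ⟨i, hi⟩ := hqo; omega)
      rw [hg] at hc
      obtain ⟨i, hi⟩ := hqo
      have hq3 : q * (q ^ 2 - 1) = 4 * ((2 * i + 1) * (i * (i + 1))) := by
        have h1 : q ^ 2 - 1 = 4 * (i * (i + 1)) := by
          rw [hi, show (2 * i + 1) ^ 2 = 4 * (i * (i + 1)) + 1 by ring, Nat.add_sub_cancel]
        rw [h1, hi]; ring
      rw [hq3, show 2 * (2 ^ r * ((2 ^ r - 1) * r)) = 4 * (2 ^ (r - 1) * ((2 ^ r - 1) * r)) by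
        rw [show 2 ^ r = 2 ^ (r - 1) * 2 by rw [← pow_succ]; congr 1; omega]; ring] at hc
      have hc' := Nat.eq_of_mul_eq_mul_left (by norm_num : 0 < 4) hc
      have hdvd : 2 ^ (r - 1) ∣ i * (i + 1) :=
        Nat.Coprime.dvd_of_dvd_mul_left (Nat.Coprime.pow_left _ (Nat.coprime_two_left.mpr ⟨i, rfl⟩))
          ⟨_, hc'.symm⟩
      have hi' : 2 ^ (r - 1) ≤ i + 1 := by
        rcases Nat.even_or_odd i with hev | hod
        · have hd' : 2 ^ (r - 1) ∣ i := Nat.Coprime.dvd_of_dvd_mul_right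
            (Nat.Coprime.pow_left _ (Nat.coprime_two_left.mpr hev.add_one)) hdvd
          rcases Nat.eq_zero_or_pos i with h0 | h0
          · omega
          · have := Nat.le_of_dvd h0 hd'; omega
        · exact Nat.le_of_dvd (by omega) (Nat.Coprime.dvd_of_dvd_mul_left
            (Nat.Coprime.pow_left _ (Nat.coprime_two_left.mpr hod)) hdvd)
      set A := 2 ^ (r - 1) with hA
      have h2r : 2 ^ r = 2 * A := by rw [hA, ← pow_succ']; congr 1; omega
      rw [h2r] at hbig hc'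
      obtain ⟨B, hB⟩ : ∃ B, A = B + 2 := ⟨A - 2, by omega⟩
      have h1 : (2 * A - 1) * ((B + 1) * A) ≤ (2 * i + 1) * (i * (i + 1)) :=
        Nat.mul_le_mul (by omega) (Nat.mul_le_mul (by omega) hi')
      have h2 : A * ((2 * A - 1) * r) < (2 * A - 1) * ((B + 1) * A) := by
        rw [show A * ((2 * A - 1) * r) = (2 * A - 1) * (r * A) by ring]
        exact Nat.mul_lt_mul_of_pos_left (Nat.mul_lt_mul_of_pos_right (by omega) (by omega)) (by omega)
      omega
  · obtain ⟨q, n, hn, hn3, rfl, hc⟩ := CfsgLib.ThreePrime.Sz.exists_q hsz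
    rw [hG, ← pow_mul, show 2 ^ (n * 2) * (2 ^ (n * 2) + 1) * (2 ^ n - 1) =
      2 ^ (n * 2) * ((2 ^ (n * 2) + 1) * (2 ^ n - 1)) by ring] at hc
    have h1 : Odd ((2 ^ (n * 2) + 1) * (2 ^ n - 1)) :=
      (Nat.even_pow.mpr ⟨even_two, by omega⟩).add_one.mul
        (Nat.Even.sub_odd Nat.one_le_two_pow (Nat.even_pow.mpr ⟨even_two, by omega⟩) odd_one)
    obtain ⟨i, hi⟩ := hrodd
    have := two_pow_mul_odd_inj hoddk h1 hc
    omega
  · haveI := hRn
    have hcard : Nat.card R = Nat.card V := Nat.card_eq_of_bijective (fun x : R => (x : Γ) • (0 : V))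
      ⟨fun a b e => Subtype.ext (inv_mul_eq_one.mp (hRs 0 _ (mul_mem (inv_mem a.2) b.2) (by
          show ((a : Γ)⁻¹ * b) • (0 : V) = 0
          rw [mul_smul, ← show (a : Γ) • (0 : V) = (b : Γ) • (0 : V) from e, inv_smul_smul]))),
        fun x => by
          obtain ⟨s, hs, hsx⟩ := hRt 0 x
          exact ⟨⟨s, hs⟩, hsx⟩⟩
    have hbot := h.no_two_normal hno hv R (IsPGroup.of_card (hcard.trans hQ.symm))
    rw [hbot, Subgroup.card_bot, ← hQ] at hcard
    omega

end AffSinger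

/-- The affine lemma. -/
theorem translationsOrEight : TranslationsOrEight.{v} := by
  classical
  intro V _ _ Γ h2 haff htr hc
  obtain ⟨c, hcΓ, hc0, hgen, hnorm⟩ := hc
  suffices H : ∀ (n : ℕ) (Γ : Subgroup (Equiv.Perm V)) (c : Γ), Nat.card Γ = n → AffSinger Γ c →
      (∀ w : V, Equiv.addRight w ∈ Γ) ∨ Nat.card V = 8 by
    refine H _ Γ ⟨c, hcΓ⟩ rfl
      { two := h2
        affine := fun g x y => haff g g.2 x y
        trans := fun x => by
          obtain ⟨g, hg, hgx⟩ := htr x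
          exact ⟨⟨g, hg⟩, hgx⟩
        c0 := hc0
        gen := fun x y hx hy => by
          obtain ⟨j, hj⟩ := hgen x y hx hy
          exact ⟨j, by rw [Subgroup.smul_def, SubgroupClass.coe_pow]; exact hj⟩
        norm := fun g hg => by
          obtain ⟨i, hi⟩ := hnorm g g.2 hg
          refine ⟨i, Subtype.ext ?_⟩
          simpa using hi }
  intro n
  induction n using Nat.strong_induction_on with
  | _ n ih =>
  intro Γ c hn h
  rcases h.all_or_noTrans with hall | hno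
  · exact Or.inl hall
  by_cases htriv : ∀ w : V, w = 0
  · exact Or.inl fun w => by rw [htriv w, Equiv.addRight_zero]; exact one_mem Γ
  push Not at htriv
  obtain ⟨v, hv⟩ := htriv
  by_cases hodd : ∃ r : ℕ, r.Prime ∧ r ≠ 2 ∧ r ∣ Nat.card (h.comp v)
  swap
  · exfalso
    push Not at hodd
    refine h.not_solvable hno hv (h.solvable_of_two hv ?_)
    exact ⟨_, Nat.eq_prime_pow_of_unique_prime_dvd Nat.card_pos.ne' fun {p} hp hd => by
      by_contra hne
      exact hodd p hp hne hd⟩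
  obtain ⟨r, hr, hr2, hrd⟩ := hodd
  by_cases hfix : ∀ a ∈ h.comp v, orderOf a = r → ∃ x : V, a • x = x ∧ x ≠ 0 ∧ x ≠ v
  · obtain ⟨Γ₁, c₁, hle, hlt, h₁⟩ := h.exists_smaller hv hr hr2 hrd hfix
    rcases ih _ (hn ▸ hlt) Γ₁ c₁ rfl h₁ with hall | h8
    · exact Or.inl fun w => hle (hall w)
    · exact Or.inr h8
  push Not at hfix
  obtain ⟨a, ha, har, hax⟩ := hfix
  have hy : orderOf (⟨a, ha⟩ : h.comp v) = r := by rw [Subgroup.orderOf_mk]; exact har
  have hfix' : ∀ x : V, a • x = x → x = 0 ∨ x = v := fun x hx =>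
    or_iff_not_imp_left.mpr fun h0 => hax x hx h0
  by_cases hr3 : r = 3
  · right
    rw [((h.comp_facts hv).2 _ r hr hy hfix').1, hr3]
    norm_num
  · exfalso
    have h4 : r ≠ 4 := fun e => absurd (e ▸ hr) (by norm_num)
    have := hr.two_le
    exact h.final_case hno hv hr (by omega) hy hfix'

end CfsgLib.AschCrit
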