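import Cfsg.Agent.Lib.Invol.AschCrit.CentLift

/-!
Owner: helper18. Aschbacher's criterion, slice B: the data at a multi whose fixed points carry a Bender group.

* `Crit.exists_lData`: the group `E`, its torus and the other clauses of `LData`.
* `Crit.localDichotomy`: the interface `LocalDichotomy`.
-/

set_option autoImplicit false
set_option linter.unusedSectionVars false

namespace CfsgLib.AschCrit

open Subgroup MulAction CfsgLib.Lie.RankOne CfsgLib.Lie.RankOneClass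
open CfsgLib.OddTransitive.RankOne (involutionGroup exists_cyclic)

universe u v

variable {G : Type u} [Group G] [Finite G] {Ω : Type v} [MulAction G Ω]

namespace Crit

variable {D : Set G} (h : Crit Ω D)
include h

/-- The Bender case. -/
theorem exists_lData (hf : Faithful G Ω) (IH : Below.{v, v} (Nat.card G)) {u : G} (hu : IsMulti Ω u)
    (hr : ¬ RankOne (cImage Ω D u)) {a b : Ω} (hab : a ≠ b) (hua : u • a = a) (hub : u • b = b) :
    ∃ (E : Subgroup G) (q i : ℕ), LData D u a b E q i := by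
  classical
  haveI := Fact.mk Nat.prime_two
  haveI := h.finite_points
  have hfL : Faithful (cImage Ω D u) (MulAction.fixedBy Ω u) := fun g hg => Subtype.ext (Equiv.ext hg)
  haveI : FaithfulSMul (cImage Ω D u) (MulAction.fixedBy Ω u) := faithfulSMul_iff.2 hfL
  have hL := h.cImage_crit hu
  have hn := h.cImage_noMulti hf IH hu
  set a' : MulAction.fixedBy Ω u := ⟨a, hua⟩ with ha'
  set b' : MulAction.fixedBy Ω u := ⟨b, hub⟩ with hb'
  have hab' : b' ≠ a' := fun e => hab (congrArg Subtype.val e).symm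
  obtain ⟨h2, Q, hQp, hset, hsw⟩ := hL.exists_setup hfL hn hr a'
  obtain ⟨t, htD, hta⟩ := hsw b' hab'
  have htt := hL.sq htD
  have hS := hset t htt (hta ▸ hab')
  set π := cProj Ω D u with hπ
  have hπsurj : Function.Surjective π := MonoidHom.rangeRestrict_surjective _
  set Z := involutionGroup hS h2 with hZ
  -- facts about the involutions at the point
  have hZQ : Z ≤ Q := by
    rintro z (rfl | hz)
    · exact one_mem _
    · exact CfsgLib.Lie.RankOne.J_mem_Q hS hz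
  have hQZ : ∀ y ∈ Q, ∀ z ∈ Z, y * z = z * y := by
    rintro y hy z (rfl | hz)
    · rw [mul_one, one_mul]
    · exact (J_central hS h2 hz hy).symm
  have hZfix : ∀ z ∈ Z, z • a' = a' := fun z hz => hS.le (hZQ hz)
  have hZconj : ∀ g : cImage Ω D u, g • a' = a' → ∀ z ∈ Z, g * z * g⁻¹ ∈ Z := by
    rintro g hg z (rfl | hz)
    · exact Or.inl (by group)
    · exact Or.inr (conj_mem_J hS hz hg)
  -- members centralising `u` at the point
  have hmem_c : ∀ d ∈ memsC D u a, d ∈ cGrp D u := fun d hd => mem_cGrp hd.1 hd.2.2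
  have hJ : ∀ (d : cGrp D u), (d : G) ∈ D → (d : G) • a = a →
      π d ∈ Cfsg.involutionsIn (stabilizer (cImage Ω D u) a' : Set (cImage Ω D u)) := fun d hd hda =>
    ⟨Subtype.ext hda, hL.ne_one' (h.cProj_mem hd), hL.sq (h.cProj_mem hd)⟩
  -- the two-group
  set P0 : Subgroup (cGrp D u) := Z.comap π with hP0
  have hP0fix : ∀ x ∈ P0, (x : G) • a = a := fun x hx =>
    congrArg Subtype.val (hZfix _ hx)
  obtain ⟨P⟩ : Nonempty (Sylow 2 P0) := inferInstance
  set P1 : Subgroup (cGrp D u) := (P : Subgroup P0).map P0.subtype with hP1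
  set S1 : Subgroup G := P1.map (cGrp D u).subtype with hS1
  have hS1p : IsPGroup 2 S1 := (P.isPGroup'.map _).map _
  have hS1c : ∀ g ∈ S1, g ∈ cGrp D u := fun g hg => map_subtype_le _ hg
  have hcommS : ∀ d ∈ S1, ∀ e ∈ S1, d ∈ D → e ∈ D → Commute d e := fun d hd e he hdD heD =>
    h.memsCommute hf IH u hu S1 hS1p d hd e he hdD heD (commute_of_mem_cGrp (hS1c d hd))
      (commute_of_mem_cGrp (hS1c e he))
  set E := memsGroup h hf S1 hcommS with hE
  have hEc : ∀ e ∈ E, e ∈ cGrp D u := fun e he => hS1c e he.1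
  have hEP0 : ∀ e (he : e ∈ E), (⟨e, hEc e he⟩ : cGrp D u) ∈ P0 := fun e he => by
    obtain ⟨x, hx, rfl⟩ := he.1
    exact map_subtype_le _ hx
  have hEmem : ∀ e ∈ E, e ≠ 1 → e ∈ memsC D u a := fun e he he1 =>
    ⟨he.2.resolve_left he1, hP0fix _ (hEP0 e he), commute_of_mem_cGrp (hEc e he)⟩
  have hEcomm : ∀ e ∈ E, ∀ f ∈ E, Commute e f := by
    intro e he f hff
    rcases he.2 with rfl | heD
    · exact Commute.one_left f
    rcases hff.2 with rfl | hfD
    · exact Commute.one_right e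
    exact hcommS e he.1 f hff.1 heD hfD
  let pe : E → cImage Ω D u := fun e => π ⟨e, hEc e e.2⟩
  have hpeZ : ∀ e, pe e ∈ Z := fun e => hEP0 e e.2
  have hpe1 : ∀ e : E, pe e = 1 → (e : G) = 1 := fun e he => by
    by_contra he1
    have := hEmem e e.2 he1
    exact hL.ne_one' (h.cProj_mem (d := ⟨(e : G), hEc e e.2⟩) this.1) he
  have hpe_one : ∀ e : E, (e : G) = 1 → pe e = 1 := fun e he => by
    show π ⟨(e : G), _⟩ = 1
    rw [show (⟨(e : G), hEc e e.2⟩ : cGrp D u) = 1 from Subtype.ext he, map_one]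
  have hpeinj : Function.Injective pe := fun e f hef => by
    rcases eq_or_ne (e : G) 1 with he | he
    · have : pe f = 1 := by rw [← hef]; exact hpe_one e he
      exact Subtype.ext (he.trans (hpe1 f this).symm)
    rcases eq_or_ne (f : G) 1 with hf1 | hf1
    · have : pe e = 1 := by rw [hef]; exact hpe_one f hf1
      exact absurd (hpe1 e this) he
    have := h.eq_of_cProj_eq hu (d := ⟨(e : G), hEc e e.2⟩) (e := ⟨(f : G), hEc f f.2⟩) (hEmem e e.2 he).1
      (hEmem f f.2 hf1).1 (hEcomm e e.2 f f.2) hef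
    exact Subtype.ext (congrArg Subtype.val this :)
  have hpesurj : ∀ z ∈ Z, ∃ e : E, pe e = z := by
    intro z hz
    rcases eq_or_ne z 1 with rfl | hz1
    · exact ⟨1, hpe_one 1 rfl⟩
    have hzJ := hz.resolve_left hz1
    obtain ⟨d, hd, hde⟩ := hL.mem_of_noMulti hfL hn
      (orderOf_eq_prime (by rw [pow_two, hzJ.2.2]) hz1) (hzJ.1)
    have hde' : π d = z := hde
    have hdP : d ∈ P0 := by rw [hP0, mem_comap, hde']; exact hz
    have hdp : IsPGroup 2 (zpowers (⟨d, hdP⟩ : P0)) := IsPGroup.of_card (n := 1) (by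
      rw [Nat.card_zpowers, Subgroup.orderOf_mk, pow_one, ← Subgroup.orderOf_coe]; exact h.inv _ hd)
    obtain ⟨T, hT⟩ := hdp.exists_le_sylow
    obtain ⟨g, rfl⟩ := MulAction.exists_smul_eq P0 P T
    have h1 : (g⁻¹ * ⟨d, hdP⟩ * g : P0) ∈ (P : Subgroup P0) := by
      have := hT (mem_zpowers _)
      rw [Sylow.coe_subgroup_smul, Subgroup.mem_pointwise_smul_iff_inv_smul_mem] at this
      simpa [MulAut.smul_def, mul_assoc] using this
    have h2' : ((g : cGrp D u)⁻¹ * d * g : cGrp D u) ∈ P1 := ⟨_, h1, rfl⟩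
    refine ⟨⟨(((g : cGrp D u)⁻¹ * d * g : cGrp D u) : G), ⟨_, h2', rfl⟩, Or.inr (h.conjBack hd _)⟩, ?_⟩
    show π ((g : cGrp D u)⁻¹ * d * g) = z
    have hg : π (g : cGrp D u) ∈ Z := g.2
    rw [map_mul, map_mul, map_inv, hde', mul_assoc, ← hQZ _ (hZQ hg) z hz, inv_mul_cancel_left]
  have hcardE : Nat.card E = qq (cImage Ω D u) a' := by
    rw [← card_involutionGroup hS h2]
    exact Nat.card_eq_of_bijective (fun e => (⟨pe e, hpeZ e⟩ : Z))
      ⟨fun e f hef => hpeinj (congrArg Subtype.val hef),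
        fun z => (hpesurj z z.2).imp fun e he => Subtype.ext he⟩
  -- the size
  obtain ⟨i, hi, hcardQ⟩ : ∃ i, (i = 1 ∨ i = 2 ∨ i = 3) ∧ Nat.card Q = qq (cImage Ω D u) a' ^ i := by
    rcases shape_all _ (cImage Ω D u) (MulAction.fixedBy Ω u) a' t Q rfl hS h2 with e | ⟨-, e | ⟨e, -⟩⟩
    · exact ⟨1, Or.inl rfl, by rw [pow_one]; exact e⟩
    · exact ⟨2, Or.inr (Or.inl rfl), e⟩
    · exact ⟨3, Or.inr (Or.inr rfl), e⟩
  -- the generator of the inverted elements
  obtain ⟨C, hC, hcyc, -⟩ := exists_cyclic hS h2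
  haveI := hcyc
  obtain ⟨⟨k, hkC⟩, hgen⟩ := IsCyclic.exists_generator (α := C)
  have hK : ∀ x, x ∈ C ↔ x ∈ Cfsg.invertedBy (stabilizer (cImage Ω D u) a' ⊓ stabilizer (cImage Ω D u) (t • a')) t :=
    fun x => by rw [← hC]; rfl
  have hpow : ∀ x ∈ C, ∃ j : ℕ, k ^ j = x := fun x hx => by
    obtain ⟨j, hj⟩ := (isOfFinOrder_of_finite (⟨k, hkC⟩ : C)).mem_powers_iff_mem_zpowers.2 (hgen ⟨x, hx⟩)
    exact ⟨j, congrArg Subtype.val hj⟩
  have hkK := (hK k).1 hkC
  have hka : k • a' = a' := (mem_D.1 hkK.1).1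
  have hkb : k • b' = b' := hta ▸ (mem_D.1 hkK.1).2
  have hk1 : k ≠ 1 := by
    obtain ⟨s, s', hs, hs', hne, -⟩ := exists_J_pair hS h2
    obtain ⟨x, ⟨hx, hxs⟩, -⟩ := exists_unique_K hS hs hs'
    intro e
    obtain ⟨j, hj⟩ := hpow x ((hK x).2 hx)
    rw [e, one_pow] at hj
    exact hne (by rw [← hxs, ← hj]; group)
  have hfree : ∀ z ∈ Z, k * z = z * k → z = 1 := fun z hz hc => by
    have : z ∈ Q ⊓ Subgroup.centralizer {k} :=
      ⟨hZQ hz, mem_centralizer_singleton_iff.2 hc.symm⟩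
    rwa [fixed_point_free hS hkK hk1, mem_bot] at this
  -- the torus
  obtain ⟨x, hx⟩ := hπsurj k
  have hxP0 : ∀ g ∈ P0, x * g * x⁻¹ ∈ P0 := fun g hg => by
    rw [hP0, mem_comap, map_mul, map_mul, map_inv, hx]; exact hZconj k hka _ hg
  have hxP0' : ∀ g ∈ P0, x⁻¹ * g * x ∈ P0 := fun g hg => by
    rw [hP0, mem_comap, map_mul, map_mul, map_inv, hx]
    have := hZconj k⁻¹ (inv_smul_eq_iff.2 hka.symm) _ hg
    rwa [inv_inv] at this
  let φ : P0 ≃* P0 :=
    { toFun := fun g => ⟨x * g * x⁻¹, hxP0 g g.2⟩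
      invFun := fun g => ⟨x⁻¹ * g * x, hxP0' g g.2⟩
      left_inv := fun g => Subtype.ext (by simp [mul_assoc])
      right_inv := fun g => Subtype.ext (by simp [mul_assoc])
      map_mul' := fun g g' => Subtype.ext (by simp [mul_assoc]) }
  obtain ⟨g, hg⟩ := MulAction.exists_smul_eq P0 P (P.mapSurjective (f := φ.toMonoidHom) φ.surjective)
  set y : cGrp D u := (g : cGrp D u)⁻¹ * x with hy
  have hyP1 : ∀ p ∈ P1, y * p * y⁻¹ ∈ P1 := by
    rintro _ ⟨p, hp, rfl⟩
    have h1 : φ p ∈ ((g • P : Sylow 2 P0) : Subgroup P0) := by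
      rw [hg]; exact mem_map_of_mem φ.toMonoidHom hp
    rw [Sylow.coe_subgroup_smul, Subgroup.mem_pointwise_smul_iff_inv_smul_mem] at h1
    have h1' : g⁻¹ * φ p * g ∈ (P : Subgroup P0) := by simpa [MulAut.smul_def, mul_assoc] using h1
    refine ⟨g⁻¹ * φ p * g, h1', ?_⟩
    show (g : cGrp D u)⁻¹ * (x * p * x⁻¹) * g = y * p * y⁻¹
    rw [hy]; group
  have hgZ : π (g : cGrp D u) ∈ Z := g.2
  obtain ⟨w, hw, hwe⟩ := surj_twist (X := cImage Ω D u) (Z := Z) (fun v hv v' hv' => hQZ v (hZQ hv) v' hv')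
    (hZconj k hka) hfree (inv_mem hgZ)
  obtain ⟨e₁, he₁⟩ := hpesurj w hw
  set ε₁ : cGrp D u := ⟨e₁, hEc e₁ e₁.2⟩ with hε₁
  have hε₁P1 : ε₁ ∈ P1 := by
    obtain ⟨p, hp, hpe⟩ := e₁.2.1
    rwa [show ε₁ = p from Subtype.ext hpe.symm]
  set y₀ : cGrp D u := ε₁ * y * ε₁⁻¹ with hy₀
  have hπy₀ : π y₀ = k := by
    rw [hy₀, map_mul, map_mul, map_inv, show π ε₁ = w from he₁, hy, map_mul, map_inv, hx]
    calc w * ((π (g : cGrp D u))⁻¹ * k) * w⁻¹ = w * (w⁻¹ * (k * w * k⁻¹)) * k * w⁻¹ := by rw [hwe]; group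
      _ = k := by group
  have hy₀N : y₀ ∈ normalizer (P1 : Set (cGrp D u)) := by
    have : ∀ p ∈ P1, y₀ * p * y₀⁻¹ ∈ P1 := fun p hp => by
      rw [hy₀, show ε₁ * y * ε₁⁻¹ * p * (ε₁ * y * ε₁⁻¹)⁻¹ = ε₁ * (y * (ε₁⁻¹ * p * ε₁) * y⁻¹) * ε₁⁻¹ by group]
      exact mul_mem (mul_mem hε₁P1 (hyP1 _ (mul_mem (mul_mem (inv_mem hε₁P1) hp) hε₁P1))) (inv_mem hε₁P1)
    rw [mem_normalizer_iff]
    refine fun p => ⟨this p, fun hp => ?_⟩
    obtain ⟨⟨r, hr'⟩, hr''⟩ := Finite.surjective_of_injective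
      (f := fun p : P1 => (⟨y₀ * p * y₀⁻¹, this p p.2⟩ : P1))
      (fun p p' e => Subtype.ext ((MulAut.conj y₀).injective (congrArg Subtype.val e :))) ⟨_, hp⟩
    rwa [← (MulAut.conj y₀).injective (congrArg Subtype.val hr'' :)]
  obtain ⟨r, m, hm, hrm⟩ := Nat.exists_eq_two_pow_mul_odd (orderOf_pos y₀).ne'
  have hkodd : Odd (orderOf k) := D_odd hS hkK.1
  obtain ⟨N, hN1, hN2⟩ := exists_pow_lift π y₀ (dvd_of_eq hrm) (by
    rw [hπy₀]; exact (Nat.coprime_two_left.2 hkodd).pow_left r)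
  set h₀ : cGrp D u := y₀ ^ N with hh₀
  have hπh : π h₀ = k := hN1.trans hπy₀
  have hπpow : ∀ j : ℕ, π (h₀ ^ j) = k ^ j := fun j => by rw [map_pow, hπh]
  have hh₀E : ∀ (j : ℕ), ∀ e ∈ E, (h₀ : G) ^ j * e * ((h₀ : G) ^ j)⁻¹ ∈ E := by
    intro j e he
    obtain ⟨p, hp, rfl⟩ := he.1
    refine ⟨⟨h₀ ^ j * p * (h₀ ^ j)⁻¹, (mem_normalizer_iff.1 (pow_mem (pow_mem hy₀N N) j) p).1 hp, by simp⟩, ?_⟩
    rcases he.2 with h1 | h1
    · exact Or.inl (by rw [h1]; group)
    · exact Or.inr (h.conj _ h1 _)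
  have hha : (h₀ : G) • a = a := congrArg Subtype.val ((congrArg (· • a') hπh).trans hka)
  have hhb : (h₀ : G) • b = b := congrArg Subtype.val ((congrArg (· • b') hπh).trans hkb)
  have hpeconj : ∀ (j : ℕ) (e : E), pe ⟨_, hh₀E j e e.2⟩ = k ^ j * pe e * (k ^ j)⁻¹ := fun j e => by
    rw [← hπpow j]
    show π _ = π _ * π _ * (π _)⁻¹
    rw [← map_inv, ← map_mul, ← map_mul]
    exact congrArg π (Subtype.ext (by simp))
  -- assemble
  refine ⟨E, qq (cImage Ω D u) a', i, ?_⟩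
  refine
    { pow := exists_pow_two hS h2
      type := hi
      ne := hab
      fix_a := hua
      fix_b := hub
      card_fix := ?_
      trans := ?_
      card_E := hcardE
      mem := hEmem
      comm := hEcomm
      maximal := ?_
      fibre := ?_
      fibre_card := ?_
      torus := ?_
      kernel_one := ?_ }
  · show Nat.card (MulAction.fixedBy Ω u) = _
    rw [(card_points hS).2, hcardQ]
  · intro p p' hp hp' hpa hpa'
    obtain ⟨⟨v, hv⟩, hvp, -⟩ := existsUnique_smul hS (⟨p, hp⟩ : MulAction.fixedBy Ω u) ⟨p', hp'⟩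
      (fun e => hpa (congrArg Subtype.val e)) (fun e => hpa' (congrArg Subtype.val e))
    obtain ⟨z, hz⟩ := hπsurj v
    obtain ⟨c, hc⟩ := IsPGroup.iff_orderOf.1 hQp ⟨v, hv⟩
    rw [Subgroup.orderOf_mk] at hc
    obtain ⟨r', m', hm', hrm'⟩ := Nat.exists_eq_two_pow_mul_odd (orderOf_pos z).ne'
    obtain ⟨N', hN1', hN2'⟩ := exists_pow_lift π z (A := m') (B := 2 ^ r')
      (dvd_of_eq (hrm'.trans (mul_comm _ _))) (by
        rw [hz, hc]; exact (Nat.coprime_two_right.2 hm').pow_right c)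
    have hzv : π (z ^ N') = v := hN1'.trans hz
    refine ⟨((z ^ N' : cGrp D u) : G), commute_of_mem_cGrp (z ^ N').2,
      congrArg Subtype.val ((congrArg (· • a') hzv).trans (hS.le hv)),
      congrArg Subtype.val ((congrArg (fun g : cImage Ω D u => g • (⟨p, hp⟩ : MulAction.fixedBy Ω u)) hzv).trans hvp),
      r', ?_⟩
    rw [← orderOf_dvd_iff_pow_eq_one, Subgroup.orderOf_coe]
    exact hN2'
  · intro T hT hET d hdT hd
    have hdJ := hJ ⟨d, hmem_c d hd⟩ hd.1 hd.2.1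
    obtain ⟨⟨e, he⟩, hee⟩ := hpesurj _ (Or.inr hdJ)
    have he1 : e ≠ 1 := fun e1 => hdJ.2.1 (hee.symm.trans (hpe_one ⟨e, he⟩ e1))
    have hem := hEmem e he he1
    have hc := h.memsCommute hf IH u hu T hT d hdT e (hET he) hd.1 hem.1 hd.2.2 hem.2.2
    have := h.eq_of_cProj_eq hu (d := ⟨d, hmem_c d hd⟩) (e := ⟨e, hEc e he⟩) hd.1 hem.1 hc hee.symm
    rwa [show d = e from congrArg Subtype.val this]
  · intro d hd
    have hdJ := hJ ⟨d, hmem_c d hd⟩ hd.1 hd.2.1
    obtain ⟨⟨e, he⟩, hee⟩ := hpesurj _ (Or.inr hdJ)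
    have he1 : e ≠ 1 := fun e1 => hdJ.2.1 (hee.symm.trans (hpe_one ⟨e, he⟩ e1))
    refine ⟨e, ⟨he, he1, ?_⟩, fun f ⟨hff, hf1, hodd⟩ => ?_⟩
    · rw [← Nat.not_even_iff_odd]
      intro hev
      obtain ⟨m', hm'⟩ := even_iff_exists_two_mul.1 hev
      refine h.half_moves hu (d := ⟨d, hmem_c d hd⟩) (e := ⟨e, hEc e he⟩) hd.1 (hEmem e he he1).1 (m := m')
        (by rw [← Subgroup.orderOf_coe]; exact hm') ?_
      rw [map_pow, map_mul, show π ⟨e, hEc e he⟩ = π ⟨d, hmem_c d hd⟩ from hee, hdJ.2.2, one_pow]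
    · have hfJ := hJ ⟨f, hEc f hff⟩ (hEmem f hff hf1).1 (hEmem f hff hf1).2.1
      have h1 : orderOf (π (⟨d, hmem_c d hd⟩ * ⟨f, hEc f hff⟩)) = 1 := by
        have hmul := mul_mem (s := Z) (Or.inr hdJ) (Or.inr hfJ)
        rw [← map_mul] at hmul
        refine Nat.eq_one_of_dvd_coprimes (Nat.coprime_two_left.2 hodd) (orderOf_dvd_of_pow_eq_one ?_)
          ((orderOf_map_dvd π _).trans (dvd_of_eq (Subgroup.orderOf_coe _).symm))
        rw [pow_two]
        exact congrArg Subtype.val (CfsgLib.OddTransitive.RankOne.sq_eq_one hS h2 ⟨_, hmul⟩)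
      rw [orderOf_eq_one_iff, map_mul, ← eq_inv_iff_mul_eq_one, inv_eq_of_mul_eq_one_right hfJ.2.2] at h1
      exact congrArg Subtype.val (hpeinj (a₁ := ⟨f, hff⟩) (a₂ := ⟨e, he⟩) (h1.symm.trans hee.symm))
  · intro e he f hff he1 hf1
    have heJ := hJ ⟨e, hEc e he⟩ (hEmem e he he1).1 (hEmem e he he1).2.1
    have hfJ := hJ ⟨f, hEc f hff⟩ (hEmem f hff hf1).1 (hEmem f hff hf1).2.1
    obtain ⟨x', ⟨hx', hxs⟩, -⟩ := exists_unique_K hS heJ hfJ
    obtain ⟨j, hj⟩ := hpow x'⁻¹ ((hK _).2 ⟨inv_mem hx'.1, by rw [← conj_inv, hx'.2]⟩)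
    have hef : (h₀ : G) ^ j * e * ((h₀ : G) ^ j)⁻¹ = f := by
      have := hpeinj (a₁ := ⟨_, hh₀E j e he⟩) (a₂ := ⟨f, hff⟩) (by
        rw [hpeconj j ⟨e, he⟩, hj, inv_inv]; exact hxs)
      exact congrArg Subtype.val this
    set c := (h₀ : G) ^ j with hc
    have hcu : Commute c u := (commute_of_mem_cGrp h₀.2).pow_left j
    have hca : c • a = a := pow_mem (show (h₀ : G) ∈ stabilizer G a from hha) j
    have hcai : c⁻¹ • a = a := inv_smul_eq_iff.2 hca.symm
    have hord : ∀ d : G, orderOf (c * d * c⁻¹ * f) = orderOf (d * e) := fun d => by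
      rw [← hef, show c * d * c⁻¹ * (c * e * c⁻¹) = c * (d * e) * c⁻¹ by group,
        CfsgLib.Signalizer.orderOf_conj]
    refine Nat.card_congr
      { toFun := fun d => ⟨c * d.1 * c⁻¹, ⟨h.conj _ d.2.1.1 c, by rw [mul_smul, mul_smul, hcai, d.2.1.2.1, hca],
          (hcu.mul_left d.2.1.2.2).mul_left hcu.inv_left⟩, by rw [hord]; exact d.2.2⟩
        invFun := fun d => ⟨c⁻¹ * d.1 * c, ⟨h.conjBack d.2.1.1 c, by rw [mul_smul, mul_smul, hca, d.2.1.2.1, hcai],
          (hcu.inv_left.mul_left d.2.1.2.2).mul_left hcu⟩, by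
            rw [← hord, show c * (c⁻¹ * d.1 * c) * c⁻¹ = d.1 by group]; exact d.2.2⟩
        left_inv := fun d => Subtype.ext (by simp [mul_assoc])
        right_inv := fun d => Subtype.ext (by simp [mul_assoc]) }
  · refine ⟨(h₀ : G), ?_, commute_of_mem_cGrp h₀.2, hha, hhb, fun e he => ?_, fun e he f hff he1 hf1 => ?_,
      fun g hgu hga hgE => ?_⟩
    · rw [Subgroup.orderOf_coe]; exact hm.of_dvd_nat hN2
    · simpa using hh₀E 1 e he
    · have heJ := hJ ⟨e, hEc e he⟩ (hEmem e he he1).1 (hEmem e he he1).2.1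
      have hfJ := hJ ⟨f, hEc f hff⟩ (hEmem f hff hf1).1 (hEmem f hff hf1).2.1
      obtain ⟨x', ⟨hx', hxs⟩, -⟩ := exists_unique_K hS heJ hfJ
      obtain ⟨j, hj⟩ := hpow x'⁻¹ ((hK _).2 ⟨inv_mem hx'.1, by rw [← conj_inv, hx'.2]⟩)
      exact ⟨j, congrArg Subtype.val (hpeinj (a₁ := ⟨_, hh₀E j e he⟩) (a₂ := ⟨f, hff⟩) (by
        rw [hpeconj j ⟨e, he⟩, hj, inv_inv]; exact hxs))⟩
    · -- bring `g b` back to `b` inside the kernel
      have hgub : u • (g • b) = g • b := by rw [← mul_smul, ← hgu.eq, mul_smul, hub]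
      have hgb : (⟨g • b, hgub⟩ : MulAction.fixedBy Ω u) ≠ a' := fun e =>
        hab (smul_left_cancel g ((congrArg Subtype.val e).trans hga.symm)).symm
      obtain ⟨⟨v, hv⟩, hvb, -⟩ := existsUnique_smul hS _ b' hgb hab'
      obtain ⟨Y, hY⟩ := hπsurj v
      set g' := (Y : G) * g with hg'
      have hg'u : Commute g' u := (commute_of_mem_cGrp Y.2).mul_left hgu
      have hg'a : g' • a = a := by
        rw [hg', mul_smul, hga]
        exact congrArg Subtype.val ((congrArg (· • a') hY).trans (hS.le hv))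
      have hg'b : g' • b = b := by
        rw [hg', mul_smul]
        exact congrArg Subtype.val
          ((congrArg (fun z : cImage Ω D u => z • (⟨g • b, hgub⟩ : MulAction.fixedBy Ω u)) hY).trans hvb)
      obtain ⟨τ, hτ⟩ := hπsurj t
      set cj := conjCGrp h hg'u with hcj
      have hτa : (τ : G) • a = b := congrArg Subtype.val ((congrArg (· • a') hτ).trans hta)
      set t' := π (cj τ) with ht'
      have ht'2 : t' * t' = 1 := by
        rw [ht', ← map_mul, ← map_mul, cProj_conj h hg'u (x := τ * τ) (y := 1) (by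
          rw [map_mul, hτ, htt, map_one]), map_one, map_one]
      have hinvfix : ∀ {z : Ω}, g' • z = z → g'⁻¹ • z = z := fun hz => inv_smul_eq_iff.2 hz.symm
      have ht'a : t' • a' = b' := Subtype.ext (by
        show ((cj τ : cGrp D u) : G) • a = b
        rw [conjCGrp_coe, mul_smul, mul_smul, hinvfix hg'a, hτa, hg'b])
      have hta' : t' • a' = t • a' := ht'a.trans hta.symm
      have hS' := hset t' ht'2 (ht'a ▸ hab')
      set X := π (cj h₀) with hX
      have hXK : X ∈ Cfsg.invertedBy (stabilizer (cImage Ω D u) a' ⊓ stabilizer (cImage Ω D u) (t' • a')) t' := by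
        refine ⟨⟨Subtype.ext ?_, ?_⟩, ?_⟩
        · show ((cj h₀ : cGrp D u) : G) • a = a
          rw [conjCGrp_coe, mul_smul, mul_smul, hinvfix hg'a, hha, hg'a]
        · rw [ht'a]
          refine Subtype.ext ?_
          show ((cj h₀ : cGrp D u) : G) • b = b
          rw [conjCGrp_coe, mul_smul, mul_smul, hinvfix hg'b, hhb, hg'b]
        · rw [hX, ht', ← map_inv π (cj τ), ← map_mul, ← map_mul, ← map_inv π (cj h₀), ← map_inv cj, ← map_inv cj,
            ← map_mul, ← map_mul]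
          refine cProj_conj h hg'u ?_
          rw [map_mul, map_mul, map_inv, map_inv, hτ, hπh]
          exact hkK.2
      obtain ⟨j, hj⟩ := hpow X ((hK X).2 (inverted_congr hS' h2 htt hta'.symm hXK))
      refine ⟨j, fun e he => ?_⟩
      set W := conjCGrp h hgu h₀ with hW
      have hgE' : ∀ f ∈ E, g⁻¹ * f * g ∈ E := fun f hff => by
        obtain ⟨⟨f', hf'⟩, hff'⟩ := Finite.surjective_of_injective
          (f := fun f : E => (⟨g * f * g⁻¹, hgE f f.2⟩ : E))
          (fun f f' e' => Subtype.ext ((MulAut.conj g).injective (congrArg Subtype.val e' :))) ⟨f, hff⟩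
        have : g * f' * g⁻¹ = f := congrArg Subtype.val hff'
        rw [← this, show g⁻¹ * (g * f' * g⁻¹) * g = f' by group]
        exact hf'
      have hWE : (W : G) * e * (W : G)⁻¹ ∈ E := by
        have := hgE _ (hh₀E 1 _ (hgE' e he))
        rw [pow_one] at this
        rwa [hW, conjCGrp_coe, show g * (h₀ : G) * g⁻¹ * e * (g * (h₀ : G) * g⁻¹)⁻¹ =
          g * ((h₀ : G) * (g⁻¹ * e * g) * (h₀ : G)⁻¹) * g⁻¹ by group]
      have hXY : X = v * π W * v⁻¹ := by
        rw [← hY, hX, ← map_inv, ← map_mul, ← map_mul]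
        refine congrArg π (Subtype.ext ?_)
        show g' * (h₀ : G) * g'⁻¹ = (Y : G) * (g * (h₀ : G) * g⁻¹) * (Y : G)⁻¹
        rw [hg']; group
      have key : pe ⟨_, hWE⟩ = pe ⟨_, hh₀E j e he⟩ := by
        rw [hpeconj j ⟨e, he⟩, hj]
        set z := pe ⟨e, he⟩ with hz
        have hzZ : z ∈ Z := hpeZ _
        have hXz : X * z * X⁻¹ ∈ Z := hZconj X (mem_D.1 hXK.1).1 z hzZ
        have h1 : π W * z * (π W)⁻¹ = X * z * X⁻¹ := by
          rw [show π W = v⁻¹ * X * v by rw [hXY]; group]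
          calc v⁻¹ * X * v * z * (v⁻¹ * X * v)⁻¹ = v⁻¹ * (X * (v * z * v⁻¹) * X⁻¹) * v := by group
            _ = v⁻¹ * (X * z * X⁻¹) * v := by rw [hQZ v hv z hzZ, mul_inv_cancel_right]
            _ = X * z * X⁻¹ := by rw [mul_assoc, ← hQZ v hv _ hXz, inv_mul_cancel_left]
        rw [← h1, hz]
        show π _ = π W * π _ * (π W)⁻¹
        rw [← map_inv, ← map_mul, ← map_mul]
        exact congrArg π (Subtype.ext (by simp))
      exact congrArg Subtype.val (hpeinj key)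
  · intro hi1 g hgu hga _ hgE
    have hQeq : Q = Z := (Subgroup.eq_of_le_of_card_ge hZQ (by
      rw [card_involutionGroup hS h2, hcardQ, hi1, pow_one])).symm
    have hlift : ∀ z : Ω, u • z = z → z ≠ a → ∃ e ∈ E, e • b = z := fun z hz hza => by
      obtain ⟨⟨v, hv⟩, hvb, -⟩ := existsUnique_smul hS b' (⟨z, hz⟩ : MulAction.fixedBy Ω u) hab'
        (fun e => hza (congrArg Subtype.val e))
      obtain ⟨⟨e, he⟩, hee⟩ := hpesurj v (hQeq ▸ hv)
      exact ⟨e, he, congrArg Subtype.val ((congrArg (fun z : cImage Ω D u => z • b') hee).trans hvb)⟩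
    obtain ⟨e, he, heb⟩ := hlift (g • b) (by rw [← mul_smul, ← hgu.eq, mul_smul, hub])
      (fun e => hab (smul_left_cancel g (e.trans hga.symm)).symm)
    refine ⟨e, he, fun z hz => ?_⟩
    by_cases hza : z = a
    · subst hza
      rw [hga]
      exact (congrArg Subtype.val (hZfix _ (hpeZ ⟨e, he⟩))).symm
    obtain ⟨f, hff, hfb⟩ := hlift z hz hza
    rw [← hfb, ← mul_smul, (hgE f hff).eq, mul_smul, ← heb, ← mul_smul, ← mul_smul, (hEcomm f hff e he).eq]

/-- The interface `LocalDichotomy`. -/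
theorem localDichotomy (hf : Faithful G Ω) (IH : Below.{v, v} (Nat.card G)) : LocalDichotomy Ω D := by
  intro u hu a b hab hua hub
  by_cases hr : RankOne (cImage Ω D u)
  · exact Or.inl (h.rankOneAt hu hr a)
  · exact Or.inr (h.exists_lData hf IH hu hr hab hua hub)

end Crit

end CfsgLib.AschCrit
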