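import Cfsg.Agent.Lib.Invol.AschCrit.Frame
import Cfsg.Agent.Lib.Invol.AschCrit.CentData

/-!
Owner: helper18. Aschbacher's criterion, slice D: first properties of frames.

* `LData.conj`: the data move along conjugation.
* `Crit.memGroupLe`, `Crit.framesExist`, `Crit.cosetClass`, `Crit.unipTrans`: four interfaces of `Frame`.
-/

set_option autoImplicit false
set_option linter.unusedSectionVars false

namespace CfsgLib.AschCrit

open Subgroup MulAction

universe u v

variable {G : Type u} [Group G] [Finite G] {Ω : Type v} [MulAction G Ω]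

namespace Crit

variable {D : Set G} (h : Crit Ω D)
include h

/-- Members with an odd product are conjugate by an element commuting with what commutes with both. -/
theorem conj_of_odd_mul {c d e : G} (hd : d ∈ D) (he : e ∈ D) (hodd : Odd (orderOf (d * e)))
    (hdc : Commute c d) (hec : Commute c e) : ∃ g : G, Commute c g ∧ g * d * g⁻¹ = e := by
  obtain ⟨i, hi⟩ := hodd
  have hd2 := h.sq hd
  refine ⟨((d * e) ^ (i + 1))⁻¹, ((hdc.mul_right hec).pow_right _).inv_right, ?_⟩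
  have h1 : d * (d * e) ^ (2 * (i + 1)) = e := by
    rw [show 2 * (i + 1) = orderOf (d * e) + 1 by omega, pow_succ, pow_orderOf_eq_one, one_mul,
      ← mul_assoc, hd2, one_mul]
  rw [inv_inv, ← dih_even hd2 (h.sq he) (i + 1), h1]

theorem memsC_conj {u : G} {a : Ω} {d : G} (hd : d ∈ memsC D u a) (g : G) :
    g * d * g⁻¹ ∈ memsC D (g * u * g⁻¹) (g • a) :=
  ⟨h.conj d hd.1 g, by rw [mul_smul, mul_smul, inv_smul_smul, hd.2.1], Commute.conj_iff g |>.2 hd.2.2⟩

/-- The data move along conjugation. -/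
theorem lData_conj {u : G} {a b : Ω} {E : Subgroup G} {q i : ℕ} (hl : LData D u a b E q i) (g : G) :
    LData D (g * u * g⁻¹) (g • a) (g • b) (E.map (MulAut.conj g).toMonoidHom) q i := by
  have hfix : ∀ x : Ω, (g * u * g⁻¹) • x = x ↔ u • (g⁻¹ • x) = g⁻¹ • x := fun x => by
    rw [mul_smul, mul_smul, ← eq_inv_smul_iff]
  have hcm : ∀ x : G, Commute x (g * u * g⁻¹) ↔ Commute (g⁻¹ * x * g) u := fun x => by
    rw [← Commute.conj_iff g (a := g⁻¹ * x * g), show g * (g⁻¹ * x * g) * g⁻¹ = x by group]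
  have hE : ∀ x : G, x ∈ E.map (MulAut.conj g).toMonoidHom ↔ g⁻¹ * x * g ∈ E := fun x => by
    refine ⟨?_, fun hx => ⟨_, hx, by simp [mul_assoc]⟩⟩
    rintro ⟨e, he, rfl⟩
    simpa [mul_assoc] using he
  have hmc : ∀ x : G, x ∈ memsC D (g * u * g⁻¹) (g • a) ↔ g⁻¹ * x * g ∈ memsC D u a := fun x => by
    constructor
    · intro hx
      have := h.memsC_conj hx g⁻¹
      rwa [inv_inv, inv_smul_smul, show g⁻¹ * (g * u * g⁻¹) * g = u by group] at this
    · intro hx
      have := h.memsC_conj hx g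
      rwa [show g * (g⁻¹ * x * g) * g⁻¹ = x by group] at this
  have hord : ∀ x : G, orderOf (g⁻¹ * x * g) = orderOf x := fun x => by
    simpa using CfsgLib.Signalizer.orderOf_conj g⁻¹ x
  have hne1 : ∀ {x : G}, x ≠ 1 → g⁻¹ * x * g ≠ 1 := fun {x} hx e => hx (by
    have h1 := congrArg (fun z => g * z * g⁻¹) e
    simpa [mul_assoc] using h1)
  have hca : ∀ {x : Ω}, g⁻¹ • x = g⁻¹ • (g • a) → x = g • a := fun e => smul_left_cancel _ e
  refine
    { pow := hl.pow
      type := hl.type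
      ne := fun e => hl.ne (smul_left_cancel g e)
      fix_a := (hfix _).2 (by rw [inv_smul_smul]; exact hl.fix_a)
      fix_b := (hfix _).2 (by rw [inv_smul_smul]; exact hl.fix_b)
      card_fix := ?_
      trans := ?_
      card_E := ?_
      mem := fun e he he1 => (hmc e).2 (hl.mem _ ((hE e).1 he) (hne1 he1))
      comm := ?_
      maximal := ?_
      fibre := ?_
      fibre_card := ?_
      torus := ?_
      kernel_one := ?_ }
  · rw [← hl.card_fix]
    exact Nat.card_congr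
      { toFun := fun x => ⟨g⁻¹ • x.1, (hfix _).1 x.2⟩
        invFun := fun x => ⟨g • x.1, (hfix _).2 (by rw [inv_smul_smul]; exact x.2)⟩
        left_inv := fun x => Subtype.ext (by simp)
        right_inv := fun x => Subtype.ext (by simp) }
  · intro x y hx hy hxa hya
    obtain ⟨k, hku, hka, hkx, n, hn⟩ := hl.trans _ _ ((hfix x).1 hx) ((hfix y).1 hy)
      (fun e => hxa (hca (e.trans (inv_smul_smul g a).symm))) (fun e => hya (hca (e.trans (inv_smul_smul g a).symm)))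
    refine ⟨g * k * g⁻¹, (Commute.conj_iff g).2 hku, by rw [mul_smul, mul_smul, inv_smul_smul, hka],
      by rw [mul_smul, mul_smul, hkx, smul_inv_smul], n, ?_⟩
    rw [conj_pow, hn]; group
  · rw [Subgroup.card_map_of_injective (MulAut.conj g).injective, hl.card_E]
  · intro e he f hf
    exact (Commute.conj_iff g⁻¹).1 (by simpa [inv_inv] using hl.comm _ ((hE e).1 he) _ ((hE f).1 hf))
  · intro S hS hES d hdS hd
    refine (hE d).2 (hl.maximal (S.map (MulAut.conj g⁻¹).toMonoidHom) (hS.map _) (fun e he => ?_) _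
      ⟨d, hdS, by simp⟩ ((hmc d).1 hd))
    exact ⟨g * e * g⁻¹, hES ((hE _).2 (by rwa [show g⁻¹ * (g * e * g⁻¹) * g = e by group])),
      by simp [mul_assoc]⟩
  · intro d hd
    obtain ⟨e, ⟨he, he1, hodd⟩, hu⟩ := hl.fibre _ ((hmc d).1 hd)
    refine ⟨g * e * g⁻¹, ⟨(hE _).2 (by rwa [show g⁻¹ * (g * e * g⁻¹) * g = e by group]), ?_, ?_⟩, ?_⟩
    · intro h1
      exact he1 (conj_eq_one_iff.1 h1)
    · rwa [← hord, show g⁻¹ * (d * (g * e * g⁻¹)) * g = g⁻¹ * d * g * e by group]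
    · rintro f ⟨hf, hf1, hfo⟩
      have := hu _ ⟨(hE f).1 hf, hne1 hf1, by
        rwa [show g⁻¹ * d * g * (g⁻¹ * f * g) = g⁻¹ * (d * f) * g by group, hord]⟩
      rw [← this]; group
  · intro e he f hf he1 hf1
    have hc : ∀ x : G, Nat.card {d : G // d ∈ memsC D (g * u * g⁻¹) (g • a) ∧ Odd (orderOf (d * x))} =
        Nat.card {d : G // d ∈ memsC D u a ∧ Odd (orderOf (d * (g⁻¹ * x * g)))} := fun x =>
      Nat.card_congr
        { toFun := fun d => ⟨g⁻¹ * d.1 * g, (hmc _).1 d.2.1, by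
            rw [show g⁻¹ * d.1 * g * (g⁻¹ * x * g) = g⁻¹ * (d.1 * x) * g by group, hord]; exact d.2.2⟩
          invFun := fun d => ⟨g * d.1 * g⁻¹, (hmc _).2 (by
              rw [show g⁻¹ * (g * d.1 * g⁻¹) * g = d.1 by group]; exact d.2.1), by
            rw [← hord, show g⁻¹ * (g * d.1 * g⁻¹ * x) * g = d.1 * (g⁻¹ * x * g) by group]; exact d.2.2⟩
          left_inv := fun d => Subtype.ext (by simp [mul_assoc])
          right_inv := fun d => Subtype.ext (by simp [mul_assoc]) }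
    rw [hc, hc]
    exact hl.fibre_card _ ((hE e).1 he) _ ((hE f).1 hf) (hne1 he1) (hne1 hf1)
  · obtain ⟨t, hto, htu, hta, htb, htE, htr, hnorm⟩ := hl.torus
    have hpow : ∀ j : ℕ, (g * t * g⁻¹) ^ j = g * t ^ j * g⁻¹ := fun j => conj_pow
    refine ⟨g * t * g⁻¹, by rwa [CfsgLib.Signalizer.orderOf_conj], (Commute.conj_iff g).2 htu,
      by rw [mul_smul, mul_smul, inv_smul_smul, hta], by rw [mul_smul, mul_smul, inv_smul_smul, htb], ?_, ?_, ?_⟩
    · intro e he
      have := htE _ ((hE e).1 he)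
      refine (hE _).2 ?_
      rwa [show g⁻¹ * (g * t * g⁻¹ * e * (g * t * g⁻¹)⁻¹) * g = t * (g⁻¹ * e * g) * t⁻¹ by group]
    · intro e he f hf he1 hf1
      obtain ⟨j, hj⟩ := htr _ ((hE e).1 he) _ ((hE f).1 hf) (hne1 he1) (hne1 hf1)
      refine ⟨j, ?_⟩
      rw [hpow]
      calc g * t ^ j * g⁻¹ * e * (g * t ^ j * g⁻¹)⁻¹ = g * (t ^ j * (g⁻¹ * e * g) * (t ^ j)⁻¹) * g⁻¹ := by group
        _ = f := by rw [hj]; group
    · intro x hxu hxa hxE
      obtain ⟨j, hj⟩ := hnorm (g⁻¹ * x * g) ((hcm x).1 hxu)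
        (by rw [mul_smul, mul_smul, hxa, inv_smul_smul]) (fun e he => by
          have := (hE _).1 (hxE (g * e * g⁻¹) ((hE _).2 (by rwa [show g⁻¹ * (g * e * g⁻¹) * g = e by group])))
          rwa [show g⁻¹ * (x * (g * e * g⁻¹) * x⁻¹) * g = g⁻¹ * x * g * e * (g⁻¹ * x * g)⁻¹ by group] at this)
      refine ⟨j, fun e he => ?_⟩
      rw [hpow]
      calc x * (g * t * g⁻¹) * x⁻¹ * e * (x * (g * t * g⁻¹) * x⁻¹)⁻¹ =
          g * ((g⁻¹ * x * g) * t * (g⁻¹ * x * g)⁻¹ * (g⁻¹ * e * g) * ((g⁻¹ * x * g) * t * (g⁻¹ * x * g)⁻¹)⁻¹) *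
            g⁻¹ := by group
        _ = g * (t ^ j * (g⁻¹ * e * g) * (t ^ j)⁻¹) * g⁻¹ := by rw [hj _ ((hE e).1 he)]
        _ = _ := by group
  · intro hi x hxu hxa ⟨n, hn⟩ hxE
    obtain ⟨e, he, hex⟩ := hl.kernel_one hi (g⁻¹ * x * g) ((hcm x).1 hxu)
      (by rw [mul_smul, mul_smul, hxa, inv_smul_smul]) ⟨n, orderOf_dvd_iff_pow_eq_one.1 (by
        rw [hord]; exact orderOf_dvd_of_pow_eq_one hn)⟩ (fun e he => by
        have := (Commute.conj_iff g⁻¹).2 (hxE (g * e * g⁻¹) ((hE _).2 (by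
          rwa [show g⁻¹ * (g * e * g⁻¹) * g = e by group])))
        rwa [inv_inv, show g⁻¹ * (g * e * g⁻¹) * g = e by group] at this)
    refine ⟨g * e * g⁻¹, (hE _).2 (by rwa [show g⁻¹ * (g * e * g⁻¹) * g = e by group]), fun y hy => ?_⟩
    have h1 := hex _ ((hfix y).1 hy)
    rw [mul_smul, mul_smul, smul_inv_smul, inv_smul_eq_iff] at h1
    rw [h1, mul_smul, mul_smul]

/-- A commutative group of members centralising `v` is a two-group. -/
theorem isPGroup_memGroup {v : G} {a : Ω} {F : Subgroup G} (hF : MemGroup D v a F) : IsPGroup 2 F := fun x =>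
  ⟨1, Subtype.ext (by
    rw [pow_one, pow_two, Subgroup.coe_mul, Subgroup.coe_one]
    rcases eq_or_ne (x : G) 1 with e | e
    · rw [e, one_mul]
    · exact h.sq (hF.1 _ x.2 e).1)⟩

/-- The largest member groups are conjugate inside the centraliser. -/
theorem memGroupLe : MemGroupLe Ω D := by
  haveI := Fact.mk Nat.prime_two
  intro v a b E q i hl F hF
  -- a conjugate of `F` beside `E`
  let X : Subgroup G := Subgroup.centralizer {v} ⊓ MulAction.stabilizer G a
  have hX : ∀ {x : G}, x ∈ X ↔ Commute x v ∧ x • a = a := fun {x} =>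
    ⟨fun hx => ⟨mem_centralizer_singleton_iff.1 hx.1, hx.2⟩, fun hx => ⟨mem_centralizer_singleton_iff.2 hx.1.eq, hx.2⟩⟩
  have hsub : ∀ {K : Subgroup G}, MemGroup D v a K → K ≤ X := fun {K} hK x hx => by
    rcases eq_or_ne x 1 with e | e
    · rw [e]; exact one_mem _
    · exact hX.2 ⟨(hK.1 x hx e).2.2, (hK.1 x hx e).2.1⟩
  have hEX := hsub (K := E) ⟨hl.mem, hl.comm⟩
  have hFX := hsub hF
  obtain ⟨S, hS⟩ := ((h.isPGroup_memGroup (F := E) ⟨hl.mem, hl.comm⟩).comap_subtype (K := X)).exists_le_sylow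
  obtain ⟨T, hT⟩ := ((h.isPGroup_memGroup hF).comap_subtype (K := X)).exists_le_sylow
  obtain ⟨⟨x, hx⟩, hxT⟩ := MulAction.exists_smul_eq X T S
  obtain ⟨hxv, hxa⟩ := hX.1 hx
  have hle : F.map (MulAut.conj x).toMonoidHom ≤ E := by
    rintro _ ⟨f, hf, rfl⟩
    rcases eq_or_ne f 1 with e | e
    · rw [e, map_one]; exact one_mem _
    refine hl.maximal ((S : Subgroup X).map X.subtype) (S.isPGroup'.map _)
      (fun y hy => ⟨⟨y, hEX hy⟩, hS hy, rfl⟩) _ ⟨⟨x, hx⟩ * ⟨f, hFX hf⟩ * ⟨x, hx⟩⁻¹, ?_, by simp⟩ ?_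
    · rw [← hxT, SetLike.mem_coe, Sylow.coe_subgroup_smul, Subgroup.mem_pointwise_smul_iff_inv_smul_mem]
      convert hT (show (⟨f, hFX hf⟩ : X) ∈ F.comap X.subtype from hf) using 1
      show (MulAut.conj (⟨x, hx⟩ : X))⁻¹ _ = _
      rw [← map_inv, MulAut.conj_apply, inv_inv]
      group
    · have := h.memsC_conj (hF.1 f hf e) x
      rwa [hxv.eq, mul_inv_cancel_right, hxa] at this
  have hcard : Nat.card (F.map (MulAut.conj x).toMonoidHom) = Nat.card F :=
    Subgroup.card_map_of_injective (MulAut.conj x).injective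
  refine ⟨?_, fun hq => ?_⟩
  · rw [← hcard, ← hl.card_E]; exact Subgroup.card_le_of_le hle
  · have heq := Subgroup.eq_of_le_of_card_ge hle (by rw [hcard, hq, hl.card_E])
    refine ⟨x⁻¹ • b, ?_⟩
    have := h.lData_conj hl x⁻¹
    rw [inv_inv, show x⁻¹ * v * x = v by rw [mul_assoc, ← hxv.eq, inv_mul_cancel_left],
      inv_smul_eq_iff.2 hxa.symm, ← heq, Subgroup.map_map] at this
    convert this using 1
    conv_lhs => rw [← F.map_id]
    congr 1
    ext z
    simp [mul_assoc]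

/-- Two different commuting members exclude rank one. -/
theorem not_rankOneAt {u : G} {a : Ω} {F : Subgroup G} (hF : MemGroup D u a F) (hcard : 4 ≤ Nat.card F) :
    ¬ RankOneAt D u a := by
  classical
  intro hr
  haveI := Fintype.ofFinite F
  have h1 : Nat.card F ≤ 2 := by
    have hsub : ∀ x y : F, x ≠ 1 → y ≠ 1 → x = y := fun x y hx hy =>
      Subtype.ext (hr _ (hF.1 _ x.2 fun e => hx (Subtype.ext e)) _ (hF.1 _ y.2 fun e => hy (Subtype.ext e))
        (hF.2 _ x.2 _ y.2))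
    rw [Nat.card_eq_fintype_card]
    calc Fintype.card F = (Finset.univ : Finset F).card := rfl
      _ ≤ (insert (1 : F) (Finset.univ.filter fun x => x ≠ 1)).card := Finset.card_le_card fun x _ => by
          rcases eq_or_ne x 1 with e | e <;> simp [e]
      _ ≤ (Finset.univ.filter fun x : F => x ≠ 1).card + 1 := Finset.card_insert_le _ _
      _ ≤ 1 + 1 := by
          gcongr
          exact Finset.card_le_one.2 fun x hx y hy => hsub x y (Finset.mem_filter.1 hx).2 (Finset.mem_filter.1 hy).2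
  omega

/-- The data at a multi with a group of members of order at least four. -/
theorem exists_lData_of_memGroup (hld : LocalDichotomy Ω D) {u : G} {a : Ω} {F : Subgroup G} (hu : IsMulti Ω u)
    (hua : u • a = a) (hF : MemGroup D u a F) (hcard : 4 ≤ Nat.card F) :
    ∃ (b : Ω) (E : Subgroup G) (q i : ℕ), LData D u a b E q i := by
  obtain ⟨-, x, y, hxy, hx, hy⟩ := id hu
  obtain ⟨b, hab, hub⟩ : ∃ b, a ≠ b ∧ u • b = b := by
    by_cases e : a = x
    · exact ⟨y, e ▸ hxy, hy⟩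
    · exact ⟨x, e, hx⟩
  rcases hld u hu a b hab hua hub with hr | ⟨E, q, i, hl⟩
  · exact absurd hr (h.not_rankOneAt hF hcard)
  · exact ⟨b, E, q, i, hl⟩

omit h in
theorem four_le_q {u : G} {a b : Ω} {E : Subgroup G} {q i : ℕ} (hl : LData D u a b E q i) : 4 ≤ q := by
  obtain ⟨s, hs, rfl⟩ := hl.pow
  exact le_trans (by norm_num) (Nat.pow_le_pow_right two_pos hs)

/-- Unless every multi is of rank one there is a frame. -/
theorem framesExist (hld : LocalDichotomy Ω D) : FramesExist Ω D := by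
  classical
  rintro ⟨u, a, hu, hua, hnr⟩
  obtain ⟨-, x, y, hxy, hx, hy⟩ := id hu
  obtain ⟨b, hab, hub⟩ : ∃ b, a ≠ b ∧ u • b = b := by
    by_cases e : a = x
    · exact ⟨y, e ▸ hxy, hy⟩
    · exact ⟨x, e, hx⟩
  obtain ⟨E, q, i, hl⟩ := (hld u hu a b hab hua hub).resolve_left hnr
  let P : ℕ → Prop := fun n => ∃ (v : G) (x : Ω) (F : Subgroup G),
    IsMulti Ω v ∧ v • x = x ∧ MemGroup D v x F ∧ Nat.card F = n
  have hbd : ∀ n, P n → n ≤ Nat.card G := by
    rintro _ ⟨v, x, F, -, -, -, rfl⟩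
    exact F.card_le_card_group
  have hP : P q := ⟨u, a, E, hu, hua, ⟨hl.mem, hl.comm⟩, hl.card_E⟩
  set q₀ := Nat.findGreatest P (Nat.card G) with hq₀
  have hq : P q₀ := Nat.findGreatest_spec (hbd q hP) hP
  have htop : ∀ (v : G) (x : Ω) (F : Subgroup G), IsMulti Ω v → v • x = x → MemGroup D v x F → Nat.card F ≤ q₀ :=
    fun v x F hv hvx hF => Nat.le_findGreatest F.card_le_card_group ⟨v, x, F, hv, hvx, hF, rfl⟩
  obtain ⟨v, x₀, F, hv, hvx, hF, hFq⟩ := hq
  have h4 : 4 ≤ q₀ := le_trans (four_le_q hl) (hl.card_E ▸ htop u a E hu hua ⟨hl.mem, hl.comm⟩)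
  obtain ⟨y₀, E', q', i', hl'⟩ := h.exists_lData_of_memGroup hld hv hvx hF (hFq.symm ▸ h4)
  have hq' : q' = q₀ := le_antisymm (hl'.card_E ▸ htop v x₀ E' hv hvx ⟨hl'.mem, hl'.comm⟩)
    (hFq ▸ (h.memGroupLe v x₀ y₀ E' q' i' hl' F hF).1)
  let R : ℕ → Prop := fun m => ∃ (w : G) (x y : Ω) (F : Subgroup G) (j : ℕ),
    TopFrame D w x y F q₀ j ∧ m = 2 ^ padicValNat 2 (Nat.card (fixGrp w x y F))
  have hRbd : ∀ m, R m → m ≤ Nat.card G := by
    rintro _ ⟨w, x, y, F, j, -, rfl⟩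
    exact le_trans (Nat.le_of_dvd Nat.card_pos pow_padicValNat_dvd) (fixGrp w x y F).card_le_card_group
  have hR : R _ := ⟨v, x₀, y₀, E', i', ⟨hv, hq' ▸ hl', htop⟩, rfl⟩
  obtain ⟨w, x', y', F', j', hw, hwm⟩ := Nat.findGreatest_spec (P := R) (hRbd _ hR) hR
  exact ⟨w, x', y', F', q₀, j', hw, fun w' x'' y'' F'' j hw' =>
    hwm ▸ Nat.le_findGreatest (hRbd _ ⟨w', x'', y'', F'', j, hw', rfl⟩) ⟨w', x'', y'', F'', j, hw', rfl⟩⟩

/-- The coset of a frame is one class. -/
theorem cosetClass (hf : Faithful G Ω) (hld : LocalDichotomy Ω D) : CosetClass Ω D := by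
  classical
  intro u a b E q i ht
  have hl := ht.data
  have hsq : ∀ e ∈ E, e * e = 1 := fun e he => by
    rcases eq_or_ne e 1 with e1 | e1
    · rw [e1, one_mul]
    · exact h.sq (hl.mem e he e1).1
  have hcoset : ∀ e ∈ E, ∃ g ∈ cosetStab u a E, g * u * g⁻¹ = u * e := by
    intro e he
    rcases eq_or_ne e 1 with rfl | he1
    · exact ⟨1, ⟨one_smul _ _, fun f hf' => by simp [hf'], by simp [one_mem]⟩, by simp⟩
    obtain ⟨e', he', he'1, hne⟩ : ∃ e' ∈ E, e' ≠ 1 ∧ e' ≠ e := by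
      by_contra hc
      push Not at hc
      have hsub : (E : Set G) ⊆ {1, e} := fun x hx => by
        rcases eq_or_ne x 1 with h1 | h1
        · exact Or.inl h1
        · exact Or.inr (hc x hx h1)
      have h3 := Set.ncard_le_ncard hsub
      rw [← Nat.card_coe_set_eq] at h3
      have h5 := Set.ncard_insert_le (1 : G) {e}
      rw [Set.ncard_singleton] at h5
      have h6 : Nat.card E = q := hl.card_E
      have := four_le_q hl
      have h7 : Nat.card (E : Set G) = Nat.card E := rfl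
      omega
    have hc' := hl.mem e' he' he'1
    have hv : IsMulti Ω (u * e') := h.mulMulti hf u ht.multi e' hc'.1 hc'.2.2.symm
    have hva : (u * e') • a = a := by rw [mul_smul, hc'.2.1, hl.fix_a]
    have hE' : MemGroup D (u * e') a E := ⟨fun f hf' hf1 =>
      ⟨(hl.mem f hf' hf1).1, (hl.mem f hf' hf1).2.1, (hl.mem f hf' hf1).2.2.mul_right (hl.comm f hf' e' he')⟩,
      hl.comm⟩
    obtain ⟨b₁, E₁, q₁, i₁, hl₁⟩ := h.exists_lData_of_memGroup hld hv hva hE' (hl.card_E.symm ▸ four_le_q hl)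
    obtain ⟨hle, hmove⟩ := h.memGroupLe _ _ _ _ _ _ hl₁ E hE'
    have hq₁ : q₁ = q := le_antisymm (hl₁.card_E ▸ ht.top _ _ E₁ hv hva ⟨hl₁.mem, hl₁.comm⟩) (hl.card_E ▸ hle)
    obtain ⟨b₂, hl₂⟩ := hmove (by rw [hl.card_E, hq₁])
    obtain ⟨t, -, htv, hta, -, htE, htr, -⟩ := hl₂.torus
    obtain ⟨j, hj⟩ := htr e' he' (e' * e) (mul_mem he' he) he'1 fun e1 => hne (by
      calc e' = e' * (e * e) := by rw [hsq e he, mul_one]
        _ = e := by rw [← mul_assoc, e1, one_mul])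
    have hpowE : ∀ n : ℕ, ∀ f ∈ E, t ^ n * f * (t ^ n)⁻¹ ∈ E := fun n => by
      induction n with
      | zero => intro f hf'; simpa using hf'
      | succ n ih =>
        intro f hf'
        rw [pow_succ', show t * t ^ n * f * (t * t ^ n)⁻¹ = t * (t ^ n * f * (t ^ n)⁻¹) * t⁻¹ by group]
        exact htE _ (ih f hf')
    have htjE := hpowE j
    refine ⟨t ^ j, ⟨pow_mem (show t ∈ MulAction.stabilizer G a from hta) j, fun f hf' => ⟨htjE f hf', ?_⟩, ?_⟩, ?_⟩
    · obtain ⟨⟨f₀, hf₀⟩, hf₀'⟩ := Finite.surjective_of_injective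
        (f := fun f : E => (⟨t ^ j * f * (t ^ j)⁻¹, htjE f f.2⟩ : E))
        (fun f f' e' => Subtype.ext ((MulAut.conj (t ^ j)).injective (congrArg Subtype.val e' :))) ⟨f, hf'⟩
      rw [← show t ^ j * f₀ * (t ^ j)⁻¹ = f from congrArg Subtype.val hf₀',
        show (t ^ j)⁻¹ * (t ^ j * f₀ * (t ^ j)⁻¹) * t ^ j = f₀ by group]
      exact hf₀
    all_goals
      have hconj : t ^ j * u * (t ^ j)⁻¹ = u * e := by
        have hcv : Commute (t ^ j) (u * e') := htv.pow_left j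
        calc t ^ j * u * (t ^ j)⁻¹ = t ^ j * (u * e' * e') * (t ^ j)⁻¹ := by rw [mul_assoc u, hsq e' he', mul_one]
          _ = t ^ j * (u * e') * ((t ^ j)⁻¹ * (t ^ j * e' * (t ^ j)⁻¹)) := by group
          _ = u * e' * t ^ j * ((t ^ j)⁻¹ * (e' * e)) := by rw [hcv.eq, hj]
          _ = u * (e' * e') * e := by group
          _ = u * e := by rw [hsq e' he', mul_one]
    · rw [hconj, inv_mul_cancel_left]; exact he
    · exact hconj
  refine ⟨hcoset, fun d hd hdu => ?_⟩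
  obtain ⟨e, he, he1⟩ : ∃ e ∈ E, e ≠ 1 ∧ Odd (orderOf (d * e)) := by
    by_cases hda : d • a = a
    · obtain ⟨e, ⟨he, he1, hodd⟩, -⟩ := hl.fibre d ⟨hd, hda, hdu⟩
      exact ⟨e, he, he1, hodd⟩
    · obtain ⟨e, he, he1⟩ : ∃ e ∈ E, e ≠ (1 : G) := by
        by_contra hc
        push Not at hc
        have h4 := four_le_q hl
        rw [← hl.card_E, (Subgroup.eq_bot_iff_forall E).2 hc, Subgroup.card_bot] at h4
        omega
      have hem := hl.mem e he he1
      have hodd := h.odd_of_ne hem.1 hd hem.2.1 hda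
      refine ⟨e, he, he1, ?_⟩
      rwa [← CfsgLib.Signalizer.orderOf_conj e, show e * (d * e) * e⁻¹ = e * d by group]
  obtain ⟨he1, hodd⟩ := he1
  have hem := hl.mem e he he1
  obtain ⟨c, hcu, hc⟩ := h.conj_of_odd_mul hem.1 hd (by
    rwa [← CfsgLib.Signalizer.orderOf_conj e⁻¹, show e⁻¹ * (e * d) * e⁻¹⁻¹ = d * e by group]) hem.2.2.symm hdu.symm
  obtain ⟨g, -, hg⟩ := hcoset e he
  refine ⟨c * g, ?_⟩
  calc c * g * u * (c * g)⁻¹ = c * (g * u * g⁻¹) * c⁻¹ := by group
    _ = c * u * (c⁻¹ * (c * e * c⁻¹)) := by rw [hg]; group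
    _ = u * d := by rw [← hcu.eq, hc]; group

/-- Two-elements centralising `u` and `E` are transitive on the other fixed points. -/
theorem unipTrans (hf : Faithful G Ω) (IH : Below.{v, v} (Nat.card G)) : UnipTrans Ω D := by
  classical
  intro u a b E q i ht
  have hl := ht.data
  haveI := Fact.mk Nat.prime_two
  haveI := h.finite_points
  have hu := ht.multi
  have hfL : Faithful (cImage Ω D u) (MulAction.fixedBy Ω u) := fun g hg => Subtype.ext (Equiv.ext hg)
  haveI : FaithfulSMul (cImage Ω D u) (MulAction.fixedBy Ω u) := faithfulSMul_iff.2 hfL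
  have hL := h.cImage_crit hu
  have hn := h.cImage_noMulti hf IH hu
  have hr : ¬ RankOne (cImage Ω D u) := fun hr =>
    h.not_rankOneAt (F := E) ⟨hl.mem, hl.comm⟩ (hl.card_E.symm ▸ four_le_q hl) (h.rankOneAt hu hr a)
  set a' : MulAction.fixedBy Ω u := ⟨a, hl.fix_a⟩ with ha'
  set b' : MulAction.fixedBy Ω u := ⟨b, hl.fix_b⟩ with hb'
  have hab' : b' ≠ a' := fun e => hl.ne (congrArg Subtype.val e).symm
  obtain ⟨h2, U, hUp, hset, hsw⟩ := hL.exists_setup hfL hn hr a'
  obtain ⟨t, htD, hta⟩ := hsw b' hab'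
  have hS := hset t (hL.sq htD) (hta ▸ hab')
  set π := cProj Ω D u with hπ
  have hπsurj : Function.Surjective π := MonoidHom.rangeRestrict_surjective _
  set W : Subgroup (cGrp D u) := U.comap π with hW
  set W' : Subgroup G := W.map (cGrp D u).subtype with hW'
  have hWu : ∀ g ∈ W', Commute g u ∧ g • a = a := by
    rintro _ ⟨w, hw, rfl⟩
    exact ⟨commute_of_mem_cGrp w.2, congrArg Subtype.val (hS.le (show π w ∈ U from hw))⟩
  have hEc : ∀ e ∈ E, e ∈ cGrp D u := fun e he => by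
    rcases eq_or_ne e 1 with h1 | h1
    · rw [h1]; exact one_mem _
    · exact mem_cGrp (hl.mem e he h1).1 (hl.mem e he h1).2.2
  have hEJ : ∀ e (he : e ∈ E), e ≠ 1 →
      π ⟨e, hEc e he⟩ ∈ Cfsg.involutionsIn (MulAction.stabilizer (cImage Ω D u) a' : Set (cImage Ω D u)) :=
    fun e he he1 => ⟨Subtype.ext (hl.mem e he he1).2.1, hL.ne_one' (h.cProj_mem (hl.mem e he he1).1),
      hL.sq (h.cProj_mem (hl.mem e he he1).1)⟩
  have hEW : E.subgroupOf (cGrp D u) ≤ W := by
    intro x hx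
    rcases eq_or_ne (x : G) 1 with h1 | h1
    · rw [show x = 1 from Subtype.ext h1]; exact one_mem _
    · exact CfsgLib.Lie.RankOne.J_mem_Q hS (hEJ x hx h1)
  have hEW' : E ≤ W' := fun e he => ⟨⟨e, hEc e he⟩, hEW he, rfl⟩
  obtain ⟨P, hP⟩ := ((h.isPGroup_memGroup (F := E) ⟨hl.mem, hl.comm⟩).comap_subtype (K := W')).exists_le_sylow
  set Q : Subgroup G := (P : Subgroup W').map W'.subtype with hQ
  have hQp : IsPGroup 2 Q := P.isPGroup'.map _
  have hEQ : E ≤ Q := fun e he => ⟨⟨e, hEW' he⟩, hP he, rfl⟩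
  have hQW : Q ≤ W' := Subgroup.map_subtype_le _
  refine ⟨Q, hQp, hEQ, fun g hg => ⟨(hWu g (hQW hg)).2, (hWu g (hQW hg)).1, fun e he => ?_⟩, fun x hux hxa => ?_⟩
  · -- `π e` is central in the kernel of the setup
    rcases eq_or_ne e 1 with h1 | h1
    · rw [h1]; exact Commute.one_right g
    obtain ⟨w, hw, rfl⟩ := hQW hg
    obtain ⟨hwu, hwa⟩ := hWu _ ⟨w, hw, rfl⟩
    have hge : (w : G) * e * (w : G)⁻¹ ∈ memsC D u a := by
      have := h.memsC_conj (hl.mem e he h1) (w : G)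
      rwa [show (w : G) * u * (w : G)⁻¹ = u by rw [show (w : G) * u = u * (w : G) from hwu.eq, mul_inv_cancel_right],
        show (w : G) • a = a from hwa] at this
    have hgeE : (w : G) * e * (w : G)⁻¹ ∈ E := hl.maximal Q hQp hEQ _
      (mul_mem (mul_mem hg (hEQ he)) (inv_mem hg)) hge
    have h3 := h.eq_of_cProj_eq hu (d := ⟨(w : G) * e * (w : G)⁻¹, hEc _ hgeE⟩) (e := ⟨e, hEc e he⟩) hge.1
      (hl.mem e he h1).1 (hl.comm _ hgeE e he) (by
        show π (⟨(w : G) * e * (w : G)⁻¹, hEc _ hgeE⟩) = π ⟨e, hEc e he⟩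
        rw [show (⟨(w : G) * e * (w : G)⁻¹, hEc _ hgeE⟩ : cGrp D u) = w * ⟨e, hEc e he⟩ * w⁻¹ from Subtype.ext rfl,
          map_mul, map_mul, map_inv, ← CfsgLib.Lie.RankOne.J_central hS h2 (hEJ e he h1) (show π w ∈ U from hw),
          mul_inv_cancel_right])
    exact mul_inv_eq_iff_eq_mul.1 (congrArg Subtype.val h3 : _)
  · -- a Sylow group maps onto the kernel
    obtain ⟨⟨v, hv⟩, hvx, -⟩ := CfsgLib.Lie.RankOne.existsUnique_smul hS b' (⟨x, hux⟩ : MulAction.fixedBy Ω u)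
      hab' (fun e => hxa (congrArg Subtype.val e))
    let f : W' →* U :=
      { toFun := fun g => ⟨π ⟨g, Subgroup.map_subtype_le _ g.2⟩, by
          obtain ⟨w, hw, hwg⟩ := g.2
          rw [show (⟨(g : G), Subgroup.map_subtype_le _ g.2⟩ : cGrp D u) = w from Subtype.ext hwg.symm]
          exact hw⟩
        map_one' := Subtype.ext (map_one π)
        map_mul' := fun g g' => Subtype.ext (map_mul π ⟨(g : G), Subgroup.map_subtype_le _ g.2⟩
          ⟨(g' : G), Subgroup.map_subtype_le _ g'.2⟩) }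
    have hfs : Function.Surjective f := fun y => by
      obtain ⟨w, hw⟩ := hπsurj y
      exact ⟨⟨w, w, by show π w ∈ U; rw [hw]; exact y.2, rfl⟩, Subtype.ext hw⟩
    have hmap : (P : Subgroup W').map f = ⊤ := by
      obtain ⟨n, hn'⟩ := hUp.exists_card_eq
      have h3 : ((P : Subgroup W').map f).index ∣ 2 ^ n := hn' ▸ Subgroup.index_dvd_card _
      have h4 : ((P : Subgroup W').map f).index ∣ (P : Subgroup W').index := Subgroup.index_map_dvd _ hfs
      obtain ⟨m, -, hm⟩ := (Nat.dvd_prime_pow Nat.prime_two).1 h3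
      rw [← Subgroup.index_eq_one, hm]
      rcases m with _ | m
      · rfl
      · exact absurd ((dvd_pow_self 2 m.succ_ne_zero).trans (hm ▸ h4)) P.not_dvd_index
    obtain ⟨p, hp, hpv⟩ := (hmap ▸ Subgroup.mem_top (⟨v, hv⟩ : U) : (⟨v, hv⟩ : U) ∈ (P : Subgroup W').map f)
    refine ⟨p, ⟨p, hp, rfl⟩, ?_⟩
    exact congrArg Subtype.val ((congrArg (fun z : U => (z : cImage Ω D u) • b') hpv).trans hvx)

end Crit

end CfsgLib.AschCrit
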