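import Cfsg.Agent.Lib.Invol.AschCrit.Setting

/-!
Owner: helper11. Aschbacher's criterion: what slice B supplies about one multi `u` at a fixed point.
See `notes/aschbacher_proof_v2.md`.
-/

set_option autoImplicit false

namespace CfsgLib.AschCrit

variable {G : Type*} [Group G] {Ω : Type*} [MulAction G Ω]

/-- The induction hypothesis, for groups smaller than `G`: there is no multi. -/
def Below.{v, w} (m : ℕ) : Prop :=
  ∀ (H : Type v) [Group H] [Finite H] (Γ : Type w) [MulAction H Γ] (D : Set H), Nat.card H < m →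
    Crit Γ D → Faithful H Γ → Subgroup.closure D = ⊤ → ∀ u : H, ¬ IsMulti Γ u

/-- Members centralising `u` in a 2-subgroup commute. -/
def MemsCommute (Ω : Type*) [MulAction G Ω] (D : Set G) : Prop :=
  ∀ u : G, IsMulti Ω u → ∀ S : Subgroup G, IsPGroup 2 S → ∀ d ∈ S, ∀ e ∈ S,
    d ∈ D → e ∈ D → Commute d u → Commute e u → Commute d e

/-- Rank one: at a fixed point, two members centralising `u` and each other are equal. -/
def RankOneAt (D : Set G) (u : G) (a : Ω) : Prop :=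
  ∀ d ∈ memsC D u a, ∀ e ∈ memsC D u a, Commute d e → d = e

/-- The Bender case at a multi `u`: `q` is the order of `E` and `q ^ i + 1` the number of fixed points. -/
structure LData (D : Set G) (u : G) (a b : Ω) (E : Subgroup G) (q i : ℕ) : Prop where
  pow : ∃ s, 2 ≤ s ∧ q = 2 ^ s
  type : i = 1 ∨ i = 2 ∨ i = 3
  ne : a ≠ b
  fix_a : u • a = a
  fix_b : u • b = b
  card_fix : Nat.card {x : Ω // u • x = x} = q ^ i + 1
  /-- Two transitivity on the fixed points, inside the centraliser. -/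
  trans : ∀ x y : Ω, u • x = x → u • y = y → x ≠ a → y ≠ a →
    ∃ g : G, Commute g u ∧ g • a = a ∧ g • x = y ∧ ∃ n : ℕ, g ^ 2 ^ n = 1
  card_E : Nat.card E = q
  mem : ∀ e ∈ E, e ≠ 1 → e ∈ memsC D u a
  comm : ∀ e ∈ E, ∀ f ∈ E, Commute e f
  maximal : ∀ S : Subgroup G, IsPGroup 2 S → E ≤ S → ∀ d ∈ S, d ∈ memsC D u a → d ∈ E
  fibre : ∀ d ∈ memsC D u a, ∃! e : G, e ∈ E ∧ e ≠ 1 ∧ Odd (orderOf (d * e))
  fibre_card : ∀ e ∈ E, ∀ f ∈ E, e ≠ 1 → f ≠ 1 →
    Nat.card {d : G // d ∈ memsC D u a ∧ Odd (orderOf (d * e))} =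
      Nat.card {d : G // d ∈ memsC D u a ∧ Odd (orderOf (d * f))}
  /-- A torus: it is regular on `E` without one, and what normalises `E` inside the centraliser normalises it. -/
  torus : ∃ h : G, Odd (orderOf h) ∧ Commute h u ∧ h • a = a ∧ h • b = b ∧
    (∀ e ∈ E, h * e * h⁻¹ ∈ E) ∧
    (∀ e ∈ E, ∀ f ∈ E, e ≠ 1 → f ≠ 1 → ∃ j : ℕ, h ^ j * e * (h ^ j)⁻¹ = f) ∧
    ∀ g : G, Commute g u → g • a = a → (∀ e ∈ E, g * e * g⁻¹ ∈ E) →
      ∃ j : ℕ, ∀ e ∈ E, g * h * g⁻¹ * e * (g * h * g⁻¹)⁻¹ = h ^ j * e * (h ^ j)⁻¹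
  /-- In type one a 2-element centralising `E` acts on the fixed points as an element of `E`. -/
  kernel_one : i = 1 → ∀ g : G, Commute g u → g • a = a → (∃ n : ℕ, g ^ 2 ^ n = 1) →
    (∀ e ∈ E, Commute g e) → ∃ e ∈ E, ∀ x : Ω, u • x = x → g • x = e • x

/-- Slice B: every multi at a fixed point is rank one or has the Bender data. -/
def LocalDichotomy (Ω : Type*) [MulAction G Ω] (D : Set G) : Prop :=
  ∀ u : G, IsMulti Ω u → ∀ a b : Ω, a ≠ b → u • a = a → u • b = b →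
    RankOneAt D u a ∨ ∃ (E : Subgroup G) (q i : ℕ), LData D u a b E q i

end CfsgLib.AschCrit
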