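import Cfsg.Agent.Lib.Invol.AschCrit.Wrapper
import Cfsg.Agent.Lib.Invol.AschCrit.Local

/-!
Owner: helper8. Aschbacher's criterion: induction on the order.
-/

set_option autoImplicit false

namespace CfsgLib.AschCrit

universe u

/-- The main statement follows from the inductive step. -/
theorem main_of_step
    (hstep : ∀ (G : Type u) [Group G] [Finite G] (Ω : Type u) [MulAction G Ω] (D : Set G),
      Crit Ω D → Faithful G Ω → Subgroup.closure D = ⊤ → Below.{u, u} (Nat.card G) → NoMulti G Ω) :
    Main.{u} := by
  have key : ∀ n : ℕ, Below.{u, u} n := by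
    intro n
    induction n with
    | zero => intro H _ _ Γ _ D hlt; omega
    | succ n IH =>
      intro H _ _ Γ _ D hlt hc hf htop
      rcases Nat.lt_succ_iff_lt_or_eq.mp hlt with h | h
      · exact IH H Γ D h hc hf htop
      · exact hstep H Γ D hc hf htop (h ▸ IH)
  intro G _ _ Ω _ D hc hf htop
  exact key (Nat.card G + 1) G Ω D (Nat.lt_succ_self _) hc hf htop

end CfsgLib.AschCrit
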