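import Cfsg.Agent.Lib.Invol.AschCrit.Frame

/-!
Owner: helper11. Aschbacher's criterion, slices E and F: the Sylow group of the translations and the
statements of the end games. See `notes/aschbacher_proof_v3.md`, sections 2-7.
-/

set_option autoImplicit false

namespace CfsgLib.AschCrit

variable {G : Type*} [Group G] {Ω : Type*} [MulAction G Ω]

/-- All translations of `u E` are induced at `a` by elements centralising `E`. -/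
def HasTrans (u : G) (a : Ω) (E : Subgroup G) : Prop :=
  ∀ w ∈ E, ∃ g : G, g • a = a ∧ (∀ e ∈ E, Commute g e) ∧ g * u * g⁻¹ = u * w

/-- The elements of the point stabiliser that centralise `E` and normalise `u E`. -/
def transGrp (u : G) (a : Ω) (E : Subgroup G) : Set G :=
  {g | g • a = a ∧ (∀ e ∈ E, Commute g e) ∧ u⁻¹ * (g * u * g⁻¹) ∈ E}

/-- A Sylow group `P` of `transGrp`, which modulo `E` is the sum of the kernel `R`, the translations `X` and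
the group `Q` transitive on the fixed points, with a torus `h`. -/
structure ModelAt (D : Set G) (u : G) (a b : Ω) (E : Subgroup G) (q i : ℕ)
    (P R X Q : Subgroup G) (h : G) : Prop where
  two : IsPGroup 2 P
  sub : ∀ g ∈ P, g ∈ transGrp u a E
  sylow : ∀ K : Subgroup G, IsPGroup 2 K → (∀ g ∈ K, g ∈ transGrp u a E) → Nat.card K ≤ Nat.card P
  R_le : R ≤ P
  X_le : X ≤ P
  Q_le : Q ≤ P
  E_X : E ≤ X
  E_Q : E ≤ Q
  u_mem : u ∈ R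
  R_sub : R ≤ fixGrp u a b E
  R_card : Nat.card R = 2 ^ padicValNat 2 (Nat.card (fixGrp u a b E))
  R_sq : ∀ r ∈ R, r * r = 1
  R_fix : ∀ r ∈ R, ∀ x : Ω, u • x = x → r • x = x
  X_card : Nat.card X = q * q
  Q_card : Nat.card Q = q ^ i
  P_card : Nat.card P = q ^ (i + 1) * Nat.card R
  gen : ∀ g ∈ P, ∃ r ∈ R, ∃ x ∈ X, ∃ y ∈ Q, g = r * x * y
  X_comm : ∀ x ∈ X, ∀ x' ∈ X, Commute x x'
  X_sq : ∀ x ∈ X, x * x ∈ E
  RX : ∀ r ∈ R, ∀ x ∈ X, r * x * r⁻¹ * x⁻¹ ∈ E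
  RX_onto : ∀ r ∈ R, r ≠ 1 → ∀ e ∈ E, ∃ x ∈ X, r * x * r⁻¹ * x⁻¹ = e
  RX_ker : ∀ r ∈ R, r ≠ 1 → ∀ x ∈ X, Commute r x → x ∈ E
  XQ : ∀ x ∈ X, ∀ y ∈ Q, x * y * x⁻¹ * y⁻¹ ∈ E
  XQ_three : i = 3 → ∀ x ∈ X, ∀ y ∈ Q, Commute x y
  Q_cent : ∀ y ∈ Q, Commute y u ∧ ∀ r ∈ R, Commute y r
  Q_trans : ∀ x : Ω, u • x = x → x ≠ a → ∃ y ∈ Q, y • b = x
  QQ : ∀ y ∈ Q, ∀ y' ∈ Q, y * y' * y⁻¹ * y'⁻¹ ∈ E
  Q_sq : ∀ y ∈ Q, y * y ∈ E
  Q_sq_one : ∀ y ∈ Q, y * y = 1 → y ∈ E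
  Q_sq_onto : i ≠ 1 → ∀ e ∈ E, ∃ y ∈ Q, y * y = e
  Q_form_two : i = 2 → ∀ y ∈ Q, y ∉ E → ∀ y' ∈ Q, Commute y y' → y' ∈ E ∨ y' * y⁻¹ ∈ E
  Q_form_three : i = 3 → ∀ y ∈ Q, y ∉ E → ∀ e ∈ E, ∃ y' ∈ Q, y * y' * y⁻¹ * y'⁻¹ = e
  h_odd : Odd (orderOf h)
  h_fix : h • a = a ∧ h • b = b
  h_cent : Commute h u ∧ ∀ r ∈ R, Commute h r
  h_norm : (∀ e ∈ E, h * e * h⁻¹ ∈ E) ∧ (∀ x ∈ X, h * x * h⁻¹ ∈ X) ∧ ∀ y ∈ Q, h * y * h⁻¹ ∈ Q
  h_trans : ∀ e ∈ E, ∀ f ∈ E, e ≠ 1 → f ≠ 1 → ∃ j : ℕ, h ^ j * e * (h ^ j)⁻¹ = f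
  zeta : i = 3 → ∃ z : G, Odd (orderOf z) ∧ z • a = a ∧ z • b = b ∧ Commute z u ∧
    (∀ r ∈ R, Commute z r) ∧ (∀ e ∈ E, Commute z e) ∧ (∀ x ∈ X, z * x * z⁻¹ * x⁻¹ ∈ E) ∧
    (∀ y ∈ Q, z * y * z⁻¹ ∈ Q) ∧ ∀ y ∈ Q, z * y * z⁻¹ * y⁻¹ ∈ E → y ∈ E

/-- A 2-element fixing `a`, `b` and centralising `u` and `E` fixes all fixed points of `u`, or, in unitary type,
exactly `q + 1` of them. -/
def KernelFix (Ω : Type*) [MulAction G Ω] (D : Set G) : Prop :=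
  ∀ (u : G) (a b : Ω) (E : Subgroup G) (q i : ℕ), TopFrame D u a b E q i →
    ∀ g ∈ fixGrp u a b E, (∃ n : ℕ, g ^ 2 ^ n = 1) →
      (∀ x : Ω, u • x = x → g • x = x) ∨
        i = 3 ∧ Nat.card {x : Ω // u • x = x ∧ g • x = x} = q + 1

/-- A 2-group at two fixed points of `u` is centralised by a torus of the part of `E` it centralises. -/
def TorusCent (Ω : Type*) [MulAction G Ω] (D : Set G) : Prop :=
  ∀ (u : G) (a b : Ω) (E : Subgroup G) (q i : ℕ), TopFrame D u a b E q i →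
    ∀ S : Subgroup G, IsPGroup 2 S →
      (∀ g ∈ S, g • a = a ∧ g • b = b ∧ Commute g u ∧ ∀ e ∈ E, g * e * g⁻¹ ∈ E) →
      ∃ h : G, Odd (orderOf h) ∧ h • a = a ∧ h • b = b ∧ Commute h u ∧ (∀ g ∈ S, Commute h g) ∧
        (∀ e ∈ E, h * e * h⁻¹ ∈ E) ∧
        ∀ e ∈ E, ∀ f ∈ E, e ≠ 1 → f ≠ 1 → (∀ g ∈ S, Commute g e ∧ Commute g f) →
          ∃ j : ℕ, h ^ j * e * (h ^ j)⁻¹ = f

/-- Slice E: models exist. -/
def ModelExists (Ω : Type*) [MulAction G Ω] (D : Set G) : Prop :=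
  ∀ (u : G) (a b : Ω) (E : Subgroup G) (q i : ℕ), Frame D u a b E q i → HasTrans u a E →
    ∃ (P R X Q : Subgroup G) (h : G), ModelAt D u a b E q i P R X Q h

/-- Slice F: the end game of type `i₀`. -/
def EndGame (Ω : Type*) [MulAction G Ω] (D : Set G) (i₀ : ℕ) : Prop :=
  ∀ (u : G) (a b : Ω) (E : Subgroup G) (q : ℕ) (P R X Q : Subgroup G) (h : G), Frame D u a b E q i₀ →
    HasTrans u a E → ModelAt D u a b E q i₀ P R X Q h → False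

/-- Slice F: no frame lacks translations. -/
def NoException (Ω : Type*) [MulAction G Ω] (D : Set G) : Prop :=
  ∀ (u : G) (a b : Ω) (E : Subgroup G) (q i : ℕ), Frame D u a b E q i → q = 8 → HasTrans u a E

/-- The bound on the swappers' points for Suzuki type. -/
def SuzukiBound (Ω : Type*) [MulAction G Ω] (D : Set G) : Prop :=
  ∀ (u : G) (a b : Ω) (E : Subgroup G) (q : ℕ), TopFrame D u a b E q 2 →
    ∀ t ∈ D, Commute t u → t • a = b →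
      ∃ w : ℕ, w * w = 2 * q ∧ Nat.card (swapPoints D (u * t) a b) ≤ q + w + 1

/-- The primes of the number of swappers' points for unitary type. -/
def UnitaryPrimes (Ω : Type*) [MulAction G Ω] (D : Set G) : Prop :=
  ∀ (u : G) (a b : Ω) (E : Subgroup G) (q : ℕ), TopFrame D u a b E q 3 →
    ∀ t ∈ D, Commute t u → t • a = b → ∀ p : ℕ, p.Prime →
      p ∣ Nat.card (swapPoints D (u * t) a b) → p ∣ 3 * (q ^ 2 - 1)

end CfsgLib.AschCrit
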