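import Cfsg.Agent.Lib.Invol.AschCrit.Basics
import Cfsg.Prelude.Def_Involutions

/-!
Owner: helper18. Aschbacher's criterion, slice B: the action of the members centralising an involution on its
fixed points.

* `Crit.pair_single`: the product of two commuting members fixes one point.
* `Crit.image`: the permutation group induced on the points satisfies the hypotheses.
* `Crit.centAct`: `<D cap C(u)>` on `Fix(u)` satisfies the hypotheses.
* `Crit.stronglyEmbedded`: without multis the stabiliser of a point is strongly embedded.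
-/

set_option autoImplicit false
set_option linter.unusedSectionVars false

namespace CfsgLib.AschCrit

open Subgroup

universe u v

variable {G : Type u} [Group G] {Ω : Type v} [MulAction G Ω]

/-- No involution fixes two points. -/
def NoMulti (G : Type u) [Group G] (Ω : Type v) [MulAction G Ω] : Prop :=
  ∀ t : G, ¬ IsMulti Ω t

/-- The members centralising `t`. -/
def cMems (D : Set G) (t : G) : Set G := {d | d ∈ D ∧ Commute d t}

/-- The group they generate. -/
def cGrp (D : Set G) (t : G) : Subgroup G := Subgroup.closure (cMems D t)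

theorem commute_of_mem_cGrp {D : Set G} {t g : G} (hg : g ∈ cGrp D t) : Commute g t := by
  have hle : cGrp D t ≤ centralizer ({t} : Set G) :=
    (closure_le _).2 fun d hd => mem_centralizer_singleton_iff.2 hd.2
  exact mem_centralizer_singleton_iff.1 (hle hg)

theorem mem_cGrp {D : Set G} {t d : G} (hd : d ∈ D) (hc : Commute d t) : d ∈ cGrp D t :=
  subset_closure ⟨hd, hc⟩

instance cAct (D : Set G) (t : G) : MulAction (cGrp D t) (MulAction.fixedBy Ω t) where
  smul g x := ⟨(g : G) • (x : Ω), by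
    have hx : t • (x : Ω) = x := x.2
    show t • ((g : G) • (x : Ω)) = (g : G) • (x : Ω)
    rw [← mul_smul, ← (commute_of_mem_cGrp g.2).eq, mul_smul, hx]⟩
  one_smul x := Subtype.ext (one_smul G (x : Ω))
  mul_smul g g' x := Subtype.ext (mul_smul (g : G) (g' : G) (x : Ω))

theorem cAct_coe {D : Set G} {t : G} (g : cGrp D t) (x : MulAction.fixedBy Ω t) :
    ((g • x : MulAction.fixedBy Ω t) : Ω) = (g : G) • (x : Ω) := rfl

namespace Crit

variable [Finite G] {D : Set G} (h : Crit Ω D)
include h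

/-- The product of two commuting members fixes only their point. -/
theorem pair_single {d e : G} (hd : d ∈ D) (he : e ∈ D) (hne : d ≠ e) (hc : Commute d e) {a b : Ω}
    (ha : d • a = a) (hb : (d * e) • b = b) : b = a := by
  by_contra hba
  have hsq : (d * e) * (d * e) = 1 := by
    rw [← pow_two, hc.mul_pow, pow_two, pow_two, h.sq hd, h.sq he, one_mul]
  obtain ⟨f, hf, hfb, hfu⟩ := h.exists_mem_commute hsq hb
  exact hba (h.fix_unique f hf b a hfb (h.cent d hd e he hne hc f hfu a ha))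

/-- Points of different members differ, or the product has twice an odd order, when the square of the product
fixes every point. -/
theorem comm_mod_kernel {d e : G} (hd : d ∈ D) (he : e ∈ D) {a : Ω} (ha : d • a = a)
    (hsq : ∀ x : Ω, ((d * e) * (d * e)) • x = x) (hne : ∃ x : Ω, (d * e) • x ≠ x) :
    ∃ e' ∈ D, d ≠ e' ∧ Commute d e' ∧ ∀ x : Ω, (d * e') • x = (d * e) • x := by
  have hpow : ∀ (j : ℕ) (x : Ω), ((d * e) ^ (2 * j)) • x = x := by
    intro j
    induction j with
    | zero => intro x; rw [Nat.mul_zero, pow_zero, one_smul]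
    | succ j ih => intro x; rw [show 2 * (j + 1) = 2 * j + 2 by ring, pow_add, mul_smul, pow_two, hsq, ih]
  have hd2 := h.sq hd
  have he2 := h.sq he
  rcases Nat.even_or_odd (orderOf (d * e)) with ⟨m, hm⟩ | ⟨i, hi⟩
  swap
  · exfalso
    obtain ⟨x, hx⟩ := hne
    refine hx ?_
    calc (d * e) • x = ((d * e) ^ (2 * (i + 1))) • x := by
          rw [show 2 * (i + 1) = orderOf (d * e) + 1 by omega, pow_succ, pow_orderOf_eq_one, one_mul]
      _ = x := hpow _ x
  have hm' : orderOf (d * e) = 2 * m := by omega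
  have hmpos : 0 < m := by have := orderOf_pos (d * e); omega
  set w := (d * e) ^ m with hw
  have hw2 : w * w = 1 := by rw [hw, ← pow_add, show m + m = orderOf (d * e) by omega, pow_orderOf_eq_one]
  have hw1 : w ≠ 1 := fun e1 => by
    have := Nat.le_of_dvd hmpos (orderOf_dvd_of_pow_eq_one e1)
    omega
  have hdw : Commute d w := by
    have h1 := dih_pow hd2 he2 m
    rw [← hw, inv_eq_of_mul_eq_one_right hw2] at h1
    calc d * w = d * w * (d * d) := by rw [hd2, mul_one]
      _ = d * w * d * d := by group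
      _ = w * d := by rw [h1]
  rcases Nat.even_or_odd m with ⟨l, hl⟩ | ⟨l, hl⟩
  · exfalso
    have he' : d * w ∈ D := by
      rw [hw, show m = 2 * l by omega, dih_even hd2 he2 l]
      exact h.conjBack hd _
    have hne' : d ≠ d * w := fun e1 => hw1 (by simpa using e1.symm)
    obtain ⟨b, hb⟩ := h.exists_ne a
    refine hb (h.pair_single hd he' hne' ((Commute.refl d).mul_right hdw) ha ?_)
    rw [← mul_assoc, hd2, one_mul, hw, show m = 2 * l by omega]
    exact hpow l b
  · have he' : d * w ∈ D := by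
      rw [hw, hl, dih_odd hd2 he2 l]
      exact h.conjBack he _
    refine ⟨d * w, he', fun e1 => hw1 (by simpa using e1.symm), (Commute.refl d).mul_right hdw, fun x => ?_⟩
    rw [← mul_assoc, hd2, one_mul, hw, hl, pow_succ, mul_smul, hpow]

/-- The induced permutation group satisfies the hypotheses. -/
theorem image [Finite Ω] : Crit Ω ((MulAction.toPermHom G Ω).rangeRestrict '' D) := by
  set ρ := (MulAction.toPermHom G Ω).rangeRestrict with hρ
  have hρs : ∀ (g : G) (x : Ω), (ρ g) • x = g • x := fun g x => rfl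
  have hsur : Function.Surjective ρ := (MulAction.toPermHom G Ω).rangeRestrict_surjective
  have hext : ∀ {g g' : G}, (∀ x : Ω, g • x = g' • x) → ρ g = ρ g' := fun {g g'} e =>
    Subtype.ext (Equiv.ext e)
  refine ⟨?_, h.exists_ne, ?_, ?_, ?_, ?_, ?_, ?_, ?_⟩
  · intro x y
    obtain ⟨g, hg⟩ := h.trans x y
    exact ⟨ρ g, hg⟩
  · rintro _ ⟨d, hd, rfl⟩
    refine orderOf_eq_prime (by rw [← map_pow, ← h.inv d hd, pow_orderOf_eq_one, map_one]) fun e => ?_
    obtain ⟨a, ha⟩ := h.fix_exists d hd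
    obtain ⟨b, hb⟩ := h.exists_ne a
    have hdb : d • b = b := by rw [← hρs, e, one_smul]
    exact hb (h.fix_unique d hd b a hdb ha)
  · rintro _ ⟨d, hd, rfl⟩ g
    obtain ⟨g, rfl⟩ := hsur g
    exact ⟨g * d * g⁻¹, h.conj d hd g, by rw [map_mul, map_mul, map_inv]⟩
  · rintro _ ⟨d, hd, rfl⟩ _ ⟨e, he, rfl⟩
    obtain ⟨g, rfl⟩ := h.one_class d hd e he
    exact ⟨ρ g, by rw [map_mul, map_mul, map_inv]⟩
  · rintro _ ⟨d, hd, rfl⟩
    exact h.fix_exists d hd
  · rintro _ ⟨d, hd, rfl⟩ x y hx hy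
    exact h.fix_unique d hd x y hx hy
  · obtain ⟨d, hd, S, hdS, hcom⟩ := h.central
    haveI := Fact.mk Nat.prime_two
    refine ⟨ρ d, ⟨d, hd, rfl⟩, S.mapSurjective hsur, ?_, fun s hs => ?_⟩
    · rw [Sylow.coe_mapSurjective]; exact mem_map_of_mem ρ hdS
    · rw [Sylow.coe_mapSurjective] at hs
      obtain ⟨s, hs', rfl⟩ := hs
      exact (hcom s hs').map ρ
  · rintro _ ⟨d, hd, rfl⟩ _ ⟨e, he, rfl⟩ hne hc g hg x hx
    obtain ⟨g, rfl⟩ := hsur g
    have hdx : d • x = x := hx
    have hsq : ∀ y : Ω, ((d * e) * (d * e)) • y = y := fun y => by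
      rw [← hρs]
      rw [map_mul, map_mul, mul_assoc, ← mul_assoc (ρ e), ← hc.eq, ← mul_assoc, ← mul_assoc,
        ← map_mul, h.sq hd, map_one, one_mul, ← map_mul, h.sq he, map_one, one_smul]
    have hmove : ∃ y : Ω, (d * e) • y ≠ y := by
      by_contra hall
      push Not at hall
      refine hne (hext fun y => ?_)
      conv_lhs => rw [show d = d * e * e by rw [mul_assoc, h.sq he, mul_one]]
      rw [mul_smul, hall]
    obtain ⟨e', he', hne', hc', heq⟩ := h.comm_mod_kernel hd he hdx hsq hmove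
    have hfix : (d * e') • x = x := by
      rw [mul_smul, h.fix_of_commute' hd hc'.symm hdx, hdx]
    refine h.pair_single hd he' hne' hc' hdx ?_
    have hcm : (ρ d * ρ e) • (ρ g • x) = ρ g • ((ρ d * ρ e) • x) := by
      rw [← mul_smul, ← hg.eq, mul_smul]
    rw [← map_mul] at hcm
    have hcm' : (d * e) • (g • x) = g • ((d * e) • x) := hcm
    rw [← heq, ← heq, hfix] at hcm'
    exact hcm'

theorem faithful_image : Faithful (MulAction.toPermHom G Ω).range Ω := fun g hg =>
  Subtype.ext (Equiv.ext hg)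

/-- An odd number of members centralises an involution. -/
theorem odd_cMems {t : G} (ht : t * t = 1) : Odd (Nat.card (cMems D t)) := by
  classical
  haveI := Fact.mk Nat.prime_two
  let σ : D → D := fun d => ⟨t * d.1 * t⁻¹, h.conj d.1 d.2 t⟩
  have hσ : ∀ d, σ (σ d) = d := fun d => Subtype.ext (by
    show t * (t * d.1 * t⁻¹) * t⁻¹ = d.1
    rw [show t * (t * d.1 * t⁻¹) * t⁻¹ = (t * t) * d.1 * (t * t)⁻¹ by group, ht, one_mul, inv_one, mul_one])
  haveI : Fintype D := Fintype.ofFinite _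
  let e : Equiv.Perm D := ⟨σ, σ, hσ, hσ⟩
  have he : e ^ (2 ^ 1) = 1 := by
    rw [pow_one, pow_two]
    exact Equiv.ext fun d => hσ d
  have h1 := Equiv.Perm.card_compl_support_modEq (p := 2) (n := 1) he
  have h2 : e.supportᶜ.card = Nat.card (cMems D t) := by
    rw [← Nat.card_eq_finsetCard]
    refine Nat.card_congr
      { toFun := fun d => ⟨d.1.1, d.1.2, ?_⟩
        invFun := fun d => ⟨⟨d.1, d.2.1⟩, ?_⟩
        left_inv := fun d => rfl
        right_inv := fun d => rfl }
    · have := Finset.mem_compl.1 d.2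
      rw [Equiv.Perm.notMem_support] at this
      have h3 : t * d.1.1 * t⁻¹ = d.1.1 := congrArg Subtype.val this
      exact (mul_inv_eq_iff_eq_mul.1 h3).symm
    · rw [Finset.mem_compl, Equiv.Perm.notMem_support]
      refine Subtype.ext ?_
      show t * d.1 * t⁻¹ = d.1
      rw [← d.2.2.eq, mul_inv_cancel_right]
  rw [h2, ← Nat.card_eq_fintype_card] at h1
  rw [Nat.odd_iff, h1, ← Nat.odd_iff]
  exact h.odd_card

/-- Members centralising `t` at two fixed points are conjugate in `cGrp D t`. -/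
theorem conj_in_cGrp {t d e : G} (hd : d ∈ D) (he : e ∈ D) {a : Ω} (ha : d • a = a) (hb : e • a ≠ a)
    (hdt : Commute d t) (het : Commute e t) : ∃ g ∈ cGrp D t, g * d * g⁻¹ = e := by
  obtain ⟨i, hi⟩ := h.odd_of_ne hd he ha hb
  have hd2 := h.sq hd
  refine ⟨((d * e) ^ (i + 1))⁻¹, inv_mem (pow_mem (mul_mem (mem_cGrp hd hdt) (mem_cGrp he het)) _), ?_⟩
  have h1 : d * (d * e) ^ (2 * (i + 1)) = e := by
    rw [show 2 * (i + 1) = orderOf (d * e) + 1 by omega, pow_succ, pow_orderOf_eq_one, one_mul,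
      ← mul_assoc, hd2, one_mul]
  rw [inv_inv, ← dih_even hd2 (h.sq he) (i + 1), h1]

/-- The members centralising `t` form one class of `cGrp D t`. -/
theorem one_class_cGrp {t d e : G} (ht : t * t = 1) {a b : Ω} (hab : a ≠ b) (hta : t • a = a) (htb : t • b = b)
    (hd : d ∈ D) (he : e ∈ D) (hdt : Commute d t) (het : Commute e t) :
    ∃ g ∈ cGrp D t, g * d * g⁻¹ = e := by
  obtain ⟨x, hx⟩ := h.fix_exists d hd
  by_cases hex : e • x = x
  · obtain ⟨y, hyx, hty⟩ : ∃ y, y ≠ x ∧ t • y = y := by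
      rcases eq_or_ne a x with rfl | hne
      · exact ⟨b, hab.symm, htb⟩
      · exact ⟨a, hne, hta⟩
    obtain ⟨f, hf, hfy, hft⟩ := h.exists_mem_commute ht hty
    have hfx : f • x ≠ x := fun e1 => hyx (h.fix_unique f hf y x hfy e1)
    have hey : e • y ≠ y := fun e1 => hyx (h.fix_unique e he y x e1 hex)
    obtain ⟨g₁, hg₁, e1⟩ := h.conj_in_cGrp hd hf hx hfx hdt hft
    obtain ⟨g₂, hg₂, e2⟩ := h.conj_in_cGrp hf he hfy hey hft het
    exact ⟨g₂ * g₁, mul_mem hg₂ hg₁, by rw [← e2, ← e1]; group⟩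
  · exact h.conj_in_cGrp hd he hx hex hdt het

/-- The group generated by the members centralising a multi, on the fixed points of the multi. -/
theorem centAct {t : G} (ht : IsMulti Ω t) :
    Crit (MulAction.fixedBy Ω t) {d : cGrp D t | (d : G) ∈ D} := by
  haveI := Fact.mk Nat.prime_two
  have ht2 : t * t = 1 := by rw [← pow_two, ← ht.1, pow_orderOf_eq_one]
  obtain ⟨a, b, hab, hta, htb⟩ := ht.2
  have hclass : ∀ d : cGrp D t, (d : G) ∈ D → ∀ e : cGrp D t, (e : G) ∈ D → ∃ g : cGrp D t, g * d * g⁻¹ = e := by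
    intro d hd e he
    obtain ⟨g, hg, hge⟩ := h.one_class_cGrp ht2 hab hta htb hd he (commute_of_mem_cGrp d.2) (commute_of_mem_cGrp e.2)
    exact ⟨⟨g, hg⟩, Subtype.ext hge⟩
  have hmem : ∀ x : MulAction.fixedBy Ω t, ∃ d : cGrp D t, (d : G) ∈ D ∧ d • x = x := fun x => by
    obtain ⟨d, hd, hdx, hdt⟩ := h.exists_mem_commute ht2 x.2
    exact ⟨⟨d, mem_cGrp hd hdt⟩, hd, Subtype.ext hdx⟩
  refine ⟨fun x y => ?_, fun x => ?_, fun d hd => ?_, fun d hd g => ?_, hclass, fun d hd => ?_,
    fun d hd x y hx hy => Subtype.ext (h.fix_unique d hd x y (congrArg Subtype.val hx) (congrArg Subtype.val hy)),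
    ?_, ?_⟩
  · obtain ⟨d, hd, hdx⟩ := hmem x
    obtain ⟨e, he, hey⟩ := hmem y
    obtain ⟨g, hg⟩ := hclass d hd e he
    refine ⟨g, Subtype.ext (h.fix_unique e he _ y ?_ (congrArg Subtype.val hey))⟩
    have h1 : e • (g • x) = g • x := by rw [← hg, mul_smul, mul_smul, inv_smul_smul, hdx]
    exact congrArg Subtype.val h1
  · rcases eq_or_ne a (x : Ω) with e | e
    · exact ⟨⟨b, htb⟩, fun e1 => hab (e.trans (congrArg Subtype.val e1).symm)⟩
    · exact ⟨⟨a, hta⟩, fun e1 => e (congrArg Subtype.val e1)⟩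
  · rw [← Subgroup.orderOf_coe]; exact h.inv d hd
  · exact h.conj (d : G) hd (g : G)
  · obtain ⟨x, hx⟩ := h.fix_exists d hd
    exact ⟨⟨x, h.fix_of_commute' hd (commute_of_mem_cGrp d.2).symm hx⟩, Subtype.ext hx⟩
  · obtain ⟨x⟩ : Nonempty (cMems D t) := by
      rw [← not_isEmpty_iff]
      intro he
      have := (h.odd_cMems ht2).pos
      rw [Nat.card_eq_zero.mpr (Or.inl he)] at this
      omega
    set d : cGrp D t := ⟨x.1, mem_cGrp x.2.1 x.2.2⟩ with hd
    have horb : MulAction.orbit (ConjAct (cGrp D t)) d ≃ cMems D t :=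
      { toFun := fun y => ⟨(y.1 : G), by
          obtain ⟨c, hc⟩ := y.2
          rw [← hc]
          exact h.conj x.1 x.2.1 ((ConjAct.ofConjAct c : cGrp D t) : G), commute_of_mem_cGrp y.1.2⟩
        invFun := fun y => ⟨⟨y.1, mem_cGrp y.2.1 y.2.2⟩, by
          obtain ⟨g, hg⟩ := hclass d x.2.1 ⟨y.1, mem_cGrp y.2.1 y.2.2⟩ y.2.1
          exact ⟨ConjAct.toConjAct g, by show ConjAct.toConjAct g • d = _; rw [ConjAct.toConjAct_smul]; exact hg⟩⟩
        left_inv := fun y => rfl
        right_inv := fun y => rfl }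
    have hodd : Odd (MulAction.stabilizer (ConjAct (cGrp D t)) d).index := by
      rw [Subgroup.index, ← Nat.card_congr (MulAction.orbitEquivQuotientStabilizer _ d), Nat.card_congr horb]
      exact h.odd_cMems ht2
    set C := (MulAction.stabilizer (ConjAct (cGrp D t)) d).map
      (ConjAct.ofConjAct (G := cGrp D t)).toMonoidHom with hC
    obtain ⟨S⟩ := (inferInstance : Nonempty (Sylow 2 C))
    have hCidx : ¬ 2 ∣ C.index := by
      have he : C.index = (MulAction.stabilizer (ConjAct (cGrp D t)) d).index :=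
        Subgroup.index_map_equiv _ (ConjAct.ofConjAct (G := cGrp D t))
      rw [he]
      exact Nat.two_dvd_ne_zero.2 (Nat.odd_iff.1 hodd)
    have hp : IsPGroup 2 ((S : Subgroup C).map C.subtype) := S.isPGroup'.map _
    have hidx : ¬ 2 ∣ ((S : Subgroup C).map C.subtype).index := by
      rw [Subgroup.index_map_subtype]
      exact fun hd2 => (Nat.Prime.dvd_mul Nat.prime_two).1 hd2 |>.elim S.not_dvd_index hCidx
    have hcomm : ∀ s ∈ C, Commute d s := by
      rintro _ ⟨c, hc, rfl⟩
      have h1 : (ConjAct.ofConjAct c) * d * (ConjAct.ofConjAct c)⁻¹ = d := by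
        rw [← ConjAct.toConjAct_smul, ConjAct.toConjAct_ofConjAct]; exact hc
      exact (mul_inv_eq_iff_eq_mul.1 h1).symm
    refine ⟨d, x.2.1, hp.toSylow hidx, ?_, fun s hs => hcomm s (map_subtype_le _ hs)⟩
    show d ∈ (S : Subgroup C).map C.subtype
    have hdC : d ∈ C := ⟨ConjAct.toConjAct d, by
      show ConjAct.toConjAct d • d = d
      rw [ConjAct.toConjAct_smul, mul_inv_cancel_right], ConjAct.ofConjAct_toConjAct d⟩
    refine ⟨⟨d, hdC⟩, ?_, rfl⟩
    have hpz : IsPGroup 2 (zpowers (⟨d, hdC⟩ : C)) := IsPGroup.of_card (n := 1) (by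
      rw [Nat.card_zpowers, Subgroup.orderOf_mk, ← Subgroup.orderOf_coe, pow_one]; exact h.inv x.1 x.2.1)
    have hn : zpowers (⟨d, hdC⟩ : C) ≤ normalizer (S : Set C) := by
      refine le_trans (zpowers_le.2 ?_) (centralizer_le_normalizer _)
      exact mem_centralizer_iff.2 fun s _ => Subtype.ext (hcomm s s.2).eq.symm
    have h1 : (⟨d, hdC⟩ : C) ∈ zpowers (⟨d, hdC⟩ : C) ⊓ normalizer (S : Set C) :=
      ⟨mem_zpowers _, hn (mem_zpowers _)⟩
    rw [hpz.inf_normalizer_sylow S] at h1
    exact h1.2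
  · intro d hd e he hne hc g hg x hx
    exact Subtype.ext (h.cent d hd e he (fun e1 => hne (Subtype.ext e1)) (congrArg Subtype.val hc) g
      (congrArg Subtype.val hg) x (congrArg Subtype.val hx))

/-- Without multis the stabiliser of a point is strongly embedded. -/
theorem stronglyEmbedded (hn : NoMulti G Ω) (a : Ω) : Cfsg.IsStronglyEmbedded (MulAction.stabilizer G a) := by
  haveI := Fact.mk Nat.prime_two
  obtain ⟨d, hd, hda⟩ := h.exists_mem a
  refine ⟨fun e => ?_, ?_, fun g hg => ?_⟩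
  · obtain ⟨b, hb⟩ := h.exists_ne a
    obtain ⟨g, hgb⟩ := h.trans a b
    have hga : g • a = a := (e ▸ mem_top g : g ∈ MulAction.stabilizer G a)
    exact hb (hgb.symm.trans hga)
  · refine even_iff_two_dvd.2 ?_
    exact (h.inv d hd).symm.dvd.trans (Subgroup.orderOf_dvd_natCard _ hda)
  · rw [← Nat.not_even_iff_odd]
    intro hev
    obtain ⟨⟨w, hw⟩, hw2⟩ := exists_prime_orderOf_dvd_card' 2 (even_iff_two_dvd.1 hev)
    rw [Subgroup.orderOf_mk] at hw2
    obtain ⟨hwa, v, hv, hvw⟩ := hw
    have hvw' : g * v * g⁻¹ = w := hvw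
    have hv' : v • a = a := hv
    refine hn w ⟨hw2, a, g • a, fun e => hg (MulAction.mem_stabilizer_iff.2 e.symm), hwa, ?_⟩
    rw [← hvw', mul_smul, mul_smul, inv_smul_smul, hv']

end Crit

end CfsgLib.AschCrit
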