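import Cfsg.Agent.Lib.Invol.AschCrit.Basics
import Cfsg.Agent.Lib.Transfer.ThompsonTransfer

/-!
Owner: helper8. Aschbacher's criterion, slice A: no subgroup of index two.
-/

set_option autoImplicit false
set_option linter.unusedSectionVars false

namespace CfsgLib.AschCrit

variable {G : Type*} [Group G] [Finite G] {Ω : Type*} [MulAction G Ω]

namespace Crit

variable {D : Set G} (h : Crit Ω D)
include h

/-- If two different members commute, the members generate no group with a quotient of order two. -/
theorem no_index_two (hmul : CommMul D) (htop : Subgroup.closure D = ⊤) {d e : G} (hd : d ∈ D)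
    (he : e ∈ D) (hne : d ≠ e) (hc : Commute d e) (N : Subgroup G) [hN : N.Normal] :
    N.index ≠ 2 := by
  intro h2
  have hde := hmul d hd e he hne hc
  by_cases hdN : d ∈ N
  · have hle : Subgroup.closure D ≤ N := (Subgroup.closure_le N).mpr fun f hf => by
      obtain ⟨g, rfl⟩ := h.one_class d hd f hf
      exact hN.conj_mem d hdN g
    rw [htop, top_le_iff] at hle
    rw [hle, Subgroup.index_top] at h2
    omega
  · have hnot : ∀ f ∈ D, f ∉ N := fun f hf hfN => hdN (by
      obtain ⟨g, rfl⟩ := h.one_class f hf d hd
      exact hN.conj_mem f hfN g)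
    exact hnot _ hde ((Subgroup.mul_mem_iff_of_index_two h2).mpr (iff_of_false hdN (hnot e he)))

/-- Thompson transfer in this situation. -/
theorem exists_conj_mem (hmul : CommMul D) (htop : Subgroup.closure D = ⊤) {d e : G} (hd : d ∈ D)
    (he : e ∈ D) (hne : d ≠ e) (hc : Commute d e) (P : Sylow 2 G) (Q : Subgroup G)
    (hQi : Q.relIndex (P : Subgroup G) = 2) {u : G} (hu : orderOf u = 2) :
    ∃ g : G, g * u * g⁻¹ ∈ Q := by
  rcases CfsgLib.Transfer.thompson_transfer P Q hQi hu with ⟨M, hM, h2, -⟩ | hg
  · haveI := hM
    exact absurd h2 (h.no_index_two hmul htop hd he hne hc M)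
  · exact hg

end Crit

end CfsgLib.AschCrit
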