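import Cfsg.Agent.Lib.Invol.AschCrit.RankOnePair
import Cfsg.Agent.Lib.Invol.AschCrit.Transfer
import Cfsg.Agent.Lib.Invol.AschCrit.CentMulti
import Cfsg.Agent.Lib.Invol.AschCrit.Local
import Cfsg.Agent.Lib.ZStar.Main
import Mathlib.Algebra.Group.Subgroup.Pointwise

/-!
Owner: helper7. Aschbacher's criterion, the rank one branch.

`Crit.noMulti_of_rankOne`: if every multi has rank one at its fixed points there is no multi.  A multi
centralises only the central member of a Sylow 2-subgroup.  Without commuting members the members are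
isolated; otherwise a subgroup of index two of the Sylow group has no multi, against Thompson transfer.
-/

set_option autoImplicit false
set_option linter.unusedSectionVars false
set_option linter.style.haveILetI false

namespace CfsgLib.AschCrit

open Subgroup
open scoped Pointwise

variable {G : Type*} [Group G] [Finite G] {Ω : Type*} [MulAction G Ω]

theorem IsMulti.conj {u : G} (hu : IsMulti Ω u) (g : G) : IsMulti Ω (g * u * g⁻¹) := by
  obtain ⟨ho, x, y, hxy, hx, hy⟩ := hu
  refine ⟨(CfsgLib.Signalizer.orderOf_conj g u).trans ho, g • x, g • y,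
    fun e => hxy (MulAction.injective g e), ?_, ?_⟩
  · rw [mul_smul, mul_smul, inv_smul_smul, hx]
  · rw [mul_smul, mul_smul, inv_smul_smul, hy]

namespace Crit

variable {D : Set G} (h : Crit Ω D)
include h

/-- Without commuting members there is no multi. -/
theorem noMulti_of_isolated (htop : Subgroup.closure D = ⊤)
    (hiso : ∀ d ∈ D, ∀ e ∈ D, Commute d e → d = e) : NoMulti G Ω := by
  intro u hu
  haveI := Fact.mk Nat.prime_two
  obtain ⟨z, hz, S, hzS, hcom⟩ := h.central
  obtain ⟨T, hT⟩ := IsPGroup.exists_le_sylow (p := 2) (P := zpowers u)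
    (IsPGroup.of_card (n := 1) (by rw [Nat.card_zpowers, hu.1, pow_one]))
  obtain ⟨k, hk⟩ := MulAction.exists_smul_eq G T S
  set v := k * u * k⁻¹ with hv
  have hvS : v ∈ (S : Subgroup G) := by
    rw [← hk, Sylow.coe_subgroup_smul]
    exact Subgroup.smul_mem_pointwise_smul u (MulAut.conj k) _ (hT (mem_zpowers u))
  have hvm : IsMulti Ω v := hu.conj k
  have hzi : Cfsg.IsIsolatedInvolution z :=
    ⟨h.inv z hz, fun g hc => (hiso z hz _ (h.conj z hz g) hc).symm⟩
  set O := Cfsg.oddCore G with hO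
  haveI : O.Normal := inferInstance
  have hle : Subgroup.closure D ≤ O ⊔ zpowers z := (Subgroup.closure_le _).2 fun d hd => by
    obtain ⟨g, rfl⟩ := h.one_class z hz d hd
    have h1 := inv_mem (CfsgLib.ZStar.mem_oddCore_of_isolated hzi g)
    rw [show (z * g * z⁻¹ * g⁻¹)⁻¹ = g * z * g⁻¹ * z⁻¹ by group] at h1
    simpa using mul_mem (mem_sup_left h1 : _ ∈ O ⊔ zpowers z) (mem_sup_right (mem_zpowers z))
  have hvtop : v ∈ O ⊔ zpowers z := hle (htop ▸ mem_top v)
  obtain ⟨o, ho, y, hy, hoy⟩ := Subgroup.mem_sup_of_normal_left.1 hvtop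
  have hyS : y ∈ (S : Subgroup G) := zpowers_le.2 hzS hy
  have hoS : o ∈ (S : Subgroup G) := by
    rw [show o = v * y⁻¹ by rw [← hoy, mul_inv_cancel_right]]
    exact mul_mem hvS (inv_mem hyS)
  have ho1 : o = 1 := by
    obtain ⟨n, hn⟩ := IsPGroup.iff_orderOf.1 S.2 ⟨o, hoS⟩
    rw [Subgroup.orderOf_mk] at hn
    have hodd : Odd (orderOf o) := by
      refine CfsgLib.ZStar.odd_of_dvd ?_ (CfsgLib.ZStar.odd_card_oddCore G)
      rw [← Subgroup.orderOf_mk o ho]
      exact orderOf_dvd_natCard _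
    rcases n with _ | n
    · exact orderOf_eq_one_iff.1 (by simpa using hn)
    · rw [hn, pow_succ] at hodd
      exact absurd hodd (by simp [Nat.odd_mul])
  rw [ho1, one_mul] at hoy
  obtain ⟨i, rfl⟩ := hy
  rcases Int.even_or_odd i with ⟨j, rfl⟩ | ⟨j, rfl⟩
  · have hv1 : v = 1 := by
      rw [← hoy, ← two_mul]
      show z ^ (2 * j) = 1
      rw [_root_.zpow_mul, _root_.zpow_two, h.sq hz, _root_.one_zpow]
    have := hvm.1
    rw [hv1, orderOf_one] at this
    omega
  · refine h.multi_not_mem hvm ?_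
    rw [← hoy]
    show z ^ (2 * j + 1) ∈ D
    rw [_root_.zpow_add_one, _root_.zpow_mul, _root_.zpow_two, h.sq hz, _root_.one_zpow, one_mul]
    exact hz

/-- The rank one branch. -/
theorem noMulti_of_rankOne (hf : Faithful G Ω) (htop : Subgroup.closure D = ⊤)
    (hone : ∀ u : G, ∀ a : Ω, IsMulti Ω u → u • a = a → RankOneAt D u a) : NoMulti G Ω := by
  by_cases hiso : ∀ d ∈ D, ∀ e ∈ D, Commute d e → d = e
  · exact h.noMulti_of_isolated htop hiso
  push Not at hiso
  obtain ⟨d, hd, e₀, he₀, hc, hne⟩ := hiso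
  intro u hu
  haveI := Fact.mk Nat.prime_two
  obtain ⟨z, hz, S, hzS, hcom⟩ := h.central
  obtain ⟨a, ha⟩ := h.fix_exists z hz
  have hfixS : ∀ x ∈ (S : Subgroup G), x • a = a := fun x hx => h.fix_of_commute' hz (hcom x hx).symm ha
  -- a conjugate in the Sylow group
  have intoS : ∀ X : Subgroup G, IsPGroup 2 X → ∃ k : G, ∀ x ∈ X, k * x * k⁻¹ ∈ (S : Subgroup G) := by
    intro X hX
    obtain ⟨T, hT⟩ := hX.exists_le_sylow
    obtain ⟨k, hk⟩ := MulAction.exists_smul_eq G T S
    refine ⟨k, fun x hx => ?_⟩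
    rw [← hk, Sylow.coe_subgroup_smul]
    exact Subgroup.smul_mem_pointwise_smul x (MulAut.conj k) _ (hT hx)
  have hp1 : ∀ {x : G}, orderOf x = 2 → IsPGroup 2 (zpowers x) := fun hx =>
    IsPGroup.of_card (n := 1) (by rw [Nat.card_zpowers, hx, pow_one])
  -- two members in `S`
  obtain ⟨e, he, heS, hez⟩ : ∃ e ∈ D, e ∈ (S : Subgroup G) ∧ e ≠ z := by
    have hp : IsPGroup 2 ↥(zpowers d ⊔ zpowers e₀) := by
      refine (hp1 (h.inv d hd)).to_sup_of_normal_right' (hp1 (h.inv e₀ he₀)) ?_
      refine le_trans (zpowers_le.2 ?_) (centralizer_le_normalizer _)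
      refine mem_centralizer_iff.2 fun y hy => ?_
      obtain ⟨i, rfl⟩ := hy
      exact ((show Commute e₀ d from hc.symm).zpow_left i).eq
    obtain ⟨k, hk⟩ := intoS _ hp
    by_cases hdz : k * d * k⁻¹ = z
    · exact ⟨_, h.conj _ he₀ k, hk _ (mem_sup_right (mem_zpowers _)), fun e1 =>
        hne (mul_left_cancel (mul_right_cancel (hdz.trans e1.symm)))⟩
    · exact ⟨_, h.conj _ hd k, hk _ (mem_sup_left (mem_zpowers _)), hdz⟩
  obtain ⟨k, hk⟩ := intoS _ (hp1 hu.1)
  set P := ↥(S : Subgroup G)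
  set B : Set P := {x | (x : G) ∈ D} with hB
  set U : Set P := {x | IsMulti Ω (x : G)} with hU
  have hzc : ∀ x ∈ (S : Subgroup G), Commute z x := hcom
  have hpair : RankOneBranch.Pair B U ⟨z, hzS⟩ :=
    { pgroup := S.2
      cases := fun x hx hx1 => by
        have ho : orderOf (x : G) = 2 := by
          rw [Subgroup.orderOf_coe]
          exact orderOf_eq_prime (by rw [pow_two, hx]) hx1
        by_cases hxD : (x : G) ∈ D
        · exact Or.inl hxD
        · exact Or.inr (h.singleMem hf _ ho ⟨a, hfixS _ x.2⟩ hxD)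
      sqB := fun x hx => ⟨Subtype.ext (h.sq hx), fun e1 => h.ne_one' hx (by rw [e1]; rfl)⟩
      sqU := fun x hx => ⟨Subtype.ext (by
          have h2 : (x : G) ^ orderOf (x : G) = 1 := pow_orderOf_eq_one _
          rw [hx.1, pow_two] at h2
          exact h2),
        fun e1 => by have := hx.1; rw [e1, Subgroup.coe_one, orderOf_one] at this; omega⟩
      conjB := fun x hx g => h.conj _ hx g
      central := fun g => Subtype.ext (hzc _ g.2).eq
      single := fun v hv f hf' hc => Subtype.ext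
        (hone _ a hv (hfixS _ v.2) z ⟨hz, ha, hzc _ v.2⟩ _
          ⟨hf', hfixS _ f.2, (congrArg Subtype.val hc.eq).symm⟩ (hzc _ f.2)).symm
      memz := hz
      existsB := ⟨⟨e, heS⟩, he, fun e1 => hez (congrArg Subtype.val e1)⟩
      existsU := ⟨⟨_, hk u (mem_zpowers u)⟩, hu.conj k⟩ }
  have hfalse : ∀ Q : Subgroup P, Q.index = 2 → (∀ v ∈ Q, v ∉ U) → False := by
    intro Q hQ hfree
    have hrel : (Q.map (S : Subgroup G).subtype).relIndex (S : Subgroup G) = 2 := by
      rw [Subgroup.relIndex, Subgroup.subgroupOf,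
        Subgroup.comap_map_eq_self_of_injective (Subgroup.subtype_injective _), hQ]
    obtain ⟨g, y, hy, hyu⟩ := h.exists_conj_mem (h.commMul hf) htop hz he (Ne.symm hez)
      (hzc e heS) S _ hrel hu.1
    exact hfree y hy (show IsMulti Ω ((S : Subgroup G).subtype y) by rw [hyu]; exact hu.conj g)
  rcases hpair.exists_good with ⟨Q, hQ, hfree⟩ | ⟨K, hK, hKB⟩
  · exact hfalse Q hQ hfree
  have hsq : ∀ y : P, Commute y ⟨e, heS⟩ → y * y ≠ ⟨z, hzS⟩ := by
    intro y hy hyz
    -- move `e` to the centre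
    obtain ⟨g, hg⟩ := h.one_class e he z hz
    set y' := g * (y : G) * g⁻¹ with hy'
    have hcy : Commute z y' := by
      show z * y' = y' * z
      rw [hy', ← hg]
      calc g * e * g⁻¹ * (g * (y : G) * g⁻¹) = g * (e * y) * g⁻¹ := by group
        _ = g * (y * e) * g⁻¹ := by rw [show e * (y : G) = y * e from (congrArg Subtype.val hy.eq).symm]
        _ = _ := by group
    have hzS' : (S : Subgroup G) ≤ centralizer ({z} : Set G) := fun s hs =>
      mem_centralizer_singleton_iff.2 (hzc s hs).symm.eq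
    have hpy : IsPGroup 2 (zpowers (⟨y', mem_centralizer_singleton_iff.2 hcy.symm.eq⟩ :
        centralizer ({z} : Set G))) := by
      obtain ⟨n, hn⟩ := IsPGroup.iff_orderOf.1 S.2 y
      refine IsPGroup.of_card (n := n) ?_
      rw [Nat.card_zpowers, Subgroup.orderOf_mk, hy', CfsgLib.Signalizer.orderOf_conj,
        Subgroup.orderOf_coe, hn]
    obtain ⟨T, hT⟩ := hpy.exists_le_sylow
    obtain ⟨c, hcT⟩ := MulAction.exists_smul_eq (centralizer ({z} : Set G)) T (S.subtype hzS')
    have hin : (c : G) * y' * (c : G)⁻¹ ∈ (S : Subgroup G) := by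
      have h1 : MulAut.conj c • (⟨y', mem_centralizer_singleton_iff.2 hcy.symm.eq⟩ :
          centralizer ({z} : Set G)) ∈ MulAut.conj c • (T : Subgroup (centralizer ({z} : Set G))) :=
        Subgroup.smul_mem_pointwise_smul _ _ _ (hT (mem_zpowers _))
      rw [← Sylow.coe_subgroup_smul, hcT, Sylow.coe_subtype, Subgroup.mem_subgroupOf] at h1
      exact h1
    have hcz : Commute (c : G) z := mem_centralizer_singleton_iff.1 c.2
    have hval : (y : G) * y = z := congrArg Subtype.val hyz
    have hsqv : ((c : G) * y' * (c : G)⁻¹) * ((c : G) * y' * (c : G)⁻¹) =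
        ((c : G) * g) * z * ((c : G) * g)⁻¹ := by
      simp only [hy', ← hval]; group
    have h2 := congrArg Subtype.val (RankOneBranch.Pair.sq_eq (z := (⟨z, hzS⟩ : P)) hK hKB
      (y := ⟨_, hin⟩) (show ((c : G) * y' * (c : G)⁻¹) * ((c : G) * y' * (c : G)⁻¹) ∈ D by
        rw [hsqv]; exact h.conj z hz _))
    change ((c : G) * y' * (c : G)⁻¹) * ((c : G) * y' * (c : G)⁻¹) = z at h2
    rw [hsqv] at h2
    refine hez ?_
    -- both `c * g` conjugates of `e` and of `z` are `z`
    have h3 : ((c : G) * g) * e * ((c : G) * g)⁻¹ = z := by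
      calc ((c : G) * g) * e * ((c : G) * g)⁻¹ = (c : G) * (g * e * g⁻¹) * (c : G)⁻¹ := by group
        _ = z := by rw [hg, hcz.eq, mul_inv_cancel_right]
    exact mul_left_cancel (mul_right_cancel (h3.trans h2.symm))
  obtain ⟨Q, hQ, hfree⟩ := hpair.exists_free hK hKB
    (e := ⟨e, heS⟩) he (fun e1 => hez (congrArg Subtype.val e1)) hsq
  exact hfalse Q hQ hfree

end Crit

end CfsgLib.AschCrit
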