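import Cfsg.Agent.Lib.Invol.AschCrit.CentData
import Cfsg.Agent.Lib.Invol.AschCrit.FrameBasic
import Cfsg.Agent.Lib.Invol.AschCrit.RankOne
import Cfsg.Agent.Lib.Invol.AschCrit.Induct
import Cfsg.Agent.Lib.Invol.AschCrit.Model

/-!
Owner: helper11. Aschbacher's criterion: the assembly of the slices.
-/

set_option autoImplicit false
set_option linter.unusedSectionVars false

namespace CfsgLib.AschCrit

universe u

/-- What remains open: translations, models and the end games. -/
def RemainingSlices : Prop :=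
  ∀ (G : Type u) [Group G] [Finite G] (Ω : Type u) [MulAction G Ω] (D : Set G),
    Crit Ω D → Faithful G Ω → Subgroup.closure D = ⊤ → Below.{u, u} (Nat.card G) →
      Translations Ω D ∧ NoException Ω D ∧ ModelExists Ω D ∧
        EndGame Ω D 1 ∧ EndGame Ω D 2 ∧ EndGame Ω D 3

/-- The criterion from the remaining slices. -/
theorem main_of_slices (hrem : RemainingSlices.{u}) : Main.{u} := by
  refine main_of_step fun G _ _ Ω _ D hc hf htop IH => ?_
  obtain ⟨htr, hexc, hmod, h1, h2, h3⟩ := hrem G Ω D hc hf htop IH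
  by_cases hone : ∀ u : G, ∀ a : Ω, IsMulti Ω u → u • a = a → RankOneAt D u a
  · exact hc.noMulti_of_rankOne hf htop hone
  push Not at hone
  obtain ⟨v, x, hv, hvx, hr⟩ := hone
  obtain ⟨v₀, a, b, E, q, i, hF⟩ := hc.framesExist (hc.localDichotomy hf IH) ⟨v, x, hv, hvx, hr⟩
  have ht : HasTrans v₀ a E := by
    by_cases h8 : q = 8
    · exact hexc v₀ a b E q i hF h8
    · exact htr v₀ a b E q i hF.toTopFrame h8
  obtain ⟨P, R, X, Q, g, hP⟩ := hmod v₀ a b E q i hF ht
  exfalso
  rcases hF.data.type with rfl | rfl | rfl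
  · exact h1 v₀ a b E q P R X Q g hF ht hP
  · exact h2 v₀ a b E q P R X Q g hF ht hP
  · exact h3 v₀ a b E q P R X Q g hF ht hP

end CfsgLib.AschCrit
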