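import Cfsg.Agent.Lib.Invol.AschCrit.Count
import Mathlib.GroupTheory.PGroup
import Mathlib.GroupTheory.GroupAction.ConjAct
import Mathlib.Algebra.Group.Subgroup.Map

/-!
Owner: helper8. Aschbacher's criterion, slice A basics: the parities, members centralising two-groups,
and the four interface facts.
-/

set_option autoImplicit false
set_option linter.unusedSectionVars false

namespace CfsgLib.AschCrit

variable {G : Type*} [Group G] [Finite G] {Ω : Type*} [MulAction G Ω]

namespace Crit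

variable {D : Set G} (h : Crit Ω D)
include h

theorem finite_points : Finite Ω := by
  obtain ⟨d, hd, -⟩ := h.central
  obtain ⟨a, -⟩ := h.fix_exists d hd
  exact Finite.of_surjective (fun g : G => g • a) (h.trans a)

/-- The class has odd size. -/
theorem odd_card : Odd (Nat.card D) := by
  obtain ⟨d, hd, S, hdS, hcom⟩ := h.central
  have hD : D = MulAction.orbit (ConjAct G) d := by
    ext e
    rw [ConjAct.mem_orbit_conjAct]
    refine ⟨fun he => (isConj_iff.mpr (h.one_class d hd e he)).symm, fun he => ?_⟩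
    obtain ⟨g, rfl⟩ := isConj_iff.mp he.symm
    exact h.conj d hd g
  rw [hD, Nat.card_congr (MulAction.orbitEquivQuotientStabilizer (ConjAct G) d), ← Subgroup.index]
  rw [Nat.odd_iff, ← Nat.two_dvd_ne_zero]
  intro h2
  haveI : Fact (Nat.Prime 2) := ⟨Nat.prime_two⟩
  have hle : ((S : Subgroup G).map (ConjAct.toConjAct (G := G)).toMonoidHom : Subgroup (ConjAct G)) ≤
      MulAction.stabilizer (ConjAct G) d := by
    intro y hy
    obtain ⟨s, hs, rfl⟩ := Subgroup.mem_map.mp hy
    show ConjAct.toConjAct s • d = d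
    rw [ConjAct.toConjAct_smul, ← (hcom s hs).eq, mul_inv_cancel_right]
  have hdvd := Subgroup.index_dvd_of_le hle
  exact Sylow.not_dvd_index S (h2.trans (hdvd.trans
    (Subgroup.index_map_equiv (S : Subgroup G) (ConjAct.toConjAct (G := G))).dvd))

theorem card_mems_eq (a b : Ω) : Nat.card (mems D a) = Nat.card (mems D b) := by
  obtain ⟨g, rfl⟩ := h.trans a b
  refine Nat.card_congr
    { toFun := fun d => ⟨g * d.1 * g⁻¹, h.conj d.1 d.2.1 g, by
        rw [mul_smul, mul_smul, inv_smul_smul, d.2.2]⟩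
      invFun := fun d => ⟨g⁻¹ * d.1 * g, h.conjBack d.2.1 g, by
        rw [mul_smul, mul_smul, d.2.2, inv_smul_smul]⟩
      left_inv := fun d => Subtype.ext (by group)
      right_inv := fun d => Subtype.ext (by group) }

theorem card_D (a : Ω) : Nat.card D = Nat.card Ω * Nat.card (mems D a) := by
  classical
  haveI := h.finite_points
  haveI : Fintype Ω := Fintype.ofFinite Ω
  have e : D ≃ Σ b : Ω, mems D b :=
    { toFun := fun d => ⟨(h.fix_exists d.1 d.2).choose, d.1, d.2, (h.fix_exists d.1 d.2).choose_spec⟩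
      invFun := fun x => ⟨x.2.1, x.2.2.1⟩
      left_inv := fun d => rfl
      right_inv := fun x => by
        obtain ⟨b, d, hd, hdb⟩ := x
        obtain rfl := h.fix_unique d hd _ _ (h.fix_exists d hd).choose_spec hdb
        rfl }
  rw [Nat.card_congr e, Nat.card_sigma]
  simp only [h.card_mems_eq _ a, Finset.sum_const, Finset.card_univ, smul_eq_mul, Nat.card_eq_fintype_card]

/-- The number of points and the number of members at a point are odd. -/
theorem odd_points (a : Ω) : Odd (Nat.card Ω) ∧ Odd (Nat.card (mems D a)) :=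
  Nat.odd_mul.mp (h.card_D a ▸ h.odd_card)

/-- Every point has a member. -/
theorem exists_mem (a : Ω) : ∃ d ∈ D, d • a = a := by
  obtain ⟨d, hd, hda⟩ : Nonempty (mems D a) := by
    rw [← not_isEmpty_iff]
    intro he
    have := (h.odd_points a).2.pos
    rw [Nat.card_eq_zero.mpr (Or.inl he)] at this
    omega
  exact ⟨d, hd, hda⟩

/-- A two-group fixing a point centralises a member at that point. -/
theorem exists_mem_centralizing (X : Subgroup G) (hX : IsPGroup 2 X) {a : Ω}
    (hXa : ∀ x ∈ X, x • a = a) : ∃ d ∈ D, d • a = a ∧ ∀ x ∈ X, Commute x d := by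
  haveI : Fact (Nat.Prime 2) := ⟨Nat.prime_two⟩
  letI : MulAction X (mems D a) :=
    { smul := fun x d => ⟨(x : G) * d.1 * (x : G)⁻¹, h.conj d.1 d.2.1 x, by
        rw [mul_smul, mul_smul, hXa _ (inv_mem x.2), d.2.2, hXa _ x.2]⟩
      one_smul := fun d => Subtype.ext (by show (1 : G) * d.1 * (1 : G)⁻¹ = _; simp)
      mul_smul := fun x y d => Subtype.ext (by
        show ((x : G) * y) * d.1 * ((x : G) * y)⁻¹ = (x : G) * ((y : G) * d.1 * (y : G)⁻¹) * (x : G)⁻¹
        group) }
  obtain ⟨d, hd⟩ := hX.nonempty_fixed_point_of_prime_not_dvd_card (mems D a)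
    (Nat.two_dvd_ne_zero.mpr (Nat.odd_iff.mp (h.odd_points a).2))
  refine ⟨d.1, d.2.1, d.2.2, fun x hx => ?_⟩
  have h1 : x * d.1 * x⁻¹ = d.1 := congrArg Subtype.val (hd ⟨x, hx⟩)
  exact mul_inv_eq_iff_eq_mul.mp h1

theorem exists_mem_commute {u : G} (hu : u * u = 1) {a : Ω} (hua : u • a = a) :
    ∃ d ∈ D, d • a = a ∧ Commute d u := by
  haveI : Fact (Nat.Prime 2) := ⟨Nat.prime_two⟩
  obtain ⟨d, hd, hda, hc⟩ := h.exists_mem_centralizing (Subgroup.zpowers u)
    (fun x => ⟨1, by
      obtain ⟨x, j, rfl⟩ := x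
      refine Subtype.ext ?_
      show (u ^ j) ^ (2 ^ 1) = 1
      rw [pow_one, ← zpow_natCast (u ^ j), ← zpow_mul, mul_comm, zpow_mul, zpow_natCast, pow_two, hu,
        one_zpow]⟩)
    (fun x hx => Subgroup.zpowers_le.mpr (show u ∈ MulAction.stabilizer G a from hua) hx)
  exact ⟨d, hd, hda, (hc u (Subgroup.mem_zpowers u)).symm⟩

theorem evenSame : EvenSame (Ω := Ω) D := by
  intro d hd e he hev x hx
  by_contra hne
  exact Nat.not_even_iff_odd.mpr (h.odd_of_ne hd he hx hne) hev

/-- Members centralising `c` at different points are conjugate in its centraliser. -/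
theorem conj_in_cent {c d e : G} (hd : d ∈ D) (he : e ∈ D) {a : Ω} (ha : d • a = a)
    (hb : e • a ≠ a) (hdc : Commute c d) (hec : Commute c e) :
    ∃ g : G, Commute c g ∧ g * d * g⁻¹ = e := by
  obtain ⟨i, hi⟩ := h.odd_of_ne hd he ha hb
  have hd2 := h.sq hd
  refine ⟨((d * e) ^ (i + 1))⁻¹, ((hdc.mul_right hec).pow_right _).inv_right, ?_⟩
  have h1 : d * (d * e) ^ (2 * (i + 1)) = e := by
    rw [show 2 * (i + 1) = orderOf (d * e) + 1 by omega, pow_succ, pow_orderOf_eq_one, one_mul,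
      ← mul_assoc, hd2, one_mul]
  rw [inv_inv, ← dih_even hd2 (h.sq he) (i + 1), h1]

theorem singleMem (hf : Faithful G Ω) : SingleMem Ω D := by
  intro t ht hfix htD
  obtain ⟨a, hta⟩ := hfix
  by_contra hmulti
  have ht2 : t * t = 1 := by rw [← pow_two, ← ht, pow_orderOf_eq_one]
  have hsingle : ∀ b : Ω, t • b = b → b = a := fun b hb => by
    by_contra hba
    exact hmulti ⟨ht, b, a, hba, hb, hta⟩
  obtain ⟨b, hba⟩ := h.exists_ne a
  obtain ⟨d, hd, hdb⟩ := h.exists_mem b
  have htb : t • b ≠ b := fun e => hba (hsingle b e)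
  obtain ⟨m, hmo, hm⟩ := h.order_moved hd ht2 htD hdb htb
  obtain ⟨hdw, htw, he, -⟩ := h.split_pair hd ht2 hmo hm
  set w := (d * t) ^ m with hw
  set e := t * w with he'
  have hww : w * w = 1 := by rw [hw, ← pow_add, ← two_mul, ← hm, pow_orderOf_eq_one]
  have hw1 : w ≠ 1 := fun e1 => by
    have := Nat.le_of_dvd hmo.pos (orderOf_dvd_of_pow_eq_one e1)
    have := orderOf_pos (d * t)
    omega
  have hwe : Commute w e := htw.symm.mul_right (Commute.refl w)
  have hwb : w • b = b := h.fix_of_commute' hd hdw.symm hdb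
  obtain ⟨c0, hc0⟩ := h.fix_exists e he
  have hwc : w • c0 = c0 := h.fix_of_commute' he hwe hc0
  have hte : t = w * e := by rw [he', htw.eq, ← mul_assoc, hww, one_mul]
  have hbc : e • b ≠ b := fun e1 => htb (by rw [hte, mul_smul, e1, hwb])
  have hwm : IsMulti Ω w := ⟨orderOf_eq_prime (by rw [pow_two, hww]) hw1, b, c0,
    fun e1 => hbc (e1 ▸ hc0), hwb, hwc⟩
  -- all members commuting with `w` give single products
  have hconj : ∀ e' ∈ D, Commute e' w → ∃ g, Commute w g ∧ g * e * g⁻¹ = e' := by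
    intro e' he2 hc
    by_cases hsame : e' • c0 = c0
    · obtain ⟨f, hf1, hfb, hfc⟩ := h.exists_mem_commute hww hwb
      have hfne : f • c0 ≠ c0 := fun e1 => hbc (by
        rw [h.fix_unique f hf1 b c0 hfb e1]; exact hc0)
      have he'b : e' • b ≠ b := fun e1 => hbc (by
        rw [h.fix_unique e' he2 b c0 e1 hsame]; exact hc0)
      obtain ⟨g1, hg1, e1⟩ := h.conj_in_cent he hf1 hc0 hfne hwe hfc.symm
      obtain ⟨g2, hg2, e2⟩ := h.conj_in_cent hf1 he2 hfb he'b hfc.symm hc.symm
      exact ⟨g2 * g1, hg2.mul_right hg1, by rw [← e2, ← e1]; group⟩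
    · exact h.conj_in_cent he he2 hc0 hsame hwe hc.symm
  have hsing : ∀ e' ∈ D, Commute e' w → ∀ x y : Ω, (w * e') • x = x → (w * e') • y = y → x = y := by
    intro e' he2 hc x y hx hy
    obtain ⟨g, hg, rfl⟩ := hconj e' he2 hc
    have key : ∀ z : Ω, (w * (g * e * g⁻¹)) • z = z → g⁻¹ • z = a := fun z hz => hsingle _ (by
      rw [show w * (g * e * g⁻¹) = g * t * g⁻¹ by rw [hte, ← mul_assoc, ← mul_assoc, hg.eq]; group,
        mul_smul, mul_smul] at hz
      exact eq_inv_smul_iff.mpr hz)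
    exact MulAction.injective g⁻¹ ((key x hx).trans (key y hy).symm)
  -- so `w` fixes every point
  have hzero : Nat.card {d : G // d ∈ D ∧ ∀ x : Ω, d • x = x → w • x ≠ x} = 0 := by
    rw [h.movedCount w hwm, Nat.card_eq_zero]
    refine Or.inl ⟨?_⟩
    rintro ⟨⟨e', f⟩, ⟨he2, hc⟩, ⟨hfD, hfc⟩, hmv⟩
    dsimp only at hfc hmv
    obtain ⟨x, hx⟩ := h.fix_exists f hfD
    obtain ⟨y, hy⟩ := h.fix_exists e' he2
    have hvx : (w * e') • x = x := h.fix_of_commute' hfD hfc.symm hx
    have hvy : (w * e') • y = y := by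
      rw [mul_smul, hy, h.fix_of_commute' he2 hc.symm hy]
    exact hmv y hy ((hsing e' he2 hc x y hvx hvy) ▸ hx)
  refine hw1 (hf w fun z => ?_)
  by_contra hz
  obtain ⟨f, hfD, hfz⟩ := h.exists_mem z
  haveI : Nonempty {d : G // d ∈ D ∧ ∀ x : Ω, d • x = x → w • x ≠ x} :=
    ⟨⟨f, hfD, fun x hx => h.fix_unique f hfD z x hfz hx ▸ hz⟩⟩
  exact Nat.card_pos.ne' hzero

theorem mulMulti (hf : Faithful G Ω) : MulMulti Ω D := by
  intro u hu d hd hc
  obtain ⟨a, ha⟩ := h.fix_exists d hd
  have hu2 : u * u = 1 := by rw [← pow_two, ← hu.1, pow_orderOf_eq_one]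
  have hua : u • a = a := h.fix_of_commute' hd hc ha
  have hfix : (u * d) • a = a := by rw [mul_smul, ha, hua]
  have hne : u * d ≠ 1 := fun e => h.multi_not_mem hu (by
    rw [← inv_eq_of_mul_eq_one_left e, inv_eq_of_mul_eq_one_right (h.sq hd)]
    exact hd)
  have ho : orderOf (u * d) = 2 :=
    orderOf_eq_prime (by rw [hc.mul_pow, pow_two, pow_two, hu2, h.sq hd, one_mul]) hne
  refine h.singleMem hf _ ho ⟨a, hfix⟩ fun hD => ?_
  obtain ⟨x, y, hxy, hx, hy⟩ := hu.2
  obtain ⟨b, hba, hub⟩ : ∃ b, b ≠ a ∧ u • b = b := by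
    rcases eq_or_ne x a with rfl | hne'
    · exact ⟨y, hxy.symm, hy⟩
    · exact ⟨x, hne', hx⟩
  obtain ⟨f, hfD, hfb, hfu⟩ := h.exists_mem_commute hu2 hub
  have h1 : d * (u * d) = u := by rw [hc.eq, ← mul_assoc, h.sq hd, one_mul]
  have hdd : d ≠ u * d := fun e => by
    have hu1 : u = 1 := by simpa using e.symm
    have := hu.1
    rw [hu1, orderOf_one] at this
    omega
  have hfa := h.cent d hd (u * d) hD hdd (hc.symm.mul_right (Commute.refl d)) f
    (by rw [h1]; exact hfu) a ha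
  exact hba (h.fix_unique f hfD b a hfb hfa)

theorem commMul (hf : Faithful G Ω) : CommMul D := by
  intro d hd e he hne hc
  by_contra hD
  obtain ⟨a, ha⟩ := h.fix_exists d hd
  have hea : e • a = a := h.fix_of_commute' hd hc.symm ha
  have hfix : (d * e) • a = a := by rw [mul_smul, hea, ha]
  have hde : d * e ≠ 1 := fun e1 => hne (by
    rw [← inv_eq_of_mul_eq_one_left e1, inv_eq_of_mul_eq_one_right (h.sq he)])
  have hsq : (d * e) * (d * e) = 1 := by
    rw [← pow_two, hc.mul_pow, pow_two, pow_two, h.sq hd, h.sq he, one_mul]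
  obtain ⟨-, x, y, hxy, hx, hy⟩ :=
    h.singleMem hf _ (orderOf_eq_prime (by rw [pow_two, hsq]) hde) ⟨a, hfix⟩ hD
  obtain ⟨b, hba, hub⟩ : ∃ b, b ≠ a ∧ (d * e) • b = b := by
    rcases eq_or_ne x a with rfl | hne'
    · exact ⟨y, hxy.symm, hy⟩
    · exact ⟨x, hne', hx⟩
  obtain ⟨f, hfD, hfb, hfu⟩ := h.exists_mem_commute hsq hub
  exact hba (h.fix_unique f hfD b a hfb (h.cent d hd e he hne hc f hfu a ha))

end Crit

end CfsgLib.AschCrit
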