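import Cfsg.Agent.Lib.Invol.AschCrit.Basics
import Cfsg.Agent.Lib.ZStar.Main
import Cfsg.Agent.Lib.Core.Cores
import Mathlib.Algebra.Order.BigOperators.Group.Finset

/-!
Owner: helper8. Aschbacher's criterion, slice A: the members swapping two points (L7, L8).
-/

set_option autoImplicit false
set_option linter.unusedSectionVars false

namespace CfsgLib.AschCrit

variable {G : Type*} [Group G] [Finite G] {Ω : Type*} [MulAction G Ω]

/-- The elements fixing or swapping two points. -/
def pairSet (a b : Ω) : Subgroup G where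
  carrier := {g | (g • a = a ∧ g • b = b) ∨ (g • a = b ∧ g • b = a)}
  one_mem' := Or.inl ⟨one_smul _ _, one_smul _ _⟩
  mul_mem' := by
    rintro g h (⟨h1, h2⟩ | ⟨h1, h2⟩) (⟨h3, h4⟩ | ⟨h3, h4⟩) <;>
      simp only [Set.mem_setOf_eq, mul_smul, h3, h4, h1, h2, and_self, true_or, or_true]
  inv_mem' := by
    rintro g (⟨h1, h2⟩ | ⟨h1, h2⟩)
    · exact Or.inl ⟨inv_smul_eq_iff.mpr h1.symm, inv_smul_eq_iff.mpr h2.symm⟩
    · exact Or.inr ⟨inv_smul_eq_iff.mpr h2.symm, inv_smul_eq_iff.mpr h1.symm⟩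

/-- The elements fixing two points. -/
abbrev pairFix (a b : Ω) : Subgroup G := MulAction.stabilizer G a ⊓ MulAction.stabilizer G b

/-- `O(G_{ab})`. -/
abbrev pairCore (a b : Ω) : Subgroup G :=
  (Cfsg.oddCore ↥(pairFix (G := G) a b)).map (pairFix (G := G) a b).subtype

theorem pairCore_le (a b : Ω) : pairCore (G := G) a b ≤ pairFix a b := Subgroup.map_subtype_le _

theorem odd_pairCore (a b : Ω) : Odd (Nat.card (pairCore (G := G) a b)) := by
  rw [Subgroup.card_map_of_injective (Subgroup.subtype_injective _)]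
  exact ZStar.odd_card_oddCore _

namespace Crit

variable {D : Set G} (h : Crit Ω D)
include h

theorem swap_back' {t : G} (ht : t ∈ D) {a b : Ω} (hta : t • a = b) : t • b = a := by
  rw [← hta, smul_smul, h.sq ht, one_smul]

/-- Two commuting swappers of a pair are equal. -/
theorem swappers_eq_of_commute (hf : Faithful G Ω) {a b : Ω} (hab : a ≠ b) {t s : G} (ht : t ∈ D)
    (hs : s ∈ D) (hta : t • a = b) (hsa : s • a = b) (hc : Commute t s) : t = s := by
  by_contra hne
  have hts := h.commMul hf t ht s hs hne hc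
  refine hab (h.fix_unique _ hts a b ?_ ?_)
  · rw [mul_smul, hsa, h.swap_back' ht hta]
  · rw [mul_smul, h.swap_back' hs hsa, hta]

/-- Two swappers of a pair have a product of odd order. -/
theorem odd_swappers (hf : Faithful G Ω) {a b : Ω} (hab : a ≠ b) {t s : G} (ht : t ∈ D)
    (hs : s ∈ D) (hta : t • a = b) (hsa : s • a = b) : Odd (orderOf (t * s)) := by
  rw [← Nat.not_even_iff_odd]
  rintro ⟨m, hm⟩
  have ht2 := h.sq ht
  have hs2 := h.sq hs
  set c := (t * s) ^ m with hc
  have hcc : c * c = 1 := by rw [hc, ← pow_add, ← hm, pow_orderOf_eq_one]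
  have hci : c⁻¹ = c := inv_eq_of_mul_eq_one_right hcc
  have htc : Commute t c := by
    show t * c = c * t
    conv_rhs => rw [← hci, hc, ← dih_pow ht2 hs2 m]
    rw [mul_assoc, ht2, mul_one]
  have hcfix : c • a = a := by
    have : t * s ∈ MulAction.stabilizer G a := by
      show (t * s) • a = a
      rw [mul_smul, hsa, h.swap_back' ht hta]
    exact pow_mem this m
  have htcD : t * c ∈ D := by
    rcases Nat.even_or_odd m with ⟨i, hi⟩ | ⟨i, hi⟩
    · rw [hc, hi, ← two_mul, dih_even ht2 hs2 i]; exact h.conjBack ht _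
    · rw [hc, hi, dih_odd ht2 hs2 i]; exact h.conjBack hs _
  have heq := h.swappers_eq_of_commute hf hab ht htcD hta (by rw [mul_smul, hcfix, hta])
    ((Commute.refl t).mul_right htc)
  have hc1 : c = 1 := mul_left_cancel (a := t) (by rw [mul_one]; exact heq.symm)
  have hpos := orderOf_pos (t * s)
  have := Nat.le_of_dvd (by omega) (orderOf_dvd_of_pow_eq_one hc1)
  omega

/-- A swapper is isolated in the set stabiliser. -/
theorem isolated_swapper (hf : Faithful G Ω) {a b : Ω} (hab : a ≠ b) {t : G} (ht : t ∈ D)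
    (hta : t • a = b) :
    Cfsg.IsIsolatedInvolution (⟨t, Or.inr ⟨hta, h.swap_back' ht hta⟩⟩ : pairSet (G := G) a b) := by
  refine ⟨(Subgroup.orderOf_coe _).symm.trans (h.inv t ht), ?_⟩
  rintro ⟨g, hg⟩ hc
  refine Subtype.ext (h.swappers_eq_of_commute hf hab ht (h.conj t ht g) hta ?_ ?_).symm
  · have hb := h.swap_back' ht hta
    rcases hg with ⟨h1, h2⟩ | ⟨h1, h2⟩
    · rw [mul_smul, mul_smul, inv_smul_eq_iff.mpr h1.symm, hta, h2]
    · rw [mul_smul, mul_smul, inv_smul_eq_iff.mpr h2.symm, hb, h1]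
  · exact congrArg Subtype.val hc

/-- Elements of odd order of the set stabiliser fix both points. -/
theorem mem_pairFix_of_odd {a b : Ω} (hab : a ≠ b) {g : G} (hg : g ∈ pairSet a b)
    (hodd : Odd (orderOf g)) : g ∈ pairFix a b := by
  rcases hg with ⟨h1, h2⟩ | ⟨h1, h2⟩
  · exact ⟨h1, h2⟩
  · exfalso
    obtain ⟨m, hm⟩ := hodd
    have hsq : g ^ 2 ∈ MulAction.stabilizer G a := by
      show g ^ 2 • a = a
      rw [pow_two, mul_smul, h1, h2]
    have h3 : g ^ (2 * m) • a = a := by
      rw [pow_mul]; exact pow_mem hsq m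
    have h4 : g ^ (2 * m + 1) • a = b := by rw [pow_succ', mul_smul, h3, h1]
    rw [← hm, pow_orderOf_eq_one, one_smul] at h4
    exact hab h4

/-- Two swappers differ by an element of `O(G_ab)`. -/
theorem mul_mem_pairCore (hf : Faithful G Ω) {a b : Ω} (hab : a ≠ b) {t s : G} (ht : t ∈ D)
    (hs : s ∈ D) (hta : t • a = b) (hsa : s • a = b) : s * t ∈ pairCore a b := by
  classical
  set H := pairSet (G := G) a b with hH
  have hbt := h.swap_back' ht hta
  have hbs := h.swap_back' hs hsa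
  let t' : H := ⟨t, Or.inr ⟨hta, hbt⟩⟩
  let s' : H := ⟨s, Or.inr ⟨hsa, hbs⟩⟩
  have hodd := h.odd_swappers hf hab ht hs hta hsa
  obtain ⟨i, hi⟩ := hodd
  -- `s` is a conjugate of `t` in the set stabiliser
  have hst : s = ((t * s) ^ (i + 1))⁻¹ * t * (t * s) ^ (i + 1) := by
    rw [← dih_even (h.sq ht) (h.sq hs) (i + 1), show 2 * (i + 1) = orderOf (t * s) + 1 by omega,
      pow_succ, pow_orderOf_eq_one, one_mul, ← mul_assoc, h.sq ht, one_mul]
  have hiso := ZStar.mem_oddCore_of_isolated (h.isolated_swapper hf hab ht hta)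
    (((t' * s') ^ (i + 1))⁻¹)
  set g' : H := ((t' * s') ^ (i + 1))⁻¹ with hg'
  have hval : ((t' * g' * t'⁻¹ * g'⁻¹ : H) : G) = t * s := by
    conv_rhs => rw [hst]
    rw [hg']
    push_cast
    rw [inv_eq_of_mul_eq_one_right (h.sq ht), inv_inv]
    simp only [t', s', mul_assoc]
  set O := Cfsg.oddCore H with hO
  have hfix : ∀ x ∈ O, (x : G) ∈ pairFix a b := fun x hx => h.mem_pairFix_of_odd hab x.2 (by
    rw [Subgroup.orderOf_coe]
    refine Odd.of_dvd_nat (ZStar.odd_card_oddCore H) ?_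
    have := orderOf_dvd_natCard (⟨x, hx⟩ : O)
    rwa [Subgroup.orderOf_mk] at this)
  let O2 : Subgroup (pairFix (G := G) a b) := (O.map H.subtype).subgroupOf (pairFix a b)
  haveI hOn : O2.Normal := by
    refine ⟨fun x hx y => ?_⟩
    obtain ⟨z, hz, hzx⟩ := Subgroup.mem_subgroupOf.mp hx
    have hyH : (y : G) ∈ H := Or.inl ⟨y.2.1, y.2.2⟩
    refine Subgroup.mem_subgroupOf.mpr ⟨⟨(y : G), hyH⟩ * z * ⟨(y : G), hyH⟩⁻¹,
      (inferInstance : O.Normal).conj_mem z hz _, ?_⟩
    show (y : G) * (z : G) * (y : G)⁻¹ = _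
    rw [show (z : G) = (x : G) from hzx]
    rfl
  have hOle : O2 ≤ Cfsg.oddCore (pairFix (G := G) a b) := by
    refine ZStar.le_oddCore hOn ?_
    rw [Nat.card_congr (Subgroup.subgroupOfEquivOfLe (show O.map H.subtype ≤ pairFix a b by
      rintro _ ⟨x, hx, rfl⟩; exact hfix x hx)).toEquiv,
      Subgroup.card_map_of_injective H.subtype_injective]
    exact ZStar.odd_card_oddCore H
  have hts : t * s ∈ pairCore a b :=
    ⟨⟨t * s, hval ▸ hfix _ hiso⟩, hOle (Subgroup.mem_subgroupOf.mpr ⟨_, hiso, hval⟩), rfl⟩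
  have := inv_mem hts
  rwa [mul_inv_rev, inv_eq_of_mul_eq_one_right (h.sq ht),
    inv_eq_of_mul_eq_one_right (h.sq hs)] at this

/-- `O(G_ab)` is transitive on the members at `a`. -/
theorem exists_conj_pairCore (hf : Faithful G Ω) {a b : Ω} (hab : a ≠ b) {d d' : G} (hd : d ∈ D)
    (hd' : d' ∈ D) (ha : d • a = a) (ha' : d' • a = a) :
    ∃ g ∈ pairCore a b, g * d * g⁻¹ = d' := by
  obtain ⟨e, he, heb⟩ := h.exists_mem b
  have key : ∀ d ∈ D, d • a = a → ∃ t ∈ D, t • a = b ∧ t * d * t⁻¹ = e := by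
    intro d hd ha
    have hne : e • a ≠ a := fun e1 => hab (h.fix_unique e he a b e1 heb)
    obtain ⟨i, hi⟩ := h.odd_of_ne hd he ha hne
    have hd2 := h.sq hd
    have he2 := h.sq he
    have htD : d * (d * e) ^ (i + 1) ∈ D := by
      rcases Nat.even_or_odd (i + 1) with ⟨j, hj⟩ | ⟨j, hj⟩
      · rw [hj, ← two_mul, dih_even hd2 he2 j]; exact h.conjBack hd _
      · rw [hj, dih_odd hd2 he2 j]; exact h.conjBack he _
    have htd : d * (d * e) ^ (i + 1) * d * (d * (d * e) ^ (i + 1)) = e := by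
      have h1 : d * d * (d * e) ^ (i + 1) = (d * e) ^ (i + 1) := by rw [hd2, one_mul]
      calc d * (d * e) ^ (i + 1) * d * (d * (d * e) ^ (i + 1))
          = d * (d * e) ^ (i + 1) * (d * d * (d * e) ^ (i + 1)) := by simp only [mul_assoc]
        _ = d * ((d * e) ^ (i + 1) * (d * e) ^ (i + 1)) := by rw [h1, mul_assoc]
        _ = d * ((d * e) ^ orderOf (d * e) * (d * e)) := by
          rw [← pow_add, ← pow_succ, hi]; ring_nf
        _ = e := by rw [pow_orderOf_eq_one, one_mul, ← mul_assoc, hd2, one_mul]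
    set t := d * (d * e) ^ (i + 1) with ht
    have hti : t⁻¹ = t := inv_eq_of_mul_eq_one_right (h.sq htD)
    refine ⟨t, htD, h.fix_unique e he _ _ ?_ heb, by rw [hti]; exact htd⟩
    calc e • t • a = (t * d * (t * t)) • a := by rw [smul_smul, ← htd]; simp only [mul_assoc]
      _ = t • a := by rw [h.sq htD, mul_one, mul_smul, ha]
  obtain ⟨t, ht, hta, htd⟩ := key d hd ha
  obtain ⟨s, hs, hsa, hsd⟩ := key d' hd' ha'
  refine ⟨s * t, h.mul_mem_pairCore hf hab ht hs hta hsa, ?_⟩
  calc s * t * d * (s * t)⁻¹ = s * (t * d * t⁻¹) * s⁻¹ := by group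
    _ = s * (s * d' * s⁻¹) * s := by rw [htd, ← hsd, inv_eq_of_mul_eq_one_right (h.sq hs)]
    _ = (s * s) * d' * (s⁻¹ * s) := by group
    _ = d' := by rw [h.sq hs, inv_mul_cancel, one_mul, mul_one]

/-- `M = C(d) O(G_ab)`. -/
theorem exists_factor (hf : Faithful G Ω) {a b : Ω} (hab : a ≠ b) {d : G} (hd : d ∈ D)
    (ha : d • a = a) {x : G} (hx : x • a = a) :
    ∃ c y : G, Commute c d ∧ y ∈ pairCore a b ∧ x = y * c := by
  obtain ⟨g, hg, hgd⟩ := h.exists_conj_pairCore hf hab hd (h.conj d hd x) ha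
    (by rw [mul_smul, mul_smul, inv_smul_eq_iff.mpr hx.symm, ha, hx])
  refine ⟨g⁻¹ * x, g, ?_, hg, (mul_inv_cancel_left g x).symm⟩
  show g⁻¹ * x * d = d * (g⁻¹ * x)
  calc g⁻¹ * x * d = g⁻¹ * (x * d * x⁻¹) * x := by group
    _ = g⁻¹ * (g * d * g⁻¹) * x := by rw [hgd]
    _ = _ := by group

/-- Conjugation of a member at `a` by the swappers of `a` and `b` meets each member at `b` once. -/
theorem swap_bijective {a b : Ω} (hab : a ≠ b) {d : G} (hd : d ∈ D) (ha : d • a = a) :
    Function.Bijective (fun t : {t : G // t ∈ D ∧ t • a = b} =>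
      (⟨t.1 * d * t.1, by
        have := h.conj d hd t.1
        rwa [inv_eq_of_mul_eq_one_right (h.sq t.2.1)] at this,
        by rw [mul_smul, mul_smul, h.swap_back' t.2.1 t.2.2, ha, t.2.2]⟩ : mems D b)) := by
  classical
  haveI := h.finite_points
  haveI : Fintype Ω := Fintype.ofFinite Ω
  let sw : Ω → Type _ := fun c => {t : G // t ∈ D ∧ t • a = c}
  let f : (c : Ω) → sw c → mems D c := fun c t => ⟨t.1 * d * t.1, by
        have := h.conj d hd t.1
        rwa [inv_eq_of_mul_eq_one_right (h.sq t.2.1)] at this,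
        by rw [mul_smul, mul_smul, h.swap_back' t.2.1 t.2.2, ha, t.2.2]⟩
  have hsur : ∀ c, a ≠ c → Function.Surjective (f c) := by
    rintro c hac ⟨e, he, hec⟩
    have hne : e • a ≠ a := fun e1 => hac (h.fix_unique e he a c e1 hec)
    obtain ⟨i, hi⟩ := h.odd_of_ne hd he ha hne
    have hd2 := h.sq hd
    have he2 := h.sq he
    set t := d * (d * e) ^ (i + 1) with ht
    have htD : t ∈ D := by
      rcases Nat.even_or_odd (i + 1) with ⟨j, hj⟩ | ⟨j, hj⟩
      · rw [ht, hj, ← two_mul, dih_even hd2 he2 j]; exact h.conjBack hd _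
      · rw [ht, hj, dih_odd hd2 he2 j]; exact h.conjBack he _
    have htd : t * d * t = e := by
      have h1 : d * d * (d * e) ^ (i + 1) = (d * e) ^ (i + 1) := by rw [hd2, one_mul]
      calc t * d * t = d * (d * e) ^ (i + 1) * (d * d * (d * e) ^ (i + 1)) := by
            simp only [ht, mul_assoc]
        _ = d * ((d * e) ^ (i + 1) * (d * e) ^ (i + 1)) := by rw [h1, mul_assoc]
        _ = d * ((d * e) ^ orderOf (d * e) * (d * e)) := by
          rw [← pow_add, ← pow_succ, hi]; ring_nf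
        _ = e := by rw [pow_orderOf_eq_one, one_mul, ← mul_assoc, hd2, one_mul]
    refine ⟨⟨t, htD, h.fix_unique e he _ _ ?_ hec⟩, Subtype.ext htd⟩
    calc e • t • a = (t * d * (t * t)) • a := by rw [smul_smul, ← htd]; simp only [mul_assoc]
      _ = t • a := by rw [h.sq htD, mul_one, mul_smul, ha]
  set k := Nat.card (mems D a) with hk
  have hge : ∀ c, a ≠ c → k ≤ Nat.card (sw c) := fun c hac =>
    (h.card_mems_eq a c).le.trans (Nat.card_le_card_of_surjective _ (hsur c hac))
  have e : D ≃ Σ c : Ω, sw c :=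
    { toFun := fun t => ⟨t.1 • a, t.1, t.2, rfl⟩
      invFun := fun x => ⟨x.2.1, x.2.2.1⟩
      left_inv := fun t => rfl
      right_inv := fun x => by
        obtain ⟨c, t, ht, rfl⟩ := x
        rfl }
  have htot : Nat.card D = ∑ c : Ω, Nat.card (sw c) := by rw [Nat.card_congr e, Nat.card_sigma]
  have ha0 : Nat.card (sw a) = k := rfl
  rw [h.card_D a, Nat.card_eq_fintype_card (α := Ω)] at htot
  have heq : Nat.card (sw b) ≤ k := by
    by_contra hlt
    push Not at hlt
    have := Finset.sum_lt_sum (s := (Finset.univ : Finset Ω)) (f := fun _ => k)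
      (g := fun c => Nat.card (sw c)) (fun c _ => by
        by_cases hac : a = c
        · subst hac; exact ha0.ge
        · exact hge c hac) ⟨b, Finset.mem_univ _, hlt⟩
    rw [← htot, Finset.sum_const, smul_eq_mul, Finset.card_univ] at this
    exact lt_irrefl _ this
  exact (hsur b hab).bijective_of_nat_card_le (heq.trans (h.card_mems_eq a b).le)

/-- There are exactly `k` swappers. -/
theorem card_swappers {a b : Ω} (hab : a ≠ b) :
    Nat.card {t : G // t ∈ D ∧ t • a = b} = Nat.card (mems D b) :=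
  let ⟨_, hd, ha⟩ := h.exists_mem a
  Nat.card_eq_of_bijective _ (h.swap_bijective hab hd ha)

/-- An element fixing two points, centralising a member at one and inverted by a swapper of odd
order is trivial. -/
theorem eq_one_of_inverted {a b : Ω} (hab : a ≠ b) {d y t : G} (hd : d ∈ D)
    (ha : d • a = a) (hyd : Commute y d) (hya : y • a = a) (hyb : y • b = b) (ht : t ∈ D)
    (hta : t • a = b) (hinv : t * y * t = y⁻¹) (hodd : Odd (orderOf y)) : y = 1 := by
  set s := y * t * y⁻¹ with hs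
  have hsD : s ∈ D := h.conj t ht y
  have hsa : s • a = b := by
    rw [hs, mul_smul, mul_smul, inv_smul_eq_iff.mpr hya.symm, hta, hyb]
  have h1 : s * d * s = t * d * t := by
    have hyd' : y⁻¹ * d * y = d := by rw [mul_assoc, ← hyd.eq, inv_mul_cancel_left]
    have htyt : t * y⁻¹ * t = y := by
      have : t * y⁻¹ * t = t * (t * y * t) * t := by rw [hinv]
      rw [this, show t * (t * y * t) * t = (t * t) * y * (t * t) by group, h.sq ht, one_mul, mul_one]
    have hyt : y * t = t * y⁻¹ := by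
      calc y * t = t * y⁻¹ * t * t := by rw [htyt]
        _ = t * y⁻¹ := by rw [mul_assoc, h.sq ht, mul_one]
    calc s * d * s = y * t * (y⁻¹ * d * y) * t * y⁻¹ := by rw [hs]; group
      _ = y * t * d * (t * y⁻¹) := by rw [hyd']; group
      _ = t * (y⁻¹ * d * y) * t := by
        have e2 : t * y⁻¹ = y * t := hyt.symm
        calc y * t * d * (t * y⁻¹) = t * y⁻¹ * d * (y * t) := by rw [e2]
          _ = _ := by simp only [mul_assoc]
      _ = t * d * t := by rw [hyd']
  have h2 := (h.swap_bijective hab hd ha).1 (a₁ := ⟨s, hsD, hsa⟩) (a₂ := ⟨t, ht, hta⟩)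
    (Subtype.ext h1)
  have h3 : y * t * y⁻¹ = t := congrArg Subtype.val h2
  have h4 : t * y * t = y := by
    rw [mul_inv_eq_iff_eq_mul.mp h3 |>.symm, mul_assoc, h.sq ht, mul_one]
  rw [hinv] at h4
  exact ZStar.eq_one_of_odd_of_sq hodd (by rw [pow_two]; nth_rw 1 [← h4]; exact inv_mul_cancel y)

end Crit

end CfsgLib.AschCrit
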