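import Cfsg.Agent.Lib.Invol.AschCrit.FrameBasic
import Cfsg.Agent.Lib.Invol.AschCrit.Swap
import Cfsg.Agent.Lib.Invol.RankOneInter.Final.Names

/-!
Owner: helper18. Aschbacher's criterion, slice D: the Bender group on the fixed points of a multi and the
elements centralising the multi.

* `Bend`, `Crit.bend`: the group on `Fix u`, its setup, and `E` as its involutions at the point.
* `fixPermOf`: the action of an element centralising `u` on `Fix u`.
* `Crit.exists_swapper_centralised`: a swapper centralised by a 2-group at two points.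
* `Crit.fixPermOf_commute`: it commutes with the inverted elements moving `e` to `f` if it commutes with both.
-/

set_option autoImplicit false
set_option linter.unusedSectionVars false

namespace CfsgLib.AschCrit

open Subgroup MulAction CfsgLib.Lie.RankOne CfsgLib.Lie.RankOneClass
open CfsgLib.OddTransitive.RankOne (involutionGroup exists_cyclic)

universe u v

variable {G : Type u} [Group G] [Finite G] {Ω : Type v} [MulAction G Ω]

/-- A fixed point of `u` as such. -/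
abbrev fixPt {u : G} {a : Ω} (ha : u • a = a) : MulAction.fixedBy Ω u := ⟨a, ha⟩

/-- An element centralising `u` on the fixed points of `u`. -/
def fixPermOf {u g : G} (hg : Commute g u) : Equiv.Perm (MulAction.fixedBy Ω u) where
  toFun p := ⟨g • (p : Ω), by
    show u • (g • (p : Ω)) = g • (p : Ω)
    rw [← mul_smul, ← hg.eq, mul_smul, show u • (p : Ω) = p from p.2]⟩
  invFun p := ⟨g⁻¹ • (p : Ω), by
    show u • (g⁻¹ • (p : Ω)) = g⁻¹ • (p : Ω)
    rw [← mul_smul, ← hg.inv_left.eq, mul_smul, show u • (p : Ω) = p from p.2]⟩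
  left_inv p := Subtype.ext (inv_smul_smul g (p : Ω))
  right_inv p := Subtype.ext (smul_inv_smul g (p : Ω))

theorem fixPermOf_apply {u g : G} (hg : Commute g u) (p : MulAction.fixedBy Ω u) :
    ((fixPermOf hg p : MulAction.fixedBy Ω u) : Ω) = g • (p : Ω) := rfl

/-- It conjugates the group on the fixed points as `g` conjugates `<D cap C(u)>`. -/
theorem fixPermOf_conj {D : Set G} (h : Crit Ω D) {u g : G} (hg : Commute g u) (x : cGrp D u) :
    fixPermOf (Ω := Ω) hg * (cProj Ω D u x : Equiv.Perm (MulAction.fixedBy Ω u)) * (fixPermOf (Ω := Ω) hg)⁻¹ =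
      (cProj Ω D u (conjCGrp h hg x) : Equiv.Perm (MulAction.fixedBy Ω u)) := by
  refine Equiv.ext fun p => Subtype.ext ?_
  show g • ((x : G) • (g⁻¹ • (p : Ω))) = ((conjCGrp h hg x : cGrp D u) : G) • (p : Ω)
  rw [conjCGrp_coe, mul_smul, mul_smul]

theorem fixPermOf_commute_proj {D : Set G} {u g : G} (hg : Commute g u) {x : cGrp D u} (hc : Commute g (x : G)) :
    Commute (fixPermOf (Ω := Ω) hg) (cProj Ω D u x : Equiv.Perm (MulAction.fixedBy Ω u)) := by
  refine Equiv.ext fun p => Subtype.ext ?_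
  show g • ((x : G) • (p : Ω)) = (x : G) • (g • (p : Ω))
  rw [← mul_smul, hc.eq, mul_smul]

/-- The Bender group on the fixed points of a multi with the data `E`, `q`, `i`. -/
structure Bend (D : Set G) {u : G} {a : Ω} (ha : u • a = a) (E : Subgroup G) (q i : ℕ)
    (U : Subgroup (cImage Ω D u)) : Prop where
  simple : IsSimpleGroup (cImage Ω D u)
  rank : ∃ x y : cImage Ω D u, x ≠ 1 ∧ y ≠ 1 ∧ x ≠ y ∧ x * x = 1 ∧ y * y = 1 ∧ x * y = y * x
  two : IsPGroup 2 U
  setup : ∀ t : cImage Ω D u, t * t = 1 → t • fixPt ha ≠ fixPt ha →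
    Cfsg.IsRankOneSetup (cImage Ω D u) (MulAction.fixedBy Ω u) (fixPt ha) t U
  memE : ∀ e ∈ E, e ∈ cGrp D u
  J_mem : ∀ e (he : e ∈ E), e ≠ 1 → cProj Ω D u ⟨e, memE e he⟩ ∈
    Cfsg.involutionsIn (stabilizer (cImage Ω D u) (fixPt ha) : Set (cImage Ω D u))
  J_onto : ∀ z ∈ Cfsg.involutionsIn (stabilizer (cImage Ω D u) (fixPt ha) : Set (cImage Ω D u)),
    ∃ e, ∃ he : e ∈ E, e ≠ 1 ∧ cProj Ω D u ⟨e, memE e he⟩ = z
  inj : ∀ e (he : e ∈ E) f (hf : f ∈ E), cProj Ω D u ⟨e, memE e he⟩ = cProj Ω D u ⟨f, memE f hf⟩ → e = f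
  qq_eq : qq (cImage Ω D u) (fixPt ha) = q
  card_U : Nat.card U = q ^ i

namespace Crit

variable {D : Set G} (h : Crit Ω D)
include h

/-- A 2-subgroup of a group at the point centralising `u` and containing `E` has its members moved into `E`. -/
theorem exists_conj_into {u : G} {a b : Ω} {E : Subgroup G} {q i : ℕ} (hl : LData D u a b E q i) (P R : Subgroup G)
    (hP : ∀ x ∈ P, Commute x u ∧ x • a = a) (hEP : E ≤ P) (hR : IsPGroup 2 R) (hRP : R ≤ P) :
    ∃ z ∈ P, ∀ r ∈ R, r ∈ D → z * r * z⁻¹ ∈ E := by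
  haveI := Fact.mk Nat.prime_two
  obtain ⟨S, hS⟩ := ((h.isPGroup_memGroup (F := E) ⟨hl.mem, hl.comm⟩).comap_subtype (K := P)).exists_le_sylow
  obtain ⟨T, hT⟩ := (hR.comap_subtype (K := P)).exists_le_sylow
  obtain ⟨⟨z, hz⟩, hzT⟩ := MulAction.exists_smul_eq P T S
  refine ⟨z, hz, fun r hr hrD => ?_⟩
  obtain ⟨hzu, hza⟩ := hP z hz
  obtain ⟨hru, hra⟩ := hP r (hRP hr)
  refine hl.maximal ((S : Subgroup P).map P.subtype) (S.isPGroup'.map _) (fun y hy => ⟨⟨y, hEP hy⟩, hS hy, rfl⟩) _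
    ⟨⟨z, hz⟩ * ⟨r, hRP hr⟩ * ⟨z, hz⟩⁻¹, ?_, by simp⟩ ?_
  · rw [← hzT, SetLike.mem_coe, Sylow.coe_subgroup_smul, Subgroup.mem_pointwise_smul_iff_inv_smul_mem]
    convert hT (show (⟨r, hRP hr⟩ : P) ∈ R.comap P.subtype from hr) using 1
    show (MulAut.conj (⟨z, hz⟩ : P))⁻¹ _ = _
    rw [← map_inv, MulAut.conj_apply, inv_inv]
    group
  · have := h.memsC_conj (u := u) (a := a) ⟨hrD, hra, hru⟩ z
    rwa [hzu.eq, mul_inv_cancel_right, hza] at this

/-- The Bender group on the fixed points. -/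
theorem bend (hf : Faithful G Ω) (IH : Below.{v, v} (Nat.card G)) {u : G} {a b : Ω} {E : Subgroup G} {q i : ℕ}
    (hu : IsMulti Ω u) (hl : LData D u a b E q i) : ∃ U, Bend D hl.fix_a E q i U := by
  classical
  haveI := Fact.mk Nat.prime_two
  haveI := h.finite_points
  have hfL : Faithful (cImage Ω D u) (MulAction.fixedBy Ω u) := fun g hg => Subtype.ext (Equiv.ext hg)
  haveI : FaithfulSMul (cImage Ω D u) (MulAction.fixedBy Ω u) := faithfulSMul_iff.2 hfL
  have hL := h.cImage_crit hu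
  have hn := h.cImage_noMulti hf IH hu
  have hr : ¬ RankOne (cImage Ω D u) := fun hr =>
    h.not_rankOneAt (F := E) ⟨hl.mem, hl.comm⟩ (hl.card_E.symm ▸ four_le_q hl) (h.rankOneAt hu hr a)
  set a' := fixPt hl.fix_a with ha'
  set b' := fixPt hl.fix_b with hb'
  have hab' : b' ≠ a' := fun e => hl.ne (congrArg Subtype.val e).symm
  obtain ⟨h2, U, hUp, hset, hsw⟩ := hL.exists_setup hfL hn hr a'
  obtain ⟨t, htD, hta⟩ := hsw b' hab'
  have hS := hset t (hL.sq htD) (hta ▸ hab')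
  set π := cProj Ω D u with hπ
  have hπsurj : Function.Surjective π := MonoidHom.rangeRestrict_surjective _
  have hEc : ∀ e ∈ E, e ∈ cGrp D u := fun e he => by
    rcases eq_or_ne e 1 with h1 | h1
    · rw [h1]; exact one_mem _
    · exact mem_cGrp (hl.mem e he h1).1 (hl.mem e he h1).2.2
  have hJm : ∀ e (he : e ∈ E), e ≠ 1 →
      π ⟨e, hEc e he⟩ ∈ Cfsg.involutionsIn (stabilizer (cImage Ω D u) a' : Set (cImage Ω D u)) :=
    fun e he he1 => ⟨Subtype.ext (hl.mem e he he1).2.1, hL.ne_one' (h.cProj_mem (hl.mem e he he1).1),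
      hL.sq (h.cProj_mem (hl.mem e he he1).1)⟩
  have hone : ∀ e (he : e ∈ E), π ⟨e, hEc e he⟩ = 1 → e = 1 := fun e he he0 =>
    by_contra fun he1 => (hJm e he he1).2.1 he0
  have hinj : ∀ e (he : e ∈ E) f (hf : f ∈ E), π ⟨e, hEc e he⟩ = π ⟨f, hEc f hf⟩ → e = f := by
    intro e he f hff hef
    rcases eq_or_ne e 1 with rfl | he1
    · exact (hone f hff (hef.symm.trans (map_one π))).symm
    rcases eq_or_ne f 1 with rfl | hf1
    · exact hone e he (hef.trans (map_one π))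
    exact congrArg Subtype.val (h.eq_of_cProj_eq hu (d := ⟨e, hEc e he⟩) (e := ⟨f, hEc f hff⟩) (hl.mem e he he1).1
      (hl.mem f hff hf1).1 (hl.comm e he f hff) hef)
  set Z := involutionGroup hS h2 with hZ
  have hZU : Z ≤ U := by
    rintro z (rfl | hz)
    · exact one_mem _
    · exact CfsgLib.Lie.RankOne.J_mem_Q hS hz
  set P : Subgroup G := (Z.comap π).map (cGrp D u).subtype with hP
  have hPu : ∀ x ∈ P, Commute x u ∧ x • a = a := by
    rintro _ ⟨w, hw, rfl⟩
    exact ⟨commute_of_mem_cGrp w.2, congrArg Subtype.val (hS.le (hZU hw))⟩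
  have hEP : E ≤ P := fun e he => by
    refine ⟨⟨e, hEc e he⟩, ?_, rfl⟩
    show π ⟨e, hEc e he⟩ ∈ Z
    rcases eq_or_ne e 1 with h1 | h1
    · subst h1; exact Or.inl (map_one π)
    · exact Or.inr (hJm e he h1)
  have honto : ∀ z ∈ Cfsg.involutionsIn (stabilizer (cImage Ω D u) a' : Set (cImage Ω D u)),
      ∃ e, ∃ he : e ∈ E, e ≠ 1 ∧ π ⟨e, hEc e he⟩ = z := by
    intro z hz
    obtain ⟨d, hd, hde⟩ := hL.mem_of_noMulti hfL hn (orderOf_eq_prime (by rw [pow_two, hz.2.2]) hz.2.1) hz.1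
    have hde' : π d = z := hde
    have hdP : (d : G) ∈ P := ⟨d, by show π d ∈ Z; rw [hde']; exact Or.inr hz, rfl⟩
    obtain ⟨w, hwP, hw⟩ := h.exists_conj_into hl P (zpowers (d : G)) hPu hEP
      (IsPGroup.of_card (n := 1) (by rw [Nat.card_zpowers, pow_one]; exact h.inv _ hd)) (zpowers_le.2 hdP)
    obtain ⟨w', hw', hww⟩ := hwP
    have he := hw _ (mem_zpowers _) hd
    refine ⟨w * d * w⁻¹, he, fun e1 => h.ne_one' hd (conj_eq_one_iff.1 e1), ?_⟩
    rw [show (⟨w * (d : G) * w⁻¹, hEc _ he⟩ : cGrp D u) = w' * d * w'⁻¹ from Subtype.ext (by subst hww; simp),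
      map_mul, map_mul, map_inv, hde', ← J_central hS h2 hz (hZU hw'), mul_inv_cancel_right]
  have hqq : qq (cImage Ω D u) a' = q := by
    rw [← card_involutionGroup hS h2, ← hl.card_E]
    refine (Nat.card_eq_of_bijective (fun e : E => (⟨π ⟨e, hEc e e.2⟩, ?_⟩ : Z)) ⟨fun e f hef => ?_, fun z => ?_⟩).symm
    · rcases eq_or_ne (e : G) 1 with h1 | h1
      · exact Or.inl (by rw [show (⟨(e : G), hEc e e.2⟩ : cGrp D u) = 1 from Subtype.ext h1, map_one])
      · exact Or.inr (hJm e e.2 h1)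
    · exact Subtype.ext (hinj _ e.2 _ f.2 (congrArg Subtype.val hef))
    · rcases z.2 with h1 | h1
      · exact ⟨1, Subtype.ext ((map_one π).trans h1.symm)⟩
      · obtain ⟨e, he, -, hee⟩ := honto _ h1
        exact ⟨⟨e, he⟩, Subtype.ext hee⟩
  refine ⟨U, ⟨?_, h2, hUp, hset, hEc, hJm, honto, hinj, hqq, ?_⟩⟩
  · have hfam := (hL.rankOne_or_family hfL hn).resolve_left hr
    haveI := CfsgLib.RankOneInter.Final.isSimple_of_family hfam
    have htop : Cfsg.pElementClosure 2 (⊤ : Subgroup (cImage Ω D u)) = ⊤ := by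
      rw [eq_top_iff]
      refine le_of_eq_of_le (closure_cImageMems (Ω := Ω) (D := D) u).symm ((Subgroup.closure_le _).2 ?_)
      intro d hd
      show d ∈ Cfsg.pElementClosure 2 (⊤ : Subgroup (cImage Ω D u))
      exact Subgroup.subset_closure ⟨Subgroup.mem_top d, 1, by rw [pow_one]; exact hL.inv d hd⟩
    exact ((MulEquiv.subgroupCongr htop).trans Subgroup.topEquiv).isSimpleGroup_congr.1 inferInstance
  · have h1 := (card_points hS).2
    have h3 : Nat.card (MulAction.fixedBy Ω u) = q ^ i + 1 := hl.card_fix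
    omega

/-- A swapper centralised by a 2-group at two points. -/
theorem exists_swapper_centralised {a b : Ω} (hab : a ≠ b) (X : Subgroup G) (hX : IsPGroup 2 X)
    (hXab : ∀ x ∈ X, x • a = a ∧ x • b = b) : ∃ t ∈ D, t • a = b ∧ ∀ x ∈ X, Commute x t := by
  haveI : Fact (Nat.Prime 2) := ⟨Nat.prime_two⟩
  haveI := h.finite_points
  letI : MulAction X {t : G // t ∈ D ∧ t • a = b} :=
    { smul := fun x d => ⟨(x : G) * d.1 * (x : G)⁻¹, h.conj d.1 d.2.1 x, by
        rw [mul_smul, mul_smul, (hXab _ (inv_mem x.2)).1, d.2.2, (hXab _ x.2).2]⟩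
      one_smul := fun d => Subtype.ext (by show (1 : G) * d.1 * (1 : G)⁻¹ = _; simp)
      mul_smul := fun x y d => Subtype.ext (by
        show ((x : G) * y) * d.1 * ((x : G) * y)⁻¹ = (x : G) * ((y : G) * d.1 * (y : G)⁻¹) * (x : G)⁻¹
        group) }
  obtain ⟨d, hd⟩ := hX.nonempty_fixed_point_of_prime_not_dvd_card {t : G // t ∈ D ∧ t • a = b} (by
    rw [h.card_swappers hab]
    exact Nat.two_dvd_ne_zero.mpr (Nat.odd_iff.mp (h.odd_points b).2))
  refine ⟨d.1, d.2.1, d.2.2, fun x hx => ?_⟩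
  have h1 : x * d.1 * x⁻¹ = d.1 := congrArg Subtype.val (hd ⟨x, hx⟩)
  exact mul_inv_eq_iff_eq_mul.mp h1

/-- It commutes with the inverted element moving `π e` to `π f` if it centralises both and the swapper. -/
theorem fixPermOf_commute {u g : G} (hg : Commute g u) {a b : Ω} {E : Subgroup G} {q i : ℕ}
    {U : Subgroup (cImage Ω D u)} (hua : u • a = a) (hub : u • b = b) (hB : Bend D hua E q i U)
    (hga : g • a = a) (hgb : g • b = b) {t : cGrp D u} (hgt : Commute g (t : G))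
    (hta : cProj Ω D u t • fixPt hua = fixPt hub)
    (hS : Cfsg.IsRankOneSetup (cImage Ω D u) (MulAction.fixedBy Ω u) (fixPt hua) (cProj Ω D u t) U)
    {e f : G} (he : e ∈ E) (hf' : f ∈ E) (he1 : e ≠ 1) (hge : Commute g e) (hgf : Commute g f)
    (hf1 : f ≠ 1) {k : cImage Ω D u}
    (hk : k ∈ Cfsg.invertedBy (stabilizer (cImage Ω D u) (fixPt hua) ⊓
      stabilizer (cImage Ω D u) (cProj Ω D u t • fixPt hua)) (cProj Ω D u t))
    (hkef : k⁻¹ * cProj Ω D u ⟨e, hB.memE e he⟩ * k = cProj Ω D u ⟨f, hB.memE f hf'⟩) :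
    Commute (fixPermOf (Ω := Ω) hg) (k : Equiv.Perm (MulAction.fixedBy Ω u)) := by
  haveI : FaithfulSMul (cImage Ω D u) (MulAction.fixedBy Ω u) :=
    faithfulSMul_iff.2 fun g hg => Subtype.ext (Equiv.ext hg)
  haveI := h.finite_points
  set π := cProj Ω D u with hπ
  set γ : Equiv.Perm (MulAction.fixedBy Ω u) := fixPermOf hg with hγ
  obtain ⟨y, hy⟩ := MonoidHom.rangeRestrict_surjective
    (MulAction.toPermHom (cGrp D u) (MulAction.fixedBy Ω u)) k
  set z := π (conjCGrp h hg y) with hz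
  have hzc : (z : Equiv.Perm (MulAction.fixedBy Ω u)) = γ * k * γ⁻¹ := by
    rw [hz, hπ, ← fixPermOf_conj h hg y, show cProj Ω D u y = k from hy]
  have hinv : ∀ (T K c : Equiv.Perm (MulAction.fixedBy Ω u)), Commute c T → T * K * T⁻¹ = K⁻¹ →
      T * (c * K * c⁻¹) * T⁻¹ = (c * K * c⁻¹)⁻¹ := fun T K c hc h1 => by
    calc T * (c * K * c⁻¹) * T⁻¹ = (T * c) * K * (T * c)⁻¹ := by group
      _ = (c * T) * K * (c * T)⁻¹ := by rw [hc.eq]
      _ = c * (T * K * T⁻¹) * c⁻¹ := by group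
      _ = (c * K * c⁻¹)⁻¹ := by rw [h1]; group
  have hmove : ∀ (A B c : Equiv.Perm (MulAction.fixedBy Ω u)), Commute c A → Commute c B →
      (k : Equiv.Perm (MulAction.fixedBy Ω u))⁻¹ * A * (k : Equiv.Perm (MulAction.fixedBy Ω u)) = B →
      (c * (k : Equiv.Perm (MulAction.fixedBy Ω u)) * c⁻¹)⁻¹ * A *
        (c * (k : Equiv.Perm (MulAction.fixedBy Ω u)) * c⁻¹) = B := fun A B c hA hB' h1 => by
    generalize (k : Equiv.Perm (MulAction.fixedBy Ω u)) = K at h1 ⊢
    calc (c * K * c⁻¹)⁻¹ * A * (c * K * c⁻¹) = c * K⁻¹ * (c⁻¹ * A) * c * K * c⁻¹ := by group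
      _ = c * (K⁻¹ * A * K) * c⁻¹ := by rw [hA.inv_left.eq]; group
      _ = B := by rw [h1, hB'.eq, mul_inv_cancel_right]
  have hγfix : ∀ {p : MulAction.fixedBy Ω u}, g • (p : Ω) = p → γ p = p ∧ γ⁻¹ p = p := fun {p} hp =>
    have h1 : γ p = p := Subtype.ext hp
    ⟨h1, by conv_lhs => rw [← h1]; exact γ.symm_apply_apply p⟩
  have hzfix : ∀ {p : MulAction.fixedBy Ω u}, g • (p : Ω) = p → k • p = p → z • p = p := fun {p} hp hkp => by
    show (z : Equiv.Perm (MulAction.fixedBy Ω u)) p = p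
    rw [hzc, Equiv.Perm.mul_apply, Equiv.Perm.mul_apply, (hγfix hp).2, show (k : Equiv.Perm _) p = p from hkp,
      (hγfix hp).1]
  have hzK : z ∈ Cfsg.invertedBy (stabilizer (cImage Ω D u) (fixPt hua) ⊓
      stabilizer (cImage Ω D u) (π t • fixPt hua)) (π t) := by
    refine ⟨⟨hzfix (p := fixPt hua) hga (mem_D.1 hk.1).1, ?_⟩, ?_⟩
    · rw [hta] at hk ⊢
      exact hzfix (p := fixPt hub) hgb (Subgroup.mem_inf.1 hk.1).2
    · refine Subtype.ext ?_
      have hc : Commute γ (π t : Equiv.Perm (MulAction.fixedBy Ω u)) := fixPermOf_commute_proj hg hgt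
      have h1 : (π t : Equiv.Perm (MulAction.fixedBy Ω u)) * k * (π t : Equiv.Perm (MulAction.fixedBy Ω u))⁻¹ =
          (k : Equiv.Perm (MulAction.fixedBy Ω u))⁻¹ := congrArg Subtype.val hk.2
      rw [Subgroup.coe_mul, Subgroup.coe_mul, Subgroup.coe_inv, Subgroup.coe_inv, hzc]
      exact hinv _ _ _ hc h1
  have hzef : z⁻¹ * π ⟨e, hB.memE e he⟩ * z = π ⟨f, hB.memE f hf'⟩ := by
    refine Subtype.ext ?_
    have hce : Commute γ (π ⟨e, hB.memE e he⟩ : Equiv.Perm (MulAction.fixedBy Ω u)) :=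
      fixPermOf_commute_proj hg (x := ⟨e, hB.memE e he⟩) hge
    have hcf : Commute γ (π ⟨f, hB.memE f hf'⟩ : Equiv.Perm (MulAction.fixedBy Ω u)) :=
      fixPermOf_commute_proj hg (x := ⟨f, hB.memE f hf'⟩) hgf
    rw [Subgroup.coe_mul, Subgroup.coe_mul, Subgroup.coe_inv, hzc]
    exact hmove _ _ _ hce hcf (congrArg Subtype.val hkef)
  have hkz : z = k :=
    (exists_unique_K hS (hB.J_mem e he he1) (hB.J_mem f hf' hf1)).unique ⟨hzK, hzef⟩ ⟨hk, hkef⟩
  show γ * (k : Equiv.Perm _) = (k : Equiv.Perm _) * γ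
  exact mul_inv_eq_iff_eq_mul.1 (hzc.symm.trans (congrArg Subtype.val hkz))

end Crit

end CfsgLib.AschCrit
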