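import Cfsg.Agent.Lib.Invol.AschCrit.CentModel

/-!
Owner: helper18. Aschbacher's criterion, slice B: members centralising a multi and their images on its fixed points.

* `Crit.half_moves`: half the order of a product of members centralising `u` moves a fixed point of `u`.
* `Crit.memsCommute`: the interface `MemsCommute`.
* `Crit.rankOneAt`: the first case of `LocalDichotomy`.
-/

set_option autoImplicit false
set_option linter.unusedSectionVars false

namespace CfsgLib.AschCrit

open Subgroup

universe u v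

variable {G : Type u} [Group G] [Finite G] {Ω : Type v} [MulAction G Ω]

/-- The action of `<D cap C(t)>` on the fixed points of `t`. -/
abbrev cProj (Ω : Type v) [MulAction G Ω] (D : Set G) (t : G) : cGrp D t →* cImage Ω D t :=
  (MulAction.toPermHom (cGrp D t) (MulAction.fixedBy Ω t)).rangeRestrict

theorem cProj_coe {D : Set G} {t : G} (x : cGrp D t) (p : MulAction.fixedBy Ω t) :
    ((cProj Ω D t x • p : MulAction.fixedBy Ω t) : Ω) = (x : G) • (p : Ω) := rfl

theorem cProj_eq_iff {D : Set G} {t : G} (x y : cGrp D t) :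
    cProj Ω D t x = cProj Ω D t y ↔ ∀ p : Ω, t • p = p → (x : G) • p = (y : G) • p := by
  refine ⟨fun e p hp => ?_, fun e => Subtype.ext (Equiv.ext fun p => Subtype.ext (e p p.2))⟩
  have := congrArg (fun z : cImage Ω D t => ((z • (⟨p, hp⟩ : MulAction.fixedBy Ω t) : MulAction.fixedBy Ω t) : Ω)) e
  simpa only [cProj_coe] using this

theorem cProj_eq_one_iff {D : Set G} {t : G} (x : cGrp D t) :
    cProj Ω D t x = 1 ↔ ∀ p : Ω, t • p = p → (x : G) • p = p := by
  rw [← map_one (cProj Ω D t), cProj_eq_iff]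
  simp only [OneMemClass.coe_one, one_smul]

namespace Crit

variable {D : Set G} (h : Crit Ω D)
include h

theorem cProj_mem {u : G} {d : cGrp D u} (hd : (d : G) ∈ D) : cProj Ω D u d ∈ cImageMems Ω D u :=
  ⟨d, hd, rfl⟩

/-- Commuting members centralising `u` with one image are equal. -/
theorem eq_of_cProj_eq {u : G} (hu : IsMulti Ω u) {d e : cGrp D u} (hd : (d : G) ∈ D) (he : (e : G) ∈ D)
    (hc : Commute (d : G) e) (hp : cProj Ω D u d = cProj Ω D u e) : d = e := by
  by_contra hne
  obtain ⟨-, a, b, hab, hua, hub⟩ := hu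
  obtain ⟨x, hx⟩ := h.fix_exists _ hd
  have hfix : ∀ p : Ω, u • p = p → ((d : G) * e) • p = p := fun p hup => by
    rw [hc.eq, mul_smul, (cProj_eq_iff d e).1 hp p hup, ← mul_smul, h.sq he, one_smul]
  have hne' : (d : G) ≠ e := fun e1 => hne (Subtype.ext e1)
  exact hab ((h.pair_single hd he hne' hc hx (hfix a hua)).trans (h.pair_single hd he hne' hc hx (hfix b hub)).symm)

/-- Half the order of a product of two members is not in the kernel. -/
theorem half_moves {u : G} (hu : IsMulti Ω u) {d e : cGrp D u} (hd : (d : G) ∈ D) (he : (e : G) ∈ D) {m : ℕ}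
    (hm : orderOf (d * e) = 2 * m) : cProj Ω D u ((d * e) ^ m) ≠ 1 := by
  intro hk
  have hd2 : d * d = 1 := Subtype.ext (h.sq hd)
  have he2 : e * e = 1 := Subtype.ext (h.sq he)
  have hm0 : 0 < m := by have := orderOf_pos (d * e); omega
  set w := (d * e) ^ m with hw
  have hww : w * w = 1 := by rw [hw, ← pow_add, ← two_mul, ← hm, pow_orderOf_eq_one]
  have hw1 : w ≠ 1 := pow_ne_one_of_lt_orderOf (by omega) (by omega)
  have hinv : d * w * d = w := by
    rw [hw, dih_pow hd2 he2 m]
    exact inv_eq_of_mul_eq_one_right hww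
  have hdwd : d * (d * w) = d * w * d := by rw [hinv, ← mul_assoc, hd2, one_mul]
  have hmem : ((d * w : cGrp D u) : G) ∈ D := by
    obtain ⟨i, hi | hi⟩ := Nat.even_or_odd' m
    · rw [hw, hi, dih_even hd2 he2 i]
      exact h.conjBack hd _
    · rw [hw, hi, dih_odd hd2 he2 i]
      exact h.conjBack he _
  refine hw1 ?_
  have := h.eq_of_cProj_eq hu hd hmem (congrArg Subtype.val hdwd) (by rw [map_mul, hk, mul_one])
  exact left_eq_mul.1 this

/-- The interface `MemsCommute`. -/
theorem memsCommute (hf : Faithful G Ω) (IH : Below.{v, v} (Nat.card G)) : MemsCommute Ω D := by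
  intro u hu S hS d hdS e heS hd he hdu heu
  haveI := Fact.mk Nat.prime_two
  haveI := h.finite_points
  set δ : cGrp D u := ⟨d, mem_cGrp hd hdu⟩ with hδ
  set ε : cGrp D u := ⟨e, mem_cGrp he heu⟩ with hε
  set π := cProj Ω D u with hπ
  set T := (S.subgroupOf (cGrp D u)).map π with hT
  have hTp : IsPGroup 2 T :=
    (hS.comap_of_injective (cGrp D u).subtype (cGrp D u).subtype_injective).map π
  have hcomm := (h.cImage_crit hu).mems_commute_of_noMulti (fun g hg => Subtype.ext (Equiv.ext hg))
    (h.cImage_noMulti hf IH hu) hTp (mem_map_of_mem π (show δ ∈ S.subgroupOf (cGrp D u) from hdS))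
    (mem_map_of_mem π (show ε ∈ S.subgroupOf (cGrp D u) from heS)) (cProj_mem h (d := δ) hd)
    (cProj_mem h (d := ε) he)
  have hsq : π ((δ * ε) ^ 2) = 1 := by
    rw [map_pow, map_mul, hcomm.mul_pow, ← map_pow, ← map_pow, pow_two, pow_two,
      show δ * δ = 1 from Subtype.ext (h.sq hd), show ε * ε = 1 from Subtype.ext (h.sq he), map_one, one_mul]
  obtain ⟨k, hk⟩ := IsPGroup.iff_orderOf.1 hS ⟨d * e, mul_mem hdS heS⟩
  rw [Subgroup.orderOf_mk] at hk
  have hord : orderOf (δ * ε) = 2 ^ k := by rw [← Subgroup.orderOf_coe]; exact hk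
  rcases k with _ | _ | k
  · rw [pow_zero, orderOf_eq_one_iff] at hk
    rw [eq_inv_of_mul_eq_one_left hk]
    exact (Commute.refl e).inv_left
  · have h1 : (d * e) * (d * e) = 1 := by rw [← pow_two, ← pow_one 2, ← hk, pow_orderOf_eq_one]
    show d * e = e * d
    calc d * e = (d * e)⁻¹ := eq_inv_of_mul_eq_one_left h1
      _ = e * d := by rw [mul_inv_rev, inv_eq_of_mul_eq_one_right (h.sq he), inv_eq_of_mul_eq_one_right (h.sq hd)]
  · refine absurd ?_ (h.half_moves hu (d := δ) (e := ε) hd he (m := 2 ^ (k + 1)) (by rw [hord, pow_succ']))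
    rw [pow_succ', pow_mul, map_pow, hsq, one_pow]

/-- Rank one on the fixed points gives rank one at each of them. -/
theorem rankOneAt {u : G} (hu : IsMulti Ω u) (hr : RankOne (cImage Ω D u)) (a : Ω) : RankOneAt D u a := by
  haveI := h.finite_points
  rintro d ⟨hd, -, hdu⟩ e ⟨he, -, heu⟩ hc
  set δ : cGrp D u := ⟨d, mem_cGrp hd hdu⟩ with hδ
  set ε : cGrp D u := ⟨e, mem_cGrp he heu⟩ with hε
  have hc' : Commute δ ε := Subtype.ext hc.eq
  exact congrArg Subtype.val (h.eq_of_cProj_eq hu (d := δ) (e := ε) hd he hc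
    (hr _ _ ((h.cImage_crit hu).inv _ (cProj_mem h hd)) ((h.cImage_crit hu).inv _ (cProj_mem h he))
      (hc'.map (cProj Ω D u)).eq))

end Crit

end CfsgLib.AschCrit
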