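import Cfsg.Agent.Lib.Invol.AschCrit.CentTorusTools
import Cfsg.Agent.Lib.Invol.AschCrit.Model

/-!
Owner: helper18. Aschbacher's criterion, slice E: the kernel on the fixed points of a frame.

* `Crit.kernelFix`: the interface `KernelFix`. The fixed points in `Fix u` of such an element form an orbit of a
  subgroup of the Bender group, and `2^m + 1` divides its order only in the two cases allowed.
-/

set_option autoImplicit false
set_option linter.unusedSectionVars false

namespace CfsgLib.AschCrit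

open Subgroup MulAction CfsgLib.Lie.RankOne CfsgLib.Lie.RankOneClass
open CfsgLib.OddTransitive.RankOne (involutionGroup exists_cyclic)

universe u v

variable {G : Type u} [Group G] [Finite G] {Ω : Type v} [MulAction G Ω]

/-- A 2-group with a commuting involution. -/
theorem isPGroup_sup_involution {S : Subgroup G} (hS : IsPGroup 2 S) {u : G} (hu : orderOf u = 2)
    (hc : ∀ g ∈ S, Commute g u) : IsPGroup 2 ↥(S ⊔ zpowers u) := by
  haveI := Fact.mk Nat.prime_two
  have h1 : IsPGroup 2 (zpowers u) := IsPGroup.of_card (n := 1) (by rw [Nat.card_zpowers, hu, pow_one])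
  refine hS.to_sup_of_normal_right' h1 (le_trans ?_ (centralizer_le_normalizer _))
  intro x hx
  refine mem_centralizer_iff.2 fun y hy => ?_
  obtain ⟨i, rfl⟩ := hy
  exact ((hc x hx).zpow_right i).eq.symm

theorem fix_sup {S : Subgroup G} {u : G} {a b : Ω} (hS : ∀ g ∈ S, g • a = a ∧ g • b = b) (ha : u • a = a)
    (hb : u • b = b) : ∀ g ∈ S ⊔ zpowers u, g • a = a ∧ g • b = b := by
  have h1 : S ⊔ zpowers u ≤ stabilizer G a ⊓ stabilizer G b :=
    sup_le (fun g hg => ⟨(hS g hg).1, (hS g hg).2⟩) (zpowers_le.2 ⟨ha, hb⟩)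
  exact fun g hg => ⟨(h1 hg).1, (h1 hg).2⟩

namespace Crit

variable {D : Set G} (h : Crit Ω D)
include h

/-- The fixed points of `g` among those of `u`: all, or `q + 1` in unitary type. -/
theorem kernelFix_aux (hf : Faithful G Ω) (IH : Below.{v, v} (Nat.card G)) {u : G} {a b : Ω} {E : Subgroup G}
    {q i : ℕ} (hu : IsMulti Ω u) (hl : LData D u a b E q i) {g : G} (hga : g • a = a) (hgb : g • b = b)
    (hgu : Commute g u) (hgE : ∀ e ∈ E, Commute g e) (hg2 : ∃ n : ℕ, g ^ 2 ^ n = 1) :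
    (∀ x : Ω, u • x = x → g • x = x) ∨ i = 3 ∧ Nat.card {x : Ω // u • x = x ∧ g • x = x} = q + 1 := by
  classical
  haveI := Fact.mk Nat.prime_two
  haveI := h.finite_points
  obtain ⟨n, hn⟩ := hg2
  have hgp : IsPGroup 2 (zpowers g) := by
    obtain ⟨m, -, hm⟩ := (Nat.dvd_prime_pow Nat.prime_two).1 (orderOf_dvd_of_pow_eq_one hn)
    exact IsPGroup.of_card (n := m) (by rw [Nat.card_zpowers, hm])
  haveI : FaithfulSMul (cImage Ω D u) (MulAction.fixedBy Ω u) :=
    faithfulSMul_iff.2 fun g hg => Subtype.ext (Equiv.ext hg)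
  obtain ⟨U, hB⟩ := h.bend hf IH hu hl
  haveI := hB.simple
  set a' := fixPt hl.fix_a with ha'
  set b' := fixPt hl.fix_b with hb'
  have hab' : b' ≠ a' := fun e => hl.ne (congrArg Subtype.val e).symm
  set π := cProj Ω D u with hπ
  have hπsurj : Function.Surjective π := MonoidHom.rangeRestrict_surjective _
  set γ : Equiv.Perm (MulAction.fixedBy Ω u) := fixPermOf hgu with hγ
  have hgz : ∀ x ∈ zpowers g, Commute x u := fun x ⟨j, hj⟩ => hj ▸ hgu.zpow_left j
  have hgfix : ∀ {p : Ω}, g • p = p → ∀ x ∈ zpowers g, x • p = p := fun {p} hp x hx =>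
    zpowers_le.2 (show g ∈ stabilizer G p from hp) hx
  -- swappers at every two fixed points
  have hswap : ∀ x y : MulAction.fixedBy Ω u, x ≠ y → γ x = x → γ y = y →
      ∃ t : cGrp D u, (t : G) ∈ D ∧ Commute g (t : G) ∧ π t • x = y := by
    intro x y hxy hx hy
    have hX := fix_sup (S := zpowers g) (u := u) (a := (x : Ω)) (b := (y : Ω))
      (fun z hz => ⟨hgfix (congrArg Subtype.val hx) z hz, hgfix (congrArg Subtype.val hy) z hz⟩) x.2 y.2
    obtain ⟨t, ht, htx, htc⟩ := h.exists_swapper_centralised (fun e => hxy (Subtype.ext e)) _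
      (isPGroup_sup_involution hgp hu.1 hgz) hX
    exact ⟨⟨t, mem_cGrp ht (htc u (mem_sup_right (mem_zpowers u))).symm⟩, ht,
      htc g (mem_sup_left (mem_zpowers g)), Subtype.ext htx⟩
  have hγa : γ a' = a' := Subtype.ext hga
  have hγb : γ b' = b' := Subtype.ext hgb
  obtain ⟨t, htD, hgt, hta⟩ := hswap a' b' hab'.symm hγa hγb
  have hS := hB.setup (π t) ((h.cImage_crit hu).sq (h.cProj_mem htD)) (by rw [hta]; exact hab')
  have h2 := hB.rank
  -- the elements commuting with `γ`
  let C : Subgroup (cImage Ω D u) := (Subgroup.centralizer {γ}).comap (cImage Ω D u).subtype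
  have hC : ∀ {x : cImage Ω D u}, x ∈ C ↔ Commute γ (x : Equiv.Perm (MulAction.fixedBy Ω u)) := fun {x} =>
    ⟨fun hx => (mem_centralizer_singleton_iff.1 hx).symm, fun hx => mem_centralizer_singleton_iff.2 hx.symm⟩
  set V := U ⊓ C with hV
  have hVU : V ≤ U := inf_le_left
  have hVp : IsPGroup 2 V := hB.two.to_le hVU
  have hEV : ∀ e (he : e ∈ E), π ⟨e, hB.memE e he⟩ ∈ V := fun e he => by
    refine ⟨?_, hC.2 (fixPermOf_commute_proj hgu (x := ⟨e, hB.memE e he⟩) (hgE e he))⟩
    rcases eq_or_ne e 1 with h1 | h1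
    · rw [show (⟨e, hB.memE e he⟩ : cGrp D u) = 1 from Subtype.ext h1, map_one]; exact one_mem _
    · exact CfsgLib.Lie.RankOne.J_mem_Q hS (hB.J_mem e he h1)
  -- the inverted elements are among them
  obtain ⟨e₀, he₀, he₀1⟩ : ∃ e ∈ E, e ≠ (1 : G) := by
    by_contra hc
    push Not at hc
    have h4 := four_le_q hl
    rw [← hl.card_E, (Subgroup.eq_bot_iff_forall E).2 hc, Subgroup.card_bot] at h4
    omega
  obtain ⟨Cy, hCy, -, -⟩ := exists_cyclic hS h2
  have hmem : ∀ {k}, k ∈ Cy ↔ k ∈ Cfsg.invertedBy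
      (stabilizer (cImage Ω D u) a' ⊓ stabilizer (cImage Ω D u) (π t • a')) (π t) := fun {k} => by
    rw [← hCy]; rfl
  have hKC : Cy ≤ C := by
    intro k hk
    have hk' := hmem.1 hk
    have hJ := conj_mem_J hS (hB.J_mem e₀ he₀ he₀1) (inv_mem (show k ∈ stabilizer _ a' from (mem_D.1 hk'.1).1))
    rw [inv_inv] at hJ
    obtain ⟨f, hf', hf1, hfe⟩ := hB.J_onto _ hJ
    exact hC.2 (h.fixPermOf_commute hgu hl.fix_a hl.fix_b hB hga hgb hgt hta hS he₀ hf' he₀1 (hgE e₀ he₀)
      (hgE f hf') hf1 hk' hfe.symm)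
  have hVconj : ∀ k ∈ Cy, ∀ y ∈ V, k * y * k⁻¹ ∈ V := fun k hk y hy =>
    ⟨hS.conj_mem k (mem_D.1 (hmem.1 hk).1).1 y hy.1, C.mul_mem (C.mul_mem (hKC hk) hy.2) (C.inv_mem (hKC hk))⟩
  -- so `|V|` is a power of `q`
  have hdiv : q - 1 ∣ Nat.card V - 1 := by
    letI : MulAction Cy {y : V // y ≠ 1} :=
      { smul := fun k y => ⟨⟨(k : cImage Ω D u) * y.1 * (k : cImage Ω D u)⁻¹, hVconj k k.2 _ y.1.2⟩,
          fun e => y.2 (Subtype.ext (conj_eq_one_iff.1 (congrArg Subtype.val e :)))⟩
        one_smul := fun y => Subtype.ext (Subtype.ext (by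
          show (1 : cImage Ω D u) * y.1 * (1 : cImage Ω D u)⁻¹ = _; simp))
        mul_smul := fun k k' y => Subtype.ext (Subtype.ext (by
          show ((k : cImage Ω D u) * k') * y.1 * ((k : cImage Ω D u) * k')⁻¹ =
            (k : cImage Ω D u) * ((k' : cImage Ω D u) * y.1 * (k' : cImage Ω D u)⁻¹) * (k : cImage Ω D u)⁻¹
          group)) }
    have h1 := dvd_card_of_free (A := Cy) (X := {y : V // y ≠ 1}) fun k y e => by
      by_contra hk1
      have h3 : (y.1 : cImage Ω D u) ∈ U ⊓ Subgroup.centralizer {(k : cImage Ω D u)} :=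
        ⟨hVU y.1.2, mem_centralizer_singleton_iff.2
          (mul_inv_eq_iff_eq_mul.1 (congrArg (fun z : {y : V // y ≠ 1} => ((z.1 : V) : cImage Ω D u)) e)).symm⟩
      rw [fixed_point_free hS (hmem.1 k.2) (fun e => hk1 (Subtype.ext e)), mem_bot] at h3
      exact y.2 (Subtype.ext h3)
    have h3 : Nat.card Cy = q - 1 := by
      rw [← hB.qq_eq, qq, Nat.add_sub_cancel, ← card_K hS]
      exact Nat.card_congr (Equiv.setCongr hCy)
    have h4 : Nat.card {y : V // y ≠ 1} = Nat.card V - 1 := by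
      haveI := Fintype.ofFinite V
      rw [Nat.card_eq_fintype_card, Nat.card_eq_fintype_card, Fintype.card_subtype_compl, Fintype.card_subtype_eq]
    rwa [h3, h4] at h1
  obtain ⟨s, hs, hqs⟩ := hl.pow
  obtain ⟨m, hm⟩ := hVp.exists_card_eq
  have hqV : q ≤ Nat.card V := by
    rw [← hl.card_E]
    exact Nat.card_le_card_of_injective (fun e : E => (⟨π ⟨e, hB.memE e e.2⟩, hEV e e.2⟩ : V))
      (fun e f hef => Subtype.ext (hB.inj _ e.2 _ f.2 (congrArg Subtype.val hef)))
  have hVle : Nat.card V ≤ q ^ i := hB.card_U ▸ Subgroup.card_le_of_le hVU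
  obtain ⟨j, rfl⟩ : s ∣ m := eq_mul_of_two_pow_dvd (by omega) (by rwa [← hqs, ← hm])
  have hVj : Nat.card V = q ^ j := by rw [hm, hqs, ← pow_mul]
  have hq4 := four_le_q hl
  have hj1 : 1 ≤ j := by
    by_contra hj
    rw [hVj, show j = 0 by omega, pow_zero] at hqV
    omega
  have hji : j ≤ i := by
    rw [hVj] at hVle
    exact (Nat.pow_le_pow_iff_right (by omega)).1 hVle
  -- the common fixed points
  have hinv : ∀ y ∈ U, ∀ p : MulAction.fixedBy Ω u, γ p = p → y • b' = p → y ∈ C := by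
    intro y hy p hp hyb
    obtain ⟨w, hw⟩ := hπsurj y
    set z := π (conjCGrp h hgu w) with hz
    have hzc : (z : Equiv.Perm (MulAction.fixedBy Ω u)) = γ * (y : Equiv.Perm (MulAction.fixedBy Ω u)) * γ⁻¹ := by
      rw [hz, hπ, ← fixPermOf_conj h hgu w, show cProj Ω D u w = y from hw]
    have hγi : ∀ {r : MulAction.fixedBy Ω u}, γ r = r → γ⁻¹ r = r := fun {r} hr => by
      conv_lhs => rw [← hr]
      exact γ.symm_apply_apply r
    have hact : ∀ {r : MulAction.fixedBy Ω u}, γ r = r →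
        z • r = γ ((y : Equiv.Perm (MulAction.fixedBy Ω u)) r) := fun {r} hr => by
      show (z : Equiv.Perm (MulAction.fixedBy Ω u)) r = _
      rw [hzc, Equiv.Perm.mul_apply, Equiv.Perm.mul_apply, hγi hr]
    have hzU : z ∈ U := by
      obtain ⟨c, hc⟩ := hB.two ⟨y, hy⟩
      refine CfsgLib.RankOneInter.TIAuto.mem_Q_of_two_power hS (n := c) ?_ (Subtype.ext ?_)
      · show z • a' = a'
        rw [hact hγa, show (y : Equiv.Perm (MulAction.fixedBy Ω u)) a' = a' from hS.le hy, hγa]
      · rw [Subgroup.coe_pow, hzc, conj_pow,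
          show (y : Equiv.Perm (MulAction.fixedBy Ω u)) ^ 2 ^ c = 1 from
            congrArg (fun x : U => ((x : cImage Ω D u) : Equiv.Perm (MulAction.fixedBy Ω u))) hc,
          mul_one, mul_inv_cancel]
        rfl
    have hzb : z • b' = p := by rw [hact hγb, show (y : Equiv.Perm (MulAction.fixedBy Ω u)) b' = p from hyb, hp]
    obtain ⟨x, -, huniq⟩ := CfsgLib.Lie.RankOne.existsUnique_smul hS b' p hab' (fun e => hab' (by
      rw [e] at hyb
      exact smul_left_cancel y (hyb.trans (show y • a' = a' from hS.le hy).symm)))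
    have hzy : z = y :=
      congrArg Subtype.val ((huniq ⟨z, hzU⟩ hzb).trans (huniq ⟨y, hy⟩ hyb).symm)
    exact hC.2 (mul_inv_eq_iff_eq_mul.1 (hzc.symm.trans (congrArg Subtype.val hzy)))
  have hfixC : ∀ y ∈ C, ∀ p : MulAction.fixedBy Ω u, γ p = p → γ (y • p) = y • p := fun y hy p hp => by
    show γ ((y : Equiv.Perm (MulAction.fixedBy Ω u)) p) = (y : Equiv.Perm (MulAction.fixedBy Ω u)) p
    rw [← Equiv.Perm.mul_apply, (hC.1 hy).eq, Equiv.Perm.mul_apply, hp]
  have hF : Nat.card {p : MulAction.fixedBy Ω u // γ p = p} = Nat.card V + 1 := by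
    rw [← Finite.card_option]
    refine (Nat.card_eq_of_bijective (fun o : Option V => o.elim (⟨a', hγa⟩ : {p : MulAction.fixedBy Ω u // γ p = p})
      fun y => ⟨(y : cImage Ω D u) • b', hfixC _ y.2.2 _ hγb⟩) ⟨?_, ?_⟩).symm
    · have hne : ∀ y : V, (y : cImage Ω D u) • b' ≠ a' := fun y e =>
        hab' (smul_left_cancel (y : cImage Ω D u) (e.trans (show (y : cImage Ω D u) • a' = a' from hS.le y.2.1).symm))
      rintro (_ | y) (_ | y') e
      · rfl
      · exact absurd (congrArg Subtype.val e :).symm (hne y')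
      · exact absurd (congrArg Subtype.val e :) (hne y)
      · obtain ⟨x, -, huniq⟩ := CfsgLib.Lie.RankOne.existsUnique_smul hS b' _ hab' (hne y')
        exact congrArg some (Subtype.ext (congrArg Subtype.val
          ((huniq ⟨y, y.2.1⟩ (congrArg Subtype.val e :)).trans (huniq ⟨y', y'.2.1⟩ rfl).symm) :))
    · rintro ⟨p, hp⟩
      by_cases hpa : p = a'
      · exact ⟨none, Subtype.ext hpa.symm⟩
      · obtain ⟨⟨y, hy⟩, hyp, -⟩ := CfsgLib.Lie.RankOne.existsUnique_smul hS b' p hab' hpa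
        exact ⟨some ⟨y, hy, hinv y hy p hp hyp⟩, Subtype.ext hyp⟩
  have hFΩ : Nat.card {x : Ω // u • x = x ∧ g • x = x} = Nat.card V + 1 := by
    rw [← hF]
    exact Nat.card_congr
      { toFun := fun x => ⟨⟨x.1, x.2.1⟩, Subtype.ext x.2.2⟩
        invFun := fun p => ⟨(p.1 : Ω), p.1.2, congrArg Subtype.val p.2⟩
        left_inv := fun _ => rfl
        right_inv := fun _ => rfl }
  -- they form one orbit
  have horb : Nat.card V + 1 ∣ Nat.card (cImage Ω D u) := by
    have he : ∀ p, p ∈ MulAction.orbit C a' ↔ γ p = p := by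
      refine fun p => ⟨?_, fun hp => ?_⟩
      · rintro ⟨y, rfl⟩
        exact hfixC y y.2 a' hγa
      · by_cases hpa : p = a'
        · exact ⟨1, by rw [hpa]; exact one_smul _ _⟩
        · obtain ⟨t', -, hgt', ht'⟩ := hswap a' p (Ne.symm hpa) hγa hp
          exact ⟨⟨π t', hC.2 (fixPermOf_commute_proj hgu hgt')⟩, ht'⟩
    have h1 : Nat.card (MulAction.orbit C a') = Nat.card V + 1 := by
      rw [← hF]; exact Nat.card_congr (Equiv.subtypeEquivRight he)
    rw [← h1, Nat.card_coe_set_eq, ← MulAction.index_stabilizer C a']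
    exact (Subgroup.index_dvd_card _).trans (Subgroup.card_subgroup_dvd_card C)
  have hall : j = i → ∀ x : Ω, u • x = x → g • x = x := by
    intro hjeq x hx
    have hVU' : U ≤ C := by
      have := Subgroup.eq_of_le_of_card_ge hVU (by rw [hB.card_U, hVj, hjeq])
      rw [← this]; exact inf_le_right
    by_cases hxa : (⟨x, hx⟩ : MulAction.fixedBy Ω u) = a'
    · rw [show x = a from congrArg Subtype.val hxa]; exact hga
    · obtain ⟨⟨y, hy⟩, hyp, -⟩ := CfsgLib.Lie.RankOne.existsUnique_smul hS b' ⟨x, hx⟩ hab' hxa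
      have := hfixC y (hVU' hy) b' hγb
      rw [show y • b' = (⟨x, hx⟩ : MulAction.fixedBy Ω u) from hyp] at this
      exact congrArg Subtype.val this
  rcases eq_or_ne j i with hjeq | hjne
  · exact Or.inl (hall hjeq)
  have hnd := not_dvd_card_setup hS h2
  rw [hB.card_U, hB.qq_eq] at hnd
  rw [hVj] at horb hFΩ
  rcases hl.type with rfl | rfl | rfl
  · omega
  · obtain rfl : j = 1 := by omega
    rw [pow_one] at horb
    exact absurd horb (hnd.1 rfl)
  · rcases (show j = 1 ∨ j = 2 by omega) with rfl | rfl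
    · exact Or.inr ⟨rfl, by rw [hFΩ, pow_one]⟩
    · exact absurd horb (hnd.2 rfl)

/-- The interface `KernelFix`. -/
theorem kernelFix (hf : Faithful G Ω) (IH : Below.{v, v} (Nat.card G)) : KernelFix Ω D := by
  intro u a b E q i ht g hg hg2
  have hc := Subgroup.mem_centralizer_iff.1 hg.2
  exact h.kernelFix_aux hf IH ht.multi ht.data hg.1.1 hg.1.2 (hc u (Set.mem_insert _ _)).symm
    (fun e he => (hc e (Set.mem_insert_of_mem _ he)).symm) hg2

end Crit

end CfsgLib.AschCrit
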