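import Cfsg.Agent.Lib.Invol.AschCrit.CentCommute

/-!
Owner: helper18. Aschbacher's criterion, slice B: lifting from the group on the fixed points of a multi.

* `exists_pow_lift`: a power with the same image and a smaller order.
* `memsGroup`: the members in a two-group centralising `u` form a group.
* `conjCGrp`: conjugation by an element centralising `u`.
* `surj_twist`: a fixed point free automorphism of a finite abelian group twists it onto itself.
-/

set_option autoImplicit false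
set_option linter.unusedSectionVars false

namespace CfsgLib.AschCrit

open Subgroup

universe u v

/-- A power with the same image whose order divides a factor of the order. -/
theorem exists_pow_lift {X Y : Type*} [Group X] [Group Y] [Finite Y] (f : X →* Y) (x : X) {A B : ℕ}
    (hAB : orderOf x ∣ A * B) (hc : A.Coprime (orderOf (f x))) :
    ∃ N : ℕ, f (x ^ N) = f x ∧ orderOf (x ^ N) ∣ B := by
  refine ⟨A ^ (orderOf (f x)).totient, ?_, orderOf_dvd_of_pow_eq_one ?_⟩
  · rw [map_pow]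
    exact (pow_eq_pow_iff_modEq.2 (Nat.ModEq.pow_totient hc)).trans (pow_one _)
  · rw [← pow_mul]
    refine orderOf_dvd_iff_pow_eq_one.1 (hAB.trans ?_)
    exact mul_dvd_mul_right (dvd_pow_self A (Nat.totient_pos.2 (orderOf_pos _)).ne') B

/-- A fixed point free endomorphism `c` of a finite abelian subgroup gives every element as `z⁻¹ c(z)`. -/
theorem surj_twist {X : Type*} [Group X] {Z : Subgroup X} [Finite Z] {k : X}
    (hcomm : ∀ x ∈ Z, ∀ y ∈ Z, x * y = y * x) (hk : ∀ x ∈ Z, k * x * k⁻¹ ∈ Z)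
    (hfree : ∀ x ∈ Z, k * x = x * k → x = 1) {z : X} (hz : z ∈ Z) :
    ∃ w ∈ Z, w⁻¹ * (k * w * k⁻¹) = z := by
  let f : Z → Z := fun w => ⟨(w : X)⁻¹ * (k * w * k⁻¹), mul_mem (inv_mem w.2) (hk _ w.2)⟩
  have hinj : Function.Injective f := fun w w' e => by
    have h1 : (w : X)⁻¹ * (k * w * k⁻¹) = (w' : X)⁻¹ * (k * w' * k⁻¹) := congrArg Subtype.val e
    have h2 : (w' : X) * (w : X)⁻¹ ∈ Z := mul_mem w'.2 (inv_mem w.2)
    have h3 : k * ((w' : X) * (w : X)⁻¹) * k⁻¹ = (w' : X) * (w : X)⁻¹ := by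
      calc k * ((w' : X) * (w : X)⁻¹) * k⁻¹
          = (w' : X) * ((w' : X)⁻¹ * (k * w' * k⁻¹)) * (k * w * k⁻¹)⁻¹ := by group
        _ = (w' : X) * ((w : X)⁻¹ * (k * w * k⁻¹)) * (k * w * k⁻¹)⁻¹ := by rw [h1]
        _ = _ := by group
    have h4 := hfree _ h2 (mul_inv_eq_iff_eq_mul.1 h3)
    exact Subtype.ext (mul_inv_eq_one.1 h4).symm
  obtain ⟨w, hw⟩ := Finite.surjective_of_injective hinj ⟨z, hz⟩
  exact ⟨w, w.2, congrArg Subtype.val hw⟩

variable {G : Type u} [Group G] [Finite G] {Ω : Type v} [MulAction G Ω]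

/-- The members in `S` and the identity, when members in `S` commute. -/
def memsGroup {D : Set G} (h : Crit Ω D) (hf : Faithful G Ω) (S : Subgroup G)
    (hS : ∀ d ∈ S, ∀ e ∈ S, d ∈ D → e ∈ D → Commute d e) : Subgroup G where
  carrier := {g | g ∈ S ∧ (g = 1 ∨ g ∈ D)}
  one_mem' := ⟨one_mem _, Or.inl rfl⟩
  mul_mem' := fun {x y} hx hy => by
    refine ⟨mul_mem hx.1 hy.1, ?_⟩
    rcases hx.2 with rfl | hxD
    · rw [one_mul]; exact hy.2
    rcases hy.2 with rfl | hyD
    · rw [mul_one]; exact Or.inr hxD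
    by_cases hxy : x = y
    · exact Or.inl (hxy ▸ h.sq hxD)
    · exact Or.inr (h.commMul hf x hxD y hyD hxy (hS x hx.1 y hy.1 hxD hyD))
  inv_mem' := fun {x} hx => by
    refine ⟨inv_mem hx.1, ?_⟩
    rcases hx.2 with rfl | hxD
    · exact Or.inl inv_one
    · exact Or.inr (by rwa [inv_eq_of_mul_eq_one_right (h.sq hxD)])

theorem conj_mem_cGrp {D : Set G} {u g : G} (h : Crit Ω D) (hg : Commute g u) {x : G} (hx : x ∈ cGrp D u) :
    g * x * g⁻¹ ∈ cGrp D u := by
  have hle : (cGrp D u).map (MulAut.conj g).toMonoidHom ≤ cGrp D u := by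
    rw [cGrp, MonoidHom.map_closure, closure_le]
    rintro _ ⟨d, ⟨hd, hdu⟩, rfl⟩
    exact mem_cGrp (h.conj d hd g) ((hg.mul_left hdu).mul_left hg.inv_left)
  exact hle ⟨x, hx, rfl⟩

/-- Conjugation by an element centralising `u`. -/
def conjCGrp {D : Set G} {u g : G} (h : Crit Ω D) (hg : Commute g u) : cGrp D u →* cGrp D u where
  toFun x := ⟨g * (x : G) * g⁻¹, conj_mem_cGrp h hg x.2⟩
  map_one' := Subtype.ext (by simp)
  map_mul' x y := Subtype.ext (by simp [mul_assoc])

theorem conjCGrp_coe {D : Set G} {u g : G} (h : Crit Ω D) (hg : Commute g u) (x : cGrp D u) :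
    (conjCGrp h hg x : G) = g * (x : G) * g⁻¹ := rfl

/-- Elements with one image have conjugates with one image. -/
theorem cProj_conj {D : Set G} {u g : G} (h : Crit Ω D) (hg : Commute g u) {x y : cGrp D u}
    (e : cProj Ω D u x = cProj Ω D u y) : cProj Ω D u (conjCGrp h hg x) = cProj Ω D u (conjCGrp h hg y) := by
  rw [cProj_eq_iff] at e ⊢
  intro p hp
  have h1 : u • (g⁻¹ • p) = g⁻¹ • p := by rw [← mul_smul, ← hg.inv_left.eq, mul_smul, hp]
  rw [conjCGrp_coe, conjCGrp_coe, mul_smul, mul_smul, e _ h1, ← mul_smul, ← mul_smul]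

end CfsgLib.AschCrit
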