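import Cfsg.Agent.Lib.Invol.AschCrit.CentStructure
import Cfsg.Agent.Lib.Lie.RankOneClass.Induction
import Cfsg.Agent.Lib.Invol.RankOneInter.TIAuto

/-!
Owner: helper18. Aschbacher's criterion, slice B: groups without multis which do not have rank one.

* `Crit.exists_setup`: at every point they give a rank one setup, whose kernel has all two-elements fixing the point.
* `Crit.mems_commute_of_noMulti`: members in a two-group commute.
* `inverted_congr`: the inverted elements do not depend on the involution exchanging the points.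
-/

set_option autoImplicit false
set_option linter.unusedSectionVars false

namespace CfsgLib.AschCrit

open Subgroup MulAction CfsgLib.Lie.RankOne

universe u v

variable {G : Type u} [Group G] [Finite G] {Ω : Type v} [MulAction G Ω]

/-- An involution exchanging the same points inverts the same elements. -/
theorem inverted_congr [FaithfulSMul G Ω] {a : Ω} {t t' : G} {Q : Subgroup G}
    (hS : Cfsg.IsRankOneSetup G Ω a t Q)
    (h2 : ∃ x y : G, x ≠ 1 ∧ y ≠ 1 ∧ x ≠ y ∧ x * x = 1 ∧ y * y = 1 ∧ x * y = y * x)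
    (ht' : t' * t' = 1) (hta : t' • a = t • a) {x : G}
    (hx : x ∈ Cfsg.invertedBy (stabilizer G a ⊓ stabilizer G (t • a)) t) :
    x ∈ Cfsg.invertedBy (stabilizer G a ⊓ stabilizer G (t' • a)) t' := by
  obtain ⟨C, hC, hcyc, -⟩ := CfsgLib.OddTransitive.RankOne.exists_cyclic hS h2
  have hd := mem_K_of_swap hS ht' hta
  have hmem : ∀ {y}, y ∈ Cfsg.invertedBy (stabilizer G a ⊓ stabilizer G (t • a)) t → y ∈ C :=
    fun hy => SetLike.mem_coe.1 (hC.symm ▸ hy)
  haveI := hcyc
  letI : CommGroup C := IsCyclic.commGroup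
  have hc : (t * t') * x = x * (t * t') :=
    congrArg Subtype.val (mul_comm (⟨_, hmem hd⟩ : C) ⟨x, hmem hx⟩)
  refine ⟨hta.symm ▸ hx.1, ?_⟩
  calc t' * x * t'⁻¹ = t * ((t * t') * x * (t * t')⁻¹) * t⁻¹ := by
        simp [mul_assoc, t_inv hS, t_mul_t_mul hS, hS.mul_self]
    _ = t * x * t⁻¹ := by rw [hc, mul_inv_cancel_right]
    _ = x⁻¹ := hx.2

namespace Crit

variable {D : Set G} (h : Crit Ω D)
include h

/-- An involution fixing a point of a group without multis is a member. -/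
theorem mem_of_noMulti (hf : Faithful G Ω) (hn : NoMulti G Ω) {s : G} (hs : orderOf s = 2) {a : Ω}
    (ha : s • a = a) : s ∈ D :=
  by_contra fun hsD => hn s (h.singleMem hf s hs ⟨a, ha⟩ hsD)

/-- Rank one setups for a group without multis which does not have rank one. -/
theorem exists_setup (hf : Faithful G Ω) (hn : NoMulti G Ω) (hr : ¬ RankOne G) (a : Ω) :
    (∃ x y : G, x ≠ 1 ∧ y ≠ 1 ∧ x ≠ y ∧ x * x = 1 ∧ y * y = 1 ∧ x * y = y * x) ∧
    ∃ Q : Subgroup G, IsPGroup 2 Q ∧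
      (∀ t : G, t * t = 1 → t • a ≠ a → Cfsg.IsRankOneSetup G Ω a t Q) ∧
      ∀ b : Ω, b ≠ a → ∃ t ∈ D, t • a = b := by
  haveI := Fact.mk Nat.prime_two
  haveI := h.finite_points
  set M := stabilizer G a with hM
  have hSE := h.stronglyEmbedded hn a
  obtain ⟨s, hsM, r, hrM, hs2, hr2, hne, hc⟩ := CfsgLib.Bender.four_of_not_rankOne hSE hr
  have hfour : ∃ s ∈ M, ∃ t ∈ M, orderOf s = 2 ∧ orderOf t = 2 ∧ s ≠ t ∧ s * t = t * s :=
    ⟨s, hsM, r, hrM, hs2, hr2, hne, hc⟩
  have hcore : M.normalCore = ⊥ := (Subgroup.eq_bot_iff_forall _).2 fun x hx => hf x fun b => by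
    obtain ⟨k, rfl⟩ := h.trans a b
    have hk : k⁻¹ * x * k⁻¹⁻¹ ∈ M := hx k⁻¹
    have hk' : (k⁻¹ * x * k⁻¹⁻¹) • a = a := hk
    rw [inv_inv, mul_smul, mul_smul, inv_smul_eq_iff] at hk'
    exact hk'
  obtain ⟨hSet, hsol⟩ := CfsgLib.Bender.benderGen G M hSE hfour
  obtain ⟨U, hUa, hUn, htr, hfree, hU, -⟩ := hSet.exists_regular (CfsgLib.Bender.smallerOK _)
    (CfsgLib.Bender.faithful_of_core hcore) _ hsol
  rw [CfsgLib.Bender.stab_base] at hUa hUn
  have hne' : ∀ g : G, g • a ≠ a → (g : G ⧸ M) ≠ ((1 : G) : G ⧸ M) := fun g hg e =>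
    hg (by
      have h1 : g ∈ M := by simpa using QuotientGroup.eq.1 e
      exact h1)
  have hQtr : ∀ x y : Ω, x ≠ a → y ≠ a → ∃ u ∈ U, u • x = y := by
    intro x y hx hy
    obtain ⟨g₁, rfl⟩ := h.trans a x
    obtain ⟨g₂, rfl⟩ := h.trans a y
    obtain ⟨u, hu, he⟩ := htr _ _ (hne' _ hx) (hne' _ hy)
    rw [MulAction.Quotient.smul_coe, smul_eq_mul] at he
    have h1 : ((u * g₁)⁻¹ * g₂) • a = a := QuotientGroup.eq.1 he
    refine ⟨u, hu, ?_⟩
    rwa [mul_smul, inv_smul_eq_iff, mul_smul, eq_comm] at h1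
  have hQfree : ∀ x : Ω, x ≠ a → ∀ u ∈ U, u • x = x → u = 1 := by
    intro x hx u hu hux
    obtain ⟨g, rfl⟩ := h.trans a x
    refine hfree _ (hne' g hx) u hu ?_
    rw [MulAction.Quotient.smul_coe, smul_eq_mul]
    refine QuotientGroup.eq.2 ?_
    show ((u * g)⁻¹ * g) • a = a
    rw [mul_smul, inv_smul_eq_iff, mul_smul, hux]
  have hone : ∀ {x y : G}, orderOf x = 2 → orderOf y = 2 → x * x = 1 ∧ x ≠ 1 := fun {x y} hx _ =>
    ⟨CfsgLib.Signalizer.involution_sq hx, CfsgLib.Signalizer.involution_ne_one hx⟩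
  refine ⟨⟨s, r, (hone hs2 hr2).2, (hone hr2 hs2).2, hne, (hone hs2 hr2).1, (hone hr2 hs2).1, hc⟩,
    U, IsPGroup.of_card hU, fun t htt hta => ?_, fun b hb => ?_⟩
  · haveI : IsPretransitive G Ω := ⟨h.trans⟩
    set K := stabilizer G a ⊓ stabilizer G (t • a) with hK
    have hQconj : ∀ g ∈ stabilizer G a, ∀ x ∈ U, g * x * g⁻¹ ∈ U := fun g hg x hx =>
      (mem_normalizer_iff.1 (hUn hg) x).1 hx
    have htwo : IsMultiplyPretransitive G Ω 2 := by
      refine is_two_pretransitive_iff.2 fun {b₁ b₂ c₁ c₂} hb hc => ?_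
      obtain ⟨g, hg⟩ := h.trans b₁ a
      obtain ⟨g', hg'⟩ := h.trans c₁ a
      obtain ⟨u, hu, hux⟩ := hQtr (g • b₂) (g' • c₂)
        (fun e => hb (smul_left_cancel g (hg.trans e.symm)))
        (fun e => hc (smul_left_cancel g' (hg'.trans e.symm)))
      have hua : u • a = a := hUa hu
      refine ⟨g'⁻¹ * u * g, ?_, ?_⟩
      · rw [mul_smul, mul_smul, hg, hua, ← hg', inv_smul_smul]
      · rw [mul_smul, mul_smul, hux, inv_smul_smul]
    have hKodd : Odd (Nat.card K) := by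
      rw [← Nat.not_even_iff_odd]
      intro he
      obtain ⟨⟨w, hw⟩, hw2⟩ := exists_prime_orderOf_dvd_card' 2 he.two_dvd
      rw [Subgroup.orderOf_mk] at hw2
      exact hn w ⟨hw2, a, t • a, Ne.symm hta, hw.1, hw.2⟩
    have hdec : ∀ g ∈ stabilizer G a, ∃ y ∈ U, ∃ d ∈ K, g = y * d := by
      intro g hg
      have h1 : g • (t • a) ≠ a := fun e => hta (smul_left_cancel g (e.trans (show g • a = a from hg).symm))
      obtain ⟨u, hu, hue⟩ := hQtr _ _ hta h1
      refine ⟨u, hu, u⁻¹ * g, Subgroup.mem_inf.2 ⟨mul_mem (inv_mem (hUa hu)) hg, ?_⟩, by group⟩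
      show (u⁻¹ * g) • (t • a) = t • a
      rw [mul_smul, ← hue, inv_smul_smul]
    exact
      { two_transitive := htwo
        mul_self := htt
        ne_one := fun e => hta (by rw [e, one_smul])
        not_mem := hta
        le := hUa
        conj_mem := hQconj
        inf_eq_bot := (Subgroup.eq_bot_iff_forall _).2 fun x hx => hQfree _ hta x hx.1 hx.2
        sup_eq := le_antisymm (sup_le hUa inf_le_left) fun g hg => by
          obtain ⟨y, hy, d, hd, rfl⟩ := hdec g hg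
          exact Subgroup.mul_mem_sup hy hd
        even_card := by
          rw [hU]
          refine Nat.even_pow.2 ⟨even_two, fun e => ?_⟩
          have h1 := Nat.prime_two.factorization_pos_of_dvd Nat.card_pos.ne'
            (hs2 ▸ orderOf_dvd_natCard s : 2 ∣ Nat.card G)
          simp only [CfsgLib.Bender.vp] at e
          omega
        odd_card := hKodd }
  · obtain ⟨d, hd, hdb⟩ := h.exists_mem b
    have hda : d • a ≠ a := fun e => hb (h.fix_unique d hd b a hdb e)
    obtain ⟨u, hu, hue⟩ := hQtr _ b hda hb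
    refine ⟨u * d * u⁻¹, h.conj d hd u, ?_⟩
    rw [mul_smul, mul_smul, inv_smul_eq_iff.2 (show u • a = a from hUa hu).symm, hue]

/-- Without multis the members in a two-group commute. -/
theorem mems_commute_of_noMulti (hf : Faithful G Ω) (hn : NoMulti G Ω) {S : Subgroup G} (hS : IsPGroup 2 S)
    {s r : G} (hsS : s ∈ S) (hrS : r ∈ S) (hs : s ∈ D) (hr : r ∈ D) : Commute s r := by
  haveI := Fact.mk Nat.prime_two
  haveI := h.finite_points
  by_cases hrk : RankOne G
  · rw [CfsgLib.Bender.RankOne.unique hrk hS hsS hrS (h.inv s hs) (h.inv r hr)]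
  obtain ⟨a, hsa⟩ := h.fix_exists s hs
  have hra : r • a = a := by
    by_contra hne
    have hodd := h.odd_of_ne hs hr hsa hne
    obtain ⟨k, hk⟩ := IsPGroup.iff_orderOf.1 hS ⟨s * r, mul_mem hsS hrS⟩
    rw [Subgroup.orderOf_mk] at hk
    have h1 : orderOf (s * r) = 1 := Nat.eq_one_of_dvd_coprimes
      ((Nat.coprime_two_left.2 hodd).pow_left k) (dvd_of_eq hk) dvd_rfl
    refine hne ?_
    rw [orderOf_eq_one_iff] at h1
    rw [← inv_eq_of_mul_eq_one_right h1, inv_eq_of_mul_eq_one_right (h.sq hs), hsa]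
  obtain ⟨h2, Q, -, hset, hsw⟩ := h.exists_setup hf hn hrk a
  obtain ⟨b, hb⟩ := h.exists_ne a
  obtain ⟨t, htD, hta⟩ := hsw b hb
  haveI : FaithfulSMul G Ω := faithfulSMul_iff.2 hf
  have hSt := hset t (h.sq htD) (hta ▸ hb)
  exact J_central hSt h2 ⟨hsa, h.ne_one' hs, h.sq hs⟩
    (CfsgLib.Lie.RankOne.J_mem_Q hSt ⟨hra, h.ne_one' hr, h.sq hr⟩)

end Crit

end CfsgLib.AschCrit
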