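import Cfsg.Agent.Lib.Invol.AschCrit.CentMulti
import Cfsg.Agent.Lib.Invol.AschCrit.Local
import Cfsg.Agent.Lib.Bender.Gen.Structure
import Cfsg.Agent.Lib.Bender.Gen.Final

/-!
Owner: helper18. Aschbacher's criterion, slice B: the group induced on the fixed points of a multi.

* `Crit.rankOne_or_family`: a group without multis has one class of commuting involutions or is of Bender type.
* `Crit.cImage_structure`: so is the group induced by `<D cap C(t)>` on `Fix(t)`.
-/

set_option autoImplicit false
set_option linter.unusedSectionVars false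

namespace CfsgLib.AschCrit

open Subgroup

universe u v

variable {G : Type u} [Group G] [Finite G] {Ω : Type v} [MulAction G Ω]

/-- No two different commuting involutions. -/
def RankOne (L : Type u) [Group L] : Prop :=
  ∀ s t : L, orderOf s = 2 → orderOf t = 2 → s * t = t * s → s = t

/-- The permutation group induced on the fixed points of `t` by the members centralising it. -/
abbrev cImage (Ω : Type v) [MulAction G Ω] (D : Set G) (t : G) : Subgroup (Equiv.Perm (MulAction.fixedBy Ω t)) :=
  (MulAction.toPermHom (cGrp D t) (MulAction.fixedBy Ω t)).range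

/-- The members in it. -/
abbrev cImageMems (Ω : Type v) [MulAction G Ω] (D : Set G) (t : G) : Set (cImage Ω D t) :=
  (MulAction.toPermHom (cGrp D t) (MulAction.fixedBy Ω t)).rangeRestrict '' {d : cGrp D t | (d : G) ∈ D}

theorem closure_cImageMems {D : Set G} (t : G) : Subgroup.closure (cImageMems Ω D t) = ⊤ := by
  have h1 : Subgroup.closure {d : cGrp D t | (d : G) ∈ D} = ⊤ := by
    refine (Subgroup.map_injective (cGrp D t).subtype_injective) ?_
    rw [MonoidHom.map_closure, ← MonoidHom.range_eq_map, Subgroup.range_subtype]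
    refine congrArg Subgroup.closure ?_
    ext d
    exact ⟨fun ⟨x, hx, e⟩ => e ▸ ⟨hx, commute_of_mem_cGrp x.2⟩,
      fun hd => ⟨⟨d, mem_cGrp hd.1 hd.2⟩, hd.1, rfl⟩⟩
  rw [cImageMems, ← MonoidHom.map_closure, h1]
  exact Subgroup.map_top_of_surjective _ (MonoidHom.rangeRestrict_surjective _)

namespace Crit

variable {D : Set G} (h : Crit Ω D)
include h

/-- A group without multis has rank one or its 2-elements generate a Bender group. -/
theorem rankOne_or_family (hf : Faithful G Ω) (hn : NoMulti G Ω) :
    RankOne G ∨ CfsgLib.Bender.RankOneFamily ↥(Cfsg.pElementClosure 2 (⊤ : Subgroup G)) := by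
  obtain ⟨d, hd, S, hdS, hcom⟩ := h.central
  obtain ⟨a, ha⟩ := h.fix_exists d hd
  set M := MulAction.stabilizer G a with hM
  have hSE := h.stronglyEmbedded hn a
  by_cases hr : RankOne G
  · exact Or.inl hr
  simp only [RankOne, not_forall] at hr
  obtain ⟨s, t, hs, ht, hc, hne⟩ := hr
  haveI := Fact.mk Nat.prime_two
  -- a four group inside the Sylow group of the member
  have hSM : (S : Subgroup G) ≤ M := fun x hx => h.fix_of_commute' hd (hcom x hx).symm ha
  have hp : IsPGroup 2 ↥(zpowers s ⊔ zpowers t) := by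
    have h1 : ∀ {x : G}, orderOf x = 2 → IsPGroup 2 (zpowers x) := fun hx =>
      IsPGroup.of_card (n := 1) (by rw [Nat.card_zpowers, hx, pow_one])
    refine (h1 hs).to_sup_of_normal_right' (h1 ht) ?_
    refine le_trans (zpowers_le.2 ?_) (centralizer_le_normalizer _)
    refine mem_centralizer_iff.2 fun y hy => ?_
    obtain ⟨i, rfl⟩ := hy
    exact ((show Commute t s from hc.symm).zpow_left i).eq
  obtain ⟨T, hT⟩ := hp.exists_le_sylow
  obtain ⟨g, rfl⟩ := MulAction.exists_smul_eq G S T
  have hin : ∀ {x : G}, x ∈ ((g • S : Sylow 2 G) : Subgroup G) → g⁻¹ * x * g ∈ M := fun {x} hx => by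
    rw [Sylow.coe_subgroup_smul, Subgroup.mem_pointwise_smul_iff_inv_smul_mem] at hx
    refine hSM ?_
    simpa [MulAut.smul_def, mul_assoc] using hx
  have hord : ∀ x : G, orderOf (g⁻¹ * x * g) = orderOf x := fun x => by
    simpa using CfsgLib.Signalizer.orderOf_conj g⁻¹ x
  refine Or.inr (CfsgLib.Bender.closure_family CfsgLib.Bender.benderGen hSE
    ⟨_, hin (hT (mem_sup_left (mem_zpowers s))), _, hin (hT (mem_sup_right (mem_zpowers t))),
      (hord s).trans hs, (hord t).trans ht, fun e => hne (by simpa using e), ?_⟩ ?_)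
  · calc g⁻¹ * s * g * (g⁻¹ * t * g) = g⁻¹ * (s * t) * g := by group
      _ = g⁻¹ * (t * s) * g := by rw [hc]
      _ = _ := by group
  · refine (Subgroup.eq_bot_iff_forall _).2 fun x hx => hf x fun b => ?_
    obtain ⟨k, rfl⟩ := h.trans a b
    have hk : k⁻¹ * x * k ∈ M := by
      have := hx k⁻¹
      rwa [inv_inv] at this
    have hk' : (k⁻¹ * x * k) • a = a := hk
    rw [mul_smul, mul_smul, inv_smul_eq_iff] at hk'
    exact hk'

theorem cGrp_ne_top (hf : Faithful G Ω) {t : G} (ht : IsMulti Ω t) : cGrp D t ≠ ⊤ := fun e => by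
  obtain ⟨ho, a, b, -, hta, -⟩ := ht
  have h1 : t = 1 := hf t fun x => by
    obtain ⟨g, rfl⟩ := h.trans a x
    rw [← mul_smul, ← (commute_of_mem_cGrp (D := D) (t := t) (e ▸ mem_top g : g ∈ cGrp D t)).eq, mul_smul, hta]
  rw [h1, orderOf_one] at ho
  omega

theorem cImage_crit {t : G} (ht : IsMulti Ω t) :
    Crit (MulAction.fixedBy Ω t) (cImageMems Ω D t) := by
  haveI := h.finite_points
  exact (h.centAct ht).image

theorem card_cImage_lt (hf : Faithful G Ω) {t : G} (ht : IsMulti Ω t) :
    Nat.card (cImage Ω D t) < Nat.card G := by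
  refine lt_of_le_of_lt (Nat.card_le_card_of_surjective _
    (MulAction.toPermHom (cGrp D t) (MulAction.fixedBy Ω t)).rangeRestrict_surjective) ?_
  refine lt_of_le_of_ne (cGrp D t).card_le_card_group fun e => h.cGrp_ne_top hf ht ?_
  exact Subgroup.eq_top_of_card_eq _ e

theorem cImage_noMulti (hf : Faithful G Ω) (IH : Below.{v, v} (Nat.card G)) {t : G} (ht : IsMulti Ω t) :
    NoMulti (cImage Ω D t) (MulAction.fixedBy Ω t) :=
  haveI := h.finite_points
  IH _ _ _ (h.card_cImage_lt hf ht) (h.cImage_crit ht) (fun g hg => Subtype.ext (Equiv.ext hg))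
    (closure_cImageMems t)

/-- The structure of the group induced on the fixed points of a multi. -/
theorem cImage_structure (hf : Faithful G Ω) (IH : Below.{v, v} (Nat.card G)) {t : G} (ht : IsMulti Ω t) :
    RankOne (cImage Ω D t) ∨
      CfsgLib.Bender.RankOneFamily ↥(Cfsg.pElementClosure 2 (⊤ : Subgroup (cImage Ω D t))) := by
  haveI := h.finite_points
  exact (h.cImage_crit ht).rankOne_or_family (fun g hg => Subtype.ext (Equiv.ext hg))
    (h.cImage_noMulti hf IH ht)

end Crit

end CfsgLib.AschCrit
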