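import Cfsg.Agent.Lib.Invol.AschCrit.CentKernel
import Cfsg.Agent.Lib.ZStar.Main

/-!
Owner: helper18. Aschbacher's criterion, slice E: the torus centralised by a 2-group at two points.

* `kerGrp`, `kerCore`: the kernel of the action on `Fix u` and its odd core, as subgroups.
* `Crit.comm_mem_kerCore`: `<D cap C(u)>` centralises the kernel modulo its odd core.
* `Crit.mem_kerCore_of_pow`: the kernel modulo its odd core is a 2-group.
* `Crit.exists_lift_centralised`: lifts centralised by a 2-group.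
* `Crit.torusCent`: the interface `TorusCent`.
* `Crit.exists_zeta`: the element `zeta` of unitary type.
-/

set_option autoImplicit false
set_option linter.unusedSectionVars false

namespace CfsgLib.AschCrit

open Subgroup MulAction CfsgLib.Lie.RankOne CfsgLib.Lie.RankOneClass
open CfsgLib.OddTransitive.RankOne (involutionGroup exists_cyclic)

universe u v

variable {G : Type u} [Group G] [Finite G] {Ω : Type v} [MulAction G Ω]

/-- The elements of `<D cap C(u)>` fixing every fixed point of `u`. -/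
abbrev kerGrp (Ω : Type v) [MulAction G Ω] (D : Set G) (u : G) : Subgroup G :=
  (cProj Ω D u).ker.map (cGrp D u).subtype

/-- Its odd core. -/
abbrev kerCore (Ω : Type v) [MulAction G Ω] (D : Set G) (u : G) : Subgroup G :=
  (Cfsg.oddCore (kerGrp Ω D u)).map (kerGrp Ω D u).subtype

variable {D : Set G} {u : G}

theorem mem_kerGrp {x : G} :
    x ∈ kerGrp Ω D u ↔ ∃ hx : x ∈ cGrp D u, cProj Ω D u ⟨x, hx⟩ = 1 := by
  constructor
  · rintro ⟨w, hw, rfl⟩
    exact ⟨w.2, hw⟩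
  · rintro ⟨hx, e⟩
    exact ⟨⟨x, hx⟩, e, rfl⟩

theorem kerCore_le : kerCore Ω D u ≤ kerGrp Ω D u := Subgroup.map_subtype_le _

theorem odd_kerCore : Odd (Nat.card (kerCore Ω D u)) := by
  rw [Subgroup.card_map_of_injective (Subgroup.subtype_injective _)]
  exact CfsgLib.ZStar.odd_card_oddCore _

/-- An odd subgroup of the kernel normalised by it is in its odd core. -/
theorem le_kerCore {N : Subgroup G} (hle : N ≤ kerGrp Ω D u)
    (hn : ∀ k ∈ kerGrp Ω D u, ∀ x ∈ N, k * x * k⁻¹ ∈ N) (hodd : Odd (Nat.card N)) : N ≤ kerCore Ω D u := by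
  intro x hx
  have hN : (N.subgroupOf (kerGrp Ω D u)).Normal := ⟨fun y hy k => by
    rw [Subgroup.mem_subgroupOf] at hy ⊢
    exact hn k k.2 _ hy⟩
  refine ⟨⟨x, hle hx⟩, CfsgLib.ZStar.le_oddCore hN ?_ (Subgroup.mem_subgroupOf.2 hx), rfl⟩
  rwa [Nat.card_congr (Subgroup.subgroupOfEquivOfLe hle).toEquiv]

theorem conj_mem_kerCore_of_mem {k x : G} (hk : k ∈ kerGrp Ω D u) (hx : x ∈ kerCore Ω D u) :
    k * x * k⁻¹ ∈ kerCore Ω D u := by
  haveI : (Cfsg.oddCore (kerGrp Ω D u)).Characteristic := CfsgLib.Core.characteristic_pPrimeCore 2 _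
  obtain ⟨y, hy, rfl⟩ := hx
  exact ⟨_, (inferInstance : (Cfsg.oddCore (kerGrp Ω D u)).Normal).conj_mem y hy ⟨k, hk⟩, rfl⟩

namespace Crit

variable (h : Crit Ω D)
include h

theorem conj_mem_kerGrp {g x : G} (hg : Commute g u) (hx : x ∈ kerGrp Ω D u) : g * x * g⁻¹ ∈ kerGrp Ω D u := by
  obtain ⟨hxc, he⟩ := mem_kerGrp.1 hx
  refine mem_kerGrp.2 ⟨conj_mem_cGrp h hg hxc, ?_⟩
  show cProj Ω D u (conjCGrp h hg ⟨x, hxc⟩) = 1
  rw [cProj_conj h hg (y := 1) (he.trans (map_one _).symm), map_one, map_one]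

theorem conj_mem_kerCore {g x : G} (hg : Commute g u) (hx : x ∈ kerCore Ω D u) :
    g * x * g⁻¹ ∈ kerCore Ω D u := by
  refine le_kerCore (N := (kerCore Ω D u).map (MulAut.conj g).toMonoidHom) ?_ ?_ ?_ ⟨x, hx, rfl⟩
  · rintro _ ⟨y, hy, rfl⟩
    exact h.conj_mem_kerGrp hg (kerCore_le hy)
  · rintro k hk _ ⟨y, hy, rfl⟩
    have hk' : g⁻¹ * k * g ∈ kerGrp Ω D u := by
      have := h.conj_mem_kerGrp hg.inv_left hk
      rwa [inv_inv] at this
    refine ⟨_, conj_mem_kerCore_of_mem hk' hy, ?_⟩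
    simp [mul_assoc]
  · rw [Subgroup.card_map_of_injective (MulAut.conj g).injective]
    exact odd_kerCore

/-- A member centralising `u` centralises the kernel modulo its odd core. -/
theorem comm_mem_kerCore_of_mem (hu : IsMulti Ω u) {d : G} (hd : d ∈ D) (hdu : Commute d u) {x : G}
    (hx : x ∈ kerGrp Ω D u) : d * x * d⁻¹ * x⁻¹ ∈ kerCore Ω D u := by
  set π := cProj Ω D u with hπ
  set δ : cGrp D u := ⟨d, mem_cGrp hd hdu⟩ with hδ
  set X : Subgroup (cGrp D u) := π.ker ⊔ zpowers δ with hX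
  have hXmap : X.map π ≤ zpowers (π δ) := by
    rw [hX, Subgroup.map_sup, (Subgroup.map_eq_bot_iff _).2 le_rfl, bot_sup_eq, MonoidHom.map_zpowers]
  have hpow : ∀ {g}, g ∈ X → ∃ j : ℤ, π δ ^ j = π g := fun hg =>
    Subgroup.mem_zpowers_iff.1 (hXmap (mem_map_of_mem π hg))
  set δX : X := ⟨δ, mem_sup_right (mem_zpowers δ)⟩ with hδX
  have hiso : Cfsg.IsIsolatedInvolution δX := by
    refine ⟨by rw [← Subgroup.orderOf_coe, ← Subgroup.orderOf_coe]; exact h.inv d hd, fun g hg => ?_⟩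
    obtain ⟨j, hj⟩ := hpow g.2
    have he : π δ = π ((g : cGrp D u) * δ * (g : cGrp D u)⁻¹) := by
      rw [map_mul, map_mul, map_inv, ← hj, ((Commute.refl (π δ)).zpow_left j).eq, mul_inv_cancel_right]
    have hc : Commute ((δ : cGrp D u) : G) (((g : cGrp D u) * δ * (g : cGrp D u)⁻¹ : cGrp D u) : G) :=
      congrArg (fun z : X => ((z : cGrp D u) : G)) hg.eq
    exact Subtype.ext (h.eq_of_cProj_eq hu (d := δ) (e := (g : cGrp D u) * δ * (g : cGrp D u)⁻¹) hd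
      (h.conj d hd _) hc he).symm
  obtain ⟨hxc, hxe⟩ := mem_kerGrp.1 hx
  have hmem := CfsgLib.ZStar.mem_oddCore_of_isolated hiso ⟨⟨x, hxc⟩, mem_sup_left hxe⟩
  set N : Subgroup G := ((Cfsg.oddCore X).map X.subtype).map (cGrp D u).subtype with hN
  have hNodd : Odd (Nat.card N) := by
    rw [hN, Subgroup.card_map_of_injective (Subgroup.subtype_injective _),
      Subgroup.card_map_of_injective (Subgroup.subtype_injective _)]
    exact CfsgLib.ZStar.odd_card_oddCore X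
  have hNle : N ≤ kerGrp Ω D u := by
    rintro _ ⟨_, ⟨w, hw, rfl⟩, rfl⟩
    refine ⟨(w : cGrp D u), ?_, rfl⟩
    show π (w : cGrp D u) = 1
    obtain ⟨j, hj⟩ := hpow w.2
    have h1 : orderOf (π (w : cGrp D u)) ∣ 2 := by
      refine orderOf_dvd_of_pow_eq_one ?_
      rw [← hj, ← zpow_natCast, ← zpow_mul, mul_comm, zpow_mul, zpow_natCast, ← map_pow,
        show δ ^ 2 = 1 from Subtype.ext (by
          rw [Subgroup.coe_pow, pow_two]; exact h.sq hd), map_one, one_zpow]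
    have h3 : Odd (orderOf w) :=
      (CfsgLib.ZStar.odd_card_oddCore X).of_dvd_nat (Subgroup.orderOf_dvd_natCard _ hw)
    exact orderOf_eq_one_iff.1 (Nat.eq_one_of_dvd_coprimes (Nat.coprime_two_left.2 h3) h1
      ((orderOf_map_dvd π _).trans (dvd_of_eq (Subgroup.orderOf_coe w))))
  have hNn : ∀ k ∈ kerGrp Ω D u, ∀ y ∈ N, k * y * k⁻¹ ∈ N := by
    rintro _ ⟨k, hk, rfl⟩ _ ⟨_, ⟨w, hw, rfl⟩, rfl⟩
    haveI : (Cfsg.oddCore X).Characteristic := CfsgLib.Core.characteristic_pPrimeCore 2 _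
    refine ⟨_, ⟨_, (inferInstance : (Cfsg.oddCore X).Normal).conj_mem w hw ⟨k, mem_sup_left hk⟩, rfl⟩, by simp⟩
  exact le_kerCore hNle hNn hNodd ⟨_, ⟨_, hmem, rfl⟩, rfl⟩

/-- `<D cap C(u)>` centralises the kernel modulo its odd core. -/
theorem comm_mem_kerCore (hu : IsMulti Ω u) {g : G} (hg : g ∈ cGrp D u) :
    ∀ x ∈ kerGrp Ω D u, g * x * g⁻¹ * x⁻¹ ∈ kerCore Ω D u := by
  refine Subgroup.closure_induction (k := cMems D u)
    (p := fun g _ => ∀ x ∈ kerGrp Ω D u, g * x * g⁻¹ * x⁻¹ ∈ kerCore Ω D u) ?_ ?_ ?_ ?_ hg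
  · exact fun d hd x hx => h.comm_mem_kerCore_of_mem hu hd.1 hd.2 hx
  · intro x _
    rw [show (1 : G) * x * 1⁻¹ * x⁻¹ = 1 by group]; exact one_mem _
  · intro y z hy hz hy' hz' x hx
    have hyu : Commute y u := commute_of_mem_cGrp (D := D) hy
    rw [show y * z * x * (y * z)⁻¹ * x⁻¹ = y * (z * x * z⁻¹ * x⁻¹) * y⁻¹ * (y * x * y⁻¹ * x⁻¹) by group]
    exact mul_mem (h.conj_mem_kerCore hyu (hz' x hx)) (hy' x hx)
  · intro y hy hy' x hx
    have hyu : Commute y u := commute_of_mem_cGrp (D := D) hy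
    rw [show y⁻¹ * x * y⁻¹⁻¹ * x⁻¹ = y⁻¹ * (y * x * y⁻¹ * x⁻¹)⁻¹ * y⁻¹⁻¹ by group]
    exact h.conj_mem_kerCore hyu.inv_left (inv_mem (hy' x hx))

/-- The kernel modulo its odd core is a 2-group. -/
theorem mem_kerCore_of_pow (hu : IsMulti Ω u) {c : G} (hc : c ∈ kerGrp Ω D u) {m : ℕ} (hm : Odd m)
    (hcm : c ^ m ∈ kerCore Ω D u) : c ∈ kerCore Ω D u := by
  set K := kerGrp Ω D u with hK
  haveI : (Cfsg.oddCore K).Characteristic := CfsgLib.Core.characteristic_pPrimeCore 2 _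
  set q := QuotientGroup.mk' (Cfsg.oddCore K) with hq
  set cK : K := ⟨c, hc⟩ with hcK
  have hcore : ∀ {w : K}, (w : G) ∈ kerCore Ω D u → w ∈ Cfsg.oddCore K := fun {w} hw => by
    obtain ⟨w', hw', e⟩ := hw
    rwa [show w = w' from Subtype.ext e.symm]
  have hcen : ∀ r : K ⧸ Cfsg.oddCore K, r * q cK = q cK * r := fun r => by
    obtain ⟨w, rfl⟩ := QuotientGroup.mk'_surjective (Cfsg.oddCore K) r
    have h1 : (w * cK * w⁻¹ * cK⁻¹ : K) ∈ Cfsg.oddCore K :=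
      hcore (h.comm_mem_kerCore hu (mem_kerGrp.1 w.2).1 c hc)
    have h3 : q (w * cK * w⁻¹ * cK⁻¹) = 1 := (QuotientGroup.eq_one_iff _).2 h1
    rw [map_mul, map_mul, map_mul, map_inv, map_inv, mul_inv_eq_one, mul_inv_eq_iff_eq_mul] at h3
    exact h3
  set N := (zpowers (q cK)).comap q with hN
  haveI hzn : (zpowers (q cK)).Normal := ⟨fun y hy r => by
    obtain ⟨j, rfl⟩ := hy
    have : Commute r (q cK) := hcen r
    show r * q cK ^ j * r⁻¹ ∈ _
    rw [(this.zpow_right j).eq, mul_inv_cancel_right]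
    exact zpow_mem (mem_zpowers _) j⟩
  have hodd : Odd (Nat.card N) := by
    rw [hN, hq, CfsgLib.Core.card_comap_mk', Nat.card_zpowers]
    refine (CfsgLib.ZStar.odd_card_oddCore K).mul (hm.of_dvd_nat (orderOf_dvd_of_pow_eq_one ?_))
    rw [← map_pow]
    exact (QuotientGroup.eq_one_iff _).2 (hcore (by rwa [Subgroup.coe_pow]))
  exact ⟨cK, CfsgLib.ZStar.le_oddCore (inferInstance : N.Normal) hodd (mem_zpowers (q cK)), rfl⟩

/-- An element of the two-point stabiliser commuting with the action of `S` lifts to one centralised by `S`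
and normalising `E`. -/
theorem exists_lift_centralised (hf : Faithful G Ω) (IH : Below.{v, v} (Nat.card G)) {a b : Ω} {E : Subgroup G}
    {q i : ℕ} (hu : IsMulti Ω u) (hl : LData D u a b E q i) (S : Subgroup G) (hSp : IsPGroup 2 S)
    (hSfix : ∀ g ∈ S, g • a = a ∧ g • b = b) (hSu : ∀ g ∈ S, Commute g u)
    (hSE : ∀ g ∈ S, ∀ e ∈ E, g * e * g⁻¹ ∈ E) {k₀ : cImage Ω D u} (hk₀a : k₀ • fixPt hl.fix_a = fixPt hl.fix_a)
    (hk₀odd : Odd (orderOf k₀))
    (hk₀S : ∀ (g : G) (hg : Commute g u), g ∈ S →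
      Commute (fixPermOf (Ω := Ω) hg) (k₀ : Equiv.Perm (MulAction.fixedBy Ω u))) :
    ∃ y : cGrp D u, cProj Ω D u y = k₀ ∧ Odd (orderOf (y : G)) ∧ (∀ g ∈ S, Commute (y : G) g) ∧
      ∀ e ∈ E, (y : G) * e * (y : G)⁻¹ ∈ E := by
  classical
  haveI := Fact.mk Nat.prime_two
  haveI := h.finite_points
  haveI : FaithfulSMul (cImage Ω D u) (MulAction.fixedBy Ω u) :=
    faithfulSMul_iff.2 fun g hg => Subtype.ext (Equiv.ext hg)
  obtain ⟨U, hB⟩ := h.bend hf IH hu hl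
  haveI := hB.simple
  set a' := fixPt hl.fix_a with ha'
  set b' := fixPt hl.fix_b with hb'
  have hab' : b' ≠ a' := fun e => hl.ne (congrArg Subtype.val e).symm
  set π := cProj Ω D u with hπ
  have hπsurj : Function.Surjective π := MonoidHom.rangeRestrict_surjective _
  -- the swapper
  obtain ⟨t₀, ht₀, ht₀a, ht₀c⟩ := h.exists_swapper_centralised hl.ne _ (isPGroup_sup_involution hSp hu.1 hSu)
    (fix_sup hSfix hl.fix_a hl.fix_b)
  set t : cGrp D u := ⟨t₀, mem_cGrp ht₀ (ht₀c u (mem_sup_right (mem_zpowers u))).symm⟩ with ht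
  have hta : π t • a' = b' := Subtype.ext ht₀a
  have hS := hB.setup (π t) ((h.cImage_crit hu).sq (h.cProj_mem (d := t) ht₀)) (by rw [hta]; exact hab')
  have h2 := hB.rank
  set Z := involutionGroup hS h2 with hZ
  have hZU : Z ≤ U := by
    rintro z (rfl | hz)
    · exact one_mem _
    · exact CfsgLib.Lie.RankOne.J_mem_Q hS hz
  have hEZ : ∀ e (he : e ∈ E), π ⟨e, hB.memE e he⟩ ∈ Z := fun e he => by
    rcases eq_or_ne e 1 with h1 | h1
    · rw [show (⟨e, hB.memE e he⟩ : cGrp D u) = 1 from Subtype.ext h1, map_one]; exact one_mem _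
    · exact Or.inr (hB.J_mem e he h1)
  -- a lift normalising `E`
  obtain ⟨x, hx⟩ := hπsurj k₀
  set P : Subgroup G := (Z.comap π).map (cGrp D u).subtype with hP
  have hPu : ∀ w ∈ P, Commute w u ∧ w • a = a := by
    rintro _ ⟨w, hw, rfl⟩
    exact ⟨commute_of_mem_cGrp w.2, congrArg Subtype.val (hS.le (hZU hw))⟩
  have hEP : E ≤ P := fun e he => ⟨⟨e, hB.memE e he⟩, hEZ e he, rfl⟩
  have hRP : E.map (MulAut.conj (x : G)).toMonoidHom ≤ P := by
    rintro _ ⟨e, he, rfl⟩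
    refine ⟨x * ⟨e, hB.memE e he⟩ * x⁻¹, ?_, by simp⟩
    show π (x * ⟨e, hB.memE e he⟩ * x⁻¹) ∈ Z
    rw [map_mul, map_mul, map_inv, hx]
    rcases hEZ e he with h1 | h1
    · rw [show π ⟨e, hB.memE e he⟩ = 1 from h1, mul_one, mul_inv_cancel]; exact one_mem _
    · exact Or.inr (conj_mem_J hS h1 hk₀a)
  obtain ⟨z, ⟨z', hz', rfl⟩, hzE⟩ := h.exists_conj_into hl P _ hPu hEP
    ((h.isPGroup_memGroup (F := E) ⟨hl.mem, hl.comm⟩).map _) hRP
  obtain ⟨e₁, he₁, he₁z⟩ : ∃ e, ∃ he : e ∈ E, π ⟨e, hB.memE e he⟩ = π z' := by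
    rcases (show π z' ∈ Z from hz') with h1 | h1
    · exact ⟨1, one_mem _, (map_one π).trans h1.symm⟩
    · obtain ⟨e, he, -, hee⟩ := hB.J_onto _ h1
      exact ⟨e, he, hee⟩
  set y₁ : cGrp D u := ⟨e₁, hB.memE e₁ he₁⟩ * z' * x with hy₁
  have hπy₁ : π y₁ = k₀ := by
    rw [hy₁, map_mul, map_mul, he₁z, hx]
    have h1 : π z' * π z' = 1 :=
      congrArg Subtype.val (CfsgLib.OddTransitive.RankOne.sq_eq_one hS h2 ⟨π z', hz'⟩)
    rw [h1, one_mul]
  have hy₁E : ∀ e ∈ E, (y₁ : G) * e * (y₁ : G)⁻¹ ∈ E := fun e he => by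
    rcases eq_or_ne e 1 with h1 | h1
    · rw [h1, mul_one, mul_inv_cancel]; exact one_mem _
    have h3 := hzE ((x : G) * e * (x : G)⁻¹) ⟨e, he, rfl⟩ (h.conj e (hl.mem e he h1).1 _)
    have h4 := mul_mem (mul_mem he₁ h3) (inv_mem he₁)
    convert h4 using 1
    simp [hy₁, mul_assoc]
  obtain ⟨r, m, hm, hrm⟩ := Nat.exists_eq_two_pow_mul_odd (orderOf_pos y₁).ne'
  obtain ⟨N, hN1, hN2⟩ := exists_pow_lift π y₁ (dvd_of_eq hrm) (by
    rw [hπy₁]; exact (Nat.coprime_two_left.2 hk₀odd).pow_left r)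
  set y₀ : cGrp D u := y₁ ^ N with hy₀
  have hπy₀ : π y₀ = k₀ := hN1.trans hπy₁
  have hpowE : ∀ (n : ℕ) (w : G), (∀ e ∈ E, w * e * w⁻¹ ∈ E) → ∀ e ∈ E, w ^ n * e * (w ^ n)⁻¹ ∈ E := by
    intro n w hw
    induction n with
    | zero => intro e he; simpa using he
    | succ n ih =>
      intro e he
      rw [pow_succ', show w * w ^ n * e * (w * w ^ n)⁻¹ = w * (w ^ n * e * (w ^ n)⁻¹) * w⁻¹ by group]
      exact hw _ (ih e he)
  have hy₀E : ∀ e ∈ E, (y₀ : G) * e * (y₀ : G)⁻¹ ∈ E := by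
    rw [hy₀, Subgroup.coe_pow]; exact hpowE N _ hy₁E
  have hy₀E' : ∀ e ∈ E, (y₀ : G)⁻¹ * e * (y₀ : G) ∈ E := fun e he => by
    obtain ⟨⟨e', he'⟩, hee'⟩ := Finite.surjective_of_injective
      (f := fun e : E => (⟨(y₀ : G) * e * (y₀ : G)⁻¹, hy₀E e e.2⟩ : E))
      (fun e e' h' => Subtype.ext ((MulAut.conj (y₀ : G)).injective (congrArg Subtype.val h' :))) ⟨e, he⟩
    rw [← show (y₀ : G) * e' * (y₀ : G)⁻¹ = e from congrArg Subtype.val hee',
      show (y₀ : G)⁻¹ * ((y₀ : G) * e' * (y₀ : G)⁻¹) * (y₀ : G) = e' by group]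
    exact he'
  have hy₀odd : Odd (orderOf (y₀ : G)) := by
    rw [Subgroup.orderOf_coe]; exact hm.of_dvd_nat hN2
  -- kernel elements normalising `E` centralise it
  have hkerE : ∀ w ∈ kerGrp Ω D u, (∀ e ∈ E, w * e * w⁻¹ ∈ E) → ∀ e ∈ E, Commute w e := by
    intro w hw hwE e he
    obtain ⟨hwc, hwe⟩ := mem_kerGrp.1 hw
    refine mul_inv_eq_iff_eq_mul.1 (hB.inj _ (hwE e he) e he ?_)
    rw [show (⟨w * e * w⁻¹, hB.memE _ (hwE e he)⟩ : cGrp D u) = ⟨w, hwc⟩ * ⟨e, hB.memE e he⟩ * ⟨w, hwc⟩⁻¹ from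
      Subtype.ext rfl, map_mul, map_mul, map_inv, hwe, one_mul, inv_one, mul_one]
  let c : G → G := fun g => g * (y₀ : G) * g⁻¹ * (y₀ : G)⁻¹
  set O₀ : Subgroup G := kerCore Ω D u ⊓ Subgroup.centralizer (E : Set G) with hO₀
  have hc : ∀ g ∈ S, c g ∈ O₀ := by
    intro g hg
    have hgu := hSu g hg
    have hker : c g ∈ kerGrp Ω D u := by
      refine mem_kerGrp.2 ⟨mul_mem (conj_mem_cGrp h hgu y₀.2) (inv_mem y₀.2), ?_⟩
      show π (conjCGrp h hgu y₀ * y₀⁻¹) = 1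
      rw [map_mul, map_inv, mul_inv_eq_one]
      refine Subtype.ext ?_
      rw [hπ, ← fixPermOf_conj h hgu y₀, show cProj Ω D u y₀ = k₀ from hπy₀]
      have h1 : Commute (fixPermOf (Ω := Ω) hgu) (k₀ : Equiv.Perm (MulAction.fixedBy Ω u)) :=
        hk₀S g hgu hg
      rw [h1.eq, mul_inv_cancel_right]
    have hcE : ∀ e ∈ E, c g * e * (c g)⁻¹ ∈ E := fun e he => by
      have h1 : g⁻¹ * ((y₀ : G)⁻¹ * e * y₀) * g⁻¹⁻¹ ∈ E := hSE _ (inv_mem hg) _ (hy₀E' e he)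
      have h3 := hSE g hg _ (hy₀E _ h1)
      convert h3 using 1
      show g * (y₀ : G) * g⁻¹ * (y₀ : G)⁻¹ * e * (g * (y₀ : G) * g⁻¹ * (y₀ : G)⁻¹)⁻¹ = _
      group
    refine ⟨?_, mem_centralizer_iff.2 fun e he => (hkerE _ hker hcE e he).eq.symm⟩
    set A := g * (y₀ : G) * g⁻¹ with hA
    have hcA : c g * (y₀ : G) = A := by
      show g * (y₀ : G) * g⁻¹ * (y₀ : G)⁻¹ * y₀ = A
      rw [hA, inv_mul_cancel_right]
    have hind : ∀ n : ℕ, ∃ o ∈ kerCore Ω D u, A ^ n = o * c g ^ n * (y₀ : G) ^ n := by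
      intro n
      induction n with
      | zero => exact ⟨1, one_mem _, by simp⟩
      | succ n ih =>
        obtain ⟨o, ho, hon⟩ := ih
        have h1 := h.comm_mem_kerCore hu (pow_mem y₀.2 n) _ hker
        refine ⟨_, mul_mem ho (conj_mem_kerCore_of_mem (pow_mem hker n) h1), ?_⟩
        rw [pow_succ, hon, ← hcA, pow_succ (y₀ : G), pow_succ (c g)]
        group
    obtain ⟨o, ho, hon⟩ := hind (orderOf (y₀ : G))
    rw [pow_orderOf_eq_one, mul_one, hA, conj_pow, pow_orderOf_eq_one, mul_one, mul_inv_cancel] at hon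
    refine h.mem_kerCore_of_pow hu hker hy₀odd ?_
    rw [show c g ^ orderOf (y₀ : G) = o⁻¹ from eq_inv_of_mul_eq_one_right hon.symm]
    exact inv_mem ho
  -- a fixed point of `S` in the coset
  have hO₀S : ∀ g ∈ S, ∀ o ∈ O₀, g * o * g⁻¹ ∈ O₀ := fun g hg o ho =>
    ⟨h.conj_mem_kerCore (hSu g hg) ho.1, mem_centralizer_iff.2 fun e he => by
      have h1 : g⁻¹ * e * g⁻¹⁻¹ ∈ E := hSE _ (inv_mem hg) e he
      have h3 : g⁻¹ * e * g⁻¹⁻¹ * o = o * (g⁻¹ * e * g⁻¹⁻¹) := mem_centralizer_iff.1 ho.2 _ h1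
      calc e * (g * o * g⁻¹) = g * (g⁻¹ * e * g⁻¹⁻¹ * o) * g⁻¹ := by group
        _ = g * o * g⁻¹ * e := by rw [h3]; group⟩
  obtain ⟨o, ho, hoS⟩ : ∃ o ∈ O₀, ∀ g ∈ S, Commute (o * (y₀ : G)) g := by
    letI : MulAction S O₀ :=
      { smul := fun g o => ⟨(g : G) * o * (g : G)⁻¹ * c g, mul_mem (hO₀S g g.2 o o.2) (hc g g.2)⟩
        one_smul := fun o => Subtype.ext (by
          show (1 : G) * o * (1 : G)⁻¹ * ((1 : G) * (y₀ : G) * (1 : G)⁻¹ * (y₀ : G)⁻¹) = o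
          group)
        mul_smul := fun g g' o => Subtype.ext (by
          show ((g : G) * g') * o * ((g : G) * g')⁻¹ * (((g : G) * g') * (y₀ : G) * ((g : G) * g')⁻¹ * (y₀ : G)⁻¹) =
            (g : G) * ((g' : G) * o * (g' : G)⁻¹ * ((g' : G) * (y₀ : G) * (g' : G)⁻¹ * (y₀ : G)⁻¹)) * (g : G)⁻¹ *
              ((g : G) * (y₀ : G) * (g : G)⁻¹ * (y₀ : G)⁻¹)
          group) }
    have hodd : Odd (Nat.card O₀) := odd_kerCore.of_dvd_nat (Subgroup.card_dvd_of_le inf_le_left)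
    obtain ⟨o, ho⟩ := hSp.nonempty_fixed_point_of_prime_not_dvd_card O₀
      (Nat.two_dvd_ne_zero.mpr (Nat.odd_iff.mp hodd))
    refine ⟨o, o.2, fun g hg => ?_⟩
    have h1 : g * (o : G) * g⁻¹ * (g * (y₀ : G) * g⁻¹ * (y₀ : G)⁻¹) = o := congrArg Subtype.val (ho ⟨g, hg⟩)
    show (o : G) * y₀ * g = g * ((o : G) * y₀)
    conv_lhs => rw [← h1]
    group
  obtain ⟨hoc, hoe⟩ := mem_kerGrp.1 (kerCore_le ho.1)
  set y : cGrp D u := ⟨o, hoc⟩ * y₀ with hy
  have hyc : (y : G) = o * (y₀ : G) := rfl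
  have hπy : π y = k₀ := by rw [hy, map_mul, hoe, one_mul, hπy₀]
  have hyE : ∀ e ∈ E, (y : G) * e * (y : G)⁻¹ ∈ E := fun e he => by
    have h1 := mem_centralizer_iff.1 ho.2 _ (hy₀E e he)
    rw [hyc, show o * (y₀ : G) * e * (o * (y₀ : G))⁻¹ = o * ((y₀ : G) * e * (y₀ : G)⁻¹) * o⁻¹ by group, ← h1,
      mul_inv_cancel_right]
    exact hy₀E e he
  have hyodd : Odd (orderOf (y : G)) := by
    have hind : ∀ n : ℕ, ∃ o' ∈ kerCore Ω D u, (y : G) ^ n = o' * (y₀ : G) ^ n := by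
      intro n
      induction n with
      | zero => exact ⟨1, one_mem _, by simp⟩
      | succ n ih =>
        obtain ⟨o', ho', hon⟩ := ih
        refine ⟨_, mul_mem ho' (h.conj_mem_kerCore (commute_of_mem_cGrp (pow_mem y₀.2 n)) ho.1), ?_⟩
        rw [pow_succ, hon, hyc, pow_succ (y₀ : G)]
        group
    obtain ⟨o', ho', hon⟩ := hind (orderOf (y₀ : G))
    rw [pow_orderOf_eq_one, mul_one] at hon
    refine (hy₀odd.mul (odd_kerCore (Ω := Ω) (D := D) (u := u))).of_dvd_nat (orderOf_dvd_of_pow_eq_one ?_)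
    rw [pow_mul, hon]
    exact congrArg Subtype.val (pow_card_eq_one' (x := (⟨o', ho'⟩ : kerCore Ω D u)))
  exact ⟨y, hπy, hyodd, hoS, hyE⟩

/-- The torus centralised by `S`. -/
theorem torusCent_aux (hf : Faithful G Ω) (IH : Below.{v, v} (Nat.card G)) {a b : Ω} {E : Subgroup G} {q i : ℕ}
    (hu : IsMulti Ω u) (hl : LData D u a b E q i) (S : Subgroup G) (hSp : IsPGroup 2 S)
    (hSfix : ∀ g ∈ S, g • a = a ∧ g • b = b) (hSu : ∀ g ∈ S, Commute g u)
    (hSE : ∀ g ∈ S, ∀ e ∈ E, g * e * g⁻¹ ∈ E) :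
    ∃ y : G, Odd (orderOf y) ∧ y • a = a ∧ y • b = b ∧ Commute y u ∧ y ∈ cGrp D u ∧ (∀ g ∈ S, Commute y g) ∧
      (∀ e ∈ E, y * e * y⁻¹ ∈ E) ∧
      ∀ e ∈ E, ∀ f ∈ E, e ≠ 1 → f ≠ 1 → (∀ g ∈ S, Commute g e ∧ Commute g f) →
        ∃ j : ℕ, y ^ j * e * (y ^ j)⁻¹ = f := by
  classical
  haveI := Fact.mk Nat.prime_two
  haveI := h.finite_points
  haveI : FaithfulSMul (cImage Ω D u) (MulAction.fixedBy Ω u) :=
    faithfulSMul_iff.2 fun g hg => Subtype.ext (Equiv.ext hg)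
  obtain ⟨U, hB⟩ := h.bend hf IH hu hl
  haveI := hB.simple
  set a' := fixPt hl.fix_a with ha'
  set b' := fixPt hl.fix_b with hb'
  have hab' : b' ≠ a' := fun e => hl.ne (congrArg Subtype.val e).symm
  set π := cProj Ω D u with hπ
  have hπsurj : Function.Surjective π := MonoidHom.rangeRestrict_surjective _
  -- the swapper
  obtain ⟨t₀, ht₀, ht₀a, ht₀c⟩ := h.exists_swapper_centralised hl.ne _ (isPGroup_sup_involution hSp hu.1 hSu)
    (fix_sup hSfix hl.fix_a hl.fix_b)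
  set t : cGrp D u := ⟨t₀, mem_cGrp ht₀ (ht₀c u (mem_sup_right (mem_zpowers u))).symm⟩ with ht
  have hta : π t • a' = b' := Subtype.ext ht₀a
  have hS := hB.setup (π t) ((h.cImage_crit hu).sq (h.cProj_mem (d := t) ht₀)) (by rw [hta]; exact hab')
  have h2 := hB.rank
  set Z := involutionGroup hS h2 with hZ
  have hZU : Z ≤ U := by
    rintro z (rfl | hz)
    · exact one_mem _
    · exact CfsgLib.Lie.RankOne.J_mem_Q hS hz
  have hEZ : ∀ e (he : e ∈ E), π ⟨e, hB.memE e he⟩ ∈ Z := fun e he => by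
    rcases eq_or_ne e 1 with h1 | h1
    · rw [show (⟨e, hB.memE e he⟩ : cGrp D u) = 1 from Subtype.ext h1, map_one]; exact one_mem _
    · exact Or.inr (hB.J_mem e he h1)
  -- the inverted elements centralised by `S`
  obtain ⟨Cy, hCy, hcyc, -⟩ := exists_cyclic hS h2
  haveI := hcyc
  have hmem : ∀ {k}, k ∈ Cy ↔ k ∈ Cfsg.invertedBy
      (stabilizer (cImage Ω D u) a' ⊓ stabilizer (cImage Ω D u) (π t • a')) (π t) := fun {k} => by
    rw [← hCy]; rfl
  let Cs : Subgroup (cImage Ω D u) :=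
    (Subgroup.centralizer {γ : Equiv.Perm (MulAction.fixedBy Ω u) |
      ∃ (g : G) (hg : Commute g u), g ∈ S ∧ γ = fixPermOf hg}).comap (cImage Ω D u).subtype
  haveI : IsCyclic ↥(Cy ⊓ Cs) :=
    isCyclic_of_injective (Subgroup.inclusion inf_le_left) (Subgroup.inclusion_injective _)
  obtain ⟨⟨k₀, hk₀C, hk₀S⟩, hgen⟩ := IsCyclic.exists_generator (α := ↥(Cy ⊓ Cs))
  have hk₀K := hmem.1 hk₀C
  have hk₀a : k₀ • a' = a' := (mem_D.1 hk₀K.1).1
  have hk₀b : k₀ • b' = b' := hta ▸ (mem_D.1 hk₀K.1).2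
  have hk₀odd : Odd (orderOf k₀) := D_odd hS hk₀K.1
  obtain ⟨y, hπy, hyodd, hoS, hyE⟩ := h.exists_lift_centralised hf IH hu hl S hSp hSfix hSu hSE hk₀a hk₀odd
    (fun g hg hgS => Subgroup.mem_centralizer_iff.1 hk₀S _ ⟨g, hg, hgS, rfl⟩)
  refine ⟨y, hyodd, congrArg Subtype.val ((congrArg (· • a') hπy).trans hk₀a),
    congrArg Subtype.val ((congrArg (· • b') hπy).trans hk₀b), commute_of_mem_cGrp y.2, y.2, hoS, hyE, ?_⟩
  intro e he f hf' he1 hf1 hcomm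
  have hpowE : ∀ (n : ℕ), ∀ e ∈ E, (y : G) ^ n * e * ((y : G) ^ n)⁻¹ ∈ E := by
    intro n
    induction n with
    | zero => intro e he; simpa using he
    | succ n ih =>
      intro e he
      rw [pow_succ', show (y : G) * (y : G) ^ n * e * ((y : G) * (y : G) ^ n)⁻¹ =
        (y : G) * ((y : G) ^ n * e * ((y : G) ^ n)⁻¹) * (y : G)⁻¹ by group]
      exact hyE _ (ih e he)
  obtain ⟨k, ⟨hk, hkef⟩, -⟩ := exists_unique_K hS (hB.J_mem e he he1) (hB.J_mem f hf' hf1)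
  have hkS : k ∈ Cs := mem_centralizer_iff.2 fun γ hγ => by
    obtain ⟨g, hgu, hg, rfl⟩ := hγ
    exact (h.fixPermOf_commute hgu hl.fix_a hl.fix_b hB (hSfix g hg).1 (hSfix g hg).2
      (t := t) (ht₀c g (mem_sup_left hg)) hta hS he hf' he1 (hcomm g hg).1 (hcomm g hg).2 hf1 hk hkef).eq
  obtain ⟨j, hj⟩ := (isOfFinOrder_of_finite (⟨k₀, hk₀C, hk₀S⟩ : ↥(Cy ⊓ Cs))).mem_powers_iff_mem_zpowers.2
    (hgen ⟨k⁻¹, Subgroup.mem_inf.2 ⟨Cy.inv_mem (hmem.2 hk), Cs.inv_mem hkS⟩⟩)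
  have hj' : k₀ ^ j = k⁻¹ := congrArg Subtype.val hj
  have hmove := hpowE j e he
  refine ⟨j, hB.inj _ hmove f hf' ?_⟩
  rw [show (⟨(y : G) ^ j * e * ((y : G) ^ j)⁻¹, hB.memE _ hmove⟩ : cGrp D u) =
      y ^ j * ⟨e, hB.memE e he⟩ * (y ^ j)⁻¹ from Subtype.ext (by simp),
    map_mul, map_mul, map_inv, map_pow, hπy, hj', inv_inv]
  exact hkef

/-- In unitary type: the element `zeta` centralised by `R`, free on the fixed points modulo `E`. -/
theorem exists_zeta (hf : Faithful G Ω) (IH : Below.{v, v} (Nat.card G)) {a b : Ω} {E : Subgroup G} {q : ℕ}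
    (hu : IsMulti Ω u) (hl : LData D u a b E q 3) (R : Subgroup G) (hRp : IsPGroup 2 R)
    (hRu : ∀ g ∈ R, Commute g u) (hRE : ∀ g ∈ R, ∀ e ∈ E, Commute g e)
    (hRfix : ∀ g ∈ R, ∀ x : Ω, u • x = x → g • x = x) :
    ∃ z : G, Odd (orderOf z) ∧ z • a = a ∧ z • b = b ∧ z ∈ cGrp D u ∧ Commute z u ∧ (∀ g ∈ R, Commute z g) ∧
      (∀ e ∈ E, Commute z e) ∧
      ∀ g : G, Commute g u → g • a = a → (∃ e ∈ E, ∀ x : Ω, u • x = x → (z * g * z⁻¹ * g⁻¹) • x = e • x) →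
        ∃ e ∈ E, g • b = e • b := by
  classical
  haveI := Fact.mk Nat.prime_two
  haveI := h.finite_points
  haveI : FaithfulSMul (cImage Ω D u) (MulAction.fixedBy Ω u) :=
    faithfulSMul_iff.2 fun g hg => Subtype.ext (Equiv.ext hg)
  obtain ⟨U, hB⟩ := h.bend hf IH hu hl
  haveI := hB.simple
  set a' := fixPt hl.fix_a with ha'
  set b' := fixPt hl.fix_b with hb'
  have hab' : b' ≠ a' := fun e => hl.ne (congrArg Subtype.val e).symm
  set π := cProj Ω D u with hπ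
  obtain ⟨t₀, ht₀, ht₀a, ht₀c⟩ := h.exists_swapper_centralised hl.ne _ (isPGroup_sup_involution hRp hu.1 hRu)
    (fix_sup (fun g hg => ⟨hRfix g hg a hl.fix_a, hRfix g hg b hl.fix_b⟩) hl.fix_a hl.fix_b)
  set t : cGrp D u := ⟨t₀, mem_cGrp ht₀ (ht₀c u (mem_sup_right (mem_zpowers u))).symm⟩ with ht
  have hta : π t • a' = b' := Subtype.ext ht₀a
  have hS := hB.setup (π t) ((h.cImage_crit hu).sq (h.cProj_mem (d := t) ht₀)) (by rw [hta]; exact hab')
  have h2 := hB.rank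
  have hpow : ∀ {m n : ℕ}, q ^ m = q ^ n → m = n := fun e =>
    Nat.pow_right_injective (by have := four_le_q hl; omega) e
  obtain ⟨-, ⟨w, hw, hw1⟩, hW⟩ : Nat.card U = qq (cImage Ω D u) a' ^ 3 ∧ (∃ w ∈ Wg a' (π t), w ≠ 1) ∧
      ∀ w ∈ Wg a' (π t), w ≠ 1 → ∀ y ∈ U, w * y = y * w →
        y = 1 ∨ y ∈ Cfsg.involutionsIn (stabilizer (cImage Ω D u) a' : Set (cImage Ω D u)) := by
    rcases CfsgLib.RankOneInter.TIAuto.shape_cases hS h2 with h1 | ⟨-, h1⟩ | h1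
    · rw [hB.card_U, hB.qq_eq] at h1
      exact absurd (hpow (h1.trans (pow_one q).symm)) (by norm_num)
    · rw [hB.card_U, hB.qq_eq] at h1
      exact absurd (hpow h1) (by norm_num)
    · exact h1
  obtain ⟨hwD, hwJ⟩ := mem_Wg.1 hw
  have hwa : w • a' = a' := (mem_D.1 hwD).1
  have hwb : w • b' = b' := hta ▸ (mem_D.1 hwD).2
  have hwodd : Odd (orderOf w) := D_odd hS hwD
  obtain ⟨z, hπz, hzodd, hzR, hzE⟩ := h.exists_lift_centralised hf IH hu hl R hRp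
    (fun g hg => ⟨hRfix g hg a hl.fix_a, hRfix g hg b hl.fix_b⟩) hRu
    (fun g hg e he => by rw [(hRE g hg e he).eq, mul_inv_cancel_right]; exact he) hwa hwodd
    (fun g hg hgR => by
      rw [show fixPermOf (Ω := Ω) hg = 1 from Equiv.ext fun p => Subtype.ext (hRfix g hgR p p.2)]
      exact Commute.one_left _)
  have hcomm : ∀ e ∈ E, Commute (z : G) e := fun e he => by
    rcases eq_or_ne e 1 with h1 | h1
    · rw [h1]; exact Commute.one_right _
    refine mul_inv_eq_iff_eq_mul.1 (hB.inj _ (hzE e he) e he ?_)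
    rw [show (⟨(z : G) * e * (z : G)⁻¹, hB.memE _ (hzE e he)⟩ : cGrp D u) = z * ⟨e, hB.memE e he⟩ * z⁻¹ from
      Subtype.ext rfl, map_mul, map_mul, map_inv, hπz, hwJ _ (hB.J_mem e he h1), mul_inv_cancel_right]
  have hzb : (z : G) • b = b := congrArg Subtype.val ((congrArg (· • b') hπz).trans hwb)
  refine ⟨z, hzodd, congrArg Subtype.val ((congrArg (· • a') hπz).trans hwa), hzb, z.2,
    commute_of_mem_cGrp z.2, hzR, hcomm, fun g hgu hga ⟨e, he, hge⟩ => ?_⟩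
  have hgub : u • (g • b) = g • b := by rw [← mul_smul, ← hgu.eq, mul_smul, hl.fix_b]
  set p : MulAction.fixedBy Ω u := ⟨g • b, hgub⟩ with hp
  have hpa : p ≠ a' := fun e1 => hl.ne (smul_left_cancel g ((congrArg Subtype.val e1 :).trans hga.symm)).symm
  obtain ⟨⟨v, hv⟩, hvp, -⟩ := CfsgLib.Lie.RankOne.existsUnique_smul hS b' p hab' hpa
  have hwp : w • p = π ⟨e, hB.memE e he⟩ • p := by
    rw [← hπz]
    refine Subtype.ext ?_
    show (z : G) • (g • b) = e • (g • b)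
    rw [← hge _ hgub, ← mul_smul ((z : G) * g * (z : G)⁻¹ * g⁻¹), inv_mul_cancel_right, mul_smul, mul_smul,
      inv_smul_eq_iff.2 hzb.symm]
  rcases eq_or_ne e 1 with h1 | h1
  · rw [show (⟨e, hB.memE e he⟩ : cGrp D u) = 1 from Subtype.ext h1, map_one, one_smul] at hwp
    have hwv : w * v * w⁻¹ = v := by
      obtain ⟨x, -, huniq⟩ := CfsgLib.Lie.RankOne.existsUnique_smul hS b' p hab' hpa
      refine congrArg Subtype.val ((huniq ⟨w * v * w⁻¹, hS.conj_mem w hwa v hv⟩ ?_).trans (huniq ⟨v, hv⟩ hvp).symm)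
      show (w * v * w⁻¹) • b' = p
      rw [mul_smul, mul_smul, inv_smul_eq_iff.2 hwb.symm, hvp, hwp]
    rcases hW w hw hw1 v hv (mul_inv_eq_iff_eq_mul.1 hwv) with h3 | h3
    · refine ⟨1, one_mem _, ?_⟩
      replace hvp : v • b' = p := hvp
      rw [h3, one_smul] at hvp
      rw [one_smul]
      exact (congrArg Subtype.val hvp :).symm
    · obtain ⟨f, hf', -, hfv⟩ := hB.J_onto v h3
      refine ⟨f, hf', ?_⟩
      replace hvp : v • b' = p := hvp
      rw [← hfv] at hvp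
      exact (congrArg Subtype.val hvp :).symm
  · -- a point would be moved by an element of odd order along an involution
    exfalso
    set j := π ⟨e, hB.memE e he⟩ with hj
    have hjJ := hB.J_mem e he h1
    have hcwj : Commute w j := hwJ j hjJ
    have hn : ∀ n : ℕ, w ^ n • p = j ^ n • p := by
      intro n
      induction n with
      | zero => rw [pow_zero, pow_zero]
      | succ n ih =>
        rw [pow_succ', mul_smul, ih, ← mul_smul, (hcwj.pow_right n).eq, mul_smul, hwp, ← mul_smul, ← pow_succ]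
    have h3 := hn (orderOf w)
    obtain ⟨r, hr⟩ := hwodd
    rw [pow_orderOf_eq_one, one_smul, hr, pow_succ, pow_mul,
      show j ^ 2 = 1 by rw [pow_two]; exact hjJ.2.2, one_pow, one_mul] at h3
    exact hpa ((CfsgLib.Lie.RankOneClass.fix_iff hS (CfsgLib.Lie.RankOne.J_mem_Q hS hjJ) hjJ.2.1).1 h3.symm)

/-- The interface `TorusCent`. -/
theorem torusCent (hf : Faithful G Ω) (IH : Below.{v, v} (Nat.card G)) : TorusCent Ω D := by
  intro u a b E q i ht S hSp hS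
  obtain ⟨y, hy1, hy2, hy3, hy4, -, hy5, hy6, hy7⟩ := h.torusCent_aux hf IH ht.multi ht.data S hSp
    (fun g hg => ⟨(hS g hg).1, (hS g hg).2.1⟩) (fun g hg => (hS g hg).2.2.1) fun g hg => (hS g hg).2.2.2
  exact ⟨y, hy1, hy2, hy3, hy4, fun g hg => hy5 g hg, hy6, hy7⟩

end Crit

end CfsgLib.AschCrit
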