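import Cfsg.Agent.Lib.Invol.AschCrit.CentBend

/-!
Owner: helper18. Aschbacher's criterion, slice D: counting tools for the centraliser of an element acting on a
Bender group.

* `dvd_card_of_free`: a free action makes the order of the group divide the number of points.
* `eq_mul_of_two_pow_dvd`, `not_dvd_suzuki`, `dvd_of_unitary`: arithmetic.
* `card_Vg_le`, `coprime_Wg`: the two-point stabiliser in unitary shape.
* `not_dvd_card_setup`: neither `q + 1` divides the order in Suzuki shape nor `q² + 1` in unitary shape.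
-/

set_option autoImplicit false
set_option linter.unusedSectionVars false

namespace CfsgLib.AschCrit

open Subgroup MulAction CfsgLib.Lie.RankOne CfsgLib.Lie.RankOneClass
open CfsgLib.OddTransitive.RankOne (involutionGroup exists_cyclic)

theorem dvd_card_of_free {A X : Type*} [Group A] [MulAction A X] [Finite X] [Finite A]
    (hfree : ∀ (g : A) (x : X), g • x = x → g = 1) : Nat.card A ∣ Nat.card X := by
  haveI := Fintype.ofFinite (orbitRel.Quotient A X)
  rw [Nat.card_congr (selfEquivSigmaOrbitsQuotientStabilizer A X), Nat.card_sigma]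
  refine Finset.dvd_sum fun o _ => ?_
  have h : MulAction.stabilizer A o.out = ⊥ :=
    (Subgroup.eq_bot_iff_forall _).2 fun g hg => hfree g _ hg
  have h1 := Subgroup.card_eq_card_quotient_mul_card_subgroup (MulAction.stabilizer A o.out)
  rw [h, Subgroup.card_bot, mul_one] at h1
  rw [h1, ← h]

/-- `2^m` is congruent to one modulo `2^s - 1` only if `s` divides `m`. -/
theorem eq_mul_of_two_pow_dvd {s m : ℕ} (hs : 1 ≤ s) (h : 2 ^ s - 1 ∣ 2 ^ m - 1) : s ∣ m := by
  have h1 := Nat.pow_sub_one_gcd_pow_sub_one 2 s m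
  rw [Nat.gcd_eq_left h] at h1
  have h2 : 2 ^ s = 2 ^ Nat.gcd s m := by
    have ha := Nat.two_pow_pos s
    have hb := Nat.two_pow_pos (Nat.gcd s m)
    omega
  rw [Nat.pow_right_injective le_rfl h2]
  exact Nat.gcd_dvd_right s m

theorem coprime_succ_of_even {q : ℕ} (hev : Even q) : (q + 1).Coprime (q - 1) := by
  refine Nat.coprime_of_dvd fun p hp h1 h2 => ?_
  rcases Nat.eq_zero_or_pos q with rfl | hq
  · exact hp.one_lt.ne' (Nat.dvd_one.1 h1)
  have h3 := Nat.dvd_sub h1 h2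
  rw [show q + 1 - (q - 1) = 2 by omega] at h3
  rw [(Nat.prime_dvd_prime_iff_eq hp Nat.prime_two).1 h3] at h1
  exact Nat.not_even_iff_odd.2 hev.add_one (even_iff_two_dvd.2 h1)

theorem not_dvd_suzuki {q : ℕ} (hq : 4 ≤ q) (hev : Even q) : ¬ (q + 1 ∣ q ^ 2 * (q - 1) * (q ^ 2 + 1)) := by
  intro h
  have hc1 : (q + 1).Coprime (q ^ 2) := (Nat.coprime_self_add_right.2 (Nat.coprime_one_right q)).symm.pow_right 2
  rw [mul_assoc] at h
  have h1 := (coprime_succ_of_even hev).dvd_of_dvd_mul_left (hc1.dvd_of_dvd_mul_left h)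
  have h2 : q + 1 ∣ (q + 1) * (q - 1) + 2 := by
    convert h1 using 1
    obtain ⟨r, rfl⟩ : ∃ r, q = r + 1 := ⟨q - 1, by omega⟩
    rw [Nat.add_sub_cancel]; ring
  have := Nat.le_of_dvd two_pos ((Nat.dvd_add_right (dvd_mul_right _ _)).1 h2)
  omega

theorem dvd_of_unitary {q V : ℕ} (hq : 4 ≤ q) (hev : Even q)
    (h : q ^ 2 + 1 ∣ q ^ 3 * (V * (q - 1)) * (q ^ 3 + 1)) : q ^ 2 + 1 ∣ V := by
  have hodd : Odd (q ^ 2 + 1) := (hev.pow_of_ne_zero two_ne_zero).add_one
  have hc1 : (q ^ 2 + 1).Coprime (q ^ 3) := by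
    have h1 : (q ^ 2 + 1).Coprime q := by
      rw [pow_two, Nat.coprime_mul_right_add_left]
      exact Nat.coprime_one_left q
    exact h1.pow_right 3
  have hc2 : (q ^ 2 + 1).Coprime (q - 1) := by
    refine Nat.coprime_of_dvd fun p hp h1 h2 => ?_
    have h3 : p ∣ (q - 1) * (q + 1) + 2 := by
      convert h1 using 1
      obtain ⟨r, rfl⟩ : ∃ r, q = r + 1 := ⟨q - 1, by omega⟩
      rw [Nat.add_sub_cancel]; ring
    rw [(Nat.prime_dvd_prime_iff_eq hp Nat.prime_two).1 ((Nat.dvd_add_right (h2.mul_right _)).1 h3)] at h1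
    exact Nat.not_even_iff_odd.2 hodd (even_iff_two_dvd.2 h1)
  have hc3 : (q ^ 2 + 1).Coprime (q ^ 3 + 1) := by
    refine Nat.coprime_of_dvd fun p hp h1 h2 => hp.ne_one ?_
    refine Nat.eq_one_of_dvd_coprimes hc2 h1 ?_
    have h3 : q ^ 3 + 1 + (q - 1) = q * (q ^ 2 + 1) := by
      obtain ⟨r, rfl⟩ : ∃ r, q = r + 1 := ⟨q - 1, by omega⟩
      rw [Nat.add_sub_cancel]; ring
    exact (Nat.dvd_add_right h2).1 (h3 ▸ h1.mul_left q)
  exact hc2.dvd_of_dvd_mul_right (hc1.dvd_of_dvd_mul_left (hc3.dvd_of_dvd_mul_right h))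

variable {L : Type*} [Group L] [Finite L] {Ω : Type*} [MulAction L Ω] [FaithfulSMul L Ω]
  {a : Ω} {t : L} {U : Subgroup L}

/-- `V / W` has fewer elements than there are inverted elements. -/
theorem card_Vg_le (hS : Cfsg.IsRankOneSetup L Ω a t U)
    (h2 : ∃ x y : L, x ≠ 1 ∧ y ≠ 1 ∧ x ≠ y ∧ x * x = 1 ∧ y * y = 1 ∧ x * y = y * x) :
    ∃ r, r ≤ qq L a ∧ Nat.card (Vg a t) = r * Nat.card (Wg a t) := by
  classical
  obtain ⟨C, hC, hcyc, -⟩ := exists_cyclic hS h2
  haveI := hcyc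
  letI : CommGroup C := IsCyclic.commGroup
  obtain ⟨⟨k₀, hk₀⟩, hgen⟩ := IsCyclic.exists_generator (α := C)
  have hmem : ∀ x, x ∈ C ↔ x ∈ Cfsg.invertedBy (stabilizer L a ⊓ stabilizer L (t • a)) t := fun x => by
    rw [← hC]; rfl
  have hk₀K := (hmem k₀).1 hk₀
  have hmaps : ∀ v ∈ Vg a t, v * k₀ * v⁻¹ ∈ Cfsg.invertedBy (stabilizer L a ⊓ stabilizer L (t • a)) t := by
    intro v hv
    obtain ⟨hvD, hvt⟩ := mem_Vg.1 hv
    refine ⟨mul_mem (mul_mem hvD hk₀K.1) (inv_mem hvD), ?_⟩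
    calc t * (v * k₀ * v⁻¹) * t⁻¹ = (t * v) * k₀ * (t * v)⁻¹ := by group
      _ = v * (t * k₀ * t⁻¹) * v⁻¹ := by rw [← hvt]; group
      _ = (v * k₀ * v⁻¹)⁻¹ := by rw [hk₀K.2]; group
  obtain ⟨s, hs⟩ := exists_involution hS
  set W' := (Wg a t).subgroupOf (Vg a t) with hW'
  let f : Vg a t ⧸ W' → C := fun x => ⟨(x.out : L) * k₀ * (x.out : L)⁻¹, (hmem _).2 (hmaps _ x.out.2)⟩
  have hf : Function.Injective f := by
    intro x y e
    rw [← QuotientGroup.out_eq' x, ← QuotientGroup.out_eq' y, QuotientGroup.eq]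
    show ((x.out⁻¹ * y.out : Vg a t) : L) ∈ Wg a t
    have e' : (x.out : L) * k₀ * (x.out : L)⁻¹ = (y.out : L) * k₀ * (y.out : L)⁻¹ := congrArg Subtype.val e
    set v : L := ((x.out⁻¹ * y.out : Vg a t) : L) with hv
    have hvV : v ∈ Vg a t := (x.out⁻¹ * y.out).2
    have hvk : Commute v k₀ := by
      show v * k₀ = k₀ * v
      rw [hv]
      calc (x.out : L)⁻¹ * (y.out : L) * k₀ = (x.out : L)⁻¹ * ((y.out : L) * k₀ * (y.out : L)⁻¹) * y.out := by group
        _ = k₀ * ((x.out : L)⁻¹ * y.out) := by rw [← e']; group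
    have hvC : ∀ c ∈ C, Commute v c := fun c hc => by
      obtain ⟨j, hj⟩ := hgen ⟨c, hc⟩
      rw [show c = k₀ ^ j from (congrArg Subtype.val hj).symm.trans (SubgroupClass.coe_zpow _ _)]
      exact hvk.zpow_right j
    have hsv : v * s * v⁻¹ ∈ Cfsg.involutionsIn (stabilizer L a : Set L) :=
      conj_mem_J hS hs (mem_D.1 (mem_Vg.1 hvV).1).1
    obtain ⟨k, ⟨hk, hks⟩, -⟩ := exists_unique_K hS hs hsv
    have hkC := (hmem k).2 hk
    have hkv : k * v ∈ Wg a t := by
      refine mem_Wg.2 ⟨mul_mem hk.1 (mem_Vg.1 hvV).1, fun s' hs' => ?_⟩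
      obtain ⟨l, ⟨hl, hls⟩, -⟩ := exists_unique_K hS hs hs'
      have hlC := (hmem l).2 hl
      have h1 : k * v * s * (k * v)⁻¹ = s := by
        calc k * v * s * (k * v)⁻¹ = k * (v * s * v⁻¹) * k⁻¹ := by group
          _ = s := by rw [← hks]; group
      have hcl : Commute (k * v) l :=
        (show Commute k l from congrArg Subtype.val (mul_comm (⟨k, hkC⟩ : C) ⟨l, hlC⟩)).mul_left (hvC l hlC)
      have hcs : Commute (k * v) s := mul_inv_eq_iff_eq_mul.1 h1
      rw [← hls]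
      exact ((hcl.inv_right.mul_right hcs).mul_right hcl).eq
    have hk1 : k = 1 := eq_one_of_Vg_K hS (by
      have := mul_mem (Wg_le_Vg hS hkv) (inv_mem hvV)
      rwa [mul_inv_cancel_right] at this) hk
    rwa [hk1, one_mul] at hkv
  refine ⟨Nat.card (Vg a t ⧸ W'), le_trans (Nat.card_le_card_of_injective f hf) (le_trans (le_of_eq ?_)
    (Nat.le_succ _)), ?_⟩
  · rw [← card_K hS]
    exact Nat.card_congr (Equiv.setCongr hC)
  · rw [Subgroup.card_eq_card_quotient_mul_card_subgroup W', hW',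
      Nat.card_congr (Subgroup.subgroupOfEquivOfLe (Wg_le_Vg hS)).toEquiv]

/-- In unitary shape `W` has order prime to `q² + 1`. -/
theorem coprime_Wg (hS : Cfsg.IsRankOneSetup L Ω a t U)
    (h2 : ∃ x y : L, x ≠ 1 ∧ y ≠ 1 ∧ x ≠ y ∧ x * x = 1 ∧ y * y = 1 ∧ x * y = y * x)
    (hU : Nat.card U = qq L a ^ 3)
    (hW : ∀ w ∈ Wg a t, w ≠ 1 → ∀ y ∈ U, w * y = y * w → y = 1 ∨ y ∈ Cfsg.involutionsIn (stabilizer L a : Set L)) :
    (Nat.card (Wg a t)).Coprime (qq L a ^ 2 + 1) := by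
  classical
  refine Nat.coprime_of_dvd fun p hp h1 h1' => ?_
  haveI := Fact.mk hp
  obtain ⟨w, hwp⟩ := exists_prime_orderOf_dvd_card' (G := Wg a t) p h1
  have hwD : (w : L) ∈ stabilizer L a ⊓ stabilizer L (t • a) := (mem_Wg.1 w.2).1
  have hconj : ∀ g ∈ zpowers (w : L), ∀ y ∈ U, g * y * g⁻¹ ∈ U := fun g hg y hy =>
    hS.conj_mem g (mem_D.1 (zpowers_le.2 hwD hg)).1 y hy
  letI : MulAction (zpowers (w : L)) U :=
    { smul := fun g y => ⟨(g : L) * y * (g : L)⁻¹, hconj g g.2 y y.2⟩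
      one_smul := fun y => Subtype.ext (by show (1 : L) * y * (1 : L)⁻¹ = _; simp)
      mul_smul := fun g g' y => Subtype.ext (by
        show ((g : L) * g') * y * ((g : L) * g')⁻¹ = (g : L) * ((g' : L) * y * (g' : L)⁻¹) * (g : L)⁻¹
        group) }
  have hpg : IsPGroup p (zpowers (w : L)) :=
    IsPGroup.of_card (n := 1) (by rw [Nat.card_zpowers, Subgroup.orderOf_coe, hwp, pow_one])
  have hfix : Nat.card (MulAction.fixedPoints (zpowers (w : L)) U) = qq L a := by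
    rw [← card_involutionGroup hS h2]
    refine Nat.card_eq_of_bijective (fun y => (⟨((y.1 : U) : L), ?_⟩ : involutionGroup hS h2))
      ⟨fun y y' e => Subtype.ext (Subtype.ext (congrArg Subtype.val e :)), fun z => ?_⟩
    · refine hW w w.2 ?_ _ y.1.2 (mul_inv_eq_iff_eq_mul.1 (congrArg Subtype.val (y.2 ⟨w, mem_zpowers _⟩)))
      intro e
      have h0 : w = 1 := Subtype.ext e
      rw [h0, orderOf_one] at hwp
      exact hp.ne_one hwp.symm
    · have hzU : (z : L) ∈ U := by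
        rcases z.2 with h | h
        · rw [h]; exact one_mem _
        · exact CfsgLib.Lie.RankOne.J_mem_Q hS h
      refine ⟨⟨⟨z, hzU⟩, fun g => Subtype.ext ?_⟩, Subtype.ext rfl⟩
      show (g : L) * z * (g : L)⁻¹ = z
      rw [mul_inv_eq_iff_eq_mul]
      rcases z.2 with h | h
      · rw [h, mul_one, one_mul]
      · exact (mem_Wg.1 (zpowers_le.2 w.2 g.2)).2 _ h
  have hmod := hpg.card_modEq_card_fixedPoints U
  rw [hfix, hU] at hmod
  have hev : Even (qq L a) := even_qq hS h2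
  set q := qq L a with hq
  have hq4 : 4 ≤ q := four_le_qq hS h2
  have hle : q ≤ q ^ 3 := Nat.le_self_pow three_ne_zero q
  have h3 : p ∣ q ^ 3 - q := (Nat.modEq_iff_dvd' hle).1 hmod.symm
  have h4 : q ^ 3 - q + 2 * q = q * (q ^ 2 + 1) := by
    have : q ^ 3 + q = q * (q ^ 2 + 1) := by ring
    omega
  have h5 : p ∣ 2 * q := (Nat.dvd_add_right h3).1 (h4 ▸ h1'.mul_left q)
  have hpq : ¬ p ∣ q := fun h => hp.one_lt.ne' (Nat.dvd_one.1
    ((Nat.dvd_add_right (h.trans (dvd_pow_self q two_ne_zero))).1 h1'))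
  have hp2 : p = 2 := (Nat.prime_dvd_prime_iff_eq hp Nat.prime_two).1 ((hp.dvd_mul.1 h5).resolve_right hpq)
  subst hp2
  exact hpq (even_iff_two_dvd.1 hev)

/-- The divisibilities excluded by the two shapes. -/
theorem not_dvd_card_setup [IsSimpleGroup L] (hS : Cfsg.IsRankOneSetup L Ω a t U)
    (h2 : ∃ x y : L, x ≠ 1 ∧ y ≠ 1 ∧ x ≠ y ∧ x * x = 1 ∧ y * y = 1 ∧ x * y = y * x) :
    (Nat.card U = qq L a ^ 2 → ¬ (qq L a + 1 ∣ Nat.card L)) ∧
      (Nat.card U = qq L a ^ 3 → ¬ (qq L a ^ 2 + 1 ∣ Nat.card L)) := by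
  have hq4 := four_le_qq hS h2
  have hev := even_qq hS h2
  have hcard : Nat.card L = Nat.card U * (Nat.card (Vg a t) * (qq L a - 1)) * (Nat.card U + 1) := by
    rw [CfsgLib.Lie.RankOne.card_group hS, CfsgLib.Lie.RankOneClass.card_D hS,
      show qq L a - 1 = Nat.card (Cfsg.involutionsIn (stabilizer L a : Set L)) from Nat.add_sub_cancel ..]
  have hpow : ∀ {i j : ℕ}, qq L a ^ i = qq L a ^ j → i = j := fun e => Nat.pow_right_injective (by omega) e
  refine ⟨fun hU hd => ?_, fun hU hd => ?_⟩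
  · rcases CfsgLib.RankOneInter.TIAuto.shape_cases hS h2 with h | ⟨hV, -⟩ | ⟨h, -⟩
    · exact absurd (hpow (hU.symm.trans (h.trans (pow_one _).symm))) (by norm_num)
    · rw [hcard, hU, hV, Subgroup.card_bot, one_mul] at hd
      exact not_dvd_suzuki hq4 hev hd
    · exact absurd (hpow (hU.symm.trans h)) (by norm_num)
  · rcases CfsgLib.RankOneInter.TIAuto.shape_cases hS h2 with h | ⟨-, h⟩ | ⟨-, -, hW⟩
    · exact absurd (hpow (hU.symm.trans (h.trans (pow_one _).symm))) (by norm_num)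
    · exact absurd (hpow (hU.symm.trans h)) (by norm_num)
    · rw [hcard, hU] at hd
      have h1 := dvd_of_unitary hq4 hev hd
      obtain ⟨r, hr, hV⟩ := card_Vg_le hS h2
      rw [hV] at h1
      have h3 := (coprime_Wg hS h2 hU hW).symm.dvd_of_dvd_mul_right h1
      have hr0 : r ≠ 0 := fun e => by
        rw [e, zero_mul] at hV
        exact Nat.card_pos.ne' hV
      have h4 := Nat.le_of_dvd (Nat.pos_of_ne_zero hr0) h3
      have h5 : qq L a ≤ qq L a ^ 2 := Nat.le_self_pow two_ne_zero _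
      omega

end CfsgLib.AschCrit
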