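import Cfsg.Agent.Lib.Invol.AschCrit.Setting
import Mathlib.Algebra.Order.BigOperators.Group.Finset
import Mathlib.Tactic.Group
import Mathlib.Tactic.Ring

/-!
Owner: helper8. Aschbacher's criterion, slice C: the pair counts and the congruence.
-/

set_option autoImplicit false
set_option linter.unusedSectionVars false

namespace CfsgLib.AschCrit

variable {G : Type*} [Group G] {Ω : Type*} [MulAction G Ω]

/-! ### Dihedral groups -/

theorem dih_pow {d u : G} (hd : d * d = 1) (hu : u * u = 1) (j : ℕ) :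
    d * (d * u) ^ j * d = ((d * u) ^ j)⁻¹ := by
  have hdi : d⁻¹ = d := inv_eq_of_mul_eq_one_right hd
  have hui : u⁻¹ = u := inv_eq_of_mul_eq_one_right hu
  have h1 : d * (d * u) * d⁻¹ = (d * u)⁻¹ := by
    rw [mul_inv_rev, hdi, hui, ← mul_assoc d d u, hd, one_mul]
  rw [← inv_pow, ← h1, conj_pow, hdi]

theorem dih_even {d u : G} (hd : d * d = 1) (hu : u * u = 1) (i : ℕ) :
    d * (d * u) ^ (2 * i) = ((d * u) ^ i)⁻¹ * d * (d * u) ^ i := by
  rw [← dih_pow hd hu i, mul_assoc (d * (d * u) ^ i) d d, hd, mul_one, mul_assoc, ← pow_add, two_mul]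

theorem dih_odd {d u : G} (hd : d * d = 1) (hu : u * u = 1) (i : ℕ) :
    d * (d * u) ^ (2 * i + 1) = ((d * u) ^ i)⁻¹ * u * (d * u) ^ i := by
  have hdi : d⁻¹ = d := inv_eq_of_mul_eq_one_right hd
  have hu' : d * (d * u) = u := by rw [← mul_assoc, hd, one_mul]
  rw [← dih_pow hd hu i, pow_succ, two_mul, pow_add]
  calc d * ((d * u) ^ i * (d * u) ^ i * (d * u))
      = d * (d * u) ^ i * ((d * u) ^ i * (d * u)) := by simp only [mul_assoc]
    _ = d * (d * u) ^ i * ((d * u) * (d * u) ^ i) := by rw [← pow_succ, pow_succ']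
    _ = d * (d * u) ^ i * d * (d * (d * u)) * (d * u) ^ i := by
      simp only [mul_assoc]
      rw [← mul_assoc d d, hd, one_mul]
    _ = _ := by rw [hu']

namespace Crit

variable {D : Set G} (h : Crit Ω D)
include h

theorem sq {d : G} (hd : d ∈ D) : d * d = 1 := by
  rw [← pow_two, ← h.inv d hd, pow_orderOf_eq_one]

theorem ne_one' {d : G} (hd : d ∈ D) : d ≠ 1 := fun e => by
  have := h.inv d hd
  rw [e, orderOf_one] at this
  omega

theorem conjBack {d : G} (hd : d ∈ D) (g : G) : g⁻¹ * d * g ∈ D := by simpa using h.conj d hd g⁻¹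

theorem fix_of_commute' {d : G} (hd : d ∈ D) {g : G} (hg : Commute g d) {a : Ω} (ha : d • a = a) :
    g • a = a :=
  h.fix_unique d hd _ _ (by rw [← mul_smul, ← hg.eq, mul_smul, ha]) ha

theorem multi_not_mem {u : G} (hu : IsMulti Ω u) : u ∉ D := fun hD =>
  let ⟨x, y, hxy, hx, hy⟩ := hu.2
  hxy (h.fix_unique u hD x y hx hy)

/-- A non-member involution and a member have a product of even order. -/
theorem even_of_not_mem {d u : G} (hd : d ∈ D) (hu2 : u * u = 1) (hu : u ∉ D) :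
    Even (orderOf (d * u)) := by
  rw [← Nat.not_odd_iff_even]
  rintro ⟨m, hm⟩
  apply hu
  have h1 : d = ((d * u) ^ m)⁻¹ * u * (d * u) ^ m := by
    rw [← dih_odd (h.sq hd) hu2 m, ← hm, pow_orderOf_eq_one, mul_one]
  have h2 : u = (d * u) ^ m * d * ((d * u) ^ m)⁻¹ :=
    calc u = (d * u) ^ m * (((d * u) ^ m)⁻¹ * u * (d * u) ^ m) * ((d * u) ^ m)⁻¹ := by group
      _ = _ := by rw [← h1]
  rw [h2]
  exact h.conj d hd _

/-- The data of a pair with product of order twice an odd number. -/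
theorem split_pair [Finite G] {d u : G} (hd : d ∈ D) (hu2 : u * u = 1) {m : ℕ} (hmo : Odd m)
    (hm : orderOf (d * u) = 2 * m) :
    Commute d ((d * u) ^ m) ∧ Commute u ((d * u) ^ m) ∧ u * (d * u) ^ m ∈ D ∧
      Odd (orderOf (d * (u * (d * u) ^ m))) := by
  have hd2 := h.sq hd
  have ho := pow_orderOf_eq_one (d * u)
  set c := (d * u) ^ m with hc
  have hcc : c * c = 1 := by rw [hc, ← pow_add, ← two_mul, ← hm, ho]
  have hci : c⁻¹ = c := inv_eq_of_mul_eq_one_right hcc
  have hdc : Commute d c := by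
    show d * c = c * d
    conv_rhs => rw [← hci, hc, ← dih_pow hd2 hu2 m]
    rw [mul_assoc, hd2, mul_one]
  have hu' : u = d * (d * u) := by rw [← mul_assoc, hd2, one_mul]
  have huc : Commute u c := by
    rw [hu']
    exact hdc.mul_left (Commute.self_pow (d * u) m)
  refine ⟨hdc, huc, ?_, ?_⟩
  · obtain ⟨i, rfl⟩ := hmo
    have e : u * c = ((d * u) ^ i)⁻¹ * ((d * u)⁻¹ * d * (d * u)) * (d * u) ^ i := by
      have h2 := dih_even hd2 hu2 (i + 1)
      have h3 : u * c = d * (d * u) ^ (2 * (i + 1)) := by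
        rw [hc, show 2 * (i + 1) = (2 * i + 1) + 1 by ring, pow_succ' (d * u) (2 * i + 1),
          ← mul_assoc d (d * u), ← hu']
      rw [h3, h2, pow_succ', mul_inv_rev]
      simp only [mul_assoc]
    rw [e]
    exact h.conjBack (h.conjBack hd _) _
  · refine hmo.of_dvd_nat (orderOf_dvd_of_pow_eq_one ?_)
    rw [← mul_assoc, hc, ← pow_succ', ← pow_mul]
    obtain ⟨i, hi⟩ := hmo
    rw [show (m + 1) * m = orderOf (d * u) * (i + 1) by rw [hm, hi]; ring, pow_mul, ho, one_pow]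

/-- If `u` moves the point of `d`, the product has order twice an odd number. -/
theorem order_moved [Finite G] {d u : G} (hd : d ∈ D) (hu2 : u * u = 1) (hu : u ∉ D) {b : Ω}
    (hb : d • b = b) (hub : u • b ≠ b) : ∃ m, Odd m ∧ orderOf (d * u) = 2 * m := by
  have hd2 := h.sq hd
  obtain ⟨m, hm⟩ := h.even_of_not_mem hd hu2 hu
  refine ⟨m, ?_, by omega⟩
  rw [← Nat.not_even_iff_odd]
  rintro ⟨i, hi⟩
  set c := (d * u) ^ m with hc
  have hcc : c * c = 1 := by rw [hc, ← pow_add, ← hm, pow_orderOf_eq_one]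
  have hci : c⁻¹ = c := inv_eq_of_mul_eq_one_right hcc
  have hdc : Commute d c := by
    show d * c = c * d
    conv_rhs => rw [← hci, hc, ← dih_pow hd2 hu2 m]
    rw [mul_assoc, hd2, mul_one]
  have huc : Commute u c := by
    have : u = d * (d * u) := by rw [← mul_assoc, hd2, one_mul]
    rw [this]
    exact hdc.mul_left (Commute.self_pow (d * u) m)
  have hdcD : d * c ∈ D := by
    rw [hc, hi, ← two_mul, dih_even hd2 hu2 i]
    exact h.conjBack hd _
  refine hub (h.cent d hd (d * c) hdcD (fun e => ?_) ((Commute.refl d).mul_right hdc) u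
    (by rw [← mul_assoc, hd2, one_mul]; exact huc) b hb)
  have hc1 : (d * u) ^ m = 1 := by
    have h1 : d * c = d * 1 := by rw [mul_one]; exact e.symm
    exact mul_left_cancel h1
  have hpos := orderOf_pos (d * u)
  have := Nat.le_of_dvd (by omega) (orderOf_dvd_of_pow_eq_one hc1)
  omega

/-- Members at different points have a product of odd order. -/
theorem odd_of_ne [Finite G] {d e : G} (hd : d ∈ D) (he : e ∈ D) {a : Ω}
    (ha : d • a = a) (hb : e • a ≠ a) : Odd (orderOf (d * e)) := by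
  have hd2 := h.sq hd
  have he2 := h.sq he
  rw [← Nat.not_even_iff_odd]
  rintro ⟨m, hm⟩
  set c := (d * e) ^ m with hc
  have hcc : c * c = 1 := by rw [hc, ← pow_add, ← hm, pow_orderOf_eq_one]
  have hci : c⁻¹ = c := inv_eq_of_mul_eq_one_right hcc
  have hdc : Commute d c := by
    show d * c = c * d
    conv_rhs => rw [← hci, hc, ← dih_pow hd2 he2 m]
    rw [mul_assoc, hd2, mul_one]
  have hec : Commute e c := by
    have : e = d * (d * e) := by rw [← mul_assoc, hd2, one_mul]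
    rw [this]
    exact hdc.mul_left (Commute.self_pow (d * e) m)
  have hdcD : d * c ∈ D := by
    rcases Nat.even_or_odd m with ⟨i, hi⟩ | ⟨i, hi⟩
    · rw [hc, hi, ← two_mul, dih_even hd2 he2 i]; exact h.conjBack hd _
    · rw [hc, hi, dih_odd hd2 he2 i]; exact h.conjBack he _
  refine hb (h.cent d hd (d * c) hdcD (fun e1 => ?_) ((Commute.refl d).mul_right hdc) e
    (by rw [← mul_assoc, hd2, one_mul]; exact hec) a ha)
  have h1 : d * c = d * 1 := by rw [mul_one]; exact e1.symm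
  have hpos := orderOf_pos (d * e)
  have := Nat.le_of_dvd (by omega) (orderOf_dvd_of_pow_eq_one (mul_left_cancel h1))
  omega

/-- The product with the commuting involution. -/
theorem pair_back [Finite G] {u d' x : G} (hu2 : u * u = 1) (hu : u ∉ D) (hd' : d' ∈ D)
    (hud : Commute d' u) (hxc : Commute x (u * d'))
    (hodd : Odd (orderOf (x * d'))) :
    orderOf (x * u) = 2 * orderOf (x * d') ∧ (x * u) ^ orderOf (x * d') = u * d' := by
  have hev : Commute d' (u * d') := hud.mul_right (Commute.refl d')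
  have hcv : Commute (x * d') (u * d') := hxc.mul_left hev
  have hv2 : (u * d') * (u * d') = 1 := by
    rw [← pow_two, hud.symm.mul_pow, pow_two, pow_two, hu2, h.sq hd', one_mul]
  have hru : x * u = (x * d') * (u * d') := by
    rw [← hud.eq, mul_assoc x d', ← mul_assoc d' d', h.sq hd', one_mul]
  have hv1 : u * d' ≠ 1 := fun e => hu (by
    rw [← inv_eq_of_mul_eq_one_left e, inv_eq_of_mul_eq_one_right (h.sq hd')]
    exact hd')
  have hvo : orderOf (u * d') = 2 := orderOf_eq_prime (by rw [pow_two, hv2]) hv1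
  obtain ⟨i, hi⟩ := hodd
  constructor
  · rw [hru, hcv.orderOf_mul_eq_mul_orderOf_of_coprime, hvo, mul_comm]
    rw [hvo, hi]
    exact Nat.coprime_two_right.mpr ⟨i, rfl⟩
  · rw [hru, hcv.mul_pow, pow_orderOf_eq_one, one_mul, hi, pow_succ, pow_mul, pow_two, hv2,
      one_pow, one_mul]

theorem movedCount [Finite G] : MovedCount Ω D := by
  intro u hu
  have hu2 : u * u = 1 := by rw [← pow_two, ← hu.1, pow_orderOf_eq_one]
  have huD := h.multi_not_mem hu
  refine (Nat.card_eq_of_bijective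
    (fun p : {p : G × G // (p.1 ∈ D ∧ Commute p.1 u) ∧ (p.2 ∈ D ∧ Commute p.2 (u * p.1)) ∧
        ∀ x : Ω, p.1 • x = x → p.2 • x ≠ x} =>
      (⟨p.1.2, p.2.2.1.1, fun b hb hub => by
        obtain ⟨⟨e, d⟩, ⟨heD, heu⟩, ⟨hdD, hdv⟩, hmv⟩ := p
        dsimp only at hb hmv hdv
        have hv : (u * e) • b = b := h.fix_of_commute' hdD hdv.symm hb
        rw [← heu.eq, mul_smul, hub] at hv
        exact hmv b hv hb⟩ :
        {d : G // d ∈ D ∧ ∀ x : Ω, d • x = x → u • x ≠ x})) ⟨?_, ?_⟩).symm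
  · rintro ⟨⟨e, d⟩, ⟨heD, heu⟩, ⟨hdD, hdv⟩, hmv⟩ ⟨⟨e', d'⟩, ⟨heD', heu'⟩, ⟨hdD', hdv'⟩, hmv'⟩ hxy
    obtain rfl : d = d' := congrArg Subtype.val hxy
    dsimp only at *
    have key : ∀ e : G, e ∈ D → Commute e u → Commute d (u * e) →
        (∀ x : Ω, e • x = x → d • x ≠ x) → ∃ o, orderOf (d * u) = 2 * o ∧ (d * u) ^ o = u * e := by
      intro e heD heu hdv hmv
      obtain ⟨a, ha⟩ := h.fix_exists e heD
      have hodd : Odd (orderOf (d * e)) := by
        obtain ⟨b, hb⟩ := h.fix_exists d hdD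
        exact h.odd_of_ne hdD heD hb fun e1 => hmv b e1 hb
      exact ⟨_, h.pair_back hu2 huD heD heu hdv hodd⟩
    obtain ⟨o, ho, hce⟩ := key e heD heu hdv hmv
    obtain ⟨o', ho', hce'⟩ := key e' heD' heu' hdv' hmv'
    obtain rfl : e = e' := mul_left_cancel (a := u) (by
      rw [← hce, ← hce', show o = o' by omega])
    rfl
  · rintro ⟨d, hd, hdF⟩
    obtain ⟨b, hb⟩ := h.fix_exists d hd
    obtain ⟨m, hmo, hm⟩ := h.order_moved hd hu2 huD hb (hdF b hb)
    obtain ⟨hdc, huc, he, -⟩ := h.split_pair hd hu2 hmo hm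
    have hue : Commute u (u * (d * u) ^ m) := (Commute.refl u).mul_right huc
    refine ⟨⟨(_, d), ⟨he, hue.symm⟩, ⟨hd, ?_⟩, fun x hx hdx => ?_⟩, rfl⟩
    · show Commute d (u * (u * (d * u) ^ m))
      rw [← mul_assoc, hu2, one_mul]; exact hdc
    · exact hdF x hdx (h.fix_of_commute' he hue hx)

theorem fixedCount [Finite G] : FixedCount Ω D := by
  classical
  intro u a hu hua
  have hu2 : u * u = 1 := by rw [← pow_two, ← hu.1, pow_orderOf_eq_one]
  have huD := h.multi_not_mem hu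
  have hord : ∀ x ∈ D, orderOf (u * x) = orderOf (x * u) := fun x hx => by
    rw [← orderOf_inv (x * u), mul_inv_rev, inv_eq_of_mul_eq_one_right hu2,
      inv_eq_of_mul_eq_one_right (h.sq hx)]
  have hsplit : Nat.card (mems D a) =
      Nat.card {x : G // x ∈ mems D a ∧ 4 ∣ orderOf (u * x)} +
        Nat.card {x : G // x ∈ mems D a ∧ ¬ 4 ∣ orderOf (u * x)} := by
    rw [← Nat.card_sum]
    exact Nat.card_congr
      ((Equiv.sumCompl (fun x : mems D a => 4 ∣ orderOf (u * (x : G)))).symm.trans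
        (Equiv.sumCongr (Equiv.subtypeSubtypeEquivSubtypeInter (· ∈ mems D a) (fun x => 4 ∣ orderOf (u * x)))
          (Equiv.subtypeSubtypeEquivSubtypeInter (· ∈ mems D a) (fun x => ¬ 4 ∣ orderOf (u * x)))))
  rw [hsplit]
  congr 1
  refine (Nat.card_eq_of_bijective
    (fun p : {p : G × G // p.1 ∈ memsC D u a ∧ p.2 ∈ memsC D (u * p.1) a ∧
        Odd (orderOf (p.2 * p.1))} =>
      (⟨p.1.2, ⟨p.2.2.1.1, p.2.2.1.2.1⟩, by
        obtain ⟨hp1, hp2, hodd⟩ := p.2
        rw [hord _ hp2.1, (h.pair_back hu2 huD hp1.1 hp1.2.2 hp2.2.2 hodd).1]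
        obtain ⟨i, hi⟩ := hodd
        omega⟩ : {x : G // x ∈ mems D a ∧ ¬ 4 ∣ orderOf (u * x)})) ⟨?_, ?_⟩).symm
  · rintro ⟨⟨e, d⟩, he, hd, hodd⟩ ⟨⟨e', d'⟩, he', hd', hodd'⟩ hxy
    obtain rfl : d = d' := congrArg Subtype.val hxy
    dsimp only at *
    obtain ⟨ho, hce⟩ := h.pair_back hu2 huD he.1 he.2.2 hd.2.2 hodd
    obtain ⟨ho', hce'⟩ := h.pair_back hu2 huD he'.1 he'.2.2 hd'.2.2 hodd'
    simp only at ho ho' hce hce'
    obtain rfl : e = e' := mul_left_cancel (a := u) (by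
      rw [← hce, ← hce', show orderOf (d * e) = orderOf (d * e') by omega])
    rfl
  · rintro ⟨x, ⟨hxD, hxa⟩, h4⟩
    rw [hord x hxD] at h4
    obtain ⟨m, hm⟩ := h.even_of_not_mem hxD hu2 huD
    have hmo : Odd m := by
      rw [← Nat.not_even_iff_odd]
      rintro ⟨i, hi⟩
      exact h4 ⟨i, by omega⟩
    obtain ⟨hdc, huc, he, hodd⟩ := h.split_pair hxD hu2 hmo (by omega)
    have hue : Commute u (u * (x * u) ^ m) := (Commute.refl u).mul_right huc
    have hst : (x * u) ^ m ∈ MulAction.stabilizer G a :=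
      pow_mem (mul_mem (show x ∈ MulAction.stabilizer G a from hxa) hua) m
    have hea : (u * (x * u) ^ m) • a = a := by
      rw [mul_smul, show (x * u) ^ m • a = a from hst, hua]
    refine ⟨⟨(_, x), ⟨he, hea, hue.symm⟩, ⟨hxD, hxa, ?_⟩, hodd⟩, rfl⟩
    show Commute x (u * (u * (x * u) ^ m))
    rw [← mul_assoc, hu2, one_mul]
    exact hdc

theorem memCongr [Finite G] (hmul : CommMul D) : MemCongr Ω D := by
  classical
  intro a E hE hab hno
  have hfixE : ∀ e ∈ E, e • a = a := fun e he => by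
    rcases eq_or_ne e 1 with rfl | h1
    · exact one_smul _ a
    · exact (hE e he h1).2
  let X : Type _ := {d : G // d ∈ mems D a ∧ d ∉ E}
  let r : X → X → Prop := fun x y => ∃ e ∈ E, ∃ s ∈ E, Commute x.1 s ∧ y.1 = e * x.1 * e⁻¹ * s
  have hconjc : ∀ (x : G) (e s : G), e ∈ E → s ∈ E → Commute x s → ∀ f ∈ E, Commute x f →
      Commute (e * x * e⁻¹ * s) f := fun x e s he hs hxs f hf hxf =>
    (((hab e he f hf).mul_left hxf).mul_left (hab _ (inv_mem he) f hf)).mul_left (hab s hs f hf)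
  have hr : Equivalence r := by
    refine ⟨fun x => ⟨1, one_mem _, 1, one_mem _, Commute.one_right _, by simp⟩, ?_, ?_⟩
    · rintro x y ⟨e, he, s, hs, hxs, hy⟩
      refine ⟨e⁻¹, inv_mem he, s⁻¹, inv_mem hs,
        hy ▸ (hconjc x.1 e s he hs hxs s hs hxs).inv_right, ?_⟩
      rw [hy, inv_inv]
      calc x.1 = e⁻¹ * (e * x.1 * e⁻¹ * s) * (e * e⁻¹) * s⁻¹ * e := by group
        _ = e⁻¹ * (e * x.1 * e⁻¹ * s) * (s⁻¹ * e) := by group
        _ = e⁻¹ * (e * x.1 * e⁻¹ * s) * (e * s⁻¹) := by rw [(hab e he s⁻¹ (inv_mem hs)).eq]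
        _ = _ := by group
    · rintro x y z ⟨e, he, s, hs, hxs, hy⟩ ⟨f, hf, t, ht, hyt, hz⟩
      have hxt : Commute x.1 t := by
        have h1 : Commute (e⁻¹ * (e * x.1 * e⁻¹ * s) * s⁻¹ * e) t :=
          (((hab _ (inv_mem he) t ht).mul_left (hy ▸ hyt)).mul_left
            (hab _ (inv_mem hs) t ht)).mul_left (hab e he t ht)
        rwa [show e⁻¹ * (e * x.1 * e⁻¹ * s) * s⁻¹ * e = x.1 by group] at h1
      refine ⟨f * e, mul_mem hf he, s * t, mul_mem hs ht, hxs.mul_right hxt, ?_⟩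
      rw [hz, hy, mul_inv_rev]
      calc f * (e * x.1 * e⁻¹ * s) * f⁻¹ * t = f * (e * x.1 * e⁻¹) * (s * f⁻¹) * t := by group
        _ = f * (e * x.1 * e⁻¹) * (f⁻¹ * s) * t := by rw [(hab s hs f⁻¹ (inv_mem hf)).eq]
        _ = _ := by group
  letI S : Setoid X := ⟨r, hr⟩
  have hclass : ∀ x : X, Nat.card {y : X // r x y} = Nat.card E := by
    intro x
    let C : Subgroup G :=
      { carrier := {f | f ∈ E ∧ Commute x.1 f}
        mul_mem' := fun {p q} hp hq => ⟨mul_mem hp.1 hq.1, hp.2.mul_right hq.2⟩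
        one_mem' := ⟨one_mem _, Commute.one_right _⟩
        inv_mem' := fun {p} hp => ⟨inv_mem hp.1, hp.2.inv_right⟩ }
    have hCE : C ≤ E := fun f hf => hf.1
    have hmem : ∀ e ∈ E, ∀ s ∈ C, e * x.1 * e⁻¹ * s ∈ mems D a ∧ e * x.1 * e⁻¹ * s ∉ E := by
      intro e he s hs
      refine ⟨⟨?_, ?_⟩, fun hE' => x.2.2 ?_⟩
      · have hxs : x.1 * s ∈ D := by
          rcases eq_or_ne s 1 with rfl | h1
          · rw [mul_one]; exact x.2.1.1
          · exact hmul x.1 x.2.1.1 s (hE s hs.1 h1).1 (fun e1 => x.2.2 (e1 ▸ hs.1)) hs.2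
        have h2 := h.conj _ hxs e
        rwa [show e * (x.1 * s) * e⁻¹ = e * x.1 * e⁻¹ * s by
          rw [mul_assoc (e * x.1), ← mul_assoc e x.1 s, mul_assoc (e * x.1) s,
            (hab s hs.1 e⁻¹ (inv_mem he)).eq]] at h2
      · rw [mul_smul, mul_smul, mul_smul, hfixE s hs.1, hfixE _ (inv_mem he), x.2.1.2, hfixE e he]
      · have h3 := mul_mem (mul_mem (inv_mem he) (mul_mem hE' (inv_mem hs.1))) he
        rwa [show e⁻¹ * (e * x.1 * e⁻¹ * s * s⁻¹) * e = x.1 by group] at h3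
    let f : (E ⧸ C.subgroupOf E) × C → {y : X // r x y} := fun p =>
      Quotient.liftOn' p.1 (fun e => (⟨⟨e.1 * x.1 * e.1⁻¹ * p.2.1, hmem e.1 e.2 p.2.1 p.2.2⟩,
        e.1, e.2, p.2.1, p.2.2.1, p.2.2.2, rfl⟩ : {y : X // r x y})) (fun e e' hee => by
          refine Subtype.ext (Subtype.ext ?_)
          have h1 : (e.1⁻¹ * e'.1 : G) ∈ C := by
            have := QuotientGroup.leftRel_apply.mp hee
            rw [Subgroup.mem_subgroupOf] at this
            exact this
          show e.1 * x.1 * e.1⁻¹ * p.2.1 = e'.1 * x.1 * e'.1⁻¹ * p.2.1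
          have h2 : e'.1 * x.1 * e'.1⁻¹ = e.1 * ((e.1⁻¹ * e'.1) * x.1 * (e.1⁻¹ * e'.1)⁻¹) * e.1⁻¹ := by
            group
          rw [h2, h1.2.symm.eq, mul_inv_cancel_right])
    have hf : Function.Bijective f := by
      refine ⟨?_, ?_⟩
      · rintro ⟨q, s⟩ ⟨q', s'⟩ hqq
        induction q using QuotientGroup.induction_on with
        | _ e =>
        induction q' using QuotientGroup.induction_on with
        | _ e' =>
        have h1 : e.1 * x.1 * e.1⁻¹ * s.1 = e'.1 * x.1 * e'.1⁻¹ * s'.1 :=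
          congrArg (fun y : {y : X // r x y} => y.1.1) hqq
        set g := e.1⁻¹ * e'.1 with hg
        have hgE : g ∈ E := mul_mem (inv_mem e.2) e'.2
        have ht : (s * s'⁻¹ : C).1 = s.1 * s'.1⁻¹ := rfl
        have h2 : x.1 * (s.1 * s'.1⁻¹) = g * x.1 * g⁻¹ := by
          have hcs : e.1⁻¹ * (s.1 * s'.1⁻¹) = s.1 * s'.1⁻¹ * e.1⁻¹ :=
            (hab _ (inv_mem e.2) _ (mul_mem s.2.1 (inv_mem s'.2.1))).eq
          calc x.1 * (s.1 * s'.1⁻¹)
              = e.1⁻¹ * (e.1 * x.1 * (s.1 * s'.1⁻¹ * e.1⁻¹)) * e.1 := by group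
            _ = e.1⁻¹ * (e.1 * x.1 * e.1⁻¹ * s.1) * s'.1⁻¹ * e.1 := by rw [← hcs]; group
            _ = e.1⁻¹ * (e'.1 * x.1 * e'.1⁻¹) * e.1 := by rw [h1]; group
            _ = _ := by rw [hg]; group
        have h3 : x.1 * g * x.1⁻¹ * g⁻¹ = (s.1 * s'.1⁻¹)⁻¹ := by
          have : g * x.1⁻¹ = (s.1 * s'.1⁻¹)⁻¹ * x.1⁻¹ * g := by
            rw [← mul_inv_rev, h2]
            group
          calc x.1 * g * x.1⁻¹ * g⁻¹ = x.1 * (g * x.1⁻¹) * g⁻¹ := by group
            _ = x.1 * ((s.1 * s'.1⁻¹)⁻¹ * x.1⁻¹ * g) * g⁻¹ := by rw [this]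
            _ = _ := by
              rw [((show Commute x.1 (s.1 * s'.1⁻¹) from
                s.2.2.mul_right s'.2.2.inv_right).inv_right.inv_left).symm.eq]
              group
        have hcg : Commute x.1 g := hno x.1 x.2.1 g hgE
          (by rw [h3]; exact inv_mem (mul_mem s.2.1 (inv_mem s'.2.1)))
          (by rw [h3]; exact (s.2.2.mul_right s'.2.2.inv_right).inv_right.symm)
        have hss : s = s' := by
          have : x.1 * (s.1 * s'.1⁻¹) = x.1 * 1 := by
            rw [h2, ← hcg.eq, mul_inv_cancel_right, mul_one]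
          exact Subtype.ext (mul_inv_eq_one.mp (mul_left_cancel this))
        subst hss
        refine Prod.ext (QuotientGroup.eq.mpr ?_) rfl
        rw [Subgroup.mem_subgroupOf]
        exact ⟨hgE, hcg⟩
      · rintro ⟨y, e, he, s, hs, hxs, hy⟩
        exact ⟨(((⟨e, he⟩ : E) : E ⧸ C.subgroupOf E), ⟨s, hs, hxs⟩),
          Subtype.ext (Subtype.ext hy.symm)⟩
    rw [← Nat.card_eq_of_bijective f hf, Nat.card_prod,
      ← Nat.card_congr (Subgroup.subgroupOfEquivOfLe hCE).toEquiv]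
    exact (Subgroup.card_eq_card_quotient_mul_card_subgroup _).symm
  have hX : Nat.card E ∣ Nat.card X := by
    haveI : Fintype (Quotient S) := Fintype.ofFinite _
    rw [Nat.card_congr (Equiv.sigmaFiberEquiv (Quotient.mk S)).symm, Nat.card_sigma]
    refine Finset.dvd_sum fun q _ => ?_
    induction q using Quotient.inductionOn with
    | _ x =>
    rw [← hclass x]
    refine (Nat.card_congr (Equiv.subtypeEquivRight fun y => ?_)).dvd
    exact ⟨fun hh => Quotient.sound (hr.symm hh : r y x), fun hh => hr.symm (Quotient.exact hh : r y x)⟩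
  have hsplit : Nat.card (mems D a) + 1 = Nat.card X + Nat.card E := by
    have e1 : Nat.card (mems D a) = Nat.card X + Nat.card {d : G // d ∈ mems D a ∧ d ∈ E} := by
      rw [← Nat.card_sum]
      exact Nat.card_congr
        ((Equiv.sumCompl (fun x : mems D a => (x : G) ∈ E)).symm.trans ((Equiv.sumComm _ _).trans
          (Equiv.sumCongr (Equiv.subtypeSubtypeEquivSubtypeInter (· ∈ mems D a) (· ∉ E))
            (Equiv.subtypeSubtypeEquivSubtypeInter (· ∈ mems D a) (· ∈ E)))))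
    have e2 : Nat.card E = Nat.card {d : G // d ∈ mems D a ∧ d ∈ E} + 1 := by
      have e3 : {d : G // d ∈ mems D a ∧ d ∈ E} ≃ {e : E // ¬ e = 1} :=
        { toFun := fun d => ⟨⟨d.1, d.2.2⟩, fun e1 =>
            h.ne_one' d.2.1.1 (congrArg Subtype.val e1)⟩
          invFun := fun e => ⟨e.1.1, hE e.1.1 e.1.2 (fun e1 => e.2 (Subtype.ext e1)), e.1.2⟩
          left_inv := fun _ => rfl
          right_inv := fun _ => rfl }
      rw [Nat.card_congr e3, add_comm, ← Nat.card_unique (α := {e : E // e = 1}), ← Nat.card_sum]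
      exact (Nat.card_congr (Equiv.sumCompl _)).symm
    omega
  rw [hsplit]
  exact Nat.dvd_add hX dvd_rfl

end Crit

end CfsgLib.AschCrit
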