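import Cfsg.Agent.Lib.Invol.AschCrit.Swap
import Mathlib.GroupTheory.GroupAction.SubMulAction
import Mathlib.Tactic.Push

/-!
Owner: helper8. Aschbacher's criterion, slice A: subgroups with members at two points inherit the
hypotheses.
-/

set_option autoImplicit false
set_option linter.unusedSectionVars false
set_option linter.style.haveILetI false

namespace CfsgLib.AschCrit

variable {G : Type*} [Group G] [Finite G] {Ω : Type*} [MulAction G Ω]

/-- The members in a subgroup, as a subset of that subgroup. -/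
def memsIn (D : Set G) (K : Subgroup G) : Set K := {d | (d : G) ∈ D}

/-- The points of the members in a subgroup. -/
def subPoints {D : Set G} (h : Crit Ω D) (K : Subgroup G) : SubMulAction K Ω where
  carrier := {x | ∃ d ∈ D, d ∈ K ∧ d • x = x}
  smul_mem' := by
    rintro g x ⟨d, hd, hdK, hdx⟩
    refine ⟨(g : G) * d * (g : G)⁻¹, h.conj d hd g, mul_mem (mul_mem g.2 hdK) (inv_mem g.2), ?_⟩
    show ((g : G) * d * (g : G)⁻¹) • (g : G) • x = (g : G) • x
    rw [mul_smul, mul_smul, inv_smul_smul, hdx]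

namespace Crit

variable {D : Set G} (h : Crit Ω D)
include h

/-- Members at different points of a subgroup are conjugate by a swapper inside it. -/
theorem exists_swapper_in {K : Subgroup G} {d e : G} (hd : d ∈ D) (he : e ∈ D) (hdK : d ∈ K)
    (heK : e ∈ K) {x : Ω} (hdx : d • x = x) (hne : e • x ≠ x) :
    ∃ t ∈ D, t ∈ K ∧ t * d * t = e ∧ e • t • x = t • x := by
  obtain ⟨i, hi⟩ := h.odd_of_ne hd he hdx hne
  have hd2 := h.sq hd
  have he2 := h.sq he
  set t := d * (d * e) ^ (i + 1) with ht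
  have htD : t ∈ D := by
    rcases Nat.even_or_odd (i + 1) with ⟨j, hj⟩ | ⟨j, hj⟩
    · rw [ht, hj, ← two_mul, dih_even hd2 he2 j]; exact h.conjBack hd _
    · rw [ht, hj, dih_odd hd2 he2 j]; exact h.conjBack he _
  have htd : t * d * t = e := by
    have h1 : d * d * (d * e) ^ (i + 1) = (d * e) ^ (i + 1) := by rw [hd2, one_mul]
    calc t * d * t = d * (d * e) ^ (i + 1) * (d * d * (d * e) ^ (i + 1)) := by
          simp only [ht, mul_assoc]
      _ = d * ((d * e) ^ (i + 1) * (d * e) ^ (i + 1)) := by rw [h1, mul_assoc]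
      _ = d * ((d * e) ^ orderOf (d * e) * (d * e)) := by
        rw [← pow_add, ← pow_succ, hi]; ring_nf
      _ = e := by rw [pow_orderOf_eq_one, one_mul, ← mul_assoc, hd2, one_mul]
  refine ⟨t, htD, mul_mem hdK (pow_mem (mul_mem hdK heK) _), htd, ?_⟩
  calc e • t • x = (t * d * (t * t)) • x := by rw [smul_smul, ← htd]; simp only [mul_assoc]
    _ = t • x := by rw [h.sq htD, mul_one, mul_smul, hdx]

/-- The number of members of a subgroup at a point is odd. -/
theorem odd_memsIn (hf : Faithful G Ω) (K : Subgroup G) {d₀ e₀ : G} (hd₀ : d₀ ∈ D) (he₀ : e₀ ∈ D)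
    (hd₀K : d₀ ∈ K) (he₀K : e₀ ∈ K) {a b : Ω} (ha : d₀ • a = a) (hb : e₀ • b = b) (hab : a ≠ b) :
    Odd (Nat.card {d : G // (d ∈ D ∧ d • b = b) ∧ d ∈ K}) := by
  classical
  have hne : e₀ • a ≠ a := fun e => hab (h.fix_unique e₀ he₀ a b e hb)
  obtain ⟨t, ht, htK, -, htfix⟩ := h.exists_swapper_in hd₀ he₀ hd₀K he₀K ha hne
  have hta : t • a = b := h.fix_unique e₀ he₀ _ _ htfix hb
  -- the swappers in the subgroup
  have hbij := h.swap_bijective hab hd₀ ha
  have h1 : Nat.card {d : G // (d ∈ D ∧ d • b = b) ∧ d ∈ K} =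
      Nat.card {s : G // (s ∈ D ∧ s • a = b) ∧ s ∈ K} := by
    refine (Nat.card_eq_of_bijective (fun s : {s : G // (s ∈ D ∧ s • a = b) ∧ s ∈ K} =>
      (⟨s.1 * d₀ * s.1, ⟨by
          have := h.conj d₀ hd₀ s.1
          rwa [inv_eq_of_mul_eq_one_right (h.sq s.2.1.1)] at this,
        by rw [mul_smul, mul_smul, h.swap_back' s.2.1.1 s.2.1.2, ha, s.2.1.2]⟩,
        mul_mem (mul_mem s.2.2 hd₀K) s.2.2⟩ : {d : G // (d ∈ D ∧ d • b = b) ∧ d ∈ K})) ⟨?_, ?_⟩).symm
    · intro s s' hss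
      have h2 := hbij.1 (a₁ := ⟨s.1, s.2.1⟩) (a₂ := ⟨s'.1, s'.2.1⟩)
        (Subtype.ext (congrArg (fun x : {d : G // (d ∈ D ∧ d • b = b) ∧ d ∈ K} => x.1) hss))
      exact Subtype.ext (congrArg Subtype.val h2 :)
    · rintro ⟨e, ⟨he, heb⟩, heK⟩
      have hne' : e • a ≠ a := fun e1 => hab (h.fix_unique e he a b e1 heb)
      obtain ⟨s, hs, hsK, hse, hsfix⟩ := h.exists_swapper_in hd₀ he hd₀K heK ha hne'
      exact ⟨⟨s, ⟨hs, h.fix_unique e he _ _ hsfix heb⟩, hsK⟩, Subtype.ext hse⟩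
  rw [h1]
  -- they form one orbit of an odd group
  set N := pairCore (G := G) a b ⊓ K with hN
  letI : MulAction N {s : G // (s ∈ D ∧ s • a = b) ∧ s ∈ K} :=
    { smul := fun g s => ⟨(g : G) * s.1 * (g : G)⁻¹, ⟨h.conj s.1 s.2.1.1 g, by
          have hg := pairCore_le a b g.2.1
          rw [mul_smul, mul_smul, inv_smul_eq_iff.mpr (show (g : G) • a = a from hg.1).symm, s.2.1.2,
            show (g : G) • b = b from hg.2]⟩,
        mul_mem (mul_mem g.2.2 s.2.2) (inv_mem g.2.2)⟩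
      one_smul := fun s => Subtype.ext (by show (1 : G) * s.1 * (1 : G)⁻¹ = _; simp)
      mul_smul := fun g g' s => Subtype.ext (by
        show ((g : G) * g') * s.1 * ((g : G) * g')⁻¹ = (g : G) * ((g' : G) * s.1 * (g' : G)⁻¹) * (g : G)⁻¹
        group) }
  let t' : {s : G // (s ∈ D ∧ s • a = b) ∧ s ∈ K} := ⟨t, ⟨ht, hta⟩, htK⟩
  have horb : ∀ s, s ∈ MulAction.orbit N t' := by
    rintro ⟨s, ⟨hs, hsa⟩, hsK⟩
    have hmem := h.mul_mem_pairCore hf hab hs ht hsa hta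
    obtain ⟨i, hi⟩ := h.odd_swappers hf hab ht hs hta hsa
    refine ⟨⟨((t * s) ^ (i + 1))⁻¹, Subgroup.inv_mem _ (Subgroup.pow_mem _ hmem _),
      Subgroup.inv_mem _ (Subgroup.pow_mem _ (K.mul_mem htK hsK) _)⟩, Subtype.ext ?_⟩
    show ((t * s) ^ (i + 1))⁻¹ * t * (((t * s) ^ (i + 1))⁻¹)⁻¹ = s
    rw [inv_inv, ← dih_even (h.sq ht) (h.sq hs) (i + 1),
      show 2 * (i + 1) = orderOf (t * s) + 1 by omega, pow_succ, pow_orderOf_eq_one, one_mul,
      ← mul_assoc, h.sq ht, one_mul]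
  rw [← Nat.card_congr ((Equiv.Set.univ _)), ← Set.eq_univ_of_forall horb,
    Nat.card_congr (MulAction.orbitEquivQuotientStabilizer N t'), ← Subgroup.index]
  exact Odd.of_dvd_nat (odd_pairCore (G := G) a b)
    ((Subgroup.index_dvd_card _).trans (Subgroup.card_dvd_of_le inf_le_left))

/-- The subgroup generated by members at two points satisfies the hypotheses. -/
theorem crit_sub (hf : Faithful G Ω) (K : Subgroup G) {d₀ e₀ : G} (hd₀ : d₀ ∈ D) (he₀ : e₀ ∈ D)
    (hd₀K : d₀ ∈ K) (he₀K : e₀ ∈ K) {a b : Ω} (ha : d₀ • a = a) (hb : e₀ • b = b) (hab : a ≠ b) :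
    Crit (subPoints h K) (memsIn D K) := by
  classical
  haveI : Fact (Nat.Prime 2) := ⟨Nat.prime_two⟩
  have hconjG : ∀ d ∈ D, ∀ e ∈ D, d ∈ K → e ∈ K → ∀ x : Ω, d • x = x → e • x ≠ x →
      ∃ g ∈ K, g * d * g⁻¹ = e := by
    intro d hd e he hdK heK x hdx hne
    obtain ⟨t, ht, htK, hte, -⟩ := h.exists_swapper_in hd he hdK heK hdx hne
    exact ⟨t, htK, by rw [inv_eq_of_mul_eq_one_right (h.sq ht)]; exact hte⟩
  have hfixK : ∀ (d : K) (x : subPoints h K), d • x = x ↔ (d : G) • (x : Ω) = x := fun d x =>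
    ⟨fun e => congrArg Subtype.val e, fun e => Subtype.ext e⟩
  have ham : a ∈ subPoints h K := ⟨d₀, hd₀, hd₀K, ha⟩
  have hbm : b ∈ subPoints h K := ⟨e₀, he₀, he₀K, hb⟩
  refine
    { trans := ?_
      exists_ne := fun x => ?_
      inv := fun d hd => (Subgroup.orderOf_coe d).symm.trans (h.inv _ hd)
      conj := fun d hd g => h.conj _ hd g
      one_class := ?_
      fix_exists := fun d hd => ?_
      fix_unique := fun d hd x y hx hy =>
        Subtype.ext (h.fix_unique _ hd _ _ ((hfixK d x).mp hx) ((hfixK d y).mp hy))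
      central := ?_
      cent := fun d hd e he hne hc g hg x hx => ?_ }
  · rintro ⟨x, d, hd, hdK, hdx⟩ ⟨y, e, he, heK, hey⟩
    by_cases hxy : e • x = x
    · exact ⟨1, Subtype.ext (by
        show (1 : G) • x = y
        rw [one_smul]; exact h.fix_unique e he x y hxy hey)⟩
    · obtain ⟨t, -, htK, -, htfix⟩ := h.exists_swapper_in hd he hdK heK hdx hxy
      exact ⟨⟨t, htK⟩, Subtype.ext (h.fix_unique e he _ _ htfix hey)⟩
  · by_cases hxa : (x : Ω) = a
    · exact ⟨⟨b, hbm⟩, fun e => hab (by rw [← hxa, ← e])⟩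
    · exact ⟨⟨a, ham⟩, fun e => hxa (by rw [← e])⟩
  · intro d hd e he
    obtain ⟨x, hdx⟩ := h.fix_exists _ hd
    by_cases hne : (e : G) • x = x
    · obtain ⟨f, hf', hfK, hfx⟩ : ∃ f ∈ D, f ∈ K ∧ f • x ≠ x := by
        by_cases hda : d₀ • x = x
        · exact ⟨e₀, he₀, he₀K, fun e1 => hab
            ((h.fix_unique d₀ hd₀ a x ha hda).trans (h.fix_unique e₀ he₀ x b e1 hb))⟩
        · exact ⟨d₀, hd₀, hd₀K, hda⟩
      obtain ⟨g₁, hg₁, e₁⟩ := hconjG d hd f hf' d.2 hfK x hdx hfx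
      obtain ⟨g₂, hg₂, e₂⟩ := hconjG e he f hf' e.2 hfK x hne hfx
      refine ⟨⟨g₂⁻¹ * g₁, mul_mem (inv_mem hg₂) hg₁⟩, Subtype.ext ?_⟩
      show g₂⁻¹ * g₁ * d * (g₂⁻¹ * g₁)⁻¹ = e
      calc g₂⁻¹ * g₁ * d * (g₂⁻¹ * g₁)⁻¹ = g₂⁻¹ * (g₁ * d * g₁⁻¹) * g₂ := by group
        _ = g₂⁻¹ * (g₂ * e * g₂⁻¹) * g₂ := by rw [e₁, ← e₂]
        _ = e := by group
    · obtain ⟨g, hg, e₁⟩ := hconjG d hd e he d.2 e.2 x hdx hne
      exact ⟨⟨g, hg⟩, Subtype.ext e₁⟩
  · obtain ⟨x, hx⟩ := h.fix_exists _ hd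
    exact ⟨⟨x, (d : G), hd, d.2, hx⟩, (hfixK d _).mpr hx⟩
  · -- a Sylow subgroup of the stabiliser centralises a member
    set Kb : Subgroup K := MulAction.stabilizer K (⟨b, hbm⟩ : subPoints h K) with hKb
    have he₀b : (⟨e₀, he₀K⟩ : K) ∈ Kb := (hfixK _ _).mpr hb
    obtain ⟨R, hR⟩ := IsPGroup.exists_le_sylow (G := Kb) (P := Subgroup.zpowers ⟨⟨e₀, he₀K⟩, he₀b⟩)
      (IsPGroup.of_card (p := 2) (n := 1) (by
        rw [Nat.card_zpowers, ← Subgroup.orderOf_coe, ← Subgroup.orderOf_coe, h.inv e₀ he₀]; rfl))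
    set R' : Subgroup K := (R : Subgroup Kb).map Kb.subtype with hR'
    have hR2 : IsPGroup 2 R' := R.2.map _
    obtain ⟨S, hS⟩ := hR2.exists_le_sylow
    have he₀R : (⟨e₀, he₀K⟩ : K) ∈ R' := ⟨_, hR (Subgroup.mem_zpowers _), rfl⟩
    have hRS : R' = (S : Subgroup K) := by
      by_contra hne
      have hlt := lt_of_le_of_ne hS hne
      haveI := S.2.isNilpotent
      have hlt' : R'.subgroupOf (S : Subgroup K) < ⊤ := lt_top_iff_ne_top.mpr fun e =>
        hne (le_antisymm hS (Subgroup.subgroupOf_eq_top.mp e))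
      obtain ⟨g, hgN, hgR⟩ := SetLike.exists_of_lt (Group.normalizerCondition_of_isNilpotent _ hlt')
      have hgb : (g : K) ∈ Kb := by
        have h1 : ((g : K)⁻¹ * ⟨e₀, he₀K⟩ * g : K) ∈ R' := by
          have h2 := (Subgroup.mem_normalizer_iff.mp (inv_mem hgN) ⟨⟨e₀, he₀K⟩, hS he₀R⟩).mp
            (Subgroup.mem_subgroupOf.mpr he₀R)
          have h3 := Subgroup.mem_subgroupOf.mp h2
          simpa using h3
        obtain ⟨r, -, hr⟩ := h1
        have hrb : ((g : K)⁻¹ * ⟨e₀, he₀K⟩ * g : K) • (⟨b, hbm⟩ : subPoints h K) = ⟨b, hbm⟩ :=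
          hr ▸ r.2
        rw [mul_smul, mul_smul, inv_smul_eq_iff, hfixK] at hrb
        refine Subtype.ext ?_
        exact h.fix_unique e₀ he₀ _ _ hrb hb
      have hSR : R'.subgroupOf Kb = (R : Subgroup Kb) :=
        Subgroup.comap_map_eq_self_of_injective Kb.subtype_injective _
      let T : Subgroup Kb := (((Subgroup.normalizer
        ((R'.subgroupOf (S : Subgroup K) : Subgroup (S : Subgroup K)) : Set (S : Subgroup K))).map
          (S : Subgroup K).subtype)).subgroupOf Kb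
      have hT : IsPGroup 2 T := (S.2.to_le (Subgroup.map_subtype_le _)).comap_of_injective
        Kb.subtype Kb.subtype_injective
      have hRT : (R : Subgroup Kb) ≤ T := by
        intro r hr
        have hrS : (r : K) ∈ (S : Subgroup K) := hS ⟨r, hr, rfl⟩
        exact ⟨⟨(r : K), hrS⟩, Subgroup.le_normalizer (Subgroup.mem_subgroupOf.mpr ⟨r, hr, rfl⟩), rfl⟩
      have hgT : (⟨(g : K), hgb⟩ : Kb) ∈ T := ⟨g, hgN, rfl⟩
      rw [R.3 hT hRT] at hgT
      exact hgR (Subgroup.mem_subgroupOf.mpr ⟨_, hgT, rfl⟩)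
    have hSb : ∀ s ∈ (S : Subgroup K), (s : G) • b = b := fun s hs => by
      rw [← hRS] at hs
      obtain ⟨r, -, rfl⟩ := hs
      exact (hfixK _ _).mp r.2
    letI : MulAction (S : Subgroup K) {d : G // (d ∈ D ∧ d • b = b) ∧ d ∈ K} :=
      { smul := fun s d => ⟨((s : K) : G) * d.1 * ((s : K) : G)⁻¹, ⟨h.conj d.1 d.2.1.1 _, by
            rw [mul_smul, mul_smul, inv_smul_eq_iff.mpr (hSb _ s.2).symm, d.2.1.2, hSb _ s.2]⟩,
          mul_mem (mul_mem (s : K).2 d.2.2) (inv_mem (s : K).2)⟩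
        one_smul := fun d => Subtype.ext (by show (1 : G) * d.1 * (1 : G)⁻¹ = _; simp)
        mul_smul := fun g g' d => Subtype.ext (by
          show (((g : K) : G) * ((g' : K) : G)) * d.1 * (((g : K) : G) * ((g' : K) : G))⁻¹ =
            ((g : K) : G) * (((g' : K) : G) * d.1 * ((g' : K) : G)⁻¹) * ((g : K) : G)⁻¹
          group) }
    obtain ⟨⟨d, ⟨hd, hdb⟩, hdK⟩, hfixd⟩ :=
      S.2.nonempty_fixed_point_of_prime_not_dvd_card {d : G // (d ∈ D ∧ d • b = b) ∧ d ∈ K}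
        (Nat.two_dvd_ne_zero.mpr (Nat.odd_iff.mp
          (h.odd_memsIn hf K hd₀ he₀ hd₀K he₀K ha hb hab)))
    have hcom : ∀ s ∈ (S : Subgroup K), Commute (⟨d, hdK⟩ : K) s := fun s hs => by
      refine Subtype.ext ?_
      show d * (s : G) = (s : G) * d
      have h1 : (s : G) * d * (s : G)⁻¹ = d :=
        congrArg (fun x : {d : G // (d ∈ D ∧ d • b = b) ∧ d ∈ K} => x.1) (hfixd ⟨s, hs⟩)
      exact (mul_inv_eq_iff_eq_mul.mp h1).symm
    refine ⟨⟨d, hdK⟩, hd, S, ?_, hcom⟩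
    have hp : IsPGroup 2 ((S : Subgroup K) ⊔ Subgroup.zpowers (⟨d, hdK⟩ : K) : Subgroup K) :=
      IsPGroup.to_sup_of_normal_left' S.2
        (IsPGroup.of_card (p := 2) (n := 1) (by
          rw [Nat.card_zpowers, ← Subgroup.orderOf_coe, h.inv d hd]; rfl))
        (Subgroup.zpowers_le.mpr (Subgroup.centralizer_le_normalizer _
          (Subgroup.mem_centralizer_iff.mpr fun s hs => (hcom s hs).eq.symm)))
    exact (S.3 hp le_sup_left) ▸ Subgroup.mem_sup_right (Subgroup.mem_zpowers _)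
  · refine (hfixK g x).mpr (h.cent _ hd _ he (fun e1 => hne (Subtype.ext e1))
      (congrArg Subtype.val hc) _ (congrArg Subtype.val hg) _ ((hfixK d x).mp hx))

/-- An element commuting with all members is trivial. -/
theorem eq_one_of_commute_all (hf : Faithful G Ω) {u : G} (hu : ∀ d ∈ D, Commute u d) : u = 1 :=
  hf u fun x => let ⟨_, hd, hdx⟩ := h.exists_mem x; h.fix_of_commute' hd (hu _ hd) hdx

end Crit

end CfsgLib.AschCrit
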