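import Mathlib.GroupTheory.Sylow
import Mathlib.Algebra.Group.Equiv.Basic

/-!
Owner: helper11. Aschbacher's criterion, slices E/F: the external tools. See `notes/aschbacher_proof_v3.md`.
-/

set_option autoImplicit false

namespace CfsgLib.AschCrit

/-- The extremal form of Thompson's transfer lemma: the conjugates of proper even powers of `c` in `S`
lie in `T0`, the extremal conjugates of `c` do not. -/
def ExtremalTransfer.{v} : Prop :=
  ∀ (G : Type v) [Group G] [Finite G] (S : Sylow 2 G) (T0 : Subgroup G), T0 ≤ (S : Subgroup G) →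
    T0.relIndex (S : Subgroup G) = 2 → ∀ c : G, c ∈ (S : Subgroup G) →
    (∀ (r : ℕ) (g : G), Even r → g * c ^ r * g⁻¹ ∈ (S : Subgroup G) → g * c ^ r * g⁻¹ ∈ T0) →
    (∀ w ∈ (S : Subgroup G), (∃ g : G, g * c * g⁻¹ = w) →
      (∀ P : Subgroup G, IsPGroup 2 P → (∀ x ∈ P, Commute x w) →
        Nat.card P ≤ Nat.card {x : G // x ∈ (S : Subgroup G) ∧ Commute x w}) → w ∉ T0) →
    ∃ N : Subgroup G, N.Normal ∧ N.index = 2

/-- An additive automorphism of an elementary 2-group that is transitive on the non-zero elements. -/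
def Singer {V : Type*} [AddCommGroup V] (c : V ≃+ V) : Prop :=
  (∀ x : V, x + x = 0) ∧ ∀ x y : V, x ≠ 0 → y ≠ 0 → ∃ j : ℕ, (⇑c)^[j] x = y

/-- An equivariant alternating biadditive map of a Singer group to itself vanishes. -/
def EquivariantAlternating.{v} : Prop :=
  ∀ (V : Type v) [AddCommGroup V] [Finite V] (c : V ≃+ V) (B : V → V → V), Singer c →
    (∀ x y z, B (x + y) z = B x z + B y z) → (∀ x y z, B x (y + z) = B x y + B x z) →
    (∀ x, B x x = 0) → (∀ x y, B (c x) (c y) = c (B x y)) → ∀ x y, B x y = 0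

/-- An invariant quadratic map on a Singer group of order at least eight vanishes. -/
def InvariantQuadratic.{v, w} : Prop :=
  ∀ (V : Type v) [AddCommGroup V] [Finite V] (W : Type w) [AddCommGroup W] (c : V ≃+ V) (Q : V → W),
    Singer c → 8 ≤ Nat.card V → (∀ z : W, z + z = 0) → Q 0 = 0 →
    (∀ x y z, Q (x + y + z) + Q (x + y) + Q (x + z) + Q (y + z) + Q x + Q y + Q z = 0) →
    (∀ x, Q (c x) = Q x) → ∀ x, Q x = 0

/-- A 2-group of automorphisms normalised by a Singer cycle is trivial. -/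
def UnipotentTrivial.{v} : Prop :=
  ∀ (V : Type v) [AddCommGroup V] [Finite V] (c : V ≃+ V) (A : Subgroup (Equiv.Perm V)), Singer c →
    IsPGroup 2 A → (∀ g ∈ A, ∀ x y, g (x + y) = g x + g y) →
    (∀ g ∈ A, c.toEquiv * g * c.toEquiv⁻¹ ∈ A) → ∀ g ∈ A, g = 1

/-- The fibre is a `q / 2`-th power: `|O : C_O(e)|` for a group of commuting involutory automorphisms whose
hyperplanes are permuted transitively. -/
def HyperplaneProduct.{v} : Prop :=
  ∀ (G : Type v) [Group G] [Finite G] (O E : Subgroup G) (h : G), Odd (Nat.card O) →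
    (∀ e ∈ E, e * e = 1) → (∀ e ∈ E, ∀ f ∈ E, Commute e f) →
    (∀ e ∈ E, ∀ x ∈ O, e * x * e⁻¹ ∈ O) → (∀ x ∈ O, h * x * h⁻¹ ∈ O) → (∀ e ∈ E, h * e * h⁻¹ ∈ E) →
    (∀ e ∈ E, ∀ f ∈ E, e ≠ 1 → f ≠ 1 → ∃ j : ℕ, h ^ j * e * (h ^ j)⁻¹ = f) →
    ∀ e ∈ E, e ≠ 1 → ∃ y : ℕ, Odd y ∧
      Nat.card O = y ^ (Nat.card E / 2) * Nat.card {x : G // x ∈ O ∧ Commute x e}

end CfsgLib.AschCrit
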