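import Cfsg.Agent.Lib.Invol.AschCrit.Frame
import Cfsg.Agent.Lib.Invol.AschCrit.CentCommute

/-!
Owner: helper7. Aschbacher's criterion, counting at the conjugates of a multi.

* `Crit.exists_centralizing_smul`: `C(u)` is transitive on the fixed points of a multi `u`.
* `Crit.card_fibre`: all fibres at a conjugate of `u` have the size of the one at `u`.
* `Crit.mul_fix_of_odd`: members at one point with odd product agree on the fixed points.
* `Crit.card_moved`, `Crit.card_fixed_pairs`: both counts of slice C for `u`.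
-/

set_option autoImplicit false
set_option linter.unusedSectionVars false
set_option linter.style.haveILetI false

namespace CfsgLib.AschCrit

open Subgroup

universe u v

variable {G : Type u} [Group G] [Finite G] {Ω : Type v} [MulAction G Ω]

/-- The members at `x` centralising `w` with an odd product with `e`. -/
def fib (D : Set G) (w : G) (x : Ω) (e : G) : Set G := {d | d ∈ memsC D w x ∧ Odd (orderOf (d * e))}

namespace Crit

variable {D : Set G} (h : Crit Ω D)
include h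

theorem conj_memsC_iff {w : G} {x : Ω} (g d : G) :
    g * d * g⁻¹ ∈ memsC D (g * w * g⁻¹) (g • x) ↔ d ∈ memsC D w x := by
  have h1 : g * d * g⁻¹ ∈ D ↔ d ∈ D := ⟨fun hd => by
    have := h.conjBack hd g
    simpa [mul_assoc] using this, fun hd => h.conj d hd g⟩
  have h2 : (g * d * g⁻¹) • g • x = g • x ↔ d • x = x := by
    rw [mul_smul, mul_smul, inv_smul_smul]
    exact ⟨fun e => MulAction.injective g e, fun e => by rw [e]⟩
  exact and_congr h1 (and_congr h2 (Commute.conj_iff g))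

theorem card_memsC_conj (g w : G) (x : Ω) :
    Nat.card (memsC D (g * w * g⁻¹) (g • x)) = Nat.card (memsC D w x) :=
  (Nat.card_congr ((MulAut.conj g).toEquiv.subtypeEquiv fun d => (h.conj_memsC_iff g d).symm)).symm

theorem card_fib_conj (g w : G) (x : Ω) (e : G) :
    Nat.card (fib D (g * w * g⁻¹) (g • x) (g * e * g⁻¹)) = Nat.card (fib D w x e) := by
  refine (Nat.card_congr ((MulAut.conj g).toEquiv.subtypeEquiv fun d => ?_)).symm
  refine (and_congr (h.conj_memsC_iff g d) ?_).symm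
  show Odd (orderOf (g * d * g⁻¹ * (g * e * g⁻¹))) ↔ _
  rw [show g * d * g⁻¹ * (g * e * g⁻¹) = g * (d * e) * g⁻¹ by group,
    CfsgLib.Signalizer.orderOf_conj]

/-- The centraliser of a multi is transitive on its fixed points. -/
theorem exists_centralizing_smul {w : G} (hw : IsMulti Ω w) {x y : Ω} (hx : w • x = x) (hy : w • y = y) :
    ∃ g : G, Commute g w ∧ g • x = y := by
  rcases eq_or_ne x y with rfl | hne
  · exact ⟨1, Commute.one_left w, one_smul _ _⟩
  have hw2 : w * w = 1 := by rw [← pow_two, ← hw.1, pow_orderOf_eq_one]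
  obtain ⟨d, hd, hdx, hdw⟩ := h.exists_mem_commute hw2 hx
  obtain ⟨f, hf, hfy, hfw⟩ := h.exists_mem_commute hw2 hy
  obtain ⟨g, hg, hge⟩ := h.one_class_cGrp hw2 hne hx hy hd hf hdw hfw
  refine ⟨g, commute_of_mem_cGrp hg, h.fix_unique f hf _ _ ?_ hfy⟩
  rw [← hge, mul_smul, mul_smul, inv_smul_smul, hdx]

theorem exists_normalise {u w : G} (hu : IsMulti Ω u) {a x : Ω} (hua : u • a = a)
    (hcon : ∃ g : G, g * u * g⁻¹ = w) (hwx : w • x = x) :
    ∃ k : G, k * u * k⁻¹ = w ∧ k • a = x := by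
  obtain ⟨g, rfl⟩ := hcon
  have hx : u • (g⁻¹ • x) = g⁻¹ • x := by
    rw [mul_smul, mul_smul] at hwx
    exact (eq_inv_smul_iff.2 hwx)
  obtain ⟨h', hc, hh⟩ := h.exists_centralizing_smul hu hua hx
  refine ⟨g * h', ?_, by rw [mul_smul, hh, smul_inv_smul]⟩
  rw [mul_inv_rev, show g * h' * u * (h'⁻¹ * g⁻¹) = g * (h' * u * h'⁻¹) * g⁻¹ by group, hc.eq,
    mul_inv_cancel_right]

theorem card_memsC_eq {u w : G} (hu : IsMulti Ω u) {a x : Ω} (hua : u • a = a)
    (hcon : ∃ g : G, g * u * g⁻¹ = w) (hwx : w • x = x) :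
    Nat.card (memsC D w x) = Nat.card (memsC D u a) := by
  obtain ⟨k, rfl, rfl⟩ := h.exists_normalise hu hua hcon hwx
  exact h.card_memsC_conj k u a

/-- All fibres of `u` at `a` have the same size. -/
theorem card_fib_self {u : G} {a b : Ω} {E : Subgroup G} {q i : ℕ} (hl : LData D u a b E q i)
    {e₁ e : G} (he₁ : e₁ ∈ E) (he₁1 : e₁ ≠ 1) (he : e ∈ memsC D u a) :
    Nat.card (fib D u a e) = Nat.card (fib D u a e₁) := by
  obtain ⟨e₀, ⟨he₀, he₀1, hodd⟩, -⟩ := hl.fibre e he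
  have hm := hl.mem e₀ he₀ he₀1
  obtain ⟨g, hg, hge⟩ := CfsgLib.Signalizer.exists_conj_of_odd (h.inv e he.1) (h.inv e₀ hm.1) hodd
  have hle : closure {e, e₀} ≤ MulAction.stabilizer G a ⊓ centralizer ({u} : Set G) := by
    rw [Subgroup.closure_le]
    rintro x (rfl | rfl)
    · exact ⟨he.2.1, mem_centralizer_singleton_iff.2 he.2.2.eq⟩
    · exact ⟨hm.2.1, mem_centralizer_singleton_iff.2 hm.2.2.eq⟩
  obtain ⟨hga, hgu⟩ := hle hg
  have hgu' : g * u * g⁻¹ = u := mul_inv_eq_iff_eq_mul.2 (mem_centralizer_singleton_iff.1 hgu)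
  have := h.card_fib_conj g u a e
  rw [hgu', hge, show g • a = a from hga] at this
  rw [← this]
  exact hl.fibre_card e₀ he₀ e₁ he₁ he₀1 he₁1

/-- Fibres at conjugates of `u`. -/
theorem card_fibre {u : G} (hu : IsMulti Ω u) {a b : Ω} {E : Subgroup G} {q i : ℕ} (hl : LData D u a b E q i)
    {e₁ : G} (he₁ : e₁ ∈ E) (he₁1 : e₁ ≠ 1) {w : G} (hcon : ∃ g : G, g * u * g⁻¹ = w) {x : Ω}
    (hwx : w • x = x) {e : G} (he : e ∈ memsC D w x) :
    Nat.card (fib D w x e) = Nat.card (fib D u a e₁) := by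
  obtain ⟨k, rfl, rfl⟩ := h.exists_normalise hu hl.fix_a hcon hwx
  have hk := h.card_fib_conj k u a (k⁻¹ * e * k)
  have he' : k⁻¹ * e * k ∈ memsC D u a := by
    rw [← h.conj_memsC_iff k, show k * (k⁻¹ * e * k) * k⁻¹ = e by group]
    exact he
  rw [show k * (k⁻¹ * e * k) * k⁻¹ = e by group, h.card_fib_self hl he₁ he₁1 he'] at hk
  exact hk

/-- The members centralising `u` at `a` fall into `q - 1` fibres. -/
theorem card_memsC_fibres {u : G} {a b : Ω} {E : Subgroup G} {q i : ℕ} (hl : LData D u a b E q i)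
    {e₁ : G} (he₁ : e₁ ∈ E) (he₁1 : e₁ ≠ 1) :
    Nat.card (memsC D u a) = (q - 1) * Nat.card (fib D u a e₁) := by
  classical
  haveI := Fintype.ofFinite G
  let f : memsC D u a → {e : E // e ≠ 1} := fun d =>
    ⟨⟨_, (hl.fibre d d.2).choose_spec.1.1⟩, fun e0 =>
      (hl.fibre d d.2).choose_spec.1.2.1 (congrArg Subtype.val e0)⟩
  have hf : ∀ (e : {e : E // e ≠ 1}) (d : memsC D u a), f d = e ↔ Odd (orderOf ((d : G) * ((e : E) : G))) := by
    intro e d
    constructor
    · rintro rfl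
      exact (hl.fibre d d.2).choose_spec.1.2.2
    · intro ho
      refine Subtype.ext (Subtype.ext ?_)
      exact ((hl.fibre d d.2).choose_spec.2 _ ⟨(e : E).2, fun e0 => e.2 (Subtype.ext e0), ho⟩).symm
  rw [← Nat.card_congr (Equiv.sigmaFiberEquiv f), Nat.card_sigma]
  have hc : ∀ e : {e : E // e ≠ 1}, Nat.card {d // f d = e} = Nat.card (fib D u a e₁) := by
    intro e
    rw [← show Nat.card (fib D u a ((e : E) : G)) = Nat.card (fib D u a e₁) from
      hl.fibre_card _ (e : E).2 e₁ he₁ (fun e0 => e.2 (Subtype.ext e0)) he₁1]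
    exact Nat.card_congr ((Equiv.subtypeEquivRight (hf e)).trans
      (Equiv.subtypeSubtypeEquivSubtypeInter (· ∈ memsC D u a) fun d => Odd (orderOf (d * ((e : E) : G)))))
  rw [Finset.sum_congr rfl (fun e _ => hc e), Finset.sum_const, smul_eq_mul, Finset.card_univ]
  congr 1
  rw [Fintype.card_subtype_compl, Fintype.card_subtype_eq, ← Nat.card_eq_fintype_card, hl.card_E]

/-- Members at one point with odd product agree on the fixed points of the multi. -/
theorem mul_fix_of_odd (hf : Faithful G Ω) (IH : Below.{v, v} (Nat.card G)) {u : G} (hu : IsMulti Ω u)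
    {a b : Ω} {E : Subgroup G} {q i : ℕ} (hl : LData D u a b E q i) {d e : G} (hd : d ∈ memsC D u a)
    (he : e ∈ memsC D u a) (hodd : Odd (orderOf (d * e))) : ∀ y : Ω, u • y = y → (d * e) • y = y := by
  haveI := Fact.mk Nat.prime_two
  haveI := h.finite_points
  have hfL : Faithful (cImage Ω D u) (MulAction.fixedBy Ω u) := fun g hg => Subtype.ext (Equiv.ext hg)
  haveI : FaithfulSMul (cImage Ω D u) (MulAction.fixedBy Ω u) := faithfulSMul_iff.2 hfL
  have hL := h.cImage_crit hu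
  have hn := h.cImage_noMulti hf IH hu
  have hr : ¬ RankOne (cImage Ω D u) := by
    intro hr
    obtain ⟨s, hs, hq⟩ := hl.pow
    have h4 : 4 ≤ q := by
      rw [hq, show (4 : ℕ) = 2 ^ 2 by norm_num]
      exact Nat.pow_le_pow_right two_pos hs
    obtain ⟨x, hx, y, hy, hx1, hy1, hxy⟩ : ∃ x ∈ E, ∃ y ∈ E, x ≠ 1 ∧ y ≠ 1 ∧ x ≠ y := by
      by_contra hno
      push Not at hno
      have hle : (E : Set G).ncard ≤ 2 := by
        by_cases hb : ∃ x ∈ E, x ≠ 1
        · obtain ⟨x, hx, hx1⟩ := hb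
          refine (Set.ncard_le_ncard (t := {1, x}) (fun y hy => ?_) (Set.toFinite _)).trans
            ((Set.ncard_insert_le _ _).trans (by simp))
          rcases eq_or_ne y 1 with rfl | hy1
          · exact Or.inl rfl
          · exact Or.inr (hno x hx y hy hx1 hy1).symm
        · push Not at hb
          exact (Set.ncard_le_ncard (t := {1}) (fun y hy => hb y hy) (Set.toFinite _)).trans (by simp)
      rw [← Nat.card_coe_set_eq] at hle
      have : Nat.card ((E : Set G)) = q := hl.card_E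
      omega
    exact hxy (h.rankOneAt hu hr a x (hl.mem x hx hx1) y (hl.mem y hy hy1) (hl.comm x hx y hy))
  set a' : MulAction.fixedBy Ω u := ⟨a, hl.fix_a⟩
  set b' : MulAction.fixedBy Ω u := ⟨b, hl.fix_b⟩
  have hab' : b' ≠ a' := fun e0 => hl.ne (congrArg Subtype.val e0).symm
  obtain ⟨h2, Q, -, hset, hsw⟩ := hL.exists_setup hfL hn hr a'
  obtain ⟨t, htD, hta⟩ := hsw b' hab'
  have hS := hset t (hL.sq htD) (hta ▸ hab')
  set π := cProj Ω D u
  set δ : cGrp D u := ⟨d, mem_cGrp hd.1 hd.2.2⟩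
  set ε : cGrp D u := ⟨e, mem_cGrp he.1 he.2.2⟩
  have hJ : ∀ (x : cGrp D u), (x : G) ∈ D → (x : G) • a = a →
      π x ∈ Cfsg.involutionsIn (MulAction.stabilizer (cImage Ω D u) a' : Set (cImage Ω D u)) := fun x hx hxa =>
    ⟨Subtype.ext hxa, hL.ne_one' (h.cProj_mem hx), hL.sq (h.cProj_mem hx)⟩
  have hc : Commute (π δ) (π ε) := CfsgLib.Lie.RankOne.J_central hS h2 (hJ δ hd.1 hd.2.1)
    (CfsgLib.Lie.RankOne.J_mem_Q hS (hJ ε he.1 he.2.1))
  have h2' : π (δ * ε) ^ 2 = 1 := by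
    rw [map_mul, hc.mul_pow, pow_two, pow_two, hL.sq (h.cProj_mem (d := δ) hd.1),
      hL.sq (h.cProj_mem (d := ε) he.1), one_mul]
  have h1 : π (δ * ε) ^ orderOf (δ * ε) = 1 := by rw [← map_pow, pow_orderOf_eq_one, map_one]
  obtain ⟨j, hj⟩ : Odd (orderOf (δ * ε)) := by rw [← Subgroup.orderOf_coe]; exact hodd
  rw [hj, pow_succ, pow_mul, h2', one_pow, one_mul] at h1
  exact (cProj_eq_one_iff (δ * ε)).1 h1

/-- The members commuting with a conjugate of `u` at points of `Y`. -/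
theorem card_mems_points {u w : G} (hu : IsMulti Ω u) {a : Ω} (hua : u • a = a)
    (hcon : ∃ g : G, g * u * g⁻¹ = w) (Y : Set Ω) (hY : ∀ y ∈ Y, w • y = y) :
    Nat.card {d : G // d ∈ D ∧ Commute d w ∧ ∀ x : Ω, d • x = x → x ∈ Y} =
      Nat.card Y * Nat.card (memsC D u a) := by
  classical
  haveI := h.finite_points
  haveI := Fintype.ofFinite Y
  have e : {d : G // d ∈ D ∧ Commute d w ∧ ∀ x : Ω, d • x = x → x ∈ Y} ≃ Σ y : Y, memsC D w (y : Ω) :=
    { toFun := fun d => ⟨⟨_, d.2.2.2 _ (h.fix_exists d.1 d.2.1).choose_spec⟩,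
        d.1, d.2.1, (h.fix_exists d.1 d.2.1).choose_spec, d.2.2.1⟩
      invFun := fun p => ⟨p.2.1, p.2.2.1, p.2.2.2.2, fun x hx => by
        rw [h.fix_unique _ p.2.2.1 x p.1 hx p.2.2.2.1]; exact p.1.2⟩
      left_inv := fun d => rfl
      right_inv := by
        rintro ⟨⟨y, hy⟩, d, hd, hdy, hdw⟩
        have e := h.fix_unique d hd _ _ (h.fix_exists d hd).choose_spec hdy
        exact Sigma.subtype_ext (Subtype.ext e) rfl }
  rw [Nat.card_congr e, Nat.card_sigma,
    Finset.sum_congr rfl (fun (y : Y) _ => h.card_memsC_eq hu hua hcon (hY (y : Ω) y.2)), Finset.sum_const,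
    smul_eq_mul, Finset.card_univ, ← Nat.card_eq_fintype_card]

omit h in
theorem card_fix_conj {u w : G} (hcon : ∃ g : G, g * u * g⁻¹ = w) :
    Nat.card {x : Ω // w • x = x} = Nat.card {x : Ω // u • x = x} := by
  obtain ⟨g, rfl⟩ := hcon
  refine (Nat.card_congr ((MulAction.toPerm g).subtypeEquiv fun x => ?_)).symm
  simp only [MulAction.toPerm_apply, mul_smul, inv_smul_smul]
  exact (MulAction.injective g).eq_iff.symm

/-- `k (n - f) = f (f - 1) k_u ^ 2`. -/
theorem card_moved {u : G} (hu : IsMulti Ω u) {a : Ω} (hua : u • a = a)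
    (hcc : ∀ d ∈ D, Commute d u → ∃ g : G, g * u * g⁻¹ = u * d) {f ku : ℕ}
    (hf : Nat.card {x : Ω // u • x = x} = f) (hku : Nat.card (memsC D u a) = ku) :
    (Nat.card Ω - f) * Nat.card (mems D a) = f * ku * ((f - 1) * ku) := by
  classical
  haveI := h.finite_points
  haveI := Fintype.ofFinite Ω
  haveI := Fintype.ofFinite G
  -- the members whose point moves
  have hL : Nat.card {d : G // d ∈ D ∧ ∀ x : Ω, d • x = x → u • x ≠ x} =
      (Nat.card Ω - f) * Nat.card (mems D a) := by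
    have e : {d : G // d ∈ D ∧ ∀ x : Ω, d • x = x → u • x ≠ x} ≃
        Σ y : {y : Ω // ¬ u • y = y}, mems D (y : Ω) :=
      { toFun := fun d => ⟨⟨_, d.2.2 _ (h.fix_exists d.1 d.2.1).choose_spec⟩,
          d.1, d.2.1, (h.fix_exists d.1 d.2.1).choose_spec⟩
        invFun := fun p => ⟨p.2.1, p.2.2.1, fun x hx => by
          rw [h.fix_unique _ p.2.2.1 x p.1 hx p.2.2.2]; exact p.1.2⟩
        left_inv := fun d => rfl
        right_inv := by
          rintro ⟨⟨y, hy⟩, d, hd, hdy⟩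
          have e := h.fix_unique d hd _ _ (h.fix_exists d hd).choose_spec hdy
          exact Sigma.subtype_ext (Subtype.ext e) rfl }
    rw [Nat.card_congr e, Nat.card_sigma, Finset.sum_congr rfl (fun (y : {y : Ω // ¬ u • y = y}) _ => h.card_mems_eq (y : Ω) a),
      Finset.sum_const, smul_eq_mul, Finset.card_univ, Fintype.card_subtype_compl,
      ← Nat.card_eq_fintype_card, ← Nat.card_eq_fintype_card, hf]
  rw [← hL, h.movedCount u hu]
  have e : {p : G × G // (p.1 ∈ D ∧ Commute p.1 u) ∧ (p.2 ∈ D ∧ Commute p.2 (u * p.1)) ∧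
        ∀ x : Ω, p.1 • x = x → p.2 • x ≠ x} ≃
      Σ e : {e : G // e ∈ D ∧ Commute e u},
        {d : G // d ∈ D ∧ Commute d (u * e.1) ∧ ∀ x : Ω, e.1 • x = x → d • x ≠ x} :=
    { toFun := fun p => ⟨⟨p.1.1, p.2.1⟩, p.1.2, p.2.2.1.1, p.2.2.1.2, p.2.2.2⟩
      invFun := fun p => ⟨(p.1.1, p.2.1), p.1.2, ⟨p.2.2.1, p.2.2.2.1⟩, p.2.2.2.2⟩
      left_inv := fun _ => rfl
      right_inv := fun _ => rfl }
  rw [Nat.card_congr e, Nat.card_sigma]
  have hinner : ∀ e : {e : G // e ∈ D ∧ Commute e u},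
      Nat.card {d : G // d ∈ D ∧ Commute d (u * e.1) ∧ ∀ x : Ω, e.1 • x = x → d • x ≠ x} = (f - 1) * ku := by
    intro e
    obtain ⟨x₀, hx₀⟩ := h.fix_exists e.1 e.2.1
    have hux : u • x₀ = x₀ := h.fix_of_commute' e.2.1 e.2.2.symm hx₀
    have hwx : (u * e.1) • x₀ = x₀ := by rw [mul_smul, hx₀, hux]
    have hcon := hcc e.1 e.2.1 e.2.2
    let Y : Set Ω := {x | (u * e.1) • x = x ∧ x ≠ x₀}
    have h1 := h.card_mems_points hu hua hcon Y fun y hy => hy.1
    have hY : Nat.card Y = f - 1 := by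
      rw [← hf, ← card_fix_conj hcon, Nat.card_coe_set_eq]
      show ({x | (u * e.1) • x = x} \ {x₀} : Set Ω).ncard = _
      rw [Set.ncard_sdiff_singleton_of_mem (show x₀ ∈ ({x | (u * e.1) • x = x} : Set Ω) from hwx), ← Nat.card_coe_set_eq]
      rfl
    rw [hY, hku] at h1
    rw [← h1]
    refine Nat.card_congr (Equiv.subtypeEquivRight fun d => ?_)
    refine and_congr_right fun hdD => and_congr_right fun hdw => ⟨fun hne x hx => ?_, fun hmem x hx hdx => ?_⟩
    · exact ⟨h.fix_of_commute' hdD hdw.symm hx, fun e0 => hne x₀ hx₀ (e0 ▸ hx)⟩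
    · exact (hmem x hdx).2 (h.fix_unique e.1 e.2.1 x x₀ hx hx₀)
  rw [Finset.sum_congr rfl (fun e _ => hinner e), Finset.sum_const, smul_eq_mul, Finset.card_univ,
    ← Nat.card_eq_fintype_card]
  congr 1
  have h1 := h.card_mems_points hu hua ⟨1, by group⟩ {x | u • x = x} fun y hy => hy
  rw [hku, show Nat.card {x : Ω | u • x = x} = f from hf] at h1
  rw [← h1]
  exact Nat.card_congr (Equiv.subtypeEquivRight fun d => ⟨fun hd => ⟨hd.1, hd.2, fun x hx =>
    h.fix_of_commute' hd.1 hd.2.symm hx⟩, fun hd => ⟨hd.1, hd.2.1⟩⟩)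

/-- The pairs at a fixed point: `k_u c`. -/
theorem card_fixed_pairs {u : G} (hu : IsMulti Ω u) {a b : Ω} {E : Subgroup G} {q i : ℕ}
    (hl : LData D u a b E q i) (hcc : ∀ d ∈ D, Commute d u → ∃ g : G, g * u * g⁻¹ = u * d)
    {e₁ : G} (he₁ : e₁ ∈ E) (he₁1 : e₁ ≠ 1) :
    Nat.card {p : G × G // p.1 ∈ memsC D u a ∧ p.2 ∈ memsC D (u * p.1) a ∧ Odd (orderOf (p.2 * p.1))} =
      Nat.card (memsC D u a) * Nat.card (fib D u a e₁) := by
  classical
  haveI := Fintype.ofFinite G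
  have e : {p : G × G // p.1 ∈ memsC D u a ∧ p.2 ∈ memsC D (u * p.1) a ∧ Odd (orderOf (p.2 * p.1))} ≃
      Σ e : memsC D u a, fib D (u * (e : G)) a (e : G) :=
    { toFun := fun p => ⟨⟨p.1.1, p.2.1⟩, p.1.2, p.2.2⟩
      invFun := fun p => ⟨(p.1.1, p.2.1), p.1.2, p.2.2⟩
      left_inv := fun _ => rfl
      right_inv := fun _ => rfl }
  rw [Nat.card_congr e, Nat.card_sigma]
  have hinner : ∀ e : memsC D u a,
      Nat.card (fib D (u * (e : G)) a (e : G)) = Nat.card (fib D u a e₁) := fun e => by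
    have hfix : (u * (e : G)) • a = a := by rw [mul_smul, e.2.2.1, hl.fix_a]
    exact h.card_fibre hu hl he₁ he₁1 (hcc _ e.2.1 e.2.2.2) hfix
      ⟨e.2.1, e.2.2.1, e.2.2.2.mul_right (Commute.refl _)⟩
  rw [Finset.sum_congr rfl (fun e _ => hinner e), Finset.sum_const, smul_eq_mul, Finset.card_univ,
    ← Nat.card_eq_fintype_card]

end Crit

end CfsgLib.AschCrit
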