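import Cfsg.Agent.Lib.HallNumber.EightSeven
import Cfsg.Agent.Lib.ZStar.Main
import Cfsg.Agent.Lib.Core.Coprime

/-!
Owner: helper7. Aschbacher's criterion, tools for the counting formula.

* `card_invertedIn_mul`: in an odd group normalised by an involution, fixed and inverted elements.
* `card_invertedIn_dvd`: the number of inverted elements of an invariant subgroup divides that of the group.
-/

set_option autoImplicit false
set_option linter.style.haveILetI false

namespace CfsgLib.AschCrit

open Subgroup
open scoped Pointwise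

variable {G : Type*} [Group G] [Finite G]

/-- The elements of `X` inverted by `t`. -/
def invertedIn (X : Subgroup G) (t : G) : Set G := {y | y ∈ X ∧ t * y * t⁻¹ = y⁻¹}

theorem card_invertedIn_mul {X : Subgroup G} (hX : Odd (Nat.card X)) {t : G} (ht : t * t = 1)
    (htX : t ∈ normalizer (X : Set G)) :
    Nat.card (X ⊓ centralizer ({t} : Set G) : Subgroup G) * Nat.card (invertedIn X t) = Nat.card X := by
  haveI := Fintype.ofFinite G
  exact CfsgLib.HallNumber.fixed_mul_inverted X hX ht htX

omit [Finite G] in
theorem zpowers_le_normalizer {X : Subgroup G} {t : G} (h : t ∈ normalizer (X : Set G)) :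
    zpowers t ≤ normalizer (X : Set G) := zpowers_le.2 h

theorem coprime_zpowers {X : Subgroup G} (hX : Odd (Nat.card X)) {t : G} (ht : t * t = 1) :
    (Nat.card (zpowers t)).Coprime (Nat.card X) := by
  rw [Nat.card_zpowers]
  exact (Nat.coprime_two_left.2 hX).coprime_dvd_left
    (orderOf_dvd_of_pow_eq_one (by rw [pow_two, ht]))

/-- An invariant Sylow subgroup of the centraliser lies in one of the group. -/
theorem exists_sylow_pair {X : Subgroup G} (hX : Odd (Nat.card X)) {t : G} (ht : t * t = 1)
    (htX : t ∈ normalizer (X : Set G)) {p : ℕ} [Fact p.Prime] :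
    ∃ R : Sylow p X, t ∈ normalizer ((R : Subgroup X).map X.subtype : Set G) ∧
      Nat.card ((R : Subgroup X).map X.subtype ⊓ centralizer ({t} : Set G) : Subgroup G) =
        p ^ (Nat.card (X ⊓ centralizer ({t} : Set G) : Subgroup G)).factorization p := by
  set C := X ⊓ centralizer ({t} : Set G) with hC
  obtain ⟨U⟩ : Nonempty (Sylow p C) := inferInstance
  set U' := (U : Subgroup C).map C.subtype with hU'
  have hUC : U' ≤ C := map_subtype_le _
  have hfix : ∀ x ∈ U', t * x * t⁻¹ = x := fun x hx =>
    mul_inv_eq_iff_eq_mul.2 (mem_centralizer_singleton_iff.1 (hUC hx).2).symm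
  have hUt : t ∈ normalizer (U' : Set G) := mem_normalizer_iff.2 fun x => ⟨fun hx => by rwa [hfix x hx],
    fun hx => by
      have := hfix _ hx
      have h2 : t * x * t⁻¹ = x := by
        have h3 : t * x = x * t := by
          calc t * x = t * x * t⁻¹ * t := by rw [inv_mul_cancel_right]
            _ = t * (t * x * t⁻¹) * t⁻¹ * t := by rw [this]
            _ = (t * t) * x * (t⁻¹ * t⁻¹) * t := by group
            _ = x * t := by rw [ht, ← mul_inv_rev, ht, inv_one, one_mul, mul_one]
        rw [h3, mul_inv_cancel_right]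
      rwa [h2] at hx⟩
  obtain ⟨R, hUR, hR⟩ := CfsgLib.Core.exists_invariant_sylow_ge (A := zpowers t) (K := X)
    (zpowers_le_normalizer htX) (coprime_zpowers hX ht) (Or.inl inferInstance)
    (hUC.trans inf_le_left) (U.2.map C.subtype) (zpowers_le_normalizer hUt)
  refine ⟨R, hR (mem_zpowers t), ?_⟩
  set R' := (R : Subgroup X).map X.subtype
  have hRC : R' ⊓ centralizer ({t} : Set G) ≤ C := inf_le_inf_right _ (map_subtype_le _)
  have h1 : U' ≤ R' ⊓ centralizer ({t} : Set G) := le_inf hUR (hUC.trans inf_le_right)
  have hcU : Nat.card U' = p ^ (Nat.card C).factorization p := by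
    rw [hU', card_map_of_injective C.subtype_injective, U.card_eq_multiplicity]
  obtain ⟨k, hk⟩ := IsPGroup.iff_card.1 ((R.2.map X.subtype).to_le
    (inf_le_left : R' ⊓ centralizer ({t} : Set G) ≤ R'))
  refine le_antisymm ?_ (hcU ▸ card_le_of_le h1)
  rw [hk]
  refine Nat.pow_le_pow_right (Fact.out : p.Prime).pos ?_
  exact ((Fact.out : p.Prime).pow_dvd_iff_le_factorization Nat.card_pos.ne').1 (hk ▸ card_dvd_of_le hRC)

/-- In an invariant Sylow subgroup whose centraliser is as large as possible the inverted elements are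
the `p`-part of those of the group. -/
theorem card_invertedIn_sylow {X : Subgroup G} (hX : Odd (Nat.card X)) {t : G} (ht : t * t = 1)
    (htX : t ∈ normalizer (X : Set G)) {p : ℕ} [Fact p.Prime] (R : Sylow p X)
    (hR : t ∈ normalizer ((R : Subgroup X).map X.subtype : Set G))
    (hRc : Nat.card ((R : Subgroup X).map X.subtype ⊓ centralizer ({t} : Set G) : Subgroup G) =
        p ^ (Nat.card (X ⊓ centralizer ({t} : Set G) : Subgroup G)).factorization p) :
    Nat.card (invertedIn ((R : Subgroup X).map X.subtype) t) =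
      p ^ (Nat.card (invertedIn X t)).factorization p := by
  have h1 := card_invertedIn_mul (hX.of_dvd_nat (card_dvd_of_le (map_subtype_le (R : Subgroup X)))) ht hR
  rw [hRc, card_map_of_injective X.subtype_injective, R.card_eq_multiplicity] at h1
  have h2 := card_invertedIn_mul hX ht htX
  have hne : Nat.card (invertedIn X t) ≠ 0 := fun e => by rw [e, mul_zero] at h2; exact Nat.card_pos.ne h2
  rw [← h2, Nat.factorization_mul Nat.card_pos.ne' hne, Finsupp.add_apply, pow_add] at h1
  exact Nat.eq_of_mul_eq_mul_left (pow_pos (Fact.out : p.Prime).pos _) h1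

/-- The inverted elements of an invariant subgroup divide those of the group. -/
theorem card_invertedIn_dvd {X Y : Subgroup G} (hX : Odd (Nat.card X)) {t : G} (ht : t * t = 1)
    (htX : t ∈ normalizer (X : Set G)) (htY : t ∈ normalizer (Y : Set G)) (hYX : Y ≤ X) :
    Nat.card (invertedIn Y t) ∣ Nat.card (invertedIn X t) := by
  have hY : Odd (Nat.card Y) := hX.of_dvd_nat (card_dvd_of_le hYX)
  have h2 := card_invertedIn_mul hX ht htX
  have h2' := card_invertedIn_mul hY ht htY
  have hne : Nat.card (invertedIn X t) ≠ 0 := fun e => by rw [e, mul_zero] at h2; exact Nat.card_pos.ne h2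
  have hne' : Nat.card (invertedIn Y t) ≠ 0 := fun e => by rw [e, mul_zero] at h2'; exact Nat.card_pos.ne h2'
  refine (Nat.factorization_le_iff_dvd hne' hne).1 fun p => ?_
  by_cases hp : p.Prime
  swap
  · simp [Nat.factorization_eq_zero_of_not_prime _ hp]
  haveI := Fact.mk hp
  obtain ⟨S, hS, hSc⟩ := exists_sylow_pair hY ht htY (p := p)
  have hSY := card_invertedIn_sylow hY ht htY S hS hSc
  set S' := (S : Subgroup Y).map Y.subtype with hS'
  -- an invariant Sylow subgroup of `X` above it, with large centraliser
  obtain ⟨R₀, hSR, hR₀⟩ := CfsgLib.Core.exists_invariant_sylow_ge (A := zpowers t) (K := X)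
    (zpowers_le_normalizer htX) (coprime_zpowers hX ht) (Or.inl inferInstance)
    ((map_subtype_le (S : Subgroup Y)).trans hYX) (S.2.map Y.subtype) (zpowers_le_normalizer hS)
  obtain ⟨R₁, hR₁, hR₁c⟩ := exists_sylow_pair hX ht htX (p := p)
  obtain ⟨c, hct, hcR⟩ := CfsgLib.Core.invariant_sylow_conj (zpowers_le_normalizer htX)
    (coprime_zpowers hX ht) (Or.inl inferInstance) R₀ R₁ hR₀ (zpowers_le_normalizer hR₁)
  set R' := (R₀ : Subgroup X).map X.subtype with hR'
  have hR0c : Nat.card (R' ⊓ centralizer ({t} : Set G) : Subgroup G) =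
      p ^ (Nat.card (X ⊓ centralizer ({t} : Set G) : Subgroup G)).factorization p := by
    rw [← hR₁c]
    have hcc : Commute (c : G) t := (mem_centralizer_iff.1 hct t (mem_zpowers t)).symm
    refine Nat.card_congr ((MulAut.conj (c : G)).toEquiv.subtypeEquiv fun x => ?_)
    have e1 : (R₁ : Subgroup X).map X.subtype = MulAut.conj (c : G) • R' := by
      rw [hR', CfsgLib.Core.sylow_map_conj_smul, hcR]
    rw [mem_inf, mem_inf, e1]
    refine and_congr ?_ ?_
    · exact (Subgroup.smul_mem_pointwise_smul_iff (a := MulAut.conj (c : G))).symm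
    · simp only [mem_centralizer_singleton_iff, MulEquiv.toEquiv_eq_coe, MulEquiv.coe_toEquiv,
        MulAut.conj_apply]
      show x * t = t * x ↔ Commute ((c : G) * x * (c : G)⁻¹) t
      conv_rhs => rw [show t = (c : G) * t * (c : G)⁻¹ by rw [hcc.eq, mul_inv_cancel_right],
        Commute.conj_iff]
      exact Iff.rfl
  have hRX := card_invertedIn_sylow hX ht htX R₀ (hR₀ (mem_zpowers t)) hR0c
  have hmono : Nat.card (invertedIn S' t) ≤ Nat.card (invertedIn R' t) :=
    Nat.card_mono (Set.toFinite _) fun y hy => ⟨hSR hy.1, hy.2⟩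
  rw [hRX, hSY] at hmono
  exact (Nat.pow_le_pow_iff_right hp.one_lt).1 hmono

end CfsgLib.AschCrit
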