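import Cfsg.Agent.Lib.Invol.AschCrit.Swap
import Cfsg.Agent.Lib.Invol.AschCrit.FormulaTools

/-!
Owner: helper7. Aschbacher's criterion, the swappers of a pair as inverted elements of `O(G_ab)`.

* `Crit.card_swappers_commute`: swappers commuting with `w` and the elements of `O(G_ab)` inverted by one of them.
* `Crit.card_swappers_mul`: Brauer-Wielandt, `k = #S_u * #S_v`.
-/

set_option autoImplicit false
set_option linter.unusedSectionVars false
set_option linter.style.haveILetI false

namespace CfsgLib.AschCrit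

open Subgroup

variable {G : Type*} [Group G] [Finite G] {Ω : Type*} [MulAction G Ω]

theorem conj_mem_pairFix {a b : Ω} {g x : G} (hg : g ∈ pairSet a b) (hx : x ∈ pairFix a b) :
    g * x * g⁻¹ ∈ pairFix a b := by
  obtain ⟨hxa, hxb⟩ := hx
  have hxa' : x • a = a := hxa
  have hxb' : x • b = b := hxb
  rcases hg with ⟨h1, h2⟩ | ⟨h1, h2⟩
  · refine ⟨?_, ?_⟩
    · show (g * x * g⁻¹) • a = a
      rw [mul_smul, mul_smul, inv_smul_eq_iff.2 h1.symm, hxa', h1]
    · show (g * x * g⁻¹) • b = b
      rw [mul_smul, mul_smul, inv_smul_eq_iff.2 h2.symm, hxb', h2]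
  · refine ⟨?_, ?_⟩
    · show (g * x * g⁻¹) • a = a
      rw [mul_smul, mul_smul, inv_smul_eq_iff.2 h2.symm, hxb', h2]
    · show (g * x * g⁻¹) • b = b
      rw [mul_smul, mul_smul, inv_smul_eq_iff.2 h1.symm, hxa', h1]

theorem pairCore_conj_mem {a b : Ω} {g x : G} (hg : g ∈ pairSet a b) (hx : x ∈ pairCore a b) :
    g * x * g⁻¹ ∈ pairCore a b := by
  let φ : pairFix (G := G) a b ≃* pairFix (G := G) a b :=
    { toFun := fun y => ⟨g * y * g⁻¹, conj_mem_pairFix hg y.2⟩
      invFun := fun y => ⟨g⁻¹ * y * g, by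
        have := conj_mem_pairFix (inv_mem hg) y.2
        rwa [inv_inv] at this⟩
      left_inv := fun y => Subtype.ext (by simp [mul_assoc])
      right_inv := fun y => Subtype.ext (by simp [mul_assoc])
      map_mul' := fun y z => Subtype.ext (by simp [mul_assoc]) }
  obtain ⟨y, hy, rfl⟩ := hx
  refine ⟨φ y, ZStar.le_oddCore ?_ ?_ (mem_map_of_mem φ.toMonoidHom hy), rfl⟩
  · exact (inferInstance : (Cfsg.oddCore (pairFix (G := G) a b)).Normal).map _ φ.surjective
  · rw [card_map_of_injective φ.injective]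
    exact ZStar.odd_card_oddCore _

theorem mem_normalizer_pairCore {a b : Ω} {g : G} (hg : g ∈ pairSet a b) :
    g ∈ normalizer (pairCore (G := G) a b : Set G) :=
  mem_normalizer_iff.2 fun x => ⟨pairCore_conj_mem hg, fun hx => by
    have := pairCore_conj_mem (inv_mem hg) hx
    simpa [mul_assoc] using this⟩

/-- An element of odd order inverted by an involution gives a conjugate of it. -/
theorem exists_conj_of_inverted {t y : G} (ht : t * t = 1) (hodd : Odd (orderOf y))
    (hinv : t * y * t⁻¹ = y⁻¹) : ∃ x ∈ zpowers y, x * t * x⁻¹ = y * t := by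
  obtain ⟨m, hm⟩ := hodd
  have hti : t⁻¹ = t := inv_eq_of_mul_eq_one_right ht
  refine ⟨y ^ (m + 1), pow_mem (mem_zpowers y) _, ?_⟩
  have h1 : t * (y ^ (m + 1))⁻¹ * t⁻¹ = y ^ (m + 1) := by
    rw [← conj_inv, ← conj_pow, hinv, inv_pow, inv_inv]
  calc y ^ (m + 1) * t * (y ^ (m + 1))⁻¹
      = y ^ (m + 1) * (t * (y ^ (m + 1))⁻¹ * t⁻¹) * t := by group
    _ = y ^ (orderOf y + 1) * t := by
      rw [h1, ← pow_add, show m + 1 + (m + 1) = orderOf y + 1 by omega]
    _ = y * t := by rw [pow_succ, pow_orderOf_eq_one, one_mul]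

namespace Crit

variable {D : Set G} (h : Crit Ω D)
include h

/-- Swappers commuting with `w` correspond to inverted elements commuting with `w`. -/
theorem card_swappers_commute (hf : Faithful G Ω) {a b : Ω} (hab : a ≠ b) {t w : G} (ht : t ∈ D)
    (hta : t • a = b) (htw : Commute t w) :
    Nat.card {s : G // s ∈ D ∧ s • a = b ∧ Commute s w} =
      Nat.card (invertedIn (pairCore a b ⊓ centralizer ({w} : Set G)) t) := by
  have hti : t⁻¹ = t := inv_eq_of_mul_eq_one_right (h.sq ht)
  refine Nat.card_congr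
    { toFun := fun s => ⟨s.1 * t, ⟨?_, ?_⟩, ?_⟩
      invFun := fun y => ⟨y.1 * t, ?_, ?_, ?_⟩
      left_inv := fun s => Subtype.ext (by simp only [mul_assoc, h.sq ht, mul_one])
      right_inv := fun y => Subtype.ext (by simp only [mul_assoc, h.sq ht, mul_one]) }
  · exact h.mul_mem_pairCore hf hab ht s.2.1 hta s.2.2.1
  · exact mem_centralizer_singleton_iff.2 (s.2.2.2.mul_left htw).eq
  · have hsi : (s.1)⁻¹ = s.1 := inv_eq_of_mul_eq_one_right (h.sq s.2.1)
    rw [mul_inv_rev, hti, hsi]
    simp only [mul_assoc, h.sq ht, mul_one]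
  · obtain ⟨⟨hyN, -⟩, hinv⟩ := y.2
    obtain ⟨x, -, hx⟩ := exists_conj_of_inverted (h.sq ht)
      ((odd_pairCore a b).of_dvd_nat (by
        rw [← Subgroup.orderOf_mk (y : G) hyN]
        exact orderOf_dvd_natCard _)) hinv
    rw [← hx]
    exact h.conj t ht x
  · have := pairCore_le a b y.2.1.1
    rw [mul_smul, hta]
    exact this.2
  · exact (show Commute (y : G) w from mem_centralizer_singleton_iff.1 y.2.1.2).mul_left htw

/-- All swappers are counted by the inverted elements. -/
theorem card_invertedIn_pairCore (hf : Faithful G Ω) {a b : Ω} (hab : a ≠ b) {t : G} (ht : t ∈ D)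
    (hta : t • a = b) : Nat.card (invertedIn (pairCore a b) t) = Nat.card (mems D b) := by
  rw [← h.card_swappers hab]
  have e := h.card_swappers_commute hf hab ht hta (Commute.one_right t)
  have h1 : centralizer ({(1 : G)} : Set G) = ⊤ :=
    eq_top_iff.2 fun x _ => mem_centralizer_singleton_iff.2 (by simp)
  rw [h1, inf_top_eq] at e
  rw [← e]
  exact Nat.card_congr (Equiv.subtypeEquivRight fun s =>
    ⟨fun hs => ⟨hs.1, hs.2.1⟩, fun hs => ⟨hs.1, hs.2, Commute.one_right _⟩⟩)

/-- Brauer-Wielandt on `O(G_ab)`. -/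
theorem card_swappers_mul (hf : Faithful G Ω) {a b : Ω} (hab : a ≠ b) {t u : G} (ht : t ∈ D)
    (hu : u * u = 1) (htu : Commute t u) (hta : t • a = b) (hua : u • a = a) (hub : u • b = b) :
    Nat.card (mems D b) = Nat.card {s : G // s ∈ D ∧ s • a = b ∧ Commute s u} *
      Nat.card {s : G // s ∈ D ∧ s • a = b ∧ Commute s (u * t)} := by
  haveI := Fintype.ofFinite G
  have htt := h.sq ht
  set N := pairCore (G := G) a b with hN
  have hNodd : Odd (Nat.card N) := odd_pairCore a b
  have htS : t ∈ pairSet (G := G) a b := Or.inr ⟨hta, h.swap_back' ht hta⟩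
  have htN := mem_normalizer_pairCore htS
  have huN : u ∈ normalizer (N : Set G) := mem_normalizer_pairCore (Or.inl ⟨hua, hub⟩)
  have hinter : ∀ w : G, Commute t w → t ∈ normalizer ((N ⊓ centralizer ({w} : Set G) : Subgroup G) : Set G) := by
    intro w hw
    have key : ∀ x, Commute x w ↔ Commute (t * x * t⁻¹) w := fun x => by
      conv_rhs => rw [show w = t * w * t⁻¹ by rw [hw.eq, mul_inv_cancel_right], Commute.conj_iff]
    refine mem_normalizer_iff.2 fun x => ?_
    rw [mem_inf, mem_inf, mem_centralizer_singleton_iff, mem_centralizer_singleton_iff]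
    exact and_congr (mem_normalizer_iff.1 htN x) (key x)
  have hcu := (Commute.refl t).mul_right htu
  have hbw := CfsgLib.HallNumber.brauer_wielandt_subgroup N hNodd htt hu htu.eq htN huN
  have h0 := card_invertedIn_mul hNodd htt htN
  have h1 := card_invertedIn_mul (hNodd.of_dvd_nat (card_dvd_of_le inf_le_left)) htt (hinter u htu)
  have h2 := card_invertedIn_mul (hNodd.of_dvd_nat (card_dvd_of_le inf_le_left)) htt
    (hinter (u * t) (htu.mul_right (Commute.refl t)))
  rw [← h.card_invertedIn_pairCore hf hab ht hta, h.card_swappers_commute hf hab ht hta htu,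
    h.card_swappers_commute hf hab ht hta (htu.mul_right (Commute.refl t))]
  have e1 : N ⊓ centralizer ({u} : Set G) ⊓ centralizer ({t} : Set G) =
      N ⊓ centralizer ({t} : Set G) ⊓ centralizer ({u} : Set G) := inf_right_comm _ _ _
  have e2 : N ⊓ centralizer ({u * t} : Set G) ⊓ centralizer ({t} : Set G) =
      N ⊓ centralizer ({t} : Set G) ⊓ centralizer ({u} : Set G) := by
    ext x
    simp only [mem_inf, mem_centralizer_singleton_iff]
    constructor
    · rintro ⟨⟨hxN, hxv⟩, hxt⟩
      refine ⟨⟨hxN, hxt⟩, mul_right_cancel (b := t) ?_⟩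
      calc x * u * t = x * (u * t) := mul_assoc _ _ _
        _ = u * t * x := hxv
        _ = u * x * t := by rw [mul_assoc, ← hxt, ← mul_assoc]
    · rintro ⟨⟨hxN, hxt⟩, hxu⟩
      exact ⟨⟨hxN, (show Commute x u from hxu).mul_right hxt⟩, hxt⟩
  rw [e1] at h1
  rw [e2] at h2
  rw [show t * u = u * t from htu.eq, ← h0, ← h1, ← h2] at hbw
  refine Nat.eq_of_mul_eq_mul_left (Nat.mul_pos (Nat.card_pos (α := (N ⊓ centralizer ({t} : Set G) : Subgroup G)))
    (pow_pos (Nat.card_pos (α := (N ⊓ centralizer ({t} : Set G) ⊓ centralizer ({u} : Set G) : Subgroup G))) 2)) ?_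
  linarith [hbw]

end Crit

end CfsgLib.AschCrit
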