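import Cfsg.Agent.Lib.Invol.AschCrit.Model

/-!
Owner: helper27. Aschbacher's criterion, end game of unitary type: the kernel statement.
See `notes/aschbacher_U3_proof_helper27.md`, U3.
-/

set_option autoImplicit false

namespace CfsgLib.AschCrit

variable {G : Type*} [Group G] (Ω : Type*) [MulAction G Ω]

/-- In unitary type the kernel of a model has order two. -/
def UnitaryKernel (D : Set G) : Prop :=
  ∀ (u : G) (a b : Ω) (E : Subgroup G) (q : ℕ) (P R X Q : Subgroup G) (h : G), Frame D u a b E q 3 →
    HasTrans u a E → ModelAt D u a b E q 3 P R X Q h → Nat.card R = 2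

end CfsgLib.AschCrit
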