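import Cfsg.Agent.Lib.Invol.AschCrit.Dep.TightBender
import Cfsg.Agent.Lib.Lie.Suzuki.Borel

/-!
Owner: helper18. Aschbacher's criterion, slice E: the kernel `U` of a simple rank one setup as a 2-group over
its involution group `Z`.

* `exists_subgroup_index_two`: a hyperplane missing a given element.
* `comm_rot`, `sq_mem_Z`, `comm_mem_Z`, `mem_Z_of_sq`: `U / Z` elementary, the involutions are in `Z`.
* `sq_onto`: every element of `Z` is a square unless `U = Z`.
* `comm_onto`: `[y, U] = Z` for `y` outside `Z` when `|U| = q^3` (a sum of signs).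
* `cent_two`: the centraliser of `y` outside `Z` is `Z + y Z` when `|U| = q^2` (Suzuki groups).
-/

set_option autoImplicit false
set_option linter.unusedSectionVars false

namespace CfsgLib.AschCrit

open MulAction CfsgLib.Lie.RankOne CfsgLib.Lie.RankOneClass
open CfsgLib.OddTransitive.RankOne (involutionGroup mem_involutionGroup exists_cyclic)
open CfsgLib.RankOneInter.TIAuto (shape_cases)

universe u v

/-- A subgroup of index two of an elementary abelian group containing `I` and missing `z₀`. -/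
theorem exists_subgroup_index_two {G : Type*} [Group G] [Finite G] {Z I : Subgroup G}
    (hsq : ∀ x ∈ Z, x * x = 1) (hI : I ≤ Z) {z₀ : G} (hz : z₀ ∈ Z) (hzI : z₀ ∉ I) :
    ∃ H : Subgroup G, I ≤ H ∧ H ≤ Z ∧ z₀ ∉ H ∧ ∀ a ∈ Z, a ∉ H → a * z₀ ∈ H := by
  obtain ⟨H, ⟨hIH, hHZ, hzH⟩, hmax⟩ := Set.Finite.exists_maximal
    (Set.toFinite {H : Subgroup G | I ≤ H ∧ H ≤ Z ∧ z₀ ∉ H}) ⟨I, le_rfl, hI, hzI⟩
  have hcomm : ∀ x ∈ Z, ∀ y ∈ Z, x * y = y * x := fun x hx y hy => by
    have h1 := hsq _ (mul_mem hx hy)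
    have h2 : (x * y)⁻¹ = x * y := inv_eq_of_mul_eq_one_right h1
    rw [← h2, mul_inv_rev, inv_eq_of_mul_eq_one_right (hsq x hx), inv_eq_of_mul_eq_one_right (hsq y hy)]
  refine ⟨H, hIH, hHZ, hzH, fun a ha haH => ?_⟩
  by_contra hc
  let K : Subgroup G :=
    { carrier := {x | x ∈ H ∨ (x ∈ Z ∧ a * x ∈ H)}
      one_mem' := Or.inl (one_mem _)
      mul_mem' := fun {x y} hx hy => by
        rcases hx with hx | ⟨hxZ, hx⟩ <;> rcases hy with hy | ⟨hyZ, hy⟩
        · exact Or.inl (mul_mem hx hy)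
        · refine Or.inr ⟨mul_mem (hHZ hx) hyZ, ?_⟩
          rw [hcomm a ha _ (mul_mem (hHZ hx) hyZ), mul_assoc, hcomm y hyZ a ha]
          exact mul_mem hx hy
        · refine Or.inr ⟨mul_mem hxZ (hHZ hy), ?_⟩
          rw [← mul_assoc]
          exact mul_mem hx hy
        · refine Or.inl ?_
          have h1 := mul_mem hx hy
          rwa [hcomm a ha x hxZ, mul_assoc x a, ← mul_assoc a a, hsq a ha, one_mul] at h1
      inv_mem' := fun {x} hx => by
        rcases hx with hx | ⟨hxZ, hx⟩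
        · exact Or.inl (inv_mem hx)
        · rw [inv_eq_of_mul_eq_one_right (hsq x hxZ)]
          exact Or.inr ⟨hxZ, hx⟩ }
  have hKZ : K ≤ Z := fun x hx => hx.elim (fun h => hHZ h) (fun h => h.1)
  have hle : H ≤ K := fun x hx => Or.inl hx
  have hz₀K : z₀ ∉ K := fun h => h.elim hzH fun h' => hc h'.2
  have haK : a ∈ K := Or.inr ⟨ha, by rw [hsq a ha]; exact one_mem _⟩
  exact haH (hmax ⟨hIH.trans hle, hKZ, hz₀K⟩ hle haK)

variable {G : Type u} [Group G] [Finite G] {Ω : Type v} [MulAction G Ω] [FaithfulSMul G Ω] [IsSimpleGroup G]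
  {a : Ω} {t : G} {U : Subgroup G} (hS : Cfsg.IsRankOneSetup G Ω a t U)
  (h2 : ∃ x y : G, x ≠ 1 ∧ y ≠ 1 ∧ x ≠ y ∧ x * x = 1 ∧ y * y = 1 ∧ x * y = y * x) (hU : IsPGroup 2 U)

local notation "𝔍" => Cfsg.involutionsIn (stabilizer G a : Set G)

include hS h2

theorem Z_le : involutionGroup hS h2 ≤ U := by
  rintro z (rfl | hz)
  · exact one_mem _
  · exact J_mem_Q hS hz

theorem mem_Z_of_sq {y : G} (hy : y ∈ U) (hyy : y * y = 1) : y ∈ involutionGroup hS h2 := eq_one_or_J hS hy hyy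

theorem comm_Z {z y : G} (hz : z ∈ involutionGroup hS h2) (hy : y ∈ U) : z * y = y * z := by
  rcases hz with rfl | hz
  · rw [one_mul, mul_one]
  · exact J_central hS h2 hz hy

/-- The kernel is not abelian unless it consists of involutions. -/
theorem not_comm_of_ne (hne : Nat.card U ≠ qq G a) (hU : IsPGroup 2 U) :
    ¬ ∀ x ∈ U, ∀ y ∈ U, x * y = y * x := by
  classical
  intro hab
  rcases shape_cases hS h2 with h | ⟨hV, h⟩ | ⟨hc, ⟨w, hw, hw1⟩, hC⟩
  · exact hne h
  · rcases shape_of_Vg_bot hS h2 hV with h' | ⟨h', -, -⟩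
    · exact hne h'
    · exact h' hab
  set Z := involutionGroup hS h2 with hZ
  have hqpos : 0 < qq G a := by obtain ⟨n, -, hn⟩ := exists_pow_two hS h2; rw [hn]; positivity
  let s : U →* U := MonoidHom.mk' (fun x => x * x) fun x y => Subtype.ext (by
    show (x : G) * y * ((x : G) * y) = (x : G) * x * ((y : G) * y)
    rw [mul_assoc (x : G) y, ← mul_assoc (y : G) x, hab y y.2 x x.2]
    group)
  have hker : Nat.card s.ker = qq G a := by
    rw [← card_involutionGroup hS h2]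
    exact Nat.card_congr
      { toFun := fun x => ⟨(x.1 : G), mem_Z_of_sq hS h2 x.1.2 (congrArg Subtype.val x.2)⟩
        invFun := fun z => ⟨⟨z, Z_le hS h2 z.2⟩, MonoidHom.mem_ker.2 (Subtype.ext (show (z : G) * z = 1 from
          congrArg Subtype.val (CfsgLib.OddTransitive.RankOne.sq_eq_one hS h2 z)))⟩
        left_inv := fun x => rfl
        right_inv := fun z => rfl }
  obtain ⟨hwD, hwJ⟩ := mem_Wg.1 hw
  have hwZ : ∀ z ∈ Z, w * z * w⁻¹ = z := fun z hz => by
    rcases hz with rfl | hz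
    · group
    · rw [hwJ z hz, mul_inv_cancel_right]
  let φ : U → U := fun x => ⟨w * x * w⁻¹, Q_conj hS hwD x.2⟩
  -- an element moved by `w` to its translate by an element killed by `2 ^ k`
  have key : ∀ k : ℕ, ∀ x : U, (x : G) ^ 2 ^ k ∈ Z →
      (w * x * w⁻¹ * (x : G)⁻¹) ^ 2 ^ k = 1 := by
    intro k x hx
    have hc : Commute (w * (x : G) * w⁻¹) (x : G)⁻¹ := Commute.inv_right (hab _ (φ x).2 _ x.2)
    rw [hc.mul_pow, conj_pow, hwZ _ hx, inv_pow, mul_inv_cancel]
  obtain ⟨e, he⟩ := (IsPGroup.iff_card.1 hU)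
  have hpow : ∀ x : U, (x : G) ^ 2 ^ e = 1 := fun x => by
    rw [← he]; exact congrArg Subtype.val (pow_card_eq_one' (x := x))
  have hall : ∀ k : ℕ, ∀ x : U, (x : G) ^ 2 ^ k ∈ Z → w * x = x * w := by
    intro k
    induction k with
    | zero =>
      intro x hx
      rw [pow_zero, pow_one] at hx
      exact mul_inv_eq_iff_eq_mul.1 (hwZ _ hx)
    | succ k ih =>
      intro x hx
      have h1 := key (k + 1) x hx
      set c := w * (x : G) * w⁻¹ * (x : G)⁻¹ with hc
      have hcU : c ∈ U := mul_mem (φ x).2 (inv_mem x.2)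
      have hcw : w * c = c * w := ih ⟨c, hcU⟩ (mem_Z_of_sq hS h2 (pow_mem hcU _) (by
        show c ^ 2 ^ k * c ^ 2 ^ k = 1
        rw [← pow_add, ← two_mul, ← pow_succ']; exact h1))
      rcases hC w hw hw1 c hcU hcw with h3 | h3
      · exact mul_inv_eq_iff_eq_mul.1 (mul_inv_eq_one.1 h3)
      · -- `w` has odd order
        exfalso
        have hind : ∀ n : ℕ, w ^ n * (x : G) * (w ^ n)⁻¹ = c ^ n * x := by
          intro n
          induction n with
          | zero => simp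
          | succ n ihn =>
            rw [pow_succ', show w * w ^ n * (x : G) * (w * w ^ n)⁻¹ = w * (w ^ n * (x : G) * (w ^ n)⁻¹) * w⁻¹ by group,
              ihn, pow_succ, mul_assoc (c ^ n) c, show c * (x : G) = w * x * w⁻¹ by rw [hc]; group]
            have hcn : Commute w (c ^ n) := (show Commute w c from hcw).pow_right n
            rw [← mul_assoc w, hcn.eq]
            group
        have h4 := hind (orderOf w)
        obtain ⟨r, hr⟩ := D_odd hS hwD
        rw [pow_orderOf_eq_one, one_mul, inv_one, mul_one, hr, pow_succ, pow_mul,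
          show c ^ 2 = 1 by rw [pow_two]; exact h3.2.2, one_pow, one_mul] at h4
        exact h3.2.1 (mul_right_cancel (b := (x : G)) (by rw [one_mul]; exact h4.symm))
  have hfix : ∀ x : U, (x : G) ∈ Z := fun x => by
    rcases hC w hw hw1 x x.2 (hall e x (by rw [hpow]; exact one_mem _)) with h3 | h3
    · rw [h3]; exact one_mem _
    · exact Or.inr h3
  refine hne ?_
  rw [← card_involutionGroup hS h2]
  exact congrArg (fun H : Subgroup G => Nat.card H) (le_antisymm (fun x hx => hfix ⟨x, hx⟩) (Z_le hS h2))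

include hU

theorem sq_mem_Z {y : G} (hy : y ∈ U) : y * y ∈ involutionGroup hS h2 := by
  by_cases hne : Nat.card U = qq G a
  · have he := Subgroup.eq_of_le_of_card_ge (Z_le hS h2) (by rw [hne, card_involutionGroup hS h2])
    rw [show y * y = 1 from congrArg Subtype.val (CfsgLib.OddTransitive.RankOne.sq_eq_one hS h2 ⟨y, he.ge hy⟩)]
    exact one_mem _
  obtain ⟨P⟩ := exists_qdec hS h2
  have hS' : ∀ {x : G}, x ∈ U → x ∈ P.S := fun {x} hx => by
    obtain ⟨i, hi⟩ := hU ⟨x, hx⟩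
    exact P.mem_S hx (i := i) (congrArg Subtype.val hi)
  rcases P.S_cases hS h2 with h | ⟨h, -, -⟩
  · exact absurd (fun x hx y hy => h x (hS' hx) y (hS' hy)) (not_comm_of_ne hS h2 hne hU)
  · exact h y (hS' hy)

theorem comm_mem_Z {y x : G} (hy : y ∈ U) (hx : x ∈ U) : y * x * y⁻¹ * x⁻¹ ∈ involutionGroup hS h2 := by
  have := comm_mem_involutionGroup hS h2 hU (inv_mem hy) (inv_mem hx)
  rwa [inv_inv, inv_inv] at this

theorem comm_rot {y x : G} (hy : y ∈ U) (hx : x ∈ U) : y⁻¹ * x * y * x⁻¹ ∈ involutionGroup hS h2 := by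
  have := comm_mem_Z hS h2 hU (inv_mem hy) hx
  rwa [inv_inv] at this

/-- All elements of `Z` are squares unless `U = Z`. -/
theorem sq_onto (hne : Nat.card U ≠ qq G a) {e : G} (he : e ∈ involutionGroup hS h2) :
    ∃ y ∈ U, y * y = e := by
  rcases he with rfl | he
  · exact ⟨1, one_mem _, one_mul 1⟩
  obtain ⟨y, hy, hyZ⟩ : ∃ y ∈ U, y ∉ involutionGroup hS h2 := by
    by_contra hc
    push Not at hc
    exact hne (by
      rw [← card_involutionGroup hS h2]
      exact congrArg (fun H : Subgroup G => Nat.card H) (le_antisymm hc (Z_le hS h2)))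
  have hyy : y * y ∈ 𝔍 := (sq_mem_Z hS h2 hU hy).resolve_left fun h => hyZ (mem_Z_of_sq hS h2 hy h)
  obtain ⟨k, ⟨hk, hke⟩, -⟩ := exists_unique_K hS hyy he
  refine ⟨k⁻¹ * y * k⁻¹⁻¹, Q_conj hS (inv_mem hk.1) hy, ?_⟩
  rw [← hke]
  group

/-- In unitary type `[y, U] = Z` for `y` outside `Z`. -/
theorem comm_onto (hcard : Nat.card U = qq G a ^ 3) {y : G} (hy : y ∈ U) (hyZ : y ∉ involutionGroup hS h2)
    {e : G} (he : e ∈ involutionGroup hS h2) : ∃ y' ∈ U, y * y' * y⁻¹ * y'⁻¹ = e := by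
  classical
  set Z := involutionGroup hS h2 with hZ
  obtain ⟨n, hn, hqn⟩ := exists_pow_two hS h2
  set q := qq G a with hq
  have hq4 : 4 ≤ q := by
    rw [hqn]; exact le_trans (by norm_num) (Nat.pow_le_pow_right (by norm_num) hn)
  by_contra hno
  push Not at hno
  have hZsq : ∀ x ∈ Z, x * x = 1 := fun x hx => congrArg Subtype.val (CfsgLib.OddTransitive.RankOne.sq_eq_one hS h2 ⟨x, hx⟩)
  -- the commutator is bimultiplicative
  let c : G → G → G := fun x z => x⁻¹ * z * x * z⁻¹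
  have hcZ : ∀ {x z}, x ∈ U → z ∈ U → c x z ∈ Z := fun hx hz => comm_rot hS h2 hU hx hz
  have hcl : ∀ {x x' z}, x ∈ U → x' ∈ U → z ∈ U → c (x * x') z = c x z * c x' z := by
    intro x x' z hx hx' hz
    have h1 := comm_Z hS h2 (hcZ hx hz) hx'
    show (x * x')⁻¹ * z * (x * x') * z⁻¹ = c x z * c x' z
    calc (x * x')⁻¹ * z * (x * x') * z⁻¹ = x'⁻¹ * (c x z * (z * x' * z⁻¹)) := by simp only [c]; group
      _ = x'⁻¹ * (c x z * x') * c x' z * 1 := by simp only [c]; group
      _ = c x z * c x' z := by rw [h1]; group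
  let I : Subgroup G :=
    { carrier := {z | ∃ x ∈ U, c x y = z}
      one_mem' := ⟨1, one_mem _, by simp [c]⟩
      mul_mem' := by
        rintro _ _ ⟨x, hx, rfl⟩ ⟨x', hx', rfl⟩
        exact ⟨x * x', mul_mem hx hx', hcl hx hx' hy⟩
      inv_mem' := by
        rintro _ ⟨x, hx, rfl⟩
        exact ⟨x, hx, (inv_eq_of_mul_eq_one_right (hZsq _ (hcZ hx hy))).symm⟩ }
  have hIZ : I ≤ Z := by rintro _ ⟨x, hx, rfl⟩; exact hcZ hx hy
  have heI : e ∉ I := by
    rintro ⟨x, hx, hxe⟩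
    refine hno x⁻¹ (inv_mem hx) ?_
    rw [← hxe]
    have h1 : c x y = (c x y)⁻¹ := (inv_eq_of_mul_eq_one_right (hZsq _ (hcZ hx hy))).symm
    rw [h1]
    simp only [c]
    group
  obtain ⟨H, hIH, hHZ, heH, hH⟩ := exists_subgroup_index_two hZsq hIZ he heI
  let χ : G → ℤ := fun z => if z ∈ H then 1 else -1
  have hχ1 : χ 1 = 1 := if_pos (one_mem H)
  have hχe : χ e = -1 := if_neg heH
  have hZc : ∀ x ∈ Z, ∀ z ∈ Z, x * z = z * x := fun x hx z hz => comm_Z hS h2 hx (Z_le hS h2 hz)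
  have hχmul : ∀ {x z}, x ∈ Z → z ∈ Z → χ (x * z) = χ x * χ z := by
    intro x z hx hz
    by_cases hxH : x ∈ H <;> by_cases hzH : z ∈ H
    · simp [χ, hxH, hzH, mul_mem hxH hzH]
    · simp [χ, hxH, hzH, mul_mem_cancel_left hxH]
    · simp [χ, hxH, hzH, mul_mem_cancel_right hzH]
    · have h1 := mul_mem (hH x hx hxH) (hH z hz hzH)
      rw [show x * e * (z * e) = x * z by
        rw [hZc z hz e he, mul_assoc, ← mul_assoc e, hZsq e he, one_mul]] at h1
      simp [χ, hxH, hzH, h1]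
  have hχsq : ∀ z, χ z * χ z = 1 := fun z => by by_cases h : z ∈ H <;> simp [χ, h]
  haveI := Fintype.ofFinite U
  haveI := Fintype.ofFinite Z
  let f : U → ℤ := fun x => χ ((x : G) * x)
  let β : U → U → ℤ := fun x z => χ (c x z)
  have hβl : ∀ x x' z : U, β (x * x') z = β x z * β x' z := fun x x' z => by
    show χ (c ((x : G) * x') z) = _
    rw [hcl x.2 x'.2 z.2, hχmul (hcZ x.2 z.2) (hcZ x'.2 z.2)]
  have hfβ : ∀ x z : U, f (x * z) = f x * f z * β x z := fun x z => by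
    have h1 := comm_Z hS h2 (hcZ x.2 z.2) z.2
    show χ ((x : G) * z * ((x : G) * z)) = χ ((x : G) * x) * χ ((z : G) * z) * χ (c x z)
    rw [mul_assoc (χ _), ← hχmul (sq_mem_Z hS h2 hU z.2) (hcZ x.2 z.2),
      ← hχmul (sq_mem_Z hS h2 hU x.2) (mul_mem (sq_mem_Z hS h2 hU z.2) (hcZ x.2 z.2))]
    congr 1
    calc (x : G) * z * ((x : G) * z) = (x : G) * x * (c x z * z) * z := by simp only [c]; group
      _ = (x : G) * x * ((z : G) * z * c x z) := by
        rw [mul_assoc ((x : G) * x), mul_assoc (c x z) z z]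
        congr 1
        exact comm_Z hS h2 (hcZ x.2 z.2) (mul_mem z.2 z.2)
  -- `S`
  set S : ℤ := ∑ x : U, f x with hSdef
  obtain ⟨Cy, hCy, hcyc, -⟩ := exists_cyclic hS h2
  haveI := Fintype.ofFinite Cy
  have hCm : ∀ {k}, k ∈ Cy ↔ k ∈ Cfsg.invertedBy
      (stabilizer G a ⊓ stabilizer G (t • a)) t := fun {k} => by rw [← hCy]; rfl
  obtain ⟨j, hj⟩ : ∃ j, j ∈ 𝔍 := exists_involution hS
  have hS1 : ∀ k : Cy, ∑ x : U, χ ((k : G)⁻¹ * ((x : G) * x) * k) = S := fun k => by
    refine Fintype.sum_equiv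
      ⟨fun x => ⟨(k : G)⁻¹ * x * (k : G)⁻¹⁻¹, Q_conj hS (inv_mem (hCm.1 k.2).1) x.2⟩,
       fun x => ⟨(k : G) * x * (k : G)⁻¹, Q_conj hS (hCm.1 k.2).1 x.2⟩,
       fun x => Subtype.ext (by simp [mul_assoc]), fun x => Subtype.ext (by simp [mul_assoc])⟩
      _ _ fun x => ?_
    show χ _ = χ _
    congr 1
    show _ = (k : G)⁻¹ * x * (k : G)⁻¹⁻¹ * ((k : G)⁻¹ * x * (k : G)⁻¹⁻¹)
    group
  have horb : ∀ z ∈ 𝔍, ∑ k : Cy, χ ((k : G)⁻¹ * z * k) = -1 := fun z hz => by
    have hbij : Function.Bijective (fun k : Cy => (⟨(k : G)⁻¹ * z * k, by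
        have := conj_mem_J hS hz (inv_mem (mem_D.1 (hCm.1 k.2).1).1)
        rwa [inv_inv] at this⟩ : {x // x ∈ 𝔍})) := by
      refine ⟨fun k k' h => ?_, fun x => ?_⟩
      · obtain ⟨k₀, -, hu⟩ := exists_unique_K hS hz
          (show (k : G)⁻¹ * z * k ∈ 𝔍 by
            have := conj_mem_J hS hz (inv_mem (mem_D.1 (hCm.1 k.2).1).1)
            rwa [inv_inv] at this)
        exact Subtype.ext ((hu k ⟨hCm.1 k.2, rfl⟩).trans
          (hu k' ⟨hCm.1 k'.2, (congrArg Subtype.val h).symm⟩).symm)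
      · obtain ⟨k, ⟨hk, hke⟩, -⟩ := exists_unique_K hS hz x.2
        exact ⟨⟨k, hCm.2 hk⟩, Subtype.ext hke⟩
    haveI := Fintype.ofFinite {x // x ∈ 𝔍}
    have hsum : ∑ z : Z, χ z = 0 := by
      have h1 : ∑ z : Z, χ z = ∑ z : Z, χ z * χ e :=
        Fintype.sum_equiv (Equiv.mulRight (⟨e, he⟩ : Z)) _ _ fun z => by
          show χ (z : G) = χ ((z : G) * e) * χ e
          rw [hχmul z.2 he, mul_assoc, hχsq, mul_one]
      rw [← Finset.sum_mul, hχe] at h1
      omega
    have hsplit : ∑ z : Z, χ z = 1 + ∑ x : {x // x ∈ 𝔍}, χ x := by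
      rw [Fintype.sum_eq_add_sum_compl (1 : Z)]
      refine congrArg₂ (· + ·) hχ1 ?_
      refine Finset.sum_bij' (fun x hx => ⟨x.1, x.2.resolve_left fun h =>
          (Finset.mem_compl.1 hx) (Finset.mem_singleton.2 (Subtype.ext h))⟩)
        (fun x _ => ⟨x.1, Or.inr x.2⟩) (fun _ _ => Finset.mem_univ _) (fun x _ => ?_) (fun _ _ => rfl)
        (fun _ _ => rfl) (fun _ _ => rfl)
      exact Finset.mem_compl.2 fun h => x.2.2.1 (congrArg Subtype.val (Finset.mem_singleton.1 h))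
    rw [Fintype.sum_bijective _ hbij _ (fun x => χ x) fun k => rfl]
    omega
  have hCcard : (Fintype.card Cy : ℤ) = (q : ℤ) - 1 := by
    have h1 : Nat.card Cy = Nat.card {x // x ∈ 𝔍} := by
      refine Nat.card_eq_of_bijective (fun k : Cy => (⟨(k : G)⁻¹ * j * k, by
          have := conj_mem_J hS hj (inv_mem (mem_D.1 (hCm.1 k.2).1).1)
          rwa [inv_inv] at this⟩ : {x // x ∈ 𝔍})) ⟨fun k k' h => ?_, fun x => ?_⟩
      · obtain ⟨k₀, -, hu⟩ := exists_unique_K hS hj
          (show (k : G)⁻¹ * j * k ∈ 𝔍 by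
            have := conj_mem_J hS hj (inv_mem (mem_D.1 (hCm.1 k.2).1).1)
            rwa [inv_inv] at this)
        exact Subtype.ext ((hu k ⟨hCm.1 k.2, rfl⟩).trans
          (hu k' ⟨hCm.1 k'.2, (congrArg Subtype.val h).symm⟩).symm)
      · obtain ⟨k, ⟨hk, hke⟩, -⟩ := exists_unique_K hS hj x.2
        exact ⟨⟨k, hCm.2 hk⟩, Subtype.ext hke⟩
    have h3 : Nat.card {x // x ∈ 𝔍} + 1 = q := rfl
    rw [← h1, Nat.card_eq_fintype_card] at h3
    omega
  have hZU : (Finset.univ.filter fun x : U => (x : G) * x = 1).card = q := by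
    rw [← Fintype.card_subtype, ← Nat.card_eq_fintype_card, hq, ← card_involutionGroup hS h2]
    exact Nat.card_congr
      { toFun := fun x => ⟨(x.1 : G), mem_Z_of_sq hS h2 x.1.2 x.2⟩
        invFun := fun z => ⟨⟨z, Z_le hS h2 z.2⟩, hZsq z z.2⟩
        left_inv := fun x => rfl
        right_inv := fun z => rfl }
  have hUcard : (Fintype.card U : ℤ) = (q : ℤ) ^ 3 := by
    rw [← Nat.card_eq_fintype_card, hcard]; push_cast; rfl
  have hSval : S = -(q : ℤ) ^ 2 := by
    have h1 : ∑ k : Cy, ∑ x : U, χ ((k : G)⁻¹ * ((x : G) * x) * k) = (Fintype.card Cy : ℤ) * S := by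
      rw [Finset.sum_congr rfl fun k _ => hS1 k, Finset.sum_const, Finset.card_univ, nsmul_eq_mul]
    rw [Finset.sum_comm] at h1
    have h3 : ∀ x : U, ∑ k : Cy, χ ((k : G)⁻¹ * ((x : G) * x) * k) =
        (if (x : G) * x = 1 then (q : ℤ) else 0) - 1 := by
      intro x
      by_cases hx : (x : G) * x = 1
      · rw [if_pos hx, hx]
        simp [hχ1, hCcard]
      · rw [if_neg hx, horb _ ((sq_mem_Z hS h2 hU x.2).resolve_left hx)]
        norm_num
    rw [Finset.sum_congr rfl fun x _ => h3 x, Finset.sum_sub_distrib, ← Finset.sum_filter,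
      Finset.sum_const, hZU, Finset.sum_const, Finset.card_univ, nsmul_eq_mul, nsmul_eq_mul, hUcard,
      hCcard] at h1
    have hne : ((q : ℤ) - 1) ≠ 0 := by omega
    apply mul_left_cancel₀ hne
    rw [← h1]
    ring
  -- the radical
  let Rad : Finset U := Finset.univ.filter fun z => ∀ x : U, β x z = 1
  have hrow : ∀ z : U, ∑ x : U, β x z = if z ∈ Rad then (Fintype.card U : ℤ) else 0 := by
    intro z
    by_cases hz : z ∈ Rad
    · rw [if_pos hz, Finset.sum_congr rfl fun x _ => (Finset.mem_filter.1 hz).2 x]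
      simp
    · rw [if_neg hz]
      obtain ⟨x₀, hx₀⟩ : ∃ x₀, β x₀ z ≠ 1 := by simpa [Rad] using hz
      have hx₀' : β x₀ z = -1 := by
        show χ _ = -1
        simp only [β, χ] at hx₀ ⊢
        split_ifs with h <;> simp_all
      have h1 : ∑ x : U, β x z = ∑ x : U, β x₀ z * β x z :=
        (Fintype.sum_equiv (Equiv.mulLeft x₀) _ _ fun x => (hβl x₀ x z).symm).symm
      rw [← Finset.mul_sum, hx₀'] at h1
      omega
  have hS2 : S * S = (Fintype.card U : ℤ) * ∑ z ∈ Rad, f z := by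
    calc S * S = ∑ x : U, ∑ z : U, f x * f (x * z) := by
          rw [hSdef, Finset.sum_mul]
          refine Finset.sum_congr rfl fun x _ => ?_
          rw [Finset.mul_sum]
          exact (Fintype.sum_equiv (Equiv.mulLeft x) _ _ fun z => rfl).symm
      _ = ∑ z : U, f z * ∑ x : U, β x z := by
          rw [Finset.sum_comm]
          refine Finset.sum_congr rfl fun z _ => ?_
          rw [Finset.mul_sum]
          refine Finset.sum_congr rfl fun x _ => ?_
          rw [hfβ x z, ← mul_assoc, ← mul_assoc, show f x * f x = 1 from hχsq _, one_mul]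
      _ = _ := by
          simp_rw [hrow, mul_ite, mul_zero]
          rw [Finset.sum_ite_mem, Finset.univ_inter, Finset.mul_sum]
          exact Finset.sum_congr rfl fun z _ => mul_comm _ _
  have hsumR : ∑ z ∈ Rad, f z = (q : ℤ) := by
    have h1 := hS2
    rw [hSval, hUcard] at h1
    have hne : (q : ℤ) ^ 3 ≠ 0 := pow_ne_zero 3 (by omega)
    apply mul_left_cancel₀ hne
    rw [← h1]
    ring
  have hmulR : ∀ z ∈ Rad, ∀ z' ∈ Rad, z * z' ∈ Rad ∧ f (z * z') = f z * f z' := by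
    intro z hz z' hz'
    simp only [Rad, Finset.mem_filter, Finset.mem_univ, true_and] at hz hz' ⊢
    refine ⟨fun x => ?_, by rw [hfβ, hz' z, mul_one]⟩
    have h1 : c (x : G) ((z : G) * z') = c x z * c x z' := by
      have hc1 := comm_Z hS h2 (hcZ x.2 z'.2) (inv_mem z.2)
      show (x : G)⁻¹ * ((z : G) * z') * x * ((z : G) * z')⁻¹ = _
      calc (x : G)⁻¹ * ((z : G) * z') * x * ((z : G) * z')⁻¹
            = (x : G)⁻¹ * z * x * (c x z' * (z : G)⁻¹) := by simp only [c]; group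
        _ = (x : G)⁻¹ * z * x * ((z : G)⁻¹ * c x z') := by rw [hc1]
        _ = c x z * c x z' := by simp only [c]; group
    show χ (c (x : G) ((z : G) * z')) = 1
    rw [h1, hχmul (hcZ x.2 z.2) (hcZ x.2 z'.2)]
    simp only [β] at hz hz'
    rw [hz x, hz' x, mul_one]
  have hallf : ∀ z ∈ Rad, f z = 1 := by
    by_contra hc
    push Not at hc
    obtain ⟨z₀, hz₀, hf₀⟩ := hc
    have hf₀' : f z₀ = -1 := by
      simp only [f, χ] at hf₀ ⊢
      split_ifs with h <;> simp_all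
    have h1 : ∑ z ∈ Rad, f z = ∑ z ∈ Rad, f z₀ * f z := by
      refine Finset.sum_bij (fun z _ => z * z₀) (fun z hz => (hmulR z hz z₀ hz₀).1)
        (fun z _ z' _ h => mul_right_cancel h) (fun z hz => ⟨z * z₀⁻¹, ?_, inv_mul_cancel_right z z₀⟩)
        (fun z hz => ?_)
      · have hinv : z₀⁻¹ ∈ Rad := by
          obtain ⟨m, hm⟩ : ∃ m, z₀⁻¹ = z₀ ^ m :=
            ⟨Fintype.card U - 1, inv_eq_of_mul_eq_one_right (by
              rw [← pow_succ', Nat.sub_add_cancel Fintype.card_pos, pow_card_eq_one])⟩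
          rw [hm]
          clear hm
          induction m with
          | zero =>
            simp only [Rad, Finset.mem_filter, Finset.mem_univ, true_and, pow_zero]
            intro x
            show χ (c (x : G) 1) = 1
            rw [show c (x : G) 1 = 1 by simp [c]]; exact hχ1
          | succ m ih => rw [pow_succ]; exact (hmulR _ ih z₀ hz₀).1
        exact (hmulR z hz _ hinv).1
      · rw [(hmulR z hz z₀ hz₀).2, ← mul_assoc, mul_comm (f z₀) (f z), mul_assoc,
          show f z₀ * f z₀ = 1 from hχsq _, mul_one]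
    rw [← Finset.mul_sum, hf₀', hsumR] at h1
    omega
  have hRcard : Rad.card = q := by
    have := hsumR
    rw [Finset.sum_congr rfl hallf, Finset.sum_const, nsmul_one] at this
    exact_mod_cast this
  -- `Z` and `y` are in the radical
  have hsub : Finset.univ.filter (fun x : U => (x : G) * x = 1) ⊆ Rad := fun z hz => by
    simp only [Rad, Finset.mem_filter, Finset.mem_univ, true_and] at hz ⊢
    intro x
    show χ (c (x : G) z) = 1
    rw [show c (x : G) z = 1 by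
      show (x : G)⁻¹ * z * x * (z : G)⁻¹ = 1
      rw [mul_assoc _ (z : G), comm_Z hS h2 (mem_Z_of_sq hS h2 z.2 hz) x.2]
      group]
    exact hχ1
  have heq := Finset.eq_of_subset_of_card_le hsub (by rw [hZU, hRcard])
  have hyR : (⟨y, hy⟩ : U) ∈ Rad := by
    simp only [Rad, Finset.mem_filter, Finset.mem_univ, true_and]
    exact fun x => if_pos (hIH ⟨x, x.2, rfl⟩)
  rw [← heq] at hyR
  exact hyZ (mem_Z_of_sq hS h2 hy (Finset.mem_filter.1 hyR).2)

/-- In Suzuki type commuting elements outside `Z` agree modulo `Z`. -/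
theorem cent_two (hcard : Nat.card U = qq G a ^ 2) {y y' : G} (hy : y ∈ U) (hyZ : y ∉ involutionGroup hS h2)
    (hy' : y' ∈ U) (hc : Commute y y') :
    y' ∈ involutionGroup hS h2 ∨ y' * y⁻¹ ∈ involutionGroup hS h2 := by
  haveI := Fact.mk Nat.prime_two
  obtain ⟨n, hn, hqn⟩ := exists_pow_two hS h2
  have hpow : ∀ {k l : ℕ}, qq G a ^ k = qq G a ^ l → k = l := fun e =>
    Nat.pow_right_injective (by rw [hqn]; exact le_trans (by norm_num) (Nat.pow_le_pow_right (by norm_num) hn)) e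
  have hV : Vg a t = ⊥ := by
    rcases shape_cases hS h2 with h | ⟨h, -⟩ | ⟨h, -⟩
    · exact absurd (hpow ((hcard.symm.trans h).trans (pow_one _).symm)) (by norm_num)
    · exact h
    · exact absurd (hpow (hcard.symm.trans h)) (by norm_num)
  obtain ⟨F, _, _, m, hm, hF, ⟨iso⟩⟩ : Cfsg.Lie.IsoSuzuki G := by
    rcases shape_of_Vg_bot hS h2 hV with h | ⟨-, -, h⟩
    · exact absurd (hpow ((hcard.symm.trans h).trans (pow_one _).symm)) (by norm_num)
    · exact h
  haveI : CharP F 2 := CfsgLib.Lie.Suzuki.charTwo_of_card hF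
  set θ : G ≃* Cfsg.Sz F m := iso.trans (CfsgLib.Lie.Suzuki.equivLie hm hF).symm with hθ
  obtain ⟨P, hP⟩ := (hU.map θ.toMonoidHom).exists_le_sylow
  obtain ⟨g, hg⟩ := CfsgLib.Lie.Suzuki.exists_conj_sylow hF hm P
  let ψ : G →* Cfsg.Sz F m := (MulAut.conj g⁻¹).toMonoidHom.comp θ.toMonoidHom
  have hψi : Function.Injective ψ := (MulAut.conj g⁻¹).injective.comp θ.injective
  have hmem : ∀ {x}, x ∈ U → ∃ a b, ψ x = CfsgLib.Lie.Suzuki.uS hF a b := fun {x} hx => by
    obtain ⟨w, hw, hwe⟩ := hg ▸ hP (Subgroup.mem_map_of_mem θ.toMonoidHom hx)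
    obtain ⟨a, b, hab⟩ := hw
    refine ⟨a, b, ?_⟩
    rw [← hab]
    show g⁻¹ * θ x * g⁻¹⁻¹ = w
    rw [show θ x = g * w * g⁻¹ from hwe.symm]
    group
  obtain ⟨a₁, b₁, h₁⟩ := hmem hy
  obtain ⟨a₂, b₂, h₂⟩ := hmem hy'
  have h2' : (2 : F) = 0 := CharTwo.two_eq_zero
  have hzero : ∀ {x}, x ∈ U → ∀ {a b}, ψ x = CfsgLib.Lie.Suzuki.uS hF a b → a = 0 →
      x ∈ involutionGroup hS h2 := fun {x} hx {a b} h ha => by
    refine mem_Z_of_sq hS h2 hx (hψi ?_)
    rw [map_mul, map_one, h, ha, CfsgLib.Lie.Suzuki.uS_mul, map_zero, zero_mul, add_zero, add_zero,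
      CharTwo.add_self_eq_zero, CfsgLib.Lie.Suzuki.uS_one]
  by_cases ha₂ : a₂ = 0
  · exact Or.inl (hzero hy' h₂ ha₂)
  have ha₁ : a₁ ≠ 0 := fun h => hyZ (hzero hy h₁ h)
  have he := congrArg ψ hc.eq
  rw [map_mul, map_mul, h₁, h₂, CfsgLib.Lie.Suzuki.uS_mul, CfsgLib.Lie.Suzuki.uS_mul] at he
  obtain ⟨-, he⟩ := CfsgLib.Lie.Suzuki.uS_inj hF he
  set θf := CfsgLib.Lie.Suzuki.th F m
  have he' : θf a₁ * a₂ = θf a₂ * a₁ := by grind
  have hr : θf (a₂ / a₁) = a₂ / a₁ := by
    rw [map_div₀, div_eq_div_iff ((map_ne_zero θf).2 ha₁) ha₁]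
    rw [← he']; ring
  have hr2 := congrArg θf hr
  rw [CfsgLib.Lie.Suzuki.th_tits hF, hr] at hr2
  have heq : a₂ = a₁ := by
    have h3 : a₂ / a₁ * (a₂ / a₁) = a₂ / a₁ * 1 := by rw [mul_one, ← sq]; exact hr2
    have h4 := mul_left_cancel₀ (div_ne_zero ha₂ ha₁) h3
    rwa [div_eq_one_iff_eq ha₁] at h4
  refine Or.inr (hzero (mul_mem hy' (inv_mem hy)) (a := a₂ + a₁)
    (b := b₂ + (b₁ + θf a₁ * a₁) + θf a₂ * a₁) ?_ (by rw [heq]; exact CharTwo.add_self_eq_zero _))
  rw [map_mul, map_inv, h₁, h₂, CfsgLib.Lie.Suzuki.uS_inv, CfsgLib.Lie.Suzuki.uS_mul]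

end CfsgLib.AschCrit
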