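import Cfsg.Agent.Lib.Invol.AschCrit.ModelCover
import Cfsg.Agent.Lib.Invol.AschCrit.ModelFacts
import Cfsg.Agent.Lib.Invol.AschCrit.Model

/-!
Owner: helper18. Aschbacher's criterion, slice E: the Sylow group of the centraliser of `u`, `E` at the point.

* `centSub`: the stabiliser of `a` in the centraliser of `u` and `E`.
* `ModelBase`: its Sylow group is `R Q`, `Q` the part in `<D cap C(u)>`, regular on the other fixed points and
  isomorphic to the kernel of the Bender group there.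
* `Crit.exists_base`: it exists for every Sylow group `R` of the two-point stabiliser.
-/

set_option autoImplicit false
set_option linter.unusedSectionVars false

namespace CfsgLib.AschCrit

open Subgroup MulAction CfsgLib.Lie.RankOne CfsgLib.Lie.RankOneClass
open CfsgLib.OddTransitive.RankOne (involutionGroup exists_cyclic)

universe u

variable {G : Type u} [Group G] [Finite G] {Ω : Type u} [MulAction G Ω]

/-- The stabiliser of `a` in the centraliser of `u` and `E`. -/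
def centSub (u : G) (a : Ω) (E : Subgroup G) : Subgroup G :=
  stabilizer G a ⊓ Subgroup.centralizer (insert u (E : Set G))

theorem mem_centSub {u : G} {a : Ω} {E : Subgroup G} {g : G} :
    g ∈ centSub u a E ↔ g • a = a ∧ Commute g u ∧ ∀ e ∈ E, Commute g e := by
  simp only [centSub, Subgroup.mem_inf, mem_stabilizer_iff, Subgroup.mem_centralizer_iff, Set.mem_insert_iff,
    forall_eq_or_imp, SetLike.mem_coe]
  exact and_congr_right fun _ => and_congr eq_comm (forall₂_congr fun e _ => eq_comm)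

theorem mem_fixGrp {u : G} {a b : Ω} {E : Subgroup G} {g : G} :
    g ∈ fixGrp u a b E ↔ g ∈ centSub u a E ∧ g • b = b := by
  simp only [fixGrp, centSub, Subgroup.mem_inf, mem_stabilizer_iff]
  tauto

/-- The Sylow group `P0 = R Q` of `centSub`. -/
structure ModelBase (D : Set G) (u : G) (a b : Ω) (E : Subgroup G) (q i : ℕ) (R P0 Q : Subgroup G) : Prop where
  two : IsPGroup 2 P0
  sub : P0 ≤ centSub u a E
  sylow : ∀ K : Subgroup G, IsPGroup 2 K → K ≤ centSub u a E → Nat.card K ≤ Nat.card P0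
  R_le : R ≤ P0
  R_sub : R ≤ fixGrp u a b E
  R_card : Nat.card R = 2 ^ padicValNat 2 (Nat.card (fixGrp u a b E))
  Q_mem : ∀ g, g ∈ Q ↔ g ∈ P0 ∧ g ∈ cGrp D u
  E_Q : E ≤ Q
  Q_card : Nat.card Q = q ^ i
  P0_card : Nat.card P0 = q ^ i * Nat.card R
  prod : ∀ g ∈ P0, ∃ r ∈ R, ∃ y ∈ Q, g = r * y
  disj : ∀ g ∈ R, g ∈ Q → g = 1
  Q_free : ∀ y ∈ Q, y • b = b → y = 1
  Q_trans : ∀ x : Ω, u • x = x → x ≠ a → ∃ y ∈ Q, y • b = x
  Q_comm : ∀ r ∈ R, (∀ x : Ω, u • x = x → r • x = x) → ∀ y ∈ Q, Commute y r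
  QQ : ∀ y ∈ Q, ∀ y' ∈ Q, y * y' * y⁻¹ * y'⁻¹ ∈ E
  Q_sq : ∀ y ∈ Q, y * y ∈ E
  Q_sq_one : ∀ y ∈ Q, y * y = 1 → y ∈ E
  Q_sq_onto : i ≠ 1 → ∀ e ∈ E, ∃ y ∈ Q, y * y = e
  Q_form_two : i = 2 → ∀ y ∈ Q, y ∉ E → ∀ y' ∈ Q, Commute y y' → y' ∈ E ∨ y' * y⁻¹ ∈ E
  Q_form_three : i = 3 → ∀ y ∈ Q, y ∉ E → ∀ e ∈ E, ∃ y' ∈ Q, y * y' * y⁻¹ * y'⁻¹ = e

/-- Some Sylow group of a subgroup containing a given 2-subgroup. -/
theorem exists_max_two {H S : Subgroup G} (hS : IsPGroup 2 S) (hSH : S ≤ H) :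
    ∃ P : Subgroup G, IsPGroup 2 P ∧ S ≤ P ∧ P ≤ H ∧ Nat.card P = 2 ^ padicValNat 2 (Nat.card H) ∧
      ∀ K : Subgroup G, IsPGroup 2 K → K ≤ H → ∃ g ∈ H, ∀ k ∈ K, g * k * g⁻¹ ∈ P := by
  haveI := Fact.mk Nat.prime_two
  obtain ⟨P, hP⟩ := (hS.comap_subtype (K := H)).exists_le_sylow
  refine ⟨(P : Subgroup H).map H.subtype, P.isPGroup'.map _, fun s hs => ⟨⟨s, hSH hs⟩, hP hs, rfl⟩,
    Subgroup.map_subtype_le _, ?_, fun K hK hKH => ?_⟩
  · rw [Subgroup.card_map_of_injective (Subgroup.subtype_injective _), Sylow.card_eq_multiplicity,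
      Nat.factorization_def _ Nat.prime_two]
  · obtain ⟨T, hT⟩ := (hK.comap_subtype (K := H)).exists_le_sylow
    obtain ⟨g, hg⟩ := MulAction.exists_smul_eq H T P
    refine ⟨g, g.2, fun k hk => ⟨g * ⟨k, hKH hk⟩ * g⁻¹, ?_, by simp⟩⟩
    rw [← hg, SetLike.mem_coe, Sylow.coe_subgroup_smul, Subgroup.mem_pointwise_smul_iff_inv_smul_mem]
    convert hT (show (⟨k, hKH hk⟩ : H) ∈ K.comap H.subtype from hk) using 1
    show (MulAut.conj g)⁻¹ _ = _
    rw [← map_inv, MulAut.conj_apply, inv_inv]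
    group

namespace Crit

variable {D : Set G} (h : Crit Ω D)
include h

/-- A 2-group in `<D cap C(u)>` over the kernel of the Bender group. -/
theorem exists_unip {u : G} {a b : Ω} {E : Subgroup G} {q i : ℕ} (hu : IsMulti Ω u) (hl : LData D u a b E q i)
    {U : Subgroup (cImage Ω D u)} (hB : Bend D hl.fix_a E q i U) :
    ∃ Q : Subgroup G, IsPGroup 2 Q ∧ Q ≤ centSub u a E ∧ Q ≤ cGrp D u ∧
      ∀ v ∈ U, ∃ y, ∃ hy : y ∈ cGrp D u, y ∈ Q ∧ cProj Ω D u ⟨y, hy⟩ = v := by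
  classical
  haveI := Fact.mk Nat.prime_two
  haveI := h.finite_points
  haveI := hB.simple
  haveI : FaithfulSMul (cImage Ω D u) (MulAction.fixedBy Ω u) :=
    faithfulSMul_iff.2 fun g hg => Subtype.ext (Equiv.ext hg)
  obtain ⟨t₀, ht₀, ht₀a, ht₀c⟩ := h.exists_swapper_centralised hl.ne _
    (isPGroup_sup_involution (IsPGroup.of_bot (p := 2) (G := G)) hu.1
      (fun g hg => by rw [Subgroup.mem_bot.1 hg]; exact Commute.one_left u))
    (fix_sup (fun g hg => by rw [Subgroup.mem_bot.1 hg]; exact ⟨one_smul _ _, one_smul _ _⟩) hl.fix_a hl.fix_b)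
  set π := cProj Ω D u with hπ
  set t : cGrp D u := ⟨t₀, mem_cGrp ht₀ (ht₀c u (mem_sup_right (mem_zpowers u))).symm⟩ with ht
  have hta : π t • fixPt hl.fix_a = fixPt hl.fix_b := Subtype.ext ht₀a
  have hS := hB.setup (π t) ((h.cImage_crit hu).sq (h.cProj_mem (d := t) ht₀))
    (by rw [hta]; exact fun e => hl.ne (congrArg Subtype.val e).symm)
  set W : Subgroup G := (U.comap π).map (cGrp D u).subtype with hW
  have hEW : E ≤ W := fun e he => by
    refine ⟨⟨e, hB.memE e he⟩, ?_, rfl⟩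
    show π _ ∈ U
    rcases eq_or_ne e 1 with h1 | h1
    · rw [show (⟨e, hB.memE e he⟩ : cGrp D u) = 1 from Subtype.ext h1, map_one]; exact one_mem _
    · exact CfsgLib.Lie.RankOne.J_mem_Q hS (hB.J_mem e he h1)
  obtain ⟨P, hP⟩ := ((h.isPGroup_memGroup (F := E) ⟨hl.mem, hl.comm⟩).comap_subtype (K := W)).exists_le_sylow
  set Q : Subgroup G := (P : Subgroup W).map W.subtype with hQ
  have hQp : IsPGroup 2 Q := P.isPGroup'.map _
  have hEQ : E ≤ Q := fun e he => ⟨⟨e, hEW he⟩, hP he, rfl⟩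
  refine ⟨Q, hQp, fun g hg => ?_, fun g hg => Subgroup.map_subtype_le _ (Subgroup.map_subtype_le _ hg), fun v hv => ?_⟩
  · obtain ⟨w, hw, hwg⟩ := Subgroup.map_subtype_le _ hg
    subst hwg
    have hwU : π w ∈ U := hw
    have hwa : (w : G) • a = a := congrArg Subtype.val (hS.le hwU)
    refine mem_centSub.2 ⟨hwa, commute_of_mem_cGrp w.2, fun e he => ?_⟩
    rcases eq_or_ne e 1 with h1 | h1
    · rw [h1]; exact Commute.one_right _
    have hge : (w : G) * e * (w : G)⁻¹ ∈ memsC D u a := by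
      have := h.memsC_conj (hl.mem e he h1) (w : G)
      rwa [show (w : G) * u * (w : G)⁻¹ = u by
        rw [(commute_of_mem_cGrp w.2).eq, mul_inv_cancel_right], hwa] at this
    have hgeE : (w : G) * e * (w : G)⁻¹ ∈ E :=
      hl.maximal Q hQp hEQ _ (mul_mem (mul_mem hg (hEQ he)) (inv_mem hg)) hge
    refine mul_inv_eq_iff_eq_mul.1 (hB.inj _ hgeE e he ?_)
    rw [show (⟨(w : G) * e * (w : G)⁻¹, hB.memE _ hgeE⟩ : cGrp D u) = w * ⟨e, hB.memE e he⟩ * w⁻¹ from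
      Subtype.ext rfl, map_mul, map_mul, map_inv,
      ← CfsgLib.Lie.RankOne.J_central hS hB.rank (hB.J_mem e he h1) hwU, mul_inv_cancel_right]
  · let f : W →* U :=
      { toFun := fun g => ⟨π ⟨g, Subgroup.map_subtype_le _ g.2⟩, by
          obtain ⟨w, hw, hwg⟩ := g.2
          rw [show (⟨(g : G), Subgroup.map_subtype_le _ g.2⟩ : cGrp D u) = w from Subtype.ext hwg.symm]
          exact hw⟩
        map_one' := Subtype.ext (map_one π)
        map_mul' := fun g g' => Subtype.ext (map_mul π ⟨(g : G), Subgroup.map_subtype_le _ g.2⟩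
          ⟨(g' : G), Subgroup.map_subtype_le _ g'.2⟩) }
    have hfs : Function.Surjective f := fun y => by
      obtain ⟨w, hw⟩ := (MonoidHom.rangeRestrict_surjective _ :
        Function.Surjective (cProj Ω D u)) (y : cImage Ω D u)
      exact ⟨⟨w, w, by show π w ∈ U; rw [hπ, hw]; exact y.2, rfl⟩, Subtype.ext hw⟩
    have hmap : (P : Subgroup W).map f = ⊤ := by
      obtain ⟨n, hn'⟩ := hB.two.exists_card_eq
      have h3 : ((P : Subgroup W).map f).index ∣ 2 ^ n := hn' ▸ Subgroup.index_dvd_card _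
      have h4 : ((P : Subgroup W).map f).index ∣ (P : Subgroup W).index := Subgroup.index_map_dvd _ hfs
      obtain ⟨m, -, hm⟩ := (Nat.dvd_prime_pow Nat.prime_two).1 h3
      rw [← Subgroup.index_eq_one, hm]
      rcases m with _ | m
      · rfl
      · exact absurd ((dvd_pow_self 2 m.succ_ne_zero).trans (hm ▸ h4)) P.not_dvd_index
    obtain ⟨p, hp, hpv⟩ := (hmap ▸ Subgroup.mem_top (⟨v, hv⟩ : U) : (⟨v, hv⟩ : U) ∈ (P : Subgroup W).map f)
    exact ⟨p, Subgroup.map_subtype_le _ p.2, ⟨p, hp, rfl⟩, congrArg Subtype.val hpv⟩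

/-- The Sylow group `R Q`. -/
theorem exists_base (hf : Faithful G Ω) (IH : Below.{u, u} (Nat.card G)) {u : G} {a b : Ω} {E : Subgroup G}
    {q i : ℕ} (hu : IsMulti Ω u) (hl : LData D u a b E q i) (R : Subgroup G) (hRp : IsPGroup 2 R)
    (hR : R ≤ fixGrp u a b E) (hRc : Nat.card R = 2 ^ padicValNat 2 (Nat.card (fixGrp u a b E))) :
    ∃ P0 Q : Subgroup G, ModelBase D u a b E q i R P0 Q := by
  classical
  haveI := Fact.mk Nat.prime_two
  haveI := h.finite_points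
  haveI : FaithfulSMul (cImage Ω D u) (MulAction.fixedBy Ω u) :=
    faithfulSMul_iff.2 fun g hg => Subtype.ext (Equiv.ext hg)
  obtain ⟨U, hB⟩ := h.bend hf IH hu hl
  haveI := hB.simple
  set a' := fixPt hl.fix_a with ha'
  set b' := fixPt hl.fix_b with hb'
  have hab' : b' ≠ a' := fun e => hl.ne (congrArg Subtype.val e).symm
  set π := cProj Ω D u with hπ
  obtain ⟨t₀, ht₀, ht₀a, ht₀c⟩ := h.exists_swapper_centralised hl.ne _
    (isPGroup_sup_involution (IsPGroup.of_bot (p := 2) (G := G)) hu.1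
      (fun g hg => by rw [Subgroup.mem_bot.1 hg]; exact Commute.one_left u))
    (fix_sup (fun g hg => by rw [Subgroup.mem_bot.1 hg]; exact ⟨one_smul _ _, one_smul _ _⟩) hl.fix_a hl.fix_b)
  set t : cGrp D u := ⟨t₀, mem_cGrp ht₀ (ht₀c u (mem_sup_right (mem_zpowers u))).symm⟩ with ht
  have hta : π t • a' = b' := Subtype.ext ht₀a
  have hS := hB.setup (π t) ((h.cImage_crit hu).sq (h.cProj_mem (d := t) ht₀)) (by rw [hta]; exact hab')
  have h2 := hB.rank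
  have hfree : ∀ {v}, v ∈ U → v • b' = b' → v = 1 := fun hv hvb =>
    eq_one_of_fix_ta hS hv (by rw [hta]; exact hvb)
  -- 2-elements of `<D cap C(u)>` at `a`
  have hinU : ∀ (g : G) (hg : g ∈ cGrp D u), g • a = a → (∃ n : ℕ, g ^ 2 ^ n = 1) → π ⟨g, hg⟩ ∈ U := by
    rintro g hg hga ⟨n, hn⟩
    refine CfsgLib.RankOneInter.TIAuto.mem_Q_of_two_power hS (Subtype.ext hga) (n := n) ?_
    rw [← map_pow, show (⟨g, hg⟩ : cGrp D u) ^ 2 ^ n = 1 from Subtype.ext hn, map_one]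
  have hodd := h.odd_kerGrp hf IH hu hl
  have hker : ∀ (g : G) (hg : g ∈ cGrp D u), (∃ n : ℕ, g ^ 2 ^ n = 1) → π ⟨g, hg⟩ = 1 → g = 1 := by
    rintro g hg ⟨n, hn⟩ he
    exact orderOf_eq_one_iff.1 (Nat.eq_one_of_dvd_coprimes (Nat.coprime_two_left.2 hodd |>.pow_left n)
      (orderOf_dvd_of_pow_eq_one hn) (Subgroup.orderOf_dvd_natCard _ (mem_kerGrp.2 ⟨hg, he⟩)))
  obtain ⟨P0, hP0p, hRP0, hP0F, hP0c, hP0max⟩ := exists_max_two hRp (H := centSub u a E)
    (fun g hg => (mem_fixGrp.1 (hR hg)).1)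
  set Q : Subgroup G := P0 ⊓ cGrp D u with hQ
  obtain ⟨Q', hQ'p, hQ'F, hQ'c, hQ'U⟩ := h.exists_unip hu hl hB
  have h2pow : ∀ {K : Subgroup G}, IsPGroup 2 K → ∀ {g}, g ∈ K → ∃ n : ℕ, g ^ 2 ^ n = 1 := fun {K} hK {g} hg => by
    obtain ⟨n, hn⟩ := hK ⟨g, hg⟩
    exact ⟨n, congrArg Subtype.val hn⟩
  have hQ2 : ∀ {g}, g ∈ Q → ∃ n : ℕ, g ^ 2 ^ n = 1 := fun hg => h2pow hP0p hg.1
  let φ : Q →* U := MonoidHom.mk'
    (fun g => ⟨π ⟨g, g.2.2⟩, hinU _ g.2.2 (mem_centSub.1 (hP0F g.2.1)).1 (hQ2 g.2)⟩)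
    fun g g' => Subtype.ext (map_mul π ⟨(g : G), g.2.2⟩ ⟨(g' : G), g'.2.2⟩)
  have hφi : Function.Injective φ := (injective_iff_map_eq_one φ).2 fun g hg =>
    Subtype.ext (hker g g.2.2 (hQ2 g.2) (congrArg Subtype.val hg))
  obtain ⟨g₀, hg₀, hg₀Q⟩ := hP0max Q' hQ'p hQ'F
  have hQcard : Nat.card Q = q ^ i := by
    refine le_antisymm (hB.card_U ▸ Nat.card_le_card_of_injective φ hφi) ?_
    have hg₀u : Commute g₀ u := (mem_centSub.1 hg₀).2.1
    have h1 : Nat.card U ≤ Nat.card Q' := by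
      refine Nat.card_le_card_of_injective (fun v : U => (⟨(hQ'U v v.2).choose,
        (hQ'U v v.2).choose_spec.choose_spec.1⟩ : Q')) fun v v' e => ?_
      have e1 : (hQ'U v v.2).choose = (hQ'U v' v'.2).choose := congrArg Subtype.val e
      refine Subtype.ext ?_
      rw [← (hQ'U v v.2).choose_spec.choose_spec.2, ← (hQ'U v' v'.2).choose_spec.choose_spec.2]
      exact congrArg π (Subtype.ext e1)
    rw [← hB.card_U]
    refine h1.trans (Nat.card_le_card_of_injective (fun y : Q' => (⟨g₀ * y * g₀⁻¹, hg₀Q y y.2,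
      conj_mem_cGrp h hg₀u (hQ'c y.2)⟩ : Q)) fun y y' e => Subtype.ext ?_)
    exact (MulAut.conj g₀).injective (congrArg Subtype.val e :)
  have hφs : Function.Surjective φ :=
    ((Nat.bijective_iff_injective_and_card φ).2 ⟨hφi, hQcard.trans hB.card_U.symm⟩).2
  have hQfree : ∀ y ∈ Q, y • b = b → y = 1 := fun y hy hyb =>
    hker y hy.2 (hQ2 hy) (congrArg Subtype.val (show φ ⟨y, hy⟩ = 1 from
      Subtype.ext (hfree (φ ⟨y, hy⟩).2 (Subtype.ext hyb))))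
  have hQtr : ∀ x : Ω, u • x = x → x ≠ a → ∃ y ∈ Q, y • b = x := fun x hux hxa => by
    obtain ⟨⟨v, hv⟩, hvx, -⟩ := CfsgLib.Lie.RankOne.existsUnique_smul hS b' (⟨x, hux⟩ : MulAction.fixedBy Ω u)
      hab' (fun e => hxa (congrArg Subtype.val e))
    obtain ⟨y, hy⟩ := hφs ⟨v, hv⟩
    exact ⟨y, y.2, congrArg Subtype.val ((congrArg (fun z : U => (z : cImage Ω D u) • b') hy).trans hvx)⟩
  have hdisj : ∀ g ∈ R, g ∈ Q → g = 1 := fun g hg hgQ => hQfree g hgQ (mem_fixGrp.1 (hR hg)).2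
  -- the order of `centSub`
  have hcard : Nat.card (centSub u a E) = q ^ i * Nat.card (fixGrp u a b E) := by
    rw [← Subgroup.card_mul_index (fixGrp u a b E |>.subgroupOf (centSub u a E)), mul_comm,
      Nat.card_congr (Subgroup.subgroupOfEquivOfLe (fun g hg => (mem_fixGrp.1 hg).1)).toEquiv]
    congr 1
    rw [show (fixGrp u a b E).subgroupOf (centSub u a E) = stabilizer (centSub u a E) b by
      ext g
      rw [Subgroup.mem_subgroupOf, mem_fixGrp, mem_stabilizer_iff]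
      exact ⟨fun h => h.2, fun h => ⟨g.2, h⟩⟩, index_stabilizer]
    have horb : orbit (centSub u a E) b = {x : Ω | u • x = x ∧ x ≠ a} := by
      ext x
      constructor
      · rintro ⟨g, rfl⟩
        obtain ⟨hga, hgu, -⟩ := mem_centSub.1 g.2
        refine ⟨?_, fun e => hl.ne (smul_left_cancel (g : G) ((show (g : G) • b = a from e).trans hga.symm)).symm⟩
        show u • (g : G) • b = (g : G) • b
        rw [← mul_smul, ← hgu.eq, mul_smul, hl.fix_b]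
      · rintro ⟨hux, hxa⟩
        obtain ⟨y, hy, hyb⟩ := hQtr x hux hxa
        exact ⟨⟨y, hP0F hy.1⟩, hyb⟩
    rw [horb]
    show Set.ncard _ = _
    have h3 := hl.card_fix
    rw [show {x : Ω | u • x = x ∧ x ≠ a} = {x : Ω | u • x = x} \ {a} from rfl,
      Set.ncard_diff_singleton_of_mem (show a ∈ {x : Ω | u • x = x} from hl.fix_a)]
    rw [← Nat.card_coe_set_eq]
    exact Nat.sub_eq_of_eq_add h3
  have hP0card : Nat.card P0 = q ^ i * Nat.card R := by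
    obtain ⟨s, -, hs⟩ := hl.pow
    rw [hP0c, hcard, hRc, padicValNat.mul (pow_ne_zero _ (by have := four_le_q hl; omega)) Nat.card_pos.ne',
      pow_add, hs, ← pow_mul, padicValNat.prime_pow]
  have hprod : ∀ g ∈ P0, ∃ r ∈ R, ∃ y ∈ Q, g = r * y := by
    have hb : Function.Bijective (fun p : R × Q => (⟨(p.1 : G) * p.2, mul_mem (hRP0 p.1.2) p.2.2.1⟩ : P0)) := by
      refine (Nat.bijective_iff_injective_and_card _).2 ⟨fun p p' e => ?_, by
        rw [Nat.card_prod, hP0card, hQcard, mul_comm]⟩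
      have e' : (p.1 : G) * p.2 = p'.1 * p'.2 := congrArg Subtype.val e
      have h1 : (p'.1 : G)⁻¹ * p.1 = p'.2 * (p.2 : G)⁻¹ := by
        rw [eq_mul_inv_iff_mul_eq, mul_assoc, e', inv_mul_cancel_left]
      have h3 := hdisj _ (mul_mem (inv_mem p'.1.2) p.1.2) (by rw [h1]; exact mul_mem p'.2.2 (inv_mem p.2.2))
      have h4 := (inv_mul_eq_one.1 h3).symm
      refine Prod.ext (Subtype.ext h4) (Subtype.ext ?_)
      rw [h4] at e'
      exact mul_left_cancel e'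
    intro g hg
    obtain ⟨p, hp⟩ := hb.2 ⟨g, hg⟩
    exact ⟨p.1, p.1.2, p.2, p.2.2, (congrArg Subtype.val hp).symm⟩
  -- `E` and `Z`
  set Z := involutionGroup hS h2 with hZ
  have hEQ : E ≤ Q := fun e he => by
    have hEQ' : (MulAut.conj g₀) e = e := by
      rw [MulAut.conj_apply, ((mem_centSub.1 hg₀).2.2 e he).eq, mul_inv_cancel_right]
    have heU : π ⟨e, hB.memE e he⟩ ∈ U := by
      rcases eq_or_ne e 1 with h1 | h1
      · rw [show (⟨e, hB.memE e he⟩ : cGrp D u) = 1 from Subtype.ext h1, map_one]; exact one_mem _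
      · exact CfsgLib.Lie.RankOne.J_mem_Q hS (hB.J_mem e he h1)
    obtain ⟨y, hy, hyQ', hye⟩ := hQ'U _ heU
    obtain ⟨n, hn⟩ := h2pow hQ'p hyQ'
    have hec : Commute y e := (mem_centSub.1 (hQ'F hyQ')).2.2 e he
    have he2 : e ^ 2 ^ (n + 1) = 1 := by
      rcases eq_or_ne e 1 with h1 | h1
      · rw [h1, one_pow]
      · rw [pow_succ', pow_mul, pow_two, h.sq (hl.mem e he h1).1, one_pow]
    have h3 : y = e := by
      refine inv_mul_eq_one.1 ?_ |>.symm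
      refine hker (e⁻¹ * y) (mul_mem (inv_mem (hB.memE e he)) hy) ⟨n + 1, ?_⟩ ?_
      · rw [hec.symm.inv_left.mul_pow, inv_pow, he2, pow_succ, pow_mul, hn, one_pow, inv_one, one_mul]
      · rw [show (⟨e⁻¹ * y, mul_mem (inv_mem (hB.memE e he)) hy⟩ : cGrp D u) = ⟨e, hB.memE e he⟩⁻¹ * ⟨y, hy⟩
          from Subtype.ext rfl, map_mul, map_inv, hye, inv_mul_cancel]
    refine ⟨?_, hB.memE e he⟩
    have h4 := hg₀Q y hyQ'
    rw [h3] at h4
    rwa [show g₀ * e * g₀⁻¹ = e from hEQ'] at h4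
  have hZE : ∀ y (hy : y ∈ Q), (φ ⟨y, hy⟩ : cImage Ω D u) ∈ Z → y ∈ E := by
    intro y hy hyZ
    rcases hyZ with h1 | h1
    · rw [hker y hy.2 (hQ2 hy) h1]; exact one_mem _
    · obtain ⟨e, he, -, hee⟩ := hB.J_onto _ h1
      have h3 : φ ⟨y, hy⟩ = φ ⟨e, hEQ he⟩ := Subtype.ext hee.symm
      rwa [show y = e from congrArg Subtype.val (hφi h3)]
  have hEZ : ∀ e (he : e ∈ E), (φ ⟨e, hEQ he⟩ : cImage Ω D u) ∈ Z := fun e he => by
    rcases eq_or_ne e 1 with h1 | h1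
    · left
      show π _ = 1
      rw [show (⟨e, (hEQ he).2⟩ : cGrp D u) = 1 from Subtype.ext h1, map_one]
    · exact Or.inr (hB.J_mem e he h1)
  have hqq : qq (cImage Ω D u) a' = q := hB.qq_eq
  have hUq : ∀ {j}, i = j → Nat.card U = qq (cImage Ω D u) a' ^ j := fun {j} e => by rw [hqq, ← e, hB.card_U]
  have hne : i ≠ 1 → Nat.card U ≠ qq (cImage Ω D u) a' := fun hi e => hi (by
    rw [hqq, hB.card_U] at e
    exact Nat.pow_right_injective (by have := four_le_q hl; omega) (e.trans (pow_one q).symm))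
  refine ⟨P0, Q, ⟨hP0p, hP0F, fun K hK hKF => ?_, hRP0, hR, hRc, fun g => Iff.rfl, hEQ, hQcard, hP0card, hprod,
    hdisj, hQfree, hQtr, fun r hr hrfix y hy => ?_, fun y hy y' hy' => ?_, fun y hy => ?_, fun y hy hyy => ?_,
    fun hi e he => ?_, fun hi y hy hyE y' hy' hc => ?_, fun hi y hy hyE e he => ?_⟩⟩
  · obtain ⟨g, -, hgK⟩ := hP0max K hK hKF
    exact Nat.card_le_card_of_injective (fun k : K => (⟨g * k * g⁻¹, hgK k k.2⟩ : P0))
      fun k k' e => Subtype.ext ((MulAut.conj g).injective (congrArg Subtype.val e :))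
  · have hru : Commute r u := (mem_centSub.1 (mem_fixGrp.1 (hR hr)).1).2.1
    have hy1 : y ∈ P0 := hy.1
    have hy2 : y ∈ cGrp D u := hy.2
    have hmem : r * y * r⁻¹ * y⁻¹ ∈ Q := Subgroup.mem_inf.2
      ⟨mul_mem (mul_mem (mul_mem (hRP0 hr) hy1) (inv_mem (hRP0 hr))) (inv_mem hy1),
        mul_mem (conj_mem_cGrp h hru hy2) (inv_mem hy2)⟩
    have h1 : r * y * r⁻¹ * y⁻¹ = 1 := hker _ hmem.2 (hQ2 hmem) (Subtype.ext (Equiv.ext fun p => Subtype.ext (by
      show (r * y * r⁻¹ * y⁻¹) • (p : Ω) = p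
      have hp : u • (p : Ω) = p := p.2
      have hy' : u • (y⁻¹ • (p : Ω)) = y⁻¹ • (p : Ω) := by
        rw [← mul_smul, ← ((commute_of_mem_cGrp hy.2).inv_left).eq, mul_smul, hp]
      rw [mul_smul, mul_smul, mul_smul, inv_smul_eq_iff.2 (hrfix _ hy').symm, smul_inv_smul, hrfix _ hp])))
    exact (mul_inv_eq_one.1 h1 |> mul_inv_eq_iff_eq_mul.1).symm
  · refine hZE _ (mul_mem (mul_mem (mul_mem hy hy') (inv_mem hy)) (inv_mem hy')) ?_
    have h1 := comm_mem_Z hS h2 hB.two (φ ⟨y, hy⟩).2 (φ ⟨y', hy'⟩).2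
    rw [← hZ] at h1
    convert h1 using 1
    exact congrArg Subtype.val (show φ (⟨y, hy⟩ * ⟨y', hy'⟩ * ⟨y, hy⟩⁻¹ * ⟨y', hy'⟩⁻¹) =
      φ ⟨y, hy⟩ * φ ⟨y', hy'⟩ * (φ ⟨y, hy⟩)⁻¹ * (φ ⟨y', hy'⟩)⁻¹ by simp only [map_mul, map_inv])
  · refine hZE _ (mul_mem hy hy) ?_
    have h1 := sq_mem_Z hS h2 hB.two (φ ⟨y, hy⟩).2
    rw [← hZ] at h1
    convert h1 using 1
    exact congrArg Subtype.val (map_mul φ ⟨y, hy⟩ ⟨y, hy⟩)
  · refine hZE _ hy (mem_Z_of_sq hS h2 (φ ⟨y, hy⟩).2 ?_)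
    have h1 := congrArg Subtype.val (map_mul φ ⟨y, hy⟩ ⟨y, hy⟩)
    rw [show (⟨y, hy⟩ * ⟨y, hy⟩ : Q) = 1 from Subtype.ext hyy, map_one] at h1
    exact h1.symm
  · obtain ⟨v, hv, hve⟩ := sq_onto hS h2 hB.two (hne hi) (hEZ e he)
    obtain ⟨y, hy⟩ := hφs ⟨v, hv⟩
    refine ⟨y, y.2, congrArg Subtype.val (hφi (a₁ := y * y) (a₂ := ⟨e, hEQ he⟩) (Subtype.ext ?_))⟩
    rw [map_mul, hy]
    exact hve
  · have hnZ : (φ ⟨y, hy⟩ : cImage Ω D u) ∉ Z := fun h1 => hyE (hZE _ hy h1)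
    have hc' : Commute (φ ⟨y, hy⟩ : cImage Ω D u) (φ ⟨y', hy'⟩) :=
      congrArg Subtype.val ((show Commute (⟨y, hy⟩ : Q) ⟨y', hy'⟩ from Subtype.ext hc).map φ).eq
    rcases cent_two hS h2 hB.two (hUq hi) (φ ⟨y, hy⟩).2 hnZ (φ ⟨y', hy'⟩).2 hc' with h1 | h1
    · exact Or.inl (hZE _ hy' h1)
    · refine Or.inr (hZE _ (mul_mem hy' (inv_mem hy)) ?_)
      convert h1 using 1
      exact congrArg Subtype.val (show φ (⟨y', hy'⟩ * ⟨y, hy⟩⁻¹) = φ ⟨y', hy'⟩ * (φ ⟨y, hy⟩)⁻¹ by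
        simp only [map_mul, map_inv])
  · have hnZ : (φ ⟨y, hy⟩ : cImage Ω D u) ∉ Z := fun h1 => hyE (hZE _ hy h1)
    obtain ⟨v, hv, hve⟩ := comm_onto hS h2 hB.two (hUq hi) (φ ⟨y, hy⟩).2 hnZ (hEZ e he)
    obtain ⟨y', hy'⟩ := hφs ⟨v, hv⟩
    refine ⟨y', y'.2, congrArg Subtype.val (hφi (a₁ := ⟨y, hy⟩ * y' * ⟨y, hy⟩⁻¹ * y'⁻¹) (a₂ := ⟨e, hEQ he⟩)
      (Subtype.ext ?_))⟩
    simp only [map_mul, map_inv, hy', Subgroup.coe_mul, Subgroup.coe_inv]
    exact hve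

end Crit

end CfsgLib.AschCrit
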