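import Cfsg.Agent.Lib.Invol.AschCrit.Model

/-!
Owner: helper18. Aschbacher's criterion, slice E: the exceptional pairing of Suzuki type.

In Suzuki type with `|R| >= 4` local data do not give the model (`notes/aschbacher_corners/sz8_pairing_helper18.py`);
in the remaining case all involutions of the Sylow group of the translations commute with `u`, which is impossible.
-/

set_option autoImplicit false

namespace CfsgLib.AschCrit

variable {G : Type*} [Group G]

/-- In Suzuki type with a non-cyclic kernel some involution of the Sylow group of the translations moves `u`. -/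
def NoPairing (Ω : Type*) [MulAction G Ω] (D : Set G) : Prop :=
  ∀ (u : G) (a b : Ω) (E : Subgroup G) (q : ℕ) (P : Subgroup G), Frame D u a b E q 2 → HasTrans u a E →
    IsPGroup 2 P → (∀ g ∈ P, g ∈ transGrp u a E) →
    (∀ K : Subgroup G, IsPGroup 2 K → (∀ g ∈ K, g ∈ transGrp u a E) → Nat.card K ≤ Nat.card P) →
    4 ≤ 2 ^ padicValNat 2 (Nat.card (fixGrp u a b E)) → (∀ g ∈ P, g * g = 1 → Commute g u) → False

end CfsgLib.AschCrit
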