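import Cfsg.Agent.Lib.Invol.AschCrit.ExceptionAlgebra

/-!
Owner: helper7. Aschbacher's criterion, slice F: no involution of the kernel commutes with all automorphisms of
`E` in unitary type.

* `eq_one_of_equi`: a bimultiplicative map `E × E → E` equivariant under all automorphisms is trivial.
* `false_of_central`: so the fixed half of an equivariant involution would be orthogonal to all.
-/

set_option autoImplicit false
set_option linter.unusedSectionVars false

namespace CfsgLib.AschCrit.Exception

universe u v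

variable {E : Type u} [CommGroup E] [Finite E]

/-- A bimultiplicative map equivariant under all automorphisms is trivial. -/
theorem eq_one_of_equi (hE : ∀ x : E, x * x = 1) (h8 : Nat.card E = 8) (b : E → E → E)
    (hl : ∀ e e' f, b (e * e') f = b e f * b e' f) (hr : ∀ e f f', b e (f * f') = b e f * b e f')
    (hequi : ∀ (γ : MulAut E) (e f : E), b (γ e) (γ f) = γ (b e f)) : ∀ e f, b e f = 1 := by
  classical
  have h1l : ∀ f, b 1 f = 1 := fun f => mul_eq_left.1 (by rw [← hl, one_mul])
  have h1r : ∀ e, b e 1 = 1 := fun e => mul_eq_left.1 (by rw [← hr, one_mul])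
  have hne : ∀ e f, e ≠ 1 → f ≠ 1 → f ≠ e → b e f = 1 := by
    intro e f he hf hfe
    obtain ⟨g, hi⟩ := exists_indep h8 he hf hfe
    obtain ⟨-, -, -, hg, hge, hgf, hgef⟩ := id hi
    -- the value lies in the span of the arguments
    obtain ⟨⟨i, j, l⟩, hp⟩ : ∃ p : ZMod 2 × ZMod 2 × ZMod 2, e ^ p.1.val * f ^ p.2.1.val * g ^ p.2.2.val = b e f := by
      obtain ⟨p, hp⟩ := (coordHom_bijective hE h8 hi).2 (b e f)
      exact ⟨p.toAdd, hp⟩
    have hi₁ : Indep e f (e * g) := ⟨he, hf, hfe, fun h => hge (eq_of_mul_one hE h).symm,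
      fun h => hg (mul_eq_left.1 h), fun h => hgef (by rw [← h, ← mul_assoc, hE, one_mul]),
      fun h => hgf (mul_left_cancel h)⟩
    obtain ⟨γ, g1, g2, g3⟩ := exists_aut hE h8 hi hi₁
    have h2 := hequi γ e f
    rw [g1, g2, ← hp, map_mul, map_mul, map_pow, map_pow, map_pow, g1, g2, g3, mul_pow] at h2
    have hl0 : l = 0 := by
      rcases zmod2_cases l with rfl | rfl
      · rfl
      · simp only [ZMod.val_one, pow_one] at h2
        exact absurd (mul_eq_right.1 (mul_left_cancel h2).symm) he
    subst hl0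
    simp only [ZMod.val_zero, pow_zero, mul_one] at hp
    -- the first exponent
    have hi0 : i = 0 := by
      have hi₂ : Indep e g f := ⟨he, hg, hge, hf, hfe, Ne.symm hgf,
        fun h => hgef (by rw [h, ← mul_assoc, hE, one_mul])⟩
      have hi₃ : Indep e (f * g) g := ⟨he, fun h => hgf (eq_of_mul_one hE h).symm,
        fun h => hgef (by rw [← h, mul_comm (f * g) f, ← mul_assoc, hE, one_mul]), hg, hge,
        fun h => hf (mul_eq_right.1 h.symm), fun h => hfe (by
          have h3 : e * f = 1 := mul_eq_right.1 (by rw [mul_assoc]; exact h.symm)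
          exact (eq_of_mul_one hE h3).symm)⟩
      obtain ⟨γ₂, a1, a2, -⟩ := exists_aut hE h8 hi hi₂
      obtain ⟨γ₃, b1, b2, -⟩ := exists_aut hE h8 hi hi₃
      have e2 := hequi γ₂ e f
      have e3 := hequi γ₃ e f
      rw [a1, a2, ← hp, map_mul, map_pow, map_pow, a1, a2] at e2
      rw [b1, b2, hr, e2, ← hp, map_mul, map_pow, map_pow, b1, b2, mul_pow] at e3
      rcases zmod2_cases i with rfl | rfl
      · rfl
      · simp only [ZMod.val_one, pow_one] at e3
        refine absurd ?_ he
        have h4 : e * f ^ j.val * (e * g ^ j.val) = e * e * (f ^ j.val * g ^ j.val) := mul_mul_mul_comm ..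
        rw [h4, hE, one_mul] at e3
        exact mul_eq_right.1 e3.symm
    subst hi0
    simp only [ZMod.val_zero, pow_zero, one_mul] at hp
    -- the second
    have hj0 : j = 0 := by
      have hi₂ : Indep g f e := ⟨hg, hf, Ne.symm hgf, he, Ne.symm hge, Ne.symm hfe, fun h => hgef (by
        rw [h, mul_assoc g f f, hE, mul_one])⟩
      have hi₃ : Indep (e * g) f g := ⟨fun h => hge (eq_of_mul_one hE h).symm, hf,
        fun h => hgef (by rw [h, ← mul_assoc, hE, one_mul]), hg, fun h => he (mul_eq_right.1 h.symm), hgf,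
        fun h => hfe (by
          have h3 : e * f = 1 := mul_eq_right.1 (by rw [mul_assoc, mul_comm f g, ← mul_assoc]; exact h.symm)
          exact (eq_of_mul_one hE h3).symm)⟩
      obtain ⟨γ₂, a1, a2, -⟩ := exists_aut hE h8 hi hi₂
      obtain ⟨γ₃, b1, b2, -⟩ := exists_aut hE h8 hi hi₃
      have e2 := hequi γ₂ e f
      have e3 := hequi γ₃ e f
      rw [a1, a2, ← hp, map_pow, a2] at e2
      rw [b1, b2, hl, e2, ← hp, map_pow, b2] at e3
      rcases zmod2_cases j with rfl | rfl
      · rfl
      · simp only [ZMod.val_one, pow_one, hE] at e3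
        exact absurd e3.symm hf
    subst hj0
    simpa using hp.symm
  intro e f
  rcases eq_or_ne e 1 with rfl | he
  · exact h1l f
  rcases eq_or_ne f 1 with rfl | hf
  · exact h1r e
  by_cases hfe : f = e
  · subst hfe
    obtain ⟨g, hg⟩ := exists_ne_four h8 {1, f} (le_trans Finset.card_le_two (by norm_num))
    simp only [Finset.mem_insert, Finset.mem_singleton, not_or] at hg
    have h2 : b f (g * (g * f)) = 1 := by
      rw [hr, hne f g he hg.1 hg.2, hne f (g * f) he (fun h => hg.2 (eq_of_mul_one hE h))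
        (fun h => hg.1 (mul_eq_right.1 h)), one_mul]
    rwa [← mul_assoc, hE, one_mul] at h2
  · exact hne e f he hf hfe

variable {V : Type v} [CommGroup V]

/-- The fixed half of an involution commuting with lifts of all automorphisms is orthogonal to all. -/
theorem false_of_central (hV : ∀ v : V, v * v = 1) (hE : ∀ x : E, x * x = 1) (h8 : Nat.card E = 8)
    (N : V → E) (hN : ∀ v, N v = 1 → v = 1) (B : V → V → E) (hpol : ∀ v w, N (v * w) = N v * N w * B v w)
    (hBl : ∀ v v' w, B (v * v') w = B v w * B v' w) (hBr : ∀ v w w', B v (w * w') = B v w * B v w')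
    (S : V ≃* V) (hSS : ∀ v, S (S v) = v) (hequi : ∀ γ : MulAut E, ∃ L : V ≃* V, (∀ v, N (L v) = γ (N v)) ∧ ∀ v, L (S v) = S (L v))
    (honto : ∀ e, ∃ v, S v = v ∧ N v = e) (hiso : ∀ v w, S v = v → S w = w → B v w = 1)
    (hmoved : ∀ v, S v = v → ∃ z, S z * z = v) (hnd : ∃ v z, S v = v ∧ B v z ≠ 1) : False := by
  choose w hwS hwN using honto
  have hinj : ∀ v v', S v = v → S v' = v' → N v = N v' → v = v' := by
    intro v v' hv hv' he
    have h1 := hN (v * v') (by rw [hpol, hiso v v' hv hv', he, hE, one_mul])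
    exact eq_of_mul_one hV h1
  have hww : ∀ e e', w (e * e') = w e * w e' := fun e e' => hinj _ _ (hwS _) (by rw [map_mul, hwS, hwS])
    (by rw [hwN, hpol, hiso _ _ (hwS e) (hwS e'), hwN, hwN, mul_one])
  choose z hz using fun f => hmoved (w f) (hwS f)
  -- a change of the moved element by a fixed one
  have hchg : ∀ e x y, S x * x = S y * y → B (w e) x = B (w e) y := by
    intro e x y he
    have hxy : S (x * y) = x * y := by
      refine eq_of_mul_one hV ?_
      rw [map_mul, mul_mul_mul_comm, he, hV]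
    have h1 := hiso _ _ (hwS e) hxy
    rw [hBr] at h1
    exact eq_of_mul_one hE h1
  obtain ⟨v, x, hv, hvx⟩ := hnd
  let b : E → E → E := fun e f => B (w e) (z f)
  have hb := eq_one_of_equi hE h8 b (fun e e' f => by simp only [b, hww, hBl]) (fun e f f' => by
    simp only [b]
    rw [← hBr, hchg e _ (z f * z f')]
    rw [map_mul, mul_mul_mul_comm, hz, hz, hz, hww]) fun γ e f => by
    obtain ⟨L, hL, hLS⟩ := hequi γ
    have hfix : ∀ e, L (w e) = w (γ e) := fun e =>
      hinj _ _ (by rw [← hLS, hwS]) (hwS _) (by rw [hL, hwN, hwN])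
    have hBL : B (L (w e)) (L (z f)) = γ (B (w e) (z f)) := by
      have h1 := hL (w e * z f)
      rw [map_mul, hpol, hL, hL, hpol, map_mul, map_mul] at h1
      exact mul_left_cancel h1
    simp only [b]
    rw [← hBL, hfix, hchg (γ e) _ (L (z f))]
    rw [hz, ← hLS, ← map_mul, hz, hfix]
  refine hvx ?_
  have hvw : v = w (N v) := hinj _ _ hv (hwS _) (hwN _).symm
  obtain ⟨f, hf⟩ : ∃ f, S x * x = w f := ⟨N (S x * x), hinj _ _ (by
    rw [map_mul, hSS, mul_comm]) (hwS _) (hwN _).symm⟩
  rw [hvw, hchg _ x (z f) (by rw [hf, hz])]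
  exact hb _ _

end CfsgLib.AschCrit.Exception
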