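import Cfsg.Agent.Lib.Invol.AschCrit.ExceptionAlgebra
import Mathlib.GroupTheory.Sylow
import Mathlib.Algebra.BigOperators.Group.Finset.Basic
import Mathlib.Algebra.BigOperators.Ring.Finset
import Mathlib.Tactic.Linarith

/-!
Owner: helper7. Aschbacher's criterion, slice F: equivariant squarings for `NoException`.

* `false_of_two`: a bijective squaring equivariant under all automorphisms is additive.
* `false_of_three`: no anisotropic equivariant squaring of unitary type.
-/

set_option autoImplicit false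
set_option linter.unusedSectionVars false

namespace CfsgLib.AschCrit.Exception

universe u v

variable {E : Type u} [CommGroup E] [Finite E]

theorem card_range_mul_ker {V W : Type*} [Group V] [Group W] (f : V →* W) :
    Nat.card f.range * Nat.card f.ker = Nat.card V := by
  rw [← Nat.card_congr (QuotientGroup.quotientKerEquivRange f).toEquiv,
    ← Subgroup.card_eq_card_quotient_mul_card_subgroup]

/-! ### Squarings -/

variable {V : Type v} [CommGroup V] [Finite V]

/-- No equivariant squaring of Suzuki type. -/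
theorem false_of_two (hE : ∀ x : E, x * x = 1) (h8 : Nat.card E = 8) (N : V → E) (hN1 : N 1 = 1)
    (hinj : Function.Injective N)
    (hequi : ∀ γ : MulAut E, ∃ L : V →* V, ∀ v, N (L v) = γ (N v)) :
    ∀ v w, N (v * w) = N v * N w := by
  intro v w
  rcases eq_or_ne v 1 with rfl | hv
  · rw [one_mul, hN1, one_mul]
  rcases eq_or_ne w 1 with rfl | hw
  · rw [mul_one, hN1, mul_one]
  rcases eq_or_ne v w with rfl | hvw
  · have hvv : v * v = 1 := by
      by_contra hne
      obtain ⟨z, hz⟩ := exists_indep h8 (fun e => hv (hinj (e.trans hN1.symm)))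
        (fun e => hne (hinj (e.trans hN1.symm))) (fun e => hv (mul_eq_left.1 (hinj e)))
      obtain ⟨γ, hγ1, hγ2, -⟩ := exists_aut hE h8 hz
        (x' := N v) (y' := N (v * v) * N v) (z' := z) (by
          obtain ⟨a1, a2, a3, a4, a5, a6, a7⟩ := hz
          refine ⟨a1, fun e => a3 (eq_of_mul_one hE e), fun e => a2 (mul_eq_right.1 e), a4, a5, fun e => a7 ?_,
            fun e => a6 ?_⟩
          · rw [e, mul_comm]
          · rw [e, mul_comm (N v), mul_assoc, hE, mul_one])
      obtain ⟨L, hL⟩ := hequi γ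
      have e1 : L v = v := hinj (by rw [hL, hγ1])
      have e2 := hL (v * v)
      rw [map_mul, e1, hγ2] at e2
      exact hv (hinj ((mul_eq_left.1 e2.symm).trans hN1.symm))
    rw [hvv, hN1, hE]
  have hne : N v ≠ 1 := fun e => hv (hinj (e.trans hN1.symm))
  have hne' : N w ≠ 1 := fun e => hw (hinj (e.trans hN1.symm))
  have hne'' : N w ≠ N v := fun e => hvw (hinj e).symm
  by_contra hcon
  set t := N (v * w) with ht
  have hi : t = 1 ∨ Indep (N v) (N w) t := by
    by_cases h1 : t = 1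
    · exact Or.inl h1
    · exact Or.inr ⟨hne, hne', hne'', h1, fun e => hw (mul_eq_left.1 (hinj e)),
        fun e => hv (mul_eq_right.1 (hinj e)), hcon⟩
  rcases hi with h1 | hi
  · have e : v * w = 1 := hinj (h1.trans hN1.symm)
    obtain ⟨z, hz⟩ := exists_indep h8 hne hne' hne''
    obtain ⟨γ, hγ1, hγ2, -⟩ := exists_aut hE h8 hz (x' := N v) (y' := N w * N v) (z' := z) (by
      obtain ⟨a1, a2, a3, a4, a5, a6, a7⟩ := hz
      refine ⟨a1, fun e => a3 (eq_of_mul_one hE e), fun e => a2 (mul_eq_right.1 e), a4, a5, fun e => a7 ?_,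
        fun e => a6 ?_⟩
      · rw [e, mul_comm]
      · rw [e, mul_comm (N v), mul_assoc, hE, mul_one])
    obtain ⟨L, hL⟩ := hequi γ
    have e1 : L v = v := hinj (by rw [hL, hγ1])
    have e3 : L w = w := by
      have e' := congrArg L e
      rw [map_one, map_mul, e1] at e'
      exact (eq_inv_of_mul_eq_one_right e').trans (eq_inv_of_mul_eq_one_right e).symm
    have e2 := hL w
    rw [e3, hγ2] at e2
    exact hne (mul_eq_left.1 e2.symm)
  · obtain ⟨a1, a2, a3, a4, a5, a6, a7⟩ := id hi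
    obtain ⟨γ, hγ1, hγ2, hγ3⟩ := exists_aut hE h8 hi (x' := N v) (y' := N w) (z' := t * N v) (by
      refine ⟨a1, a2, a3, fun e => a5 (eq_of_mul_one hE e), fun e => a4 (mul_eq_right.1 e), fun e => a7 ?_,
        fun e => a6 ?_⟩
      · calc t = t * N v * N v := by rw [mul_assoc, hE, mul_one]
          _ = N v * N w := by rw [e, mul_comm]
      · calc t = t * N v * N v := by rw [mul_assoc, hE, mul_one]
          _ = N w := by rw [e, mul_comm (N v), mul_assoc, hE, mul_one])
    obtain ⟨L, hL⟩ := hequi γ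
    have e1 : L v = v := hinj (by rw [hL, hγ1])
    have e3 : L w = w := hinj (by rw [hL, hγ2])
    have e2 := hL (v * w)
    rw [map_mul, e1, e3, hγ3] at e2
    exact hne (mul_eq_left.1 e2.symm)

/-- An endomorphism of a group of order 64 squaring to zero-kernel: kernel and image of the square differ. -/
theorem ker_sq_ne_range (h64 : Nat.card V = 64) (M : V →* V) : (M.comp M).ker ≠ (M.comp M).range := by
  intro e
  have hcard : ∀ f : V →* V, Nat.card f.range * Nat.card f.ker = 64 := fun f => by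
    rw [card_range_mul_ker, h64]
  set g : M.range →* V := M.comp M.range.subtype with hg
  have hgr : g.range = (M.comp M).range := by
    ext z
    constructor
    · rintro ⟨⟨_, w, rfl⟩, rfl⟩; exact ⟨w, rfl⟩
    · rintro ⟨w, rfl⟩; exact ⟨⟨M w, w, rfl⟩, rfl⟩
  have hker : M.ker ≤ M.range := fun z hz => by
    have : z ∈ (M.comp M).range := e ▸ (show M (M z) = 1 by rw [MonoidHom.mem_ker.1 hz, map_one])
    obtain ⟨w, rfl⟩ := this
    exact ⟨M w, rfl⟩
  have hgk : g.ker = M.ker.subgroupOf M.range := rfl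
  have h1 : Nat.card g.range * Nat.card g.ker = Nat.card M.range := by
    rw [← Nat.card_congr (QuotientGroup.quotientKerEquivRange g).toEquiv,
      ← Subgroup.card_eq_card_quotient_mul_card_subgroup]
  rw [hgr, hgk, Nat.card_congr (Subgroup.subgroupOfEquivOfLe hker).toEquiv] at h1
  have h2 := hcard M
  have h3 := hcard (M.comp M)
  rw [e] at h3
  have h4 : Nat.card (M.comp M).range = 8 := Nat.mul_self_inj.1 h3
  rw [← h1, h4] at h2
  have h5 : Nat.card M.ker * Nat.card M.ker = 8 := by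
    have : 8 * (Nat.card M.ker * Nat.card M.ker) = 8 * 8 := by rw [← mul_assoc, h2]
    omega
  have h6 : Nat.card M.ker ≤ 2 ∨ 3 ≤ Nat.card M.ker := by omega
  rcases h6 with h6 | h6
  · have := Nat.mul_le_mul h6 h6
    omega
  · have := Nat.mul_le_mul h6 h6
    omega

section Unitary

variable (hV : ∀ v : V, v * v = 1) (hE : ∀ x : E, x * x = 1) (h8 : Nat.card E = 8) (h64 : Nat.card V = 64)
  (N : V → E) (hN : ∀ v, N v = 1 → v = 1) (B : V → V → E) (hpol : ∀ v w, N (v * w) = N v * N w * B v w)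
  (hBl : ∀ v v' w, B (v * v') w = B v w * B v' w) (hBr : ∀ v w w', B v (w * w') = B v w * B v w')
  (hequi : ∀ γ : MulAut E, ∃ L : V ≃* V, ∀ v, N (L v) = γ (N v))
include hV hE h8 h64 hN hpol hBl hBr hequi

theorem hB_equi {L : V ≃* V} {γ : MulAut E} (hL : ∀ v, N (L v) = γ (N v)) (v w : V) :
    B (L v) (L w) = γ (B v w) := by
  have h1 := hL (v * w)
  rw [map_mul, hpol, hL, hL, hpol, map_mul, map_mul] at h1
  exact mul_left_cancel h1

theorem N_one : N 1 = 1 := by
  obtain ⟨L, hL⟩ := hequi 1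
  have hB1 : B 1 1 = 1 := mul_eq_left.1 (by rw [← hBl, one_mul])
  have := hpol 1 1
  rw [one_mul, hB1, mul_one, hE] at this
  exact this

/-- The polar form of a nondegenerate anisotropic transitive squaring is onto. -/
theorem polar_onto {v : V} (hv : v ≠ 1) : ∀ e : E, ∃ w, B v w = e := by
  classical
  haveI := Fintype.ofFinite V
  haveI := Fintype.ofFinite E
  have hN1 := N_one hV hE h8 h64 N hN B hpol hBl hBr hequi
  have hB1r : ∀ x, B x 1 = 1 := fun x => mul_eq_left.1 (by rw [← hBr, one_mul])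
  by_contra hno
  push Not at hno
  obtain ⟨e₀, he₀⟩ := hno
  let I : Subgroup E :=
    { carrier := {e | ∃ w, B v w = e}
      one_mem' := ⟨1, hB1r v⟩
      mul_mem' := by rintro _ _ ⟨w, rfl⟩ ⟨w', rfl⟩; exact ⟨w * w', hBr v w w'⟩
      inv_mem' := by rintro _ ⟨w, rfl⟩; exact ⟨w, (inv_self hE _).symm⟩ }
  -- a subgroup of index two above it
  obtain ⟨H, hIH, hH⟩ : ∃ H : Subgroup E, I ≤ H ∧ H.index = 2 := by
    haveI : Fact (Nat.Prime 2) := ⟨Nat.prime_two⟩
    have hIne : Nat.card I ≠ 8 := fun e => by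
      obtain ⟨w, hw⟩ : e₀ ∈ I := (Subgroup.eq_top_of_card_eq I (e.trans h8.symm)) ▸ Subgroup.mem_top _
      exact he₀ w hw
    have hp : IsPGroup 2 E := fun x => ⟨1, by rw [pow_one, pow_two]; exact hE x⟩
    obtain ⟨m, hm⟩ := (hp.to_subgroup I).exists_card_eq
    have hm2 : m ≤ 2 := by
      by_contra hm2
      push Not at hm2
      have hle := Subgroup.card_le_card_group I
      have : 2 ^ 3 ≤ 2 ^ m := Nat.pow_le_pow_right two_pos hm2
      omega
    obtain ⟨H, hH, hIH⟩ := Sylow.exists_subgroup_card_pow_prime_le 2 (n := m) (m := 2) (by rw [h8]; norm_num) I hm hm2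
    refine ⟨H, hIH, ?_⟩
    have := H.card_mul_index
    rw [h8, hH] at this
    omega
  set χ : E → ℤ := fun e => if e ∈ H then 1 else -1 with hχ
  have hχmul : ∀ e f, χ (e * f) = χ e * χ f := fun e f => by
    simp only [hχ, Subgroup.mul_mem_iff_of_index_two hH]
    by_cases he : e ∈ H <;> by_cases hf : f ∈ H <;> simp [he, hf]
  -- the fibres of the squaring
  set c : E → ℕ := fun e => (Finset.univ.filter fun x : V => N x = e).card with hc
  have hc1 : c 1 = 1 := by
    rw [hc]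
    refine Finset.card_eq_one.2 ⟨1, Finset.eq_singleton_iff_unique_mem.2 ⟨?_, fun x hx => ?_⟩⟩
    · simp [hN1]
    · exact hN x (Finset.mem_filter.1 hx).2
  have hceq : ∀ e f, e ≠ 1 → f ≠ 1 → c e = c f := by
    intro e f he hf
    obtain ⟨y, hy⟩ := exists_ne_four h8 {1, e} (le_trans Finset.card_le_two (by norm_num))
    obtain ⟨y', hy'⟩ := exists_ne_four h8 {1, f} (le_trans Finset.card_le_two (by norm_num))
    simp only [Finset.mem_insert, Finset.mem_singleton, not_or] at hy hy'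
    obtain ⟨z, hz⟩ := exists_indep h8 he hy.1 hy.2
    obtain ⟨z', hz'⟩ := exists_indep h8 hf hy'.1 hy'.2
    obtain ⟨γ, hγ, -, -⟩ := exists_aut hE h8 hz hz'
    obtain ⟨L, hL⟩ := hequi γ
    refine Finset.card_equiv L.toEquiv fun x => ?_
    simp only [Finset.mem_filter, Finset.mem_univ, true_and]
    show N x = e ↔ N (L x) = f
    rw [hL, ← hγ, EmbeddingLike.apply_eq_iff_eq]
  have hcsum : ∑ e, c e = 64 := by
    rw [← h64, Nat.card_eq_fintype_card, ← Finset.card_univ]
    exact (Finset.card_eq_sum_card_fiberwise fun x _ => Finset.mem_univ (N x)).symm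
  set S : ℤ := ∑ x : V, χ (N x) with hS
  have hS' : S = ∑ e, (c e : ℤ) * χ e := by
    rw [hS, ← Finset.sum_fiberwise' Finset.univ N χ]
    refine Finset.sum_congr rfl fun e _ => ?_
    rw [Finset.sum_const, nsmul_eq_mul]
  have hχsum : ∑ e, χ e = 0 := by
    obtain ⟨g, hg⟩ : ∃ g, g ∉ H := by
      by_contra hcon
      push Not at hcon
      rw [(Subgroup.eq_top_iff' H).2 hcon, Subgroup.index_top] at hH
      omega
    have h1 : ∑ e, χ e = ∑ e, χ (g * e) := (Equiv.sum_comp (Equiv.mulLeft g) χ).symm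
    simp only [hχmul] at h1
    rw [← Finset.mul_sum, show χ g = -1 by simp [hχ, hg]] at h1
    linarith
  obtain ⟨n, hn⟩ : ∃ n, ∀ e, e ≠ 1 → c e = n := by
    obtain ⟨e, he⟩ := exists_ne_four h8 ({1} : Finset E) (by simp)
    rw [Finset.mem_singleton] at he
    exact ⟨c e, fun f hf => hceq f e hf he⟩
  have hχ1 : χ 1 = 1 := by simp [hχ]
  have hce : ∀ e, (c e : ℤ) = n + if e = 1 then (1 - (n : ℤ)) else 0 := fun e => by
    by_cases he : e = 1
    · subst he; simp [hc1]
    · simp [he, hn e he]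
  have hn9 : n = 9 := by
    have h1 : ∑ e, (c e : ℤ) = 64 := by exact_mod_cast hcsum
    simp only [hce, Finset.sum_add_distrib, Finset.sum_ite_eq', Finset.mem_univ, if_true, Finset.sum_const,
      Finset.card_univ, ← Nat.card_eq_fintype_card, h8] at h1
    simp at h1
    omega
  have hS8 : S = -8 := by
    simp only [hS', hce, add_mul, Finset.sum_add_distrib, ← Finset.mul_sum, hχsum, ite_mul, zero_mul,
      Finset.sum_ite_eq', Finset.mem_univ, if_true, hχ1, hn9]
    norm_num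
  -- the radical
  have hkey : ∀ y : V, ∑ x : V, χ (B x y) = if ∀ x, χ (B x y) = 1 then 64 else 0 := by
    intro y
    by_cases hy : ∀ x, χ (B x y) = 1
    · rw [if_pos hy, Finset.sum_congr rfl fun x _ => hy x, Finset.sum_const, Finset.card_univ,
        ← Nat.card_eq_fintype_card, h64]
      norm_num
    · rw [if_neg hy]
      push Not at hy
      obtain ⟨x₀, hx₀⟩ := hy
      have h1 : χ (B x₀ y) = -1 := by
        have h2 : χ (B x₀ y) = 1 ∨ χ (B x₀ y) = -1 := by
          by_cases h3 : B x₀ y ∈ H <;> simp [hχ, h3]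
        exact h2.resolve_left hx₀
      have h2 : ∑ x, χ (B x y) = ∑ x, χ (B (x₀ * x) y) :=
        (Equiv.sum_comp (Equiv.mulLeft x₀) fun x => χ (B x y)).symm
      simp only [hBl, hχmul, h1] at h2
      rw [← Finset.mul_sum] at h2
      linarith
  have hSS : S * S = ∑ y : V, χ (N y) * ∑ x : V, χ (B x y) := by
    rw [hS, Finset.sum_mul]
    calc ∑ x : V, χ (N x) * ∑ z, χ (N z) = ∑ x : V, ∑ y : V, χ (N y) * χ (B x y) := by
          refine Finset.sum_congr rfl fun x _ => ?_
          rw [Finset.mul_sum, ← Equiv.sum_comp (Equiv.mulLeft x) fun z => χ (N x) * χ (N z)]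
          refine Finset.sum_congr rfl fun y _ => ?_
          show χ (N x) * χ (N (x * y)) = _
          rw [hpol, hχmul, hχmul, ← mul_assoc, ← mul_assoc, ← hχmul, hE, hχ1, one_mul]
      _ = _ := by rw [Finset.sum_comm]; simp_rw [Finset.mul_sum]
  set R : Finset V := Finset.univ.filter fun y => ∀ x, χ (B x y) = 1 with hR
  have hR1 : ∑ y ∈ R, χ (N y) = 1 := by
    have h1 : S * S = ∑ y : V, if ∀ x, χ (B x y) = 1 then χ (N y) * 64 else 0 := by
      rw [hSS]
      exact Finset.sum_congr rfl fun y _ => by rw [hkey y, mul_ite, mul_zero]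
    rw [← Finset.sum_filter, ← hR, ← Finset.sum_mul, hS8] at h1
    linarith
  -- the squaring is additive on the radical
  have hvsym : ∀ x, B x v = B v x := fun x => by
    have h1 := hpol x v
    rw [mul_comm x v, hpol, mul_comm (N x)] at h1
    exact (mul_left_cancel h1).symm
  have hone : ∀ x, χ (B x 1) = 1 := fun x => by rw [hB1r, hχ1]
  have hvR : v ∈ R := by
    refine Finset.mem_filter.2 ⟨Finset.mem_univ _, fun x => ?_⟩
    rw [hvsym]
    simp [hχ, hIH ⟨x, rfl⟩]
  have hmulR : ∀ y ∈ R, ∀ z ∈ R, y * z ∈ R := fun y hy z hz => by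
    refine Finset.mem_filter.2 ⟨Finset.mem_univ _, fun x => ?_⟩
    rw [hBr, hχmul, (Finset.mem_filter.1 hy).2 x, (Finset.mem_filter.1 hz).2 x, one_mul]
  have hadd : ∀ y ∈ R, ∀ z ∈ R, χ (N (y * z)) = χ (N y) * χ (N z) := fun y _ z hz => by
    rw [hpol, hχmul, hχmul, (Finset.mem_filter.1 hz).2 y, mul_one]
  by_cases hall : ∀ y ∈ R, χ (N y) = 1
  · rw [Finset.sum_congr rfl hall, Finset.sum_const, nsmul_eq_mul, mul_one] at hR1
    have hlt : 1 < R.card := Finset.one_lt_card.2 ⟨v, hvR, 1, Finset.mem_filter.2 ⟨Finset.mem_univ _, hone⟩, hv⟩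
    have : R.card = 1 := by exact_mod_cast hR1
    omega
  · push Not at hall
    obtain ⟨y₀, hy₀, hy₀'⟩ := hall
    have h1 : χ (N y₀) = -1 := by
      have h2 : χ (N y₀) = 1 ∨ χ (N y₀) = -1 := by
        by_cases h3 : N y₀ ∈ H <;> simp [hχ, h3]
      exact h2.resolve_left hy₀'
    have h2 : ∑ y ∈ R, χ (N y) = ∑ y ∈ R, χ (N (y₀ * y)) := by
      refine Finset.sum_equiv (Equiv.mulLeft y₀) (fun y => ⟨fun hy => hmulR _ hy₀ _ hy, fun hy => ?_⟩) ?_
      · have := hmulR _ hy₀ _ hy
        rwa [show y₀ * (Equiv.mulLeft y₀ y) = y by show y₀ * (y₀ * y) = y; rw [← mul_assoc, hV, one_mul]] at this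
      · intro y _
        show χ (N y) = χ (N (y₀ * (y₀ * y)))
        rw [← mul_assoc, hV, one_mul]
    rw [Finset.sum_congr rfl fun y hy => hadd _ hy₀ _ hy, ← Finset.mul_sum, h1, hR1] at h2
    norm_num at h2

omit h8 h64 in
theorem polar_comm (v w : V) : B v w = B w v := by
  have h1 := hpol v w
  rw [mul_comm v w, hpol, mul_comm (N v)] at h1
  exact (mul_left_cancel h1).symm

/-- No equivariant squaring of unitary type. -/
theorem false_of_three {c y x : E} (hi : Indep c y x) {γ₁ σ : MulAut E} (h1c : γ₁ c = c) (h1y : γ₁ y = c * y)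
    (h1x : γ₁ x = x) (hsc : σ c = c) (hsy : σ y = c * y) (hsx : σ x = y * x) {L₁ Ls : V ≃* V}
    (hL₁ : ∀ v, N (L₁ v) = γ₁ (N v)) (hLs : ∀ v, N (Ls v) = σ (N v)) (hinv₁ : ∀ v, L₁ (L₁ v) = v)
    (hinv₂ : ∀ v, Ls (Ls (Ls (Ls v))) = v) (hcomm : ∀ v, L₁ (Ls (Ls v)) = Ls (Ls (L₁ v))) : False := by
  classical
  obtain ⟨hc1, hy1, hyc, hx1, hxc, hxy, hxcy⟩ := id hi
  have hwide : ∀ m : V, m ≠ 1 → ∃ W : Subgroup V, (∀ g, g ∈ W ↔ B m g = 1 ∨ B m g = c) ∧ Nat.card W ≤ 16 := by
    intro m hm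
    let g : V →* E :=
      { toFun := fun w => B m w
        map_one' := mul_eq_left.1 (by rw [← hBr, one_mul])
        map_mul' := fun w w' => hBr m w w' }
    have hgs : Function.Surjective g := polar_onto hV hE h8 h64 N hN B hpol hBl hBr hequi hm
    let C : Subgroup E :=
      { carrier := {e | e = 1 ∨ e = c}
        one_mem' := Or.inl rfl
        mul_mem' := by rintro _ _ (rfl | rfl) (rfl | rfl) <;> simp [hE]
        inv_mem' := by rintro _ (rfl | rfl) <;> simp [inv_self hE] }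
    refine ⟨C.comap g, fun w => Iff.rfl, ?_⟩
    have h2 : Nat.card g.ker = 8 := by
      have h3 := card_range_mul_ker g
      rw [MonoidHom.range_eq_top.2 hgs, Subgroup.card_top, h8, h64] at h3
      omega
    have h5 := card_range_mul_ker (g.comp (C.comap g).subtype)
    have h6 : Nat.card (g.comp (C.comap g).subtype).range ≤ 2 := by
      have h : ((g.comp (C.comap g).subtype).range : Set E) ⊆ {1, c} := by
        rintro _ ⟨w, rfl⟩; exact w.2
      refine le_trans (Set.ncard_le_ncard h) (le_trans (Set.ncard_insert_le _ _) ?_)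
      rw [Set.ncard_singleton]
    have h7 : Nat.card (g.comp (C.comap g).subtype).ker ≤ 8 :=
      h2 ▸ Nat.card_le_card_of_injective (fun w => (⟨w.1.1, w.2⟩ : g.ker))
        (fun w w' e => Subtype.ext (Subtype.ext (congrArg Subtype.val e :)))
    rw [← h5]
    exact Nat.mul_le_mul h6 h7
  let γ₂ : MulAut E := σ * σ
  let L₂ : V ≃* V := Ls.trans Ls
  have h2c : γ₂ c = c := by simp [γ₂, hsc]
  have h2y : γ₂ y = y := by simp [γ₂, hsy, hsc, ← mul_assoc, hE]
  have h2x : γ₂ x = c * x := by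
    simp only [γ₂, MulAut.mul_apply, hsx, map_mul, hsy]
    rw [mul_assoc, ← mul_assoc y y, hE, one_mul]
  have hL₂ : ∀ v, N (L₂ v) = γ₂ (N v) := fun v => by
    show N (Ls (Ls v)) = σ (σ (N v))
    rw [hLs, hLs]
  have hinv₂' : ∀ v, L₂ (L₂ v) = v := hinv₂
  have hmove : ∀ γ : MulAut E, γ c = c → (γ y = y ∨ γ y = c * y) → (γ x = x ∨ γ x = c * x) →
      ∀ e, γ e * e = 1 ∨ γ e * e = c := by
    intro γ h0 h1 h2 e
    obtain ⟨p, rfl⟩ := (coordHom_bijective hE h8 hi).2 e
    obtain ⟨⟨i, j, l⟩, rfl⟩ : ∃ w : ZMod 2 × ZMod 2 × ZMod 2, Multiplicative.ofAdd w = p := ⟨p.toAdd, rfl⟩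
    show γ (c ^ i.val * y ^ j.val * x ^ l.val) * (c ^ i.val * y ^ j.val * x ^ l.val) = 1 ∨
      γ (c ^ i.val * y ^ j.val * x ^ l.val) * (c ^ i.val * y ^ j.val * x ^ l.val) = c
    have key : γ (c ^ i.val * y ^ j.val * x ^ l.val) * (c ^ i.val * y ^ j.val * x ^ l.val) =
        (γ c * c) ^ i.val * (γ y * y) ^ j.val * (γ x * x) ^ l.val := by
      simp only [map_mul, map_pow, mul_pow]
      rw [mul_mul_mul_comm, mul_mul_mul_comm (γ c ^ _)]
    rw [key, h0, hE, one_pow, one_mul]
    rcases h1 with h1 | h1 <;> rcases h2 with h2 | h2 <;>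
      rcases zmod2_cases j with rfl | rfl <;> rcases zmod2_cases l with rfl | rfl <;>
      simp [h1, h2, mul_assoc, hE, ZMod.val_one]
  -- fixed points and images
  have step : ∀ (L : V ≃* V) (γ : MulAut E), (∀ v, N (L v) = γ (N v)) → (∀ v, L (L v) = v) →
      (∀ e, γ e * e = 1 ∨ γ e * e = c) → γ ≠ 1 →
      ∃ F M : Subgroup V, (∀ v, v ∈ F ↔ L v = v) ∧ M ≤ F ∧ (∀ v, L v * v ∈ M) ∧
        (∀ m ∈ M, ∀ f ∈ F, B m f = 1 ∨ B m f = c) ∧ Nat.card M * Nat.card F = 64 ∧ 4 ≤ Nat.card M ∧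
        ∀ m ∈ M, ∃ v, L v * v = m := by
    intro L γ hL hLL hγ hne
    let f : V →* V := L.toMonoidHom * MonoidHom.id V
    have hF : ∀ v, v ∈ f.ker ↔ L v = v := fun v => by
      show L v * v = 1 ↔ _
      exact ⟨fun e => (eq_inv_of_mul_eq_one_left e).trans (inv_eq_of_mul_eq_one_right (hV v)),
        fun e => by rw [e, hV]⟩
    have hBf : ∀ m ∈ f.range, ∀ g ∈ f.ker, B m g = 1 ∨ B m g = c := by
      rintro _ ⟨z, rfl⟩ g hg
      show B (L z * z) g = 1 ∨ B (L z * z) g = c
      rw [hBl]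
      rw [show B (L z) g = γ (B z g) by
        conv_lhs => rw [← (hF g).1 hg]
        exact hB_equi hV hE h8 h64 N hN B hpol hBl hBr hequi hL z g]
      exact hγ _
    have hcard : Nat.card f.range * Nat.card f.ker = 64 := by rw [card_range_mul_ker, h64]
    refine ⟨f.ker, f.range, hF, ?_, fun v => ⟨v, rfl⟩, hBf, hcard, ?_, fun m ⟨v, hv⟩ => ⟨v, hv⟩⟩
    · rintro _ ⟨z, rfl⟩
      refine (hF _).2 ?_
      show L (L z * z) = L z * z
      rw [map_mul, hLL, mul_comm]
    · obtain ⟨z, hz⟩ : ∃ z, L z ≠ z := by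
        by_contra hall
        push Not at hall
        obtain ⟨v, hv⟩ : ∃ v : V, v ≠ 1 := by
          by_contra hcon
          push Not at hcon
          haveI : Subsingleton V := ⟨fun p q => (hcon p).trans (hcon q).symm⟩
          rw [Nat.card_unique] at h64
          omega
        refine hne (MulEquiv.ext fun e => ?_)
        obtain ⟨w, rfl⟩ := polar_onto hV hE h8 h64 N hN B hpol hBl hBr hequi hv e
        rw [← hB_equi hV hE h8 h64 N hN B hpol hBl hBr hequi hL, hall, hall]
        rfl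
      have hm1 : f z ≠ 1 := fun e => hz ((hF z).1 e)
      obtain ⟨W, hW, hW16⟩ := hwide (f z) hm1
      have : Nat.card f.ker ≤ 16 :=
        le_trans (Subgroup.card_le_of_le fun g hg => (hW g).2 (hBf (f z) ⟨z, rfl⟩ g hg)) hW16
      by_contra hlt
      push Not at hlt
      have := Nat.mul_le_mul (Nat.le_of_lt_succ hlt) this
      omega
  have hγ₁ := hmove γ₁ h1c (Or.inr h1y) (Or.inl h1x)
  have hγ₂ := hmove γ₂ h2c (Or.inl h2y) (Or.inr h2x)
  have hne₁ : γ₁ ≠ 1 := fun e => hc1 (mul_eq_right.1 (by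
    rw [← h1y, e]; rfl))
  have hne₂ : γ₂ ≠ 1 := fun e => hc1 (mul_eq_right.1 (by
    rw [← h2x, e]; rfl))
  obtain ⟨F₁, M₁, hF₁, hMF₁, hM₁, hB₁, hc₁, h4₁, honto₁⟩ := step L₁ γ₁ hL₁ hinv₁ hγ₁ hne₁
  obtain ⟨F₂, M₂, hF₂, hMF₂, hM₂, hB₂, hc₂, h4₂, honto₂⟩ := step L₂ γ₂ hL₂ hinv₂' hγ₂ hne₂
  -- the common fixed points are few
  have hsmall : Nat.card (F₁ ⊓ F₂ : Subgroup V) ≤ 4 := by
    have hNF : ∀ v ∈ F₁ ⊓ F₂, v ≠ 1 → N v = c := by
      intro v hv hv1
      have e1 : γ₁ (N v) = N v := by rw [← hL₁, (hF₁ v).1 hv.1]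
      have e2 : γ₂ (N v) = N v := by rw [← hL₂, (hF₂ v).1 hv.2]
      obtain ⟨p, hp⟩ := (coordHom_bijective hE h8 hi).2 (N v)
      obtain ⟨⟨i, j, l⟩, rfl⟩ : ∃ w : ZMod 2 × ZMod 2 × ZMod 2, Multiplicative.ofAdd w = p := ⟨p.toAdd, rfl⟩
      change c ^ i.val * y ^ j.val * x ^ l.val = N v at hp
      rw [← hp] at e1 e2 ⊢
      simp only [map_mul, map_pow, h1c, h1y, h1x, h2c, h2y, h2x, mul_pow] at e1 e2
      rcases zmod2_cases i with rfl | rfl <;> rcases zmod2_cases j with rfl | rfl <;>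
        rcases zmod2_cases l with rfl | rfl <;>
        simp [ZMod.val_zero, ZMod.val_one, ← mul_assoc, hE] at hp e1 e2 ⊢ <;>
        first
          | exact absurd (hN v hp.symm) hv1
          | exact absurd e1 hc1
          | exact absurd e2 hc1
          | skip
    by_contra hlt
    push Not at hlt
    haveI := Fintype.ofFinite (F₁ ⊓ F₂ : Subgroup V)
    rw [Nat.card_eq_fintype_card, ← Finset.card_univ] at hlt
    obtain ⟨p, -, hp⟩ := Finset.exists_mem_notMem_of_card_lt_card
      (s := ({1} : Finset (F₁ ⊓ F₂ : Subgroup V))) (t := Finset.univ) (by rw [Finset.card_singleton]; omega)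
    obtain ⟨r, -, hr⟩ := Finset.exists_mem_notMem_of_card_lt_card
      (s := ({1, p} : Finset (F₁ ⊓ F₂ : Subgroup V))) (t := Finset.univ)
      (lt_of_le_of_lt Finset.card_le_two (by omega))
    obtain ⟨s, -, hs⟩ := Finset.exists_mem_notMem_of_card_lt_card
      (s := ({1, p, r, p * r} : Finset (F₁ ⊓ F₂ : Subgroup V))) (t := Finset.univ)
      (lt_of_le_of_lt Finset.card_le_four (by omega))
    simp only [Finset.mem_insert, Finset.mem_singleton, not_or, ← ne_eq] at hp hr hs
    obtain ⟨hr1, hrp⟩ := hr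
    obtain ⟨hs1, hsp, hsr, hspr⟩ := hs
    have hself : ∀ g : (F₁ ⊓ F₂ : Subgroup V), g * g = 1 := fun g => Subtype.ext (hV g)
    have hne : ∀ g : (F₁ ⊓ F₂ : Subgroup V), g ≠ 1 → N (g : V) = c := fun g hg =>
      hNF g g.2 fun e => hg (Subtype.ext e)
    have hB : ∀ g g' : (F₁ ⊓ F₂ : Subgroup V), g ≠ 1 → g' ≠ 1 → g ≠ g' → B (g : V) (g' : V) = c := by
      intro g g' hg hg' hgg
      have h1 := hpol (g : V) (g' : V)
      rw [hne g hg, hne g' hg', ← Subgroup.coe_mul,
        hne (g * g') (fun e => hgg ((eq_inv_of_mul_eq_one_left e).trans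
          (inv_eq_of_mul_eq_one_right (hself g')))), hE, one_mul] at h1
      exact h1.symm
    have h2 := hBr (p : V) (r : V) (s : V)
    rw [hB p r hp hr1 (Ne.symm hrp), hB p s hp hs1 (Ne.symm hsp), hE, ← Subgroup.coe_mul,
      hB p (r * s) hp ?_ ?_] at h2
    · exact hc1 h2
    · exact fun e => hsr ((eq_inv_of_mul_eq_one_right e).trans (inv_eq_of_mul_eq_one_right (hself r)))
    · intro e
      exact hspr (by rw [e, mul_comm (r * s), ← mul_assoc, hself, one_mul])
  -- the square of an element of order four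
  have hM₂4 : Nat.card F₂ = 16 := by
    set Ms : V →* V := Ls.toMonoidHom * MonoidHom.id V with hMs
    have hsq : ∀ v, Ms.comp Ms v = L₂ v * v := fun v => by
      show Ls (Ls v * v) * (Ls v * v) = Ls (Ls v) * v
      rw [map_mul, mul_assoc, ← mul_assoc (Ls v), hV, one_mul]
    have hk : (Ms.comp Ms).ker = F₂ := Subgroup.ext fun v => by
      rw [MonoidHom.mem_ker, hsq, hF₂]
      exact ⟨fun e => (eq_inv_of_mul_eq_one_left e).trans (inv_eq_of_mul_eq_one_right (hV v)),
        fun e => by rw [e, hV]⟩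
    have hr : (Ms.comp Ms).range = M₂ := Subgroup.ext fun v => by
      constructor
      · rintro ⟨w, rfl⟩; rw [hsq]; exact hM₂ w
      · intro hv
        obtain ⟨w, rfl⟩ := honto₂ v hv
        exact ⟨w, hsq w⟩
    have hlt := ker_sq_ne_range h64 Ms
    rw [hk, hr] at hlt
    have hdvd := Subgroup.card_dvd_of_le hMF₂
    have hne' : Nat.card M₂ ≠ Nat.card F₂ := fun e => hlt (Subgroup.eq_of_le_of_card_ge hMF₂ e.ge).symm
    obtain ⟨k, hk'⟩ := hdvd
    have hk2 : 2 ≤ k := by
      rcases k with _ | _ | k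
      · rw [mul_zero] at hk'; exact absurd hk' Nat.card_pos.ne'
      · rw [Nat.zero_add, mul_one] at hk'; exact absurd hk'.symm hne'
      · omega
    have h5 : Nat.card M₂ * (Nat.card M₂ * 2) ≤ 64 := by
      rw [← hc₂, hk']; exact Nat.mul_le_mul_left _ (Nat.mul_le_mul_left _ hk2)
    have h6 : Nat.card M₂ ≤ 5 := by
      by_contra h6
      push Not at h6
      have := Nat.mul_le_mul h6 (Nat.mul_le_mul_right 2 h6)
      omega
    interval_cases h7 : Nat.card M₂ <;> omega
  by_cases hmeet : ∃ m, m ∈ M₁ ∧ m ∈ M₂ ∧ m ≠ 1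
  · obtain ⟨m, hm1, hm2, hmne⟩ := hmeet
    obtain ⟨W, hW, hW16⟩ := hwide m hmne
    have e : F₂ = W := Subgroup.eq_of_le_of_card_ge (fun g hg => (hW g).2 (hB₂ m hm2 g hg)) (by omega)
    have hle : F₁ ≤ F₁ ⊓ F₂ := fun g hg => ⟨hg, e ▸ (hW g).2 (hB₁ m hm1 g hg)⟩
    have h1 := le_trans (Subgroup.card_le_of_le hle) hsmall
    have h2 := le_trans (Subgroup.card_le_of_le hMF₁) h1
    have := Nat.mul_le_mul h2 h1
    omega
  · push Not at hmeet
    have h12 : M₁ ≤ F₂ := fun m hm => by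
      obtain ⟨v, rfl⟩ := honto₁ m hm
      have h1 : L₂ (L₁ v * v) * (L₁ v * v) ∈ M₁ := by
        refine mul_mem ?_ hm
        have := hM₁ (L₂ v)
        rw [map_mul, show L₂ (L₁ v) = L₁ (L₂ v) from (hcomm v).symm]
        exact this
      have h2 := hmeet _ h1 (hM₂ _)
      exact (hF₂ _).2 ((eq_inv_of_mul_eq_one_left h2).trans (inv_eq_of_mul_eq_one_right (hV _)))
    have h21 : M₂ ≤ F₁ := fun m hm => by
      obtain ⟨v, rfl⟩ := honto₂ m hm
      have h1 : L₁ (L₂ v * v) * (L₂ v * v) ∈ M₂ := by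
        refine mul_mem ?_ hm
        have := hM₂ (L₁ v)
        rw [map_mul, show L₁ (L₂ v) = L₂ (L₁ v) from hcomm v]
        exact this
      have h2 := hmeet _ (hM₁ _) h1
      exact (hF₁ _).2 ((eq_inv_of_mul_eq_one_left h2).trans (inv_eq_of_mul_eq_one_right (hV _)))
    have h1 : Nat.card (M₁ × M₂) ≤ Nat.card (F₁ ⊓ F₂ : Subgroup V) := by
      refine Nat.card_le_card_of_injective
        (fun p => ⟨(p.1 : V) * p.2, mul_mem ⟨hMF₁ p.1.2, h12 p.1.2⟩ ⟨h21 p.2.2, hMF₂ p.2.2⟩⟩) fun p r e => ?_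
      have e' : (p.1 : V) * p.2 = r.1 * r.2 := congrArg Subtype.val e
      have h3 : (r.1 : V)⁻¹ * p.1 = r.2 * (p.2 : V)⁻¹ := by
        rw [inv_mul_eq_iff_eq_mul, ← mul_assoc, eq_mul_inv_iff_mul_eq]; exact e'
      have h4 := hmeet _ (mul_mem (inv_mem r.1.2) p.1.2) (h3 ▸ mul_mem r.2.2 (inv_mem p.2.2))
      have h5 : (r.1 : V) = p.1 := inv_mul_eq_one.1 h4
      rw [h5] at e'
      exact Prod.ext (Subtype.ext h5.symm) (Subtype.ext (mul_left_cancel e'))
    rw [Nat.card_prod] at h1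
    have := Nat.mul_le_mul h4₁ h4₂
    omega

end Unitary

end CfsgLib.AschCrit.Exception
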