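import Cfsg.Agent.Lib.Invol.AschCrit.ModelAct

/-!
Owner: helper18. Aschbacher's criterion, slice E: in unitary type a 2-element at two points fixes all fixed points.

* `Crit.pair_act`, `Crit.pair_mem`: for two such involutions `u`, `w` the halves commute modulo `oddGrp`.
* `Crit.four_false`: no involution of `fixGrp` is non-trivial on the fixed points of `u`: the three halves of the
  four-group would give a square root `1` of a non-trivial element of `E`.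
* `Crit.order_four_false`, `Crit.fixGrp_trivial`: nor any 2-element.
-/

set_option autoImplicit false
set_option linter.unusedSectionVars false

namespace CfsgLib.AschCrit

open Subgroup MulAction

universe u

variable {G : Type u} [Group G] {Ω : Type u} [MulAction G Ω]

/-- The group generated by the odd elements centralising `u`, `w`, `E` at `a`. -/
def oddGrp (u w : G) (a : Ω) (E : Subgroup G) : Subgroup G :=
  closure {g | g • a = a ∧ Commute g u ∧ Commute g w ∧ (∀ e ∈ E, Commute g e) ∧ Odd (orderOf g)}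

theorem oddGrp_le_transSub {u w : G} {a : Ω} {E : Subgroup G} :
    oddGrp u w a E ≤ transSub u a E ⊓ transSub w a E := by
  refine (closure_le _).2 ?_
  rintro g ⟨hga, hgu, hgw, hgE, -⟩
  exact ⟨⟨hga, hgE, by rw [hgu.eq, mul_inv_cancel_right, inv_mul_cancel]; exact one_mem _⟩,
    ⟨hga, hgE, by rw [hgw.eq, mul_inv_cancel_right, inv_mul_cancel]; exact one_mem _⟩⟩

theorem oddGrp_mono {u w u' w' : G} {a : Ω} {E : Subgroup G}
    (h : ∀ g : G, Commute g u → Commute g w → Commute g u' ∧ Commute g w') :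
    oddGrp u w a E ≤ oddGrp u' w' a E := by
  refine (closure_le _).2 ?_
  rintro g ⟨hga, hgu, hgw, hgE, hodd⟩
  exact subset_closure ⟨hga, (h g hgu hgw).1, (h g hgu hgw).2, hgE, hodd⟩

theorem mem_transSub_of_commute {z g : G} {a : Ω} {E : Subgroup G} (hga : g • a = a)
    (hgE : ∀ e ∈ E, Commute g e) (hgz : Commute g z) : g ∈ transSub z a E :=
  ⟨hga, hgE, by rw [hgz.eq, mul_inv_cancel_right, inv_mul_cancel]; exact one_mem _⟩

/-- Two involutions at two points, each non-trivial on the fixed points of the other. -/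
structure FieldPair (D : Set G) (u w : G) (a b : Ω) (E : Subgroup G) (q : ℕ) : Prop where
  top_u : TopFrame D u a b E q 3
  top_w : TopFrame D w a b E q 3
  w_fix : w ∈ fixGrp u a b E
  u_fix : u ∈ fixGrp w a b E
  w_ne : ¬ ∀ p : Ω, u • p = p → w • p = p
  u_ne : ¬ ∀ p : Ω, w • p = p → u • p = p

theorem FieldPair.symm {D : Set G} {u w : G} {a b : Ω} {E : Subgroup G} {q : ℕ}
    (hP : FieldPair D u w a b E q) : FieldPair D w u a b E q :=
  ⟨hP.top_w, hP.top_u, hP.u_fix, hP.w_fix, hP.u_ne, hP.w_ne⟩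

variable [Finite G]

namespace Crit

variable {D : Set G} (h : Crit Ω D)
include h

/-- An element of `centSub` at another multi inverted by `u` translates `u`. -/
theorem inverted_trans {u z : G} {a b : Ω} {E : Subgroup G} {q i : ℕ} (hl : LData D u a b E q i) {δ : G}
    (hδ : δ ∈ centSub z a E) (hinv : u * δ * u⁻¹ = δ⁻¹) (he : δ * δ ∈ E) :
    δ ∈ transSub u a E ∧ δ * u * δ⁻¹ = u * (δ * δ) := by
  obtain ⟨hδa, -, hδE⟩ := mem_centSub.1 hδ
  have h1 : u * δ = δ⁻¹ * u := by rw [← hinv, inv_mul_cancel_right]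
  have h2 : δ * u = u * δ⁻¹ := by
    calc δ * u = δ * (u * δ) * δ⁻¹ := by group
      _ = u * δ⁻¹ := by rw [h1]; group
  have h3 : δ * u * δ⁻¹ = u * (δ * δ) := by
    rw [h2, mul_assoc, ← mul_inv_rev, inv_eq_of_mul_eq_one_right (h.E_sq hl he)]
  exact ⟨⟨hδa, hδE, by rw [h3, inv_mul_cancel_left]; exact he⟩, h3⟩

/-- A base whose kernel contains a given 2-element of `fixGrp`. -/
theorem exists_base_mem (hf : Faithful G Ω) (IH : Below.{u, u} (Nat.card G)) {u : G} {a b : Ω} {E : Subgroup G}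
    {q i : ℕ} (ht : TopFrame D u a b E q i) {w : G} (hw : w ∈ fixGrp u a b E) (hw2 : ∃ n : ℕ, w ^ 2 ^ n = 1) :
    ∃ R P0 Q : Subgroup G, ModelBase D u a b E q i R P0 Q ∧ w ∈ R := by
  haveI := Fact.mk Nat.prime_two
  obtain ⟨n, hn⟩ := hw2
  obtain ⟨k, -, hk⟩ := (Nat.dvd_prime_pow Nat.prime_two).1 (orderOf_dvd_of_pow_eq_one hn)
  obtain ⟨R, hR, hwR, hRF, hRc, -⟩ := exists_max_two
    (IsPGroup.of_card (n := k) (by rw [Nat.card_zpowers, hk] : Nat.card (zpowers w) = 2 ^ k)) (zpowers_le.2 hw)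
  obtain ⟨P0, Q, hB⟩ := h.exists_base hf IH ht.multi ht.data R hR hRF hRc
  exact ⟨R, P0, Q, hB, hwR (mem_zpowers w)⟩

/-- Conjugation by an element of `R` moving all but `q + 1` fixed points, as `HalfData`. -/
theorem halfConj {u : G} {a b : Ω} {E : Subgroup G} {q : ℕ} (hl : LData D u a b E q 3) {R P0 Q : Subgroup G}
    (M : ModelBase D u a b E q 3 R P0 Q) {w : G} (hw : w ∈ R)
    (hcard : Nat.card {x : Ω // u • x = x ∧ w • x = x} = q + 1) (hw2 : SameAct Ω u (w * w) 1) :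
    HalfData Q E (fun y => w * y * w⁻¹) := by
  obtain ⟨-, hwu, hwE⟩ := mem_centSub.1 (M.sub (M.R_le hw))
  refine h.halfData hl M (M.R_sub hw) hcard hw2 (fun y hy => ⟨(M.Q_mem _).2
    ⟨mul_mem (mul_mem (M.R_le hw) ((M.Q_mem y).1 hy).1) (inv_mem (M.R_le hw)),
      conj_mem_cGrp h hwu ((M.Q_mem y).1 hy).2⟩, SameAct.refl u _⟩) (fun y _ y' _ => by group) fun e he => ?_
  show w * e * w⁻¹ = e
  rw [(hwE e he).eq, mul_inv_cancel_right]

/-- The half of a pair. -/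
theorem pairHalf (hf : Faithful G Ω) (IH : Below.{u, u} (Nat.card G)) {u w : G} {a b : Ω} {E : Subgroup G} {q : ℕ}
    (hP : FieldPair D u w a b E q) {R P0 Q : Subgroup G} (M : ModelBase D u a b E q 3 R P0 Q) (hw : w ∈ R) :
    HalfData Q E (fun y => w * y * w⁻¹) := by
  have hww : w * w = 1 := by rw [← pow_two, ← hP.top_w.multi.1, pow_orderOf_eq_one]
  exact h.halfConj hP.top_u.data M hw ((h.kernelFix hf IH u a b E q 3 hP.top_u w hP.w_fix
    ⟨1, by rw [pow_one, pow_two, hww]⟩).resolve_left hP.w_ne).2 (by rw [hww]; exact SameAct.refl u 1)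

/-- The commutator of a translation commuting with `w` and an element of the half. -/
theorem pair_act (hf : Faithful G Ω) (IH : Below.{u, u} (Nat.card G)) {u w : G} {a b : Ω} {E : Subgroup G}
    {q : ℕ} (hP : FieldPair D u w a b E q) {R P0 Q : Subgroup G} (M : ModelBase D u a b E q 3 R P0 Q)
    (hw : w ∈ R) {δ m : G} (hδ : δ ∈ transSub u a E) (hδw : Commute δ w) (hm : m ∈ Q)
    (hmw : w * m * w⁻¹ = m⁻¹) :
    δ * m * δ⁻¹ * m⁻¹ ∈ centSub u a E ∧ Commute (δ * m * δ⁻¹ * m⁻¹) w ∧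
      ∃ c ∈ E, (c = 1 ∨ c = m * m) ∧ SameAct Ω u (δ * m * δ⁻¹ * m⁻¹) c := by
  classical
  haveI := h.finite_points
  have hl := hP.top_u.data
  have H := h.pairHalf hf IH hP M hw
  obtain ⟨-, hwu, hwE⟩ := mem_centSub.1 (M.sub (M.R_le hw))
  have hδe : ∀ {e}, e ∈ E → δ * e * δ⁻¹ = e := fun he => by rw [(hδ.2.1 _ he).eq, mul_inv_cancel_right]
  have hwb : w • b = b := hP.top_w.data.fix_b
  set g := δ * m * δ⁻¹ * m⁻¹ with hg
  have hgF : g ∈ centSub u a E :=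
    mul_mem (h.exists_transfer hf IH hP.top_u M hδ hm).1 (inv_mem (M.sub ((M.Q_mem m).1 hm).1))
  have hgw : Commute g w := by
    have hmm : w * m * w⁻¹ = m * (m⁻¹ * m⁻¹) := by rw [hmw]; group
    refine (mul_inv_eq_iff_eq_mul.1 (?_ : w * g * w⁻¹ = g)).symm
    have h1 : m⁻¹ * m⁻¹ ∈ E := H.sq _ (inv_mem hm)
    calc w * g * w⁻¹ = (w * δ * w⁻¹) * (w * m * w⁻¹) * (w * δ * w⁻¹)⁻¹ * (w * m * w⁻¹)⁻¹ := by rw [hg]; group
      _ = δ * (m * (m⁻¹ * m⁻¹)) * δ⁻¹ * (m * (m⁻¹ * m⁻¹))⁻¹ := by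
        rw [hδw.symm.eq, mul_inv_cancel_right, hmm]
      _ = δ * m * δ⁻¹ * (δ * (m⁻¹ * m⁻¹) * δ⁻¹) * (m⁻¹ * m⁻¹)⁻¹ * m⁻¹ := by group
      _ = g := by rw [hδe h1, mul_inv_cancel_right]
  refine ⟨hgF, hgw, ?_⟩
  -- `m` as a moved element
  have hhalf := (H.half_of_inverted hm hmw).1
  obtain ⟨y, hy, hye⟩ := H.half_cover hhalf.1 hhalf.2
  set m₀ := w * y * w⁻¹ * y⁻¹ with hm₀
  set ε := m⁻¹ * m₀ with hε
  have hm₀Q : m₀ ∈ Q := (H.move_inverted hy).1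
  have hgm₀ : g = δ * m₀ * δ⁻¹ * m₀⁻¹ := by
    rw [hg, show m₀ = m * ε by rw [hε, mul_inv_cancel_left],
      show δ * (m * ε) * δ⁻¹ * (m * ε)⁻¹ = δ * m * δ⁻¹ * (δ * ε * δ⁻¹) * ε⁻¹ * m⁻¹ by group, hδe hye,
      mul_inv_cancel_right]
  obtain ⟨-, v, hv, hva, hvv⟩ := h.exists_transfer hf IH hP.top_u M hδ hy
  obtain ⟨-, m', hm', hm'a, -⟩ := h.exists_transfer hf IH hP.top_u M hδ hm₀Q
  set c := m' * m₀⁻¹ with hc
  have hcQ : c ∈ Q := mul_mem hm' (inv_mem hm₀Q)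
  have hgc : SameAct Ω u g c := by
    rw [hgm₀]
    exact hm'a.mul (SameAct.refl u m₀⁻¹) (M.mem_Q_data hm₀Q).2.1.inv_left
  have hcE : c ∈ E := by
    refine (H.fixed c hcQ).1 (M.eq_of_smul (H.mem c hcQ) hcQ ?_)
    show (w * c * w⁻¹) • b = c • b
    rw [mul_smul, inv_smul_eq_iff.2 hwb.symm, mul_smul, ← hgc b hl.fix_b, ← mul_smul, ← hgw.eq, mul_smul, hwb]
  refine ⟨c, hcE, ?_, hgc⟩
  -- the equation from conjugating by `w`
  have hwv : w * v * w⁻¹ = m' * v := by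
    refine M.eq_of_act hl (H.mem v hv) (mul_mem hm' hv) ?_
    have h1 := (hva.conj hwu (M.mem_Q_data hv).2.1).symm
    have h3 : w * (δ * y * δ⁻¹) * w⁻¹ = δ * m₀ * δ⁻¹ * (δ * y * δ⁻¹) := by
      calc w * (δ * y * δ⁻¹) * w⁻¹ = (w * δ * w⁻¹) * (w * y * w⁻¹) * (w * δ * w⁻¹)⁻¹ := by group
        _ = δ * m₀ * δ⁻¹ * (δ * y * δ⁻¹) := by rw [hδw.symm.eq, mul_inv_cancel_right, hm₀]; group
    rw [h3] at h1
    exact h1.trans (hm'a.mul hva (M.mem_Q_data hv).2.1)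
  set t := y⁻¹ * v with ht
  have htQ : t ∈ Q := mul_mem (inv_mem hy) hv
  have hty : Commute c y := (H.central y hy c hcE).symm
  have hφt : w * t * w⁻¹ * t⁻¹ = c := by
    have h3 : m₀⁻¹ * m' = c := by
      rw [show m' = c * m₀ by rw [hc, inv_mul_cancel_right], ← (H.central _ hm₀Q c hcE).eq, inv_mul_cancel_left]
    calc w * t * w⁻¹ * t⁻¹ = (w * y * w⁻¹)⁻¹ * (w * v * w⁻¹) * t⁻¹ := by rw [ht]; group
      _ = y⁻¹ * (m₀⁻¹ * m') * v * t⁻¹ := by rw [hwv, hm₀]; group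
      _ = c := by rw [h3, ← hty.inv_right.eq, ht]; group
  have hti := H.half_inverted htQ (hφt.symm ▸ hcE)
  have htt : t * t = c := by rw [← (H.half_of_inverted htQ hti).2]; exact hφt
  by_cases htE : t ∈ E
  · exact Or.inl (by rw [← htt, H.E_sq t htE])
  refine Or.inr ?_
  have hsq : ∀ {z x}, z ∈ Q → x ∈ Q → z * x * (z * x) = x * x → z * x * z⁻¹ * x⁻¹ = z * z := by
    intro z x hz hx he
    have h1 : z * x * z = x := by rw [← mul_assoc] at he; exact mul_right_cancel he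
    calc z * x * z⁻¹ * x⁻¹ = z * x * z * (z * z)⁻¹ * x⁻¹ := by group
      _ = x * (z * z) * x⁻¹ := by rw [h1, H.inv_E (H.sq z hz)]
      _ = z * z := by rw [(H.central x hx _ (H.sq z hz)).eq, mul_inv_cancel_right]
  have hty' : t * y * t⁻¹ * y⁻¹ = c := by
    rw [← htt]
    refine hsq htQ hy ?_
    have h1 : y * t * (y * t) = y * y := by rw [ht, mul_inv_cancel_left]; exact hvv
    calc t * y * (t * y) = y⁻¹ * (y * t * (y * t)) * y := by group
      _ = y * y := by rw [h1]; group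
  obtain ⟨y', hy', hye'⟩ := H.half_cover htQ (hφt.symm ▸ hcE)
  set t' := w * y' * w⁻¹ * y'⁻¹ with ht'
  set ε' := t⁻¹ * t' with hε'
  have ht'Q : t' ∈ Q := (H.move_inverted hy').1
  have htc : Commute t ε' := H.central t htQ ε' hye'
  have ht't : t' = t * ε' := by rw [hε', mul_inv_cancel_left]
  have ht'2 : t' * t' = c := by
    rw [ht't, htc.symm.mul_mul_mul_comm, H.E_sq ε' hye', mul_one, htt]
  have hty'' : t * y' * t⁻¹ * y'⁻¹ = c := by
    have h1 : t' * y' * t'⁻¹ * y'⁻¹ = t' * t' := by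
      refine hsq ht'Q hy' ?_
      rw [show t' * y' * (t' * y') = w * (y' * y') * w⁻¹ by rw [ht']; group,
        (hwE _ (M.Q_sq y' hy')).eq, mul_inv_cancel_right]
    rw [ht'2, ht't, show t * ε' * y' * (t * ε')⁻¹ * y'⁻¹ = t * (ε' * y' * ε'⁻¹) * t⁻¹ * y'⁻¹ by group,
      ← (H.central y' hy' ε' hye').eq, mul_inv_cancel_right] at h1
    exact h1
  set d := y⁻¹ * y' with hd
  have htd : Commute t d := by
    refine mul_inv_eq_iff_eq_mul.1 ?_
    calc t * d * t⁻¹ = (t * y * t⁻¹ * y⁻¹ * y)⁻¹ * (t * y' * t⁻¹ * y'⁻¹ * y') := by rw [hd]; group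
      _ = d := by rw [hty', hty'', hd]; group
  have h1 := H.half_centralizer htQ (hφt.symm ▸ hcE) htE (mul_mem (inv_mem hy) hy') htd
  beta_reduce at h1
  rw [show w * d * w⁻¹ * d⁻¹ = y⁻¹ * (m₀⁻¹ * t') * y by rw [hd, hm₀, ht']; group] at h1
  have h3 : m₀⁻¹ * t' ∈ E := by
    have h5 : y * (y⁻¹ * (m₀⁻¹ * t') * y) * y⁻¹ = m₀⁻¹ * t' := by group
    rw [(H.central y hy _ h1).eq, mul_inv_cancel_right] at h5
    rwa [← h5]
  set e₃ := m₀⁻¹ * t' with he₃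
  rw [← ht'2, show t' = m * (ε * e₃) by rw [he₃, hε]; group,
    (H.central m hm _ (mul_mem hye h3)).symm.mul_mul_mul_comm, H.E_sq _ (mul_mem hye h3), mul_one]

/-- Conjugation by translations of both involutions normalises `oddGrp`. -/
theorem conj_oddGrp {u w : G} {a b : Ω} {E : Subgroup G} {q : ℕ} (hP : FieldPair D u w a b E q) {n g : G}
    (hn : n ∈ transSub u a E ⊓ transSub w a E) (hg : g ∈ oddGrp u w a E) : n * g * n⁻¹ ∈ oddGrp u w a E := by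
  suffices hle : oddGrp u w a E ≤ (oddGrp u w a E).comap (MulAut.conj n).toMonoidHom from hle hg
  refine (closure_le _).2 ?_
  rintro x ⟨hxa, hxu, hxw, hxE, hodd⟩
  obtain ⟨h1, h1u, h1E⟩ := mem_centSub.1 (h.conj_centSub hP.top_u.data hn.1 (mem_centSub.2 ⟨hxa, hxu, hxE⟩))
  obtain ⟨-, h1w, -⟩ := mem_centSub.1 (h.conj_centSub hP.top_w.data hn.2 (mem_centSub.2 ⟨hxa, hxw, hxE⟩))
  refine subset_closure ⟨h1, h1u, h1w, h1E, ?_⟩
  show Odd (orderOf ((MulAut.conj n) x))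
  rwa [MulEquiv.orderOf_eq]

/-- The halves commute modulo the odd elements. -/
theorem pair_mem (hf : Faithful G Ω) (IH : Below.{u, u} (Nat.card G)) {u w : G} {a b : Ω} {E : Subgroup G}
    {q : ℕ} (hP : FieldPair D u w a b E q) {R P0 Q R' P0' Q' : Subgroup G}
    (M : ModelBase D u a b E q 3 R P0 Q) (hw : w ∈ R) (M' : ModelBase D w a b E q 3 R' P0' Q') (hu : u ∈ R')
    {δ m : G} (hδ : δ ∈ Q') (hδu : u * δ * u⁻¹ = δ⁻¹) (hm : m ∈ Q) (hmw : w * m * w⁻¹ = m⁻¹) :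
    δ * m * δ⁻¹ * m⁻¹ ∈ oddGrp u w a E := by
  classical
  haveI := h.finite_points
  have hl := hP.top_u.data
  have H := h.pairHalf hf IH hP M hw
  obtain ⟨-, hδw, hδE⟩ := M'.mem_Q_data hδ
  have hδF := M'.sub ((M'.Q_mem δ).1 hδ).1
  have hδt := (h.inverted_trans hl hδF hδu (M'.Q_sq δ hδ)).1
  -- different squares
  have key : ∀ m₁ ∈ Q, w * m₁ * w⁻¹ = m₁⁻¹ → m₁ * m₁ ≠ δ * δ → δ * m₁ * δ⁻¹ * m₁⁻¹ ∈ oddGrp u w a E := by
    intro m₁ hm₁ hm₁w hne
    set g := δ * m₁ * δ⁻¹ * m₁⁻¹ with hg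
    obtain ⟨hgF, hgw, c, hc, hc', hgc⟩ := h.pair_act hf IH hP M hw hδt hδw hm₁ hm₁w
    obtain ⟨hga, hgu, hgE⟩ := mem_centSub.1 hgF
    have hm₁F := M.sub ((M.Q_mem m₁).1 hm₁).1
    obtain ⟨-, -, c₂, hc₂, hc₂', hgc₂⟩ := h.pair_act hf IH hP.symm M' hu
      (h.inverted_trans hP.top_w.data hm₁F hm₁w (M.Q_sq m₁ hm₁)).1 (M.mem_Q_data hm₁).2.1 hδ hδu
    rw [show m₁ * δ * m₁⁻¹ * δ⁻¹ = g⁻¹ by rw [hg]; group] at hgc₂
    have hcc : c₂ * c = 1 := M.Q_free _ (M.E_Q (mul_mem hc₂ hc)) (by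
      have h1 : g • (c₂ • b) = b := by rw [← hgc₂ b hP.top_w.data.fix_b, smul_inv_smul]
      rwa [← mul_smul, (hgE c₂ hc₂).eq, mul_smul, hgc b hl.fix_b, ← mul_smul] at h1)
    have hceq : c₂ = c := by rw [eq_inv_of_mul_eq_one_left hcc, H.inv_E hc]
    have hc1 : c = 1 := by
      rcases hc' with h1 | h1
      · exact h1
      rcases hc₂' with h2 | h2
      · rw [← hceq, h2]
      · exact absurd (h1.symm.trans (hceq.symm.trans h2)) hne
    have hgi : SameAct Ω w g 1 := by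
      have h1 := hgc₂
      rw [hceq, hc1] at h1
      have h3 := h1.inv (Commute.one_left w)
      rwa [inv_inv, inv_one] at h3
    rw [hc1] at hgc
    refine subset_closure ⟨hga, hgu, hgw, hgE, ?_⟩
    by_contra hodd
    have hdvd : 2 ∣ orderOf g := even_iff_two_dvd.1 (Nat.not_odd_iff_even.1 hodd)
    obtain ⟨p, hwp, hup⟩ : ∃ p : Ω, w • p = p ∧ u • p ≠ p := by simpa using hP.u_ne
    set k := orderOf g / 2 with hk
    have hfix : ∀ p : Ω, g • p = p → g ^ k • p = p := fun p hp =>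
      mem_stabilizer_iff.1 (pow_mem (mem_stabilizer_iff.2 hp) k)
    exact h.no_more_fixed hf IH hP.top_u (orderOf_pow_orderOf_div (orderOf_pos g).ne' hdvd)
      (fun e he => (hgE e he).pow_left k) (fun p hp => hfix p (by rw [hgc p hp, one_smul])) hup
      (hfix p (by rw [hgi p hwp, one_smul]))
  by_cases hne : m * m = δ * δ
  swap
  · exact key m hm hmw hne
  by_cases hmE : m ∈ E
  · rw [(hδE m hmE).eq, mul_inv_cancel_right, mul_inv_cancel]
    exact one_mem _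
  obtain ⟨f, hf', hf1, hff⟩ : ∃ f ∈ E, f ≠ 1 ∧ f ≠ m * m := by
    by_contra hno
    push Not at hno
    have hsub : (E : Set G) ⊆ {1, m * m} := fun f hf' => by
      by_cases h1 : f = 1
      · exact Or.inl h1
      · exact Or.inr (hno f hf' h1)
    have h1 := (Set.ncard_le_ncard hsub).trans (Set.ncard_insert_le _ _)
    rw [← Nat.card_coe_set_eq, Set.ncard_singleton] at h1
    have h3 : Nat.card (E : Set G) = q := hl.card_E
    have := four_le_q hl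
    omega
  obtain ⟨m₁, hm₁, hm₁w, hm₁f⟩ := H.half_root hf'
  set m₂ := m₁⁻¹ * m with hm₂
  have hm₂Q : m₂ ∈ Q := mul_mem (inv_mem hm₁) hm
  have hm₂half := H.half.mul_mem (H.half.inv_mem (H.half_of_inverted hm₁ hm₁w).1) (H.half_of_inverted hm hmw).1
  have hm₂w : w * m₂ * w⁻¹ = m₂⁻¹ := H.half_inverted hm₂Q hm₂half.2
  beta_reduce at hm₁w
  have hcomm : Commute m₁ m⁻¹ := by
    have h1 : w * m₂ * w⁻¹ = m₁ * m⁻¹ := by
      rw [hm₂, show w * (m₁⁻¹ * m) * w⁻¹ = (w * m₁ * w⁻¹)⁻¹ * (w * m * w⁻¹) by group, hm₁w, hmw, inv_inv]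
    rw [hm₂w, hm₂, mul_inv_rev, inv_inv] at h1
    exact h1.symm
  have hcm : Commute m₁⁻¹ m := Commute.inv_inv_iff.1 (by rwa [inv_inv])
  have hm₂2 : m₂ * m₂ = f * (m * m) := by
    rw [hm₂, hcm.symm.mul_mul_mul_comm, ← mul_inv_rev, hm₁f, H.inv_E hf']
  have hm₁N : m₁ ∈ transSub u a E ⊓ transSub w a E :=
    ⟨mem_transSub_of_commute (M.mem_Q_data hm₁).1 (M.mem_Q_data hm₁).2.2 (M.mem_Q_data hm₁).2.1,
      (h.inverted_trans hP.top_w.data (M.sub ((M.Q_mem m₁).1 hm₁).1) hm₁w (M.Q_sq m₁ hm₁)).1⟩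
  rw [show δ * m * δ⁻¹ * m⁻¹ = δ * m₁ * δ⁻¹ * m₁⁻¹ * (m₁ * (δ * m₂ * δ⁻¹ * m₂⁻¹) * m₁⁻¹) by rw [hm₂]; group]
  refine mul_mem (key m₁ hm₁ hm₁w ?_) (h.conj_oddGrp hP hm₁N (key m₂ hm₂Q hm₂w ?_))
  · rw [hm₁f, ← hne]; exact hff
  · rw [hm₂2, ← hne]
    exact fun e => hf1 (mul_eq_right.1 e)

/-- No involution of `fixGrp` moves fixed points of `u`. -/
theorem four_false (hf : Faithful G Ω) (IH : Below.{u, u} (Nat.card G)) {u : G} {a b : Ω} {E : Subgroup G}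
    {q : ℕ} (ht : TopFrame D u a b E q 3) {w : G} (hw : w ∈ fixGrp u a b E) (hw2 : orderOf w = 2)
    (hne : ¬ ∀ p : Ω, u • p = p → w • p = p) : False := by
  classical
  haveI := h.finite_points
  have hl := ht.data
  obtain ⟨hwa, hwu, hwE⟩ := mem_centSub.1 (mem_fixGrp.1 hw).1
  obtain ⟨htw, huw, hne'⟩ := h.frame_of_fixGrp hf IH ht hw hw2 hne
  have hP : FieldPair D u w a b E q := ⟨ht, htw, hw, huw, hne, hne'⟩
  have huu : u * u = 1 := by rw [← pow_two, ← ht.multi.1, pow_orderOf_eq_one]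
  have hww : w * w = 1 := by rw [← pow_two, ← hw2, pow_orderOf_eq_one]
  set x := u * w with hx
  have hxx : x * x = 1 := by rw [hx, hwu.mul_mul_mul_comm, huu, hww, one_mul]
  have huE : ∀ e ∈ E, Commute u e := (mem_centSub.1 (mem_fixGrp.1 huw).1).2.2
  have huu' : u ∈ fixGrp u a b E :=
    mem_fixGrp.2 ⟨mem_centSub.2 ⟨hl.fix_a, Commute.refl u, huE⟩, hl.fix_b⟩
  have hxF : x ∈ fixGrp u a b E := mul_mem huu' hw
  have hxp : ∀ {p : Ω}, u • p = p → x • p = w • p := fun {p} hp => by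
    rw [hx, mul_smul, SameAct.fixed hwu hp]
  have hxne : ¬ ∀ p : Ω, u • p = p → x • p = p := fun hall => hne fun p hp => (hxp hp).symm.trans (hall p hp)
  have hx2 : orderOf x = 2 := orderOf_eq_prime (by rw [pow_two, hxx]) fun h1 => hxne fun p _ => by rw [h1, one_smul]
  obtain ⟨htx, hux, hne''⟩ := h.frame_of_fixGrp hf IH ht hxF hx2 hxne
  have hP₂ : FieldPair D u x a b E q := ⟨ht, htx, hxF, hux, hxne, hne''⟩
  have hwF : w ∈ fixGrp w a b E := mem_fixGrp.2 ⟨mem_centSub.2 ⟨hwa, Commute.refl w, hwE⟩, htw.data.fix_b⟩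
  have hxFw : x ∈ fixGrp w a b E := mul_mem huw hwF
  have hxne' : ¬ ∀ p : Ω, w • p = p → x • p = p := fun hall => hne' fun p hp => by
    have h1 := hall p hp
    rwa [hx, mul_smul, hp] at h1
  obtain ⟨-, hwx, hne₃⟩ := h.frame_of_fixGrp hf IH htw hxFw hx2 hxne'
  have hP₃ : FieldPair D w x a b E q := ⟨htw, htx, hxFw, hwx, hxne', hne₃⟩
  -- bases containing all three involutions
  haveI := Fact.mk Nat.prime_two
  have hS : IsPGroup 2 ↥(zpowers w ⊔ zpowers u) := isPGroup_sup_involution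
    (IsPGroup.of_card (n := 1) (by rw [Nat.card_zpowers, pow_one, hw2])) ht.multi.1
    (fun g hg => by obtain ⟨k, rfl⟩ := hg; exact hwu.zpow_left k)
  have hbase : ∀ {z : G}, TopFrame D z a b E q 3 → w ∈ fixGrp z a b E → u ∈ fixGrp z a b E →
      ∃ R P0 Q : Subgroup G, ModelBase D z a b E q 3 R P0 Q ∧ u ∈ R ∧ w ∈ R ∧ x ∈ R := by
    intro z hz h1 h2
    obtain ⟨R, hR, hle, hRF, hRc, -⟩ := exists_max_two hS (sup_le (zpowers_le.2 h1) (zpowers_le.2 h2))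
    obtain ⟨P0, Q, hB⟩ := h.exists_base hf IH hz.multi hz.data R hR hRF hRc
    have hu := hle (mem_sup_right (mem_zpowers u))
    have hw := hle (mem_sup_left (mem_zpowers w))
    exact ⟨R, P0, Q, hB, hu, hw, mul_mem hu hw⟩
  obtain ⟨R₁, P₁, Q₁, M₁, -, hw₁, hx₁⟩ := hbase ht hw huu'
  obtain ⟨R₂, P₂, Q₂, M₂, hu₂, -, hx₂⟩ := hbase htw hwF huw
  obtain ⟨R₃, P₃, Q₃, M₃, hu₃, hw₃, -⟩ := hbase htx hwx hux
  obtain ⟨e, he, he1⟩ : ∃ e ∈ E, e ≠ (1 : G) := by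
    by_contra hc
    push Not at hc
    have := four_le_q hl
    rw [← hl.card_E, (Subgroup.eq_bot_iff_forall E).2 hc, Subgroup.card_bot] at this
    omega
  obtain ⟨d₁, hd₁, hd₁w, hd₁e⟩ := (h.pairHalf hf IH hP M₁ hw₁).half_root he
  obtain ⟨d₂, hd₂, hd₂u, hd₂e⟩ := (h.pairHalf hf IH hP.symm M₂ hu₂).half_root he
  obtain ⟨d₃, hd₃, hd₃u, hd₃e⟩ := (h.pairHalf hf IH hP₂.symm M₃ hu₃).half_root he
  beta_reduce at hd₁w hd₂u hd₃u
  obtain ⟨hd₁a, hd₁u, hd₁E⟩ := M₁.mem_Q_data hd₁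
  obtain ⟨hd₂a, hd₂w, hd₂E⟩ := M₂.mem_Q_data hd₂
  obtain ⟨hd₃a, hd₃x, hd₃E⟩ := M₃.mem_Q_data hd₃
  have hd₁x : x * d₁ * x⁻¹ = d₁⁻¹ := by
    rw [hx, show u * w * d₁ * (u * w)⁻¹ = u * (w * d₁ * w⁻¹) * u⁻¹ by group, hd₁w,
      (hd₁u.inv_left).symm.eq, mul_inv_cancel_right]
  have hd₂x : x * d₂ * x⁻¹ = d₂⁻¹ := by
    rw [hx, show u * w * d₂ * (u * w)⁻¹ = u * (w * d₂ * w⁻¹) * u⁻¹ by group, hd₂w.symm.eq,
      mul_inv_cancel_right, hd₂u]
  have hwux : w = u * x := by rw [hx, ← mul_assoc, huu, one_mul]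
  have hd₃w : w * d₃ * w⁻¹ = d₃⁻¹ := by
    rw [hwux, show u * x * d₃ * (u * x)⁻¹ = u * (x * d₃ * x⁻¹) * u⁻¹ by group, hd₃x.symm.eq,
      mul_inv_cancel_right, hd₃u]
  have hxw : u = x * w := by rw [hx, mul_assoc, hww, mul_one]
  have h21 := h.pair_mem hf IH hP M₁ hw₁ M₂ hu₂ hd₂ hd₂u hd₁ hd₁w
  have h31 := oddGrp_mono (a := a) (E := E) (u := u) (w := x) (u' := u) (w' := w)
    (fun g h1 h2 => ⟨h1, by rw [hwux]; exact h1.mul_right h2⟩)
    (h.pair_mem hf IH hP₂ M₁ hx₁ M₃ hu₃ hd₃ hd₃u hd₁ hd₁x)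
  have h32 := oddGrp_mono (a := a) (E := E) (u := w) (w := x) (u' := u) (w' := w)
    (fun g h1 h2 => ⟨by rw [hxw]; exact h2.mul_right h1, h1⟩)
    (h.pair_mem hf IH hP₃ M₂ hx₂ M₃ hw₃ hd₃ hd₃w hd₂ hd₂x)
  -- the translations
  obtain ⟨t₂, s₂⟩ := h.inverted_trans hl (M₂.sub ((M₂.Q_mem _).1 hd₂).1) hd₂u (M₂.Q_sq _ hd₂)
  obtain ⟨t₁, s₁⟩ := h.inverted_trans htw.data (M₁.sub ((M₁.Q_mem _).1 hd₁).1) hd₁w (M₁.Q_sq _ hd₁)
  obtain ⟨t₃, s₃⟩ := h.inverted_trans hl (M₃.sub ((M₃.Q_mem _).1 hd₃).1) hd₃u (M₃.Q_sq _ hd₃)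
  obtain ⟨t₃', s₃'⟩ := h.inverted_trans htw.data (M₃.sub ((M₃.Q_mem _).1 hd₃).1) hd₃w (M₃.Q_sq _ hd₃)
  rw [hd₁e] at s₁
  rw [hd₂e] at s₂
  rw [hd₃e] at s₃ s₃'
  set N := transSub u a E ⊓ transSub w a E with hN
  have hN₁ : d₁ ∈ N := ⟨mem_transSub_of_commute hd₁a hd₁E hd₁u, t₁⟩
  have hN₂ : d₂ ∈ N := ⟨t₂, mem_transSub_of_commute hd₂a hd₂E hd₂w⟩
  have hN₃ : d₃ ∈ N := ⟨t₃, t₃'⟩
  set O := (oddGrp u w a E).subgroupOf N with hO
  haveI : O.Normal := ⟨fun g hg n => by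
    rw [hO, Subgroup.mem_subgroupOf] at hg ⊢
    exact h.conj_oddGrp hP n.2 hg⟩
  set D₁ : N ⧸ O := QuotientGroup.mk (⟨d₁, hN₁⟩ : N) with hD₁
  set D₂ : N ⧸ O := QuotientGroup.mk (⟨d₂, hN₂⟩ : N) with hD₂
  set D₃ : N ⧸ O := QuotientGroup.mk (⟨d₃, hN₃⟩ : N) with hD₃
  have hcomm : ∀ {g k : G} (hg : g ∈ N) (hk : k ∈ N), g * k * g⁻¹ * k⁻¹ ∈ oddGrp u w a E →
      Commute (QuotientGroup.mk (⟨g, hg⟩ : N) : N ⧸ O) (QuotientGroup.mk (⟨k, hk⟩ : N)) := by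
    intro g k hg hk hgk
    refine mul_inv_eq_iff_eq_mul.1 (mul_inv_eq_one.1 ?_)
    rw [← QuotientGroup.mk_inv, ← QuotientGroup.mk_mul, ← QuotientGroup.mk_inv, ← QuotientGroup.mk_mul,
      ← QuotientGroup.mk_mul, QuotientGroup.eq_one_iff, hO, Subgroup.mem_subgroupOf]
    exact hgk
  have c21 : Commute D₂ D₁ := hcomm hN₂ hN₁ h21
  have c31 : Commute D₃ D₁ := hcomm hN₃ hN₁ h31
  have c32 : Commute D₃ D₂ := hcomm hN₃ hN₂ h32
  set z := d₁⁻¹ * d₂⁻¹ * d₃ with hz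
  have hzN : z ∈ N := mul_mem (mul_mem (inv_mem hN₁) (inv_mem hN₂)) hN₃
  have hE' : ∀ {f}, f ∈ E → f ∈ N := fun {f} hf' => by
    have hfa : f • a = a := (M₁.mem_Q_data (M₁.E_Q hf')).1
    exact ⟨mem_transSub_of_commute hfa (fun g hg => hl.comm f hf' g hg) (huE f hf').symm,
      mem_transSub_of_commute hfa (fun g hg => hl.comm f hf' g hg) (hwE f hf').symm⟩
  set Ē : N ⧸ O := QuotientGroup.mk (⟨e, hE' he⟩ : N) with hĒ
  have hsq : ∀ {d : G} (hd : d ∈ N), d * d = e →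
      (QuotientGroup.mk (⟨d, hd⟩ : N) : N ⧸ O) * QuotientGroup.mk (⟨d, hd⟩ : N) = Ē := fun hd hde => by
    rw [← QuotientGroup.mk_mul, hĒ]; exact congrArg _ (Subtype.ext hde)
  have hzz : z * z * e ∈ oddGrp u w a E := by
    have h1 : (QuotientGroup.mk (⟨z * z * e, mul_mem (mul_mem hzN hzN) (hE' he)⟩ : N) : N ⧸ O) = 1 := by
      show D₁⁻¹ * D₂⁻¹ * D₃ * (D₁⁻¹ * D₂⁻¹ * D₃) * Ē = 1
      rw [(c31.inv_right.mul_right c32.inv_right).mul_mul_mul_comm, c21.inv_inv.mul_mul_mul_comm,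
        ← mul_inv_rev D₁ D₁, ← mul_inv_rev D₂ D₂, hsq hN₁ hd₁e, hsq hN₂ hd₂e, hsq hN₃ hd₃e,
        inv_mul_cancel_right, inv_mul_cancel]
    rw [QuotientGroup.eq_one_iff, hO, Subgroup.mem_subgroupOf] at h1
    exact h1
  -- `z` fixes `u`, `w`
  have hEe : e * e = 1 := h.E_sq hl he
  have hshift : ∀ {v n₁ n₂ n₃ f₁ f₂ f₃ : G}, f₁ ∈ E → f₂ ∈ E → f₃ ∈ E → (∀ f ∈ E, Commute n₁ f) →
      (∀ f ∈ E, Commute n₂ f) → n₁ * v * n₁⁻¹ = v * f₁ → n₂ * v * n₂⁻¹ = v * f₂ → n₃ * v * n₃⁻¹ = v * f₃ →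
      f₁ * f₂ * f₃ = 1 → Commute (n₁⁻¹ * n₂⁻¹ * n₃) v := by
    intro v n₁ n₂ n₃ f₁ f₂ f₃ hf₁ hf₂ hf₃ hn₁ hn₂ e₁ e₂ e₃ hprod
    have hinv : ∀ {n f : G}, f ∈ E → Commute n f → n * v * n⁻¹ = v * f → n⁻¹ * v * n⁻¹⁻¹ = v * f := by
      intro n f hf' hc he'
      have h3 : f⁻¹ = f := inv_eq_of_mul_eq_one_right (h.E_sq hl hf')
      have h5 : n⁻¹ * (v * f) * n = v := by rw [← he']; group
      calc n⁻¹ * v * n⁻¹⁻¹ = n⁻¹ * (v * f) * (f⁻¹ * n) := by group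
        _ = n⁻¹ * (v * f) * n * f⁻¹ := by rw [← hc.inv_right.eq]; group
        _ = v * f := by rw [h5, h3]
    have h1 := shift_mul (E := E) (fun f hf' => ((hn₁ f hf').inv_left.mul_left (hn₂ f hf').inv_left)) hf₃
      (shift_mul (E := E) (fun f hf' => (hn₁ f hf').inv_left) hf₂ (hinv hf₁ (hn₁ f₁ hf₁) e₁)
        (hinv hf₂ (hn₂ f₂ hf₂) e₂)) e₃
    rw [hprod, mul_one] at h1
    exact mul_inv_eq_iff_eq_mul.1 h1
  have hzu : Commute z u := hshift (one_mem _) he he hd₁E hd₂E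
    (by rw [mul_one, hd₁u.eq, mul_inv_cancel_right]) s₂ s₃ (by rw [one_mul, hEe])
  have hzw : Commute z w := hshift he (one_mem _) he hd₁E hd₂E s₁
    (by rw [mul_one, hd₂w.eq, mul_inv_cancel_right]) s₃' (by rw [mul_one, hEe])
  have hzF : z ∈ centSub u a E := mem_centSub.2 ⟨hzN.1.1, hzu, hzN.1.2.1⟩
  obtain ⟨y, hy, hyb, -⟩ := M₁.exists_part hl hzF
  have H := h.pairHalf hf IH hP M₁ hw₁
  have hyE : y ∈ E := by
    refine (H.fixed y hy).1 (M₁.eq_of_smul (H.mem y hy) hy ?_)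
    show (w * y * w⁻¹) • b = y • b
    rw [mul_smul, inv_smul_eq_iff.2 htw.data.fix_b.symm, mul_smul, ← hyb, ← mul_smul, ← hzw.eq, mul_smul,
      htw.data.fix_b]
  have hOb : oddGrp u w a E ≤ stabilizer G b := by
    refine (closure_le _).2 ?_
    rintro g ⟨hga, hgu, hgw, hgE, ⟨k, hk⟩⟩
    obtain ⟨v, hv, hvb, -⟩ := M₁.exists_part hl (mem_centSub.2 ⟨hga, hgu, hgE⟩)
    have hvE : v ∈ E := by
      refine (H.fixed v hv).1 (M₁.eq_of_smul (H.mem v hv) hv ?_)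
      show (w * v * w⁻¹) • b = v • b
      rw [mul_smul, inv_smul_eq_iff.2 htw.data.fix_b.symm, mul_smul, ← hvb, ← mul_smul, ← hgw.eq, mul_smul,
        htw.data.fix_b]
    have h2 : (g * g) • b = b := by
      rw [mul_smul, hvb, ← mul_smul, (hgE v hvE).eq, mul_smul, hvb, ← mul_smul, h.E_sq hl hvE, one_smul]
    show g • b = b
    have h4 : ((g * g) ^ k) • b = b := mem_stabilizer_iff.1 (pow_mem (mem_stabilizer_iff.2 h2) k)
    have h5 : (g * g) ^ k * g = 1 := by rw [← pow_two, ← pow_mul, ← pow_succ, ← hk, pow_orderOf_eq_one]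
    have h6 := eq_inv_of_mul_eq_one_right h5
    rw [h6]
    exact inv_smul_eq_iff.2 h4.symm
  have hzb : (z * z) • b = b := by
    rw [mul_smul, hyb, ← mul_smul, (hzN.1.2.1 y hyE).eq, mul_smul, hyb, ← mul_smul, h.E_sq hl hyE, one_smul]
  have hee : e • b = b := by
    have h1 := mem_stabilizer_iff.1 (hOb hzz)
    rwa [((hzN.1.2.1 e he).mul_left (hzN.1.2.1 e he)).eq, mul_smul, hzb] at h1
  exact he1 (M₁.Q_free e (M₁.E_Q he) hee)

/-- No element of order at least four of `fixGrp` moves fixed points of `u` that its square fixes. -/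
theorem order_four_false (hf : Faithful G Ω) (IH : Below.{u, u} (Nat.card G)) {u : G} {a b : Ω}
    {E : Subgroup G} {q : ℕ} (ht : TopFrame D u a b E q 3) {x e : G} (hx : x ∈ transSub u a E)
    (he : e ∈ E) (he1 : e ≠ 1) (hxu : x * u * x⁻¹ = u * e) {w : G} (hw : w ∈ fixGrp u a b E)
    (hw2 : ∃ n : ℕ, w ^ 2 ^ n = 1) (hne : ¬ ∀ p : Ω, u • p = p → w • p = p)
    (hsq : ∀ p : Ω, u • p = p → (w * w) • p = p) (hww : w * w ≠ 1) : False := by
  classical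
  haveI := Fact.mk Nat.prime_two
  haveI := h.finite_points
  have hl := ht.data
  obtain ⟨R, P0, Q, M, hwR⟩ := h.exists_base_mem hf IH ht hw hw2
  have hcard := ((h.kernelFix hf IH u a b E q 3 ht w hw hw2).resolve_left hne).2
  have H := h.halfConj hl M hwR hcard fun p hp => by rw [hsq p hp, one_smul]
  choose! L hLQ hLa hLsq using fun y (hy : y ∈ Q) => (h.exists_transfer hf IH ht M hx hy).2
  have hLu : ∀ {y}, y ∈ Q → Commute (L y) u := fun hy => (M.mem_Q_data (hLQ _ hy)).2.1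
  have hLE : ∀ {y}, y ∈ E → L y = y := fun {y} hy => by
    refine M.eq_of_act hl (hLQ y (M.E_Q hy)) (M.E_Q hy) ((hLa y (M.E_Q hy)).symm.trans ?_)
    rw [(hx.2.1 y hy).eq, mul_inv_cancel_right]
    exact SameAct.refl u y
  have hLmul : ∀ {y y'}, y ∈ Q → y' ∈ Q → L (y * y') = L y * L y' := fun {y y'} hy hy' => by
    refine M.eq_of_act hl (hLQ _ (mul_mem hy hy')) (mul_mem (hLQ y hy) (hLQ y' hy')) ?_
    have h1 := (hLa y hy).mul (hLa y' hy') (hLu hy')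
    rw [show x * y * x⁻¹ * (x * y' * x⁻¹) = x * (y * y') * x⁻¹ by group] at h1
    exact (hLa _ (mul_mem hy hy')).symm.trans h1
  have hLinj : ∀ {y y'}, y ∈ Q → y' ∈ Q → L y = L y' → y = y' := fun {y y'} hy hy' he' => by
    set d := y⁻¹ * y' with hd
    have hdQ : d ∈ Q := mul_mem (inv_mem hy) hy'
    have h1 : L d = 1 := by
      have h3 := hLmul hy hdQ
      rw [hd, mul_inv_cancel_left, he'] at h3
      exact left_eq_mul.1 h3
    have h3 := hLsq d hdQ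
    rw [h1, one_mul] at h3
    rw [hLE (M.Q_sq_one d hdQ h3.symm)] at h1
    exact inv_mul_eq_one.1 h1
  have hLsur : ∀ {v}, v ∈ Q → ∃ y ∈ Q, L y = v := fun {v} hv => by
    obtain ⟨⟨y, hy⟩, hye⟩ := Finite.surjective_of_injective (f := fun y : Q => (⟨L y, hLQ y y.2⟩ : Q))
      (fun y y' e' => Subtype.ext (hLinj y.2 y'.2 (congrArg Subtype.val e'))) ⟨v, hv⟩
    exact ⟨y, hy, congrArg Subtype.val hye⟩
  have hpt : ∀ {p : Ω}, u • p = p → p = a ∨ ∃ v ∈ Q, v • b = p := fun {p} hp =>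
    (eq_or_ne p a).imp id fun h1 => M.Q_trans p hp h1
  -- the conjugate of the square
  set r := w * w with hr
  set r' := x * r * x⁻¹ with hr'
  have hr'F : r' ∈ centSub u a E := h.conj_centSub hl hx (M.sub (M.R_le (mul_mem hwR hwR)))
  obtain ⟨hr'a, hr'u, hr'E⟩ := mem_centSub.1 hr'F
  have hcom : ∀ {v}, v ∈ Q → ∀ p : Ω, u • p = p → r' • (v • p) = v • (r' • p) := by
    intro v hv p hp
    obtain ⟨y, hy, rfl⟩ := hLsur hv
    rw [← hLa y hy p hp, ← hLa y hy _ (SameAct.fixed hr'u hp), ← mul_smul, ← mul_smul]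
    congr 1
    rw [hr', show x * r * x⁻¹ * (x * y * x⁻¹) = x * (r * y) * x⁻¹ by group,
      ← (M.Q_comm r (mul_mem hwR hwR) hsq y hy).eq]
    group
  obtain ⟨v, hv, hvb, hk⟩ := M.exists_part hl hr'F
  obtain ⟨hva, hvu, -⟩ := M.mem_Q_data hv
  set k := v⁻¹ * r' with hkd
  have hkp : ∀ {y}, y ∈ Q → k • (y • b) = (v⁻¹ * y * v) • b := fun {y} hy => by
    rw [hkd, mul_smul, hcom hy b hl.fix_b, hvb, ← mul_smul, ← mul_smul, mul_assoc]
  have hka : k • a = a := (mem_centSub.1 (mem_fixGrp.1 hk).1).1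
  have hvE : v ∈ E := by
    have hkk : SameAct Ω u (k * k) 1 := fun p hp => by
      rw [one_smul, mul_smul]
      rcases hpt hp with rfl | ⟨y, hy, rfl⟩
      · rw [hka, hka]
      · rw [hkp hy, hkp (mul_mem (mul_mem (inv_mem hv) hy) hv)]
        congr 1
        rw [show v⁻¹ * (v⁻¹ * y * v) * v = (v * v)⁻¹ * y * (v * v) by group, mul_assoc,
          (H.central y hy _ (M.Q_sq v hv)).eq, inv_mul_cancel_left]
    rcases h.act_cases hf IH ht hk hkk with hk1 | hc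
    · by_contra hvE
      obtain ⟨y, hy, hye⟩ := M.Q_form_three rfl v hv hvE e he
      have h1 := hk1 _ (SameAct.fixed (M.mem_Q_data hy).2.1 hl.fix_b)
      rw [one_smul, hkp hy] at h1
      have h3 := M.eq_of_smul (mul_mem (mul_mem (inv_mem hv) hy) hv) hy h1
      exact he1 (by
        rw [← hye, show v * y * v⁻¹ = v * (v⁻¹ * y * v) * v⁻¹ by rw [h3],
          show v * (v⁻¹ * y * v) * v⁻¹ = y by group, mul_inv_cancel])
    · obtain ⟨v₂, hv₂, hv₂a⟩ := h.exists_conj_act hf IH ht.multi hl M (mem_fixGrp.1 hk).1 hv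
      refine M.fixed_E hl hk hc hv ?_
      have h1 : v₂ = v := M.eq_of_smul hv₂ hv (by
        rw [← hv₂a b hl.fix_b, mul_smul, mul_smul, inv_smul_eq_iff.2 (mem_fixGrp.1 hk).2.symm, hkp hv,
          inv_mul_cancel, one_mul])
      rwa [h1] at hv₂a
  have hr'v : SameAct Ω u r' v := fun p hp => by
    rcases hpt hp with rfl | ⟨y, hy, rfl⟩
    · rw [hr'a, hva]
    · rw [hcom hy b hl.fix_b, hvb, ← mul_smul, ← mul_smul, (H.central y hy v hvE).eq]
  have hv1 : v ≠ 1 := by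
    intro h1
    rw [h1] at hr'v
    obtain ⟨n, hn⟩ := hw2
    have hr'n : r' ^ 2 ^ n = 1 := by
      rw [hr', conj_pow, hr, (Commute.refl w).mul_pow, hn, one_mul, mul_one, mul_inv_cancel]
    obtain ⟨m, -, hm⟩ := (Nat.dvd_prime_pow Nat.prime_two).1 (orderOf_dvd_of_pow_eq_one hr'n)
    have hm0 : m ≠ 0 := fun hm0 => by
      rw [hm0, pow_zero, orderOf_eq_one_iff, hr'] at hm
      exact hww (conj_eq_one_iff.1 hm)
    have hxb : u • (x • b) ≠ x • b := fun e1 => by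
      have h3 : (u * e) • (x • b) = x • b := by
        rw [← hxu, mul_smul, mul_smul, inv_smul_smul, hl.fix_b]
      have h4 : e • (x • b) = x • b := by
        rw [mul_smul] at h3
        exact smul_left_cancel u (h3.trans e1.symm)
      have h5 := h.fix_unique e (hl.mem e he he1).1 _ a h4 (hl.mem e he he1).2.1
      exact hl.ne (smul_left_cancel x (h5.trans hx.1.symm)).symm
    set l := orderOf r' / 2 with hl'
    have hfix : ∀ p : Ω, r' • p = p → r' ^ l • p = p := fun p hp =>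
      mem_stabilizer_iff.1 (pow_mem (mem_stabilizer_iff.2 hp) l)
    refine h.no_more_fixed hf IH ht (orderOf_pow_orderOf_div (orderOf_pos r').ne' (by rw [hm]; exact dvd_pow_self 2 hm0))
      (fun f hf' => (hr'E f hf').pow_left l) (fun p hp => hfix p (by rw [hr'v p hp, one_smul])) hxb
      (hfix _ (by rw [hr', mul_smul, mul_smul, inv_smul_smul, hsq b hl.fix_b]))
  -- `x w x⁻¹` acts as an element of order four of `Q`
  set g := x * w * x⁻¹ with hg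
  obtain ⟨v₀, hv₀, hgv₀, hv₀sq⟩ := h.act_of_sq hf IH ht M (h.conj_centSub hl hx (M.sub (M.R_le hwR))) hvE hv1
    (by rw [show x * w * x⁻¹ * (x * w * x⁻¹) = x * (w * w) * x⁻¹ by group, ← hr, ← hr']; exact hr'v)
  have hgu : Commute g u := (mem_centSub.1 (h.conj_centSub hl hx (M.sub (M.R_le hwR)))).2.1
  obtain ⟨y₀, hy₀, hy₀e⟩ := hLsur hv₀
  have hLφ : ∀ {y}, y ∈ Q → L (w * y * w⁻¹) = v₀ * L y * v₀⁻¹ := fun {y} hy => by
    have hv₀u := (M.mem_Q_data hv₀).2.1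
    refine M.eq_of_act hl (hLQ _ (H.mem y hy)) (mul_mem (mul_mem hv₀ (hLQ y hy)) (inv_mem hv₀)) ?_
    refine (hLa _ (H.mem y hy)).symm.trans ?_
    have h1 := (hgv₀.mul (hLa y hy) (hLu hy)).mul (hgv₀.inv hv₀u) hv₀u.inv_left
    rwa [show g * (x * y * x⁻¹) * g⁻¹ = x * (w * y * w⁻¹) * x⁻¹ by rw [hg]; group] at h1
  have hy₀E : y₀ ∈ E := (H.fixed y₀ hy₀).1 (hLinj (H.mem y₀ hy₀) hy₀ (by
    show L (w * y₀ * w⁻¹) = L y₀
    rw [hLφ hy₀, hy₀e, mul_inv_cancel_right]))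
  rw [hLE hy₀E] at hy₀e
  rw [← hy₀e, H.E_sq y₀ hy₀E] at hv₀sq
  exact hv1 hv₀sq.symm

/-- In unitary type every 2-element of `fixGrp` fixes the fixed points of `u`. -/
theorem fixGrp_trivial (hf : Faithful G Ω) (IH : Below.{u, u} (Nat.card G)) {u : G} {a b : Ω}
    {E : Subgroup G} {q : ℕ} (ht : TopFrame D u a b E q 3) (htr : HasTrans u a E) {g : G}
    (hg : g ∈ fixGrp u a b E) (hg2 : ∃ n : ℕ, g ^ 2 ^ n = 1) : ∀ p : Ω, u • p = p → g • p = p := by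
  obtain ⟨n, hn⟩ := hg2
  induction n generalizing g with
  | zero => intro p _; rw [pow_zero, pow_one] at hn; rw [hn, one_smul]
  | succ n ih =>
    have hsq : ∀ p : Ω, u • p = p → (g * g) • p = p :=
      ih (mul_mem hg hg) (by rw [← pow_two, ← pow_mul, ← pow_succ', hn])
    by_contra hne
    by_cases h1 : g * g = 1
    · refine h.four_false hf IH ht hg (orderOf_eq_prime (by rw [pow_two, h1]) fun e => hne fun p _ => ?_) hne
      rw [e, one_smul]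
    · obtain ⟨e, he, he1⟩ : ∃ e ∈ E, e ≠ (1 : G) := by
        by_contra hc
        push Not at hc
        have := four_le_q ht.data
        rw [← ht.data.card_E, (Subgroup.eq_bot_iff_forall E).2 hc, Subgroup.card_bot] at this
        omega
      obtain ⟨x, hxa, hxE, hxe⟩ := htr e he
      exact h.order_four_false hf IH ht ⟨hxa, hxE, by rw [hxe, inv_mul_cancel_left]; exact he⟩ he he1 hxe hg
        ⟨n + 1, hn⟩ hne hsq h1

end Crit

end CfsgLib.AschCrit
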