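import Cfsg.Agent.Lib.Invol.AschCrit.ExceptionRho
import Cfsg.Agent.Lib.Invol.AschCrit.ExceptionSquare
import Cfsg.Agent.Lib.Invol.AschCrit.ExceptionCentral
import Cfsg.Agent.Lib.Invol.AschCrit.ModelField

/-!
Owner: helper7. Aschbacher's criterion, slice F: no frame of type three lacks translations.

* `Crit.kernel_act_exception`: `R` fixes the fixed points of the multi: an involution induced by it would commute
  with lifts of all automorphisms of `E`.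
* `Crit.no_exception_three`: then a Sylow group lifts, and there is no such squaring.
-/

set_option autoImplicit false
set_option maxHeartbeats 800000
set_option linter.unusedSectionVars false

namespace CfsgLib.AschCrit

open Subgroup MulAction Exception

universe u

variable {G : Type u} [Group G] [Finite G] {Ω : Type u} [MulAction G Ω]

namespace Crit

variable {D : Set G} (h : Crit Ω D)
include h

/-- In type three without translations `R` fixes the fixed points. -/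
theorem kernel_act_exception (hf : Faithful G Ω) (IH : Below.{u, u} (Nat.card G)) {u t : G} {a b : Ω}
    {E : Subgroup G} {R P0 Q : Subgroup G} (T : Tower D u a b E 3 t R P0 Q) {V : Type u} [CommGroup V]
    {p : Q →* V} {N : V → E} {B : V → V → E} {ρ : cosetGrp u a E →* MulAut V}
    (hq : Quad Ω u a E Q p N B ρ) : ∀ r ∈ R, SameAct Ω u r 1 := by
  classical
  haveI := Fact.mk Nat.prime_two
  haveI := h.finite_points
  have hl := T.frame.data
  have M := T.base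
  have hx := T.exc
  letI : CommGroup E := { (inferInstance : Group E) with
    mul_comm := fun x y => Subtype.ext (hx.comm x x.2 y y.2) }
  have hE : ∀ x : E, x * x = 1 := fun x => Subtype.ext (hx.sq x x.2)
  have hQu : ∀ y ∈ Q, Commute y u := fun y hy => (M.mem_Q_data hy).2.1
  have hRA : ∀ {r}, r ∈ R → r ∈ (cosetGrp u a E) := fun hr => exK_le_cosetGrp (M.sub (M.R_le hr))
  have hRQ : ∀ {r y}, r ∈ R → y ∈ Q → r * y * r⁻¹ ∈ Q := fun {r y} hr hy => (M.Q_mem _).2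
    ⟨mul_mem (mul_mem (M.R_le hr) ((M.Q_mem y).1 hy).1) (inv_mem (M.R_le hr)),
      conj_mem_cGrp h (mem_centSub.1 (M.sub (M.R_le hr))).2.1 ((M.Q_mem y).1 hy).2⟩
  have hact : ∀ {r} (hr : r ∈ R) (y : Q), ρ ⟨r, hRA hr⟩ (p y) = p ⟨r * y * r⁻¹, hRQ hr y.2⟩ := fun hr y =>
    hq.act _ _ _ (SameAct.refl u _)
  have hpE : ∀ {y w : Q}, p w = p y ↔ (w : G) * (y : G)⁻¹ ∈ E := fun {y w} => by
    rw [← mul_inv_eq_one (a := p w), ← map_inv, ← map_mul]
    exact hq.ker _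
  have hpinv : ∀ y : Q, p y⁻¹ = p y := fun y => by
    rw [map_inv]
    exact inv_eq_of_mul_eq_one_right (hq.sq _)
  have hcard : Nat.card Q = 512 := by rw [M.Q_card]; norm_num
  have hhalf : ∀ {σ} (_ : σ ∈ R), SameAct Ω u (σ * σ) 1 → ¬ SameAct Ω u σ 1 →
      HalfData Q E (fun y => σ * y * σ⁻¹) := fun hσ h2 h1 =>
    h.halfConj hl M hσ ((T.cases _ (M.R_sub hσ) h2).resolve_left h1) h2
  -- an element of `R` trivial on `V` is trivial on the fixed points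
  have hfaith : ∀ n : ℕ, ∀ r (hr : r ∈ R), r ^ 2 ^ n = 1 → ρ ⟨r, hRA hr⟩ = 1 → SameAct Ω u r 1 := by
    intro n
    induction n with
    | zero =>
      intro r hr hn _
      rw [pow_zero, pow_one] at hn
      rw [hn]
      exact SameAct.refl u 1
    | succ n ih =>
      intro r hr hn hρ
      have h2 : SameAct Ω u (r * r) 1 := ih (r * r) (mul_mem hr hr)
        (by rw [← pow_two, ← pow_mul, ← pow_succ', hn])
        (by rw [show (⟨r * r, hRA (mul_mem hr hr)⟩ : (cosetGrp u a E)) = ⟨r, hRA hr⟩ * ⟨r, hRA hr⟩ from Subtype.ext rfl,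
          map_mul, hρ, one_mul])
      by_contra h1
      have H := hhalf hr h2 h1
      have hle : Q ≤ H.half := fun y hy => by
        refine ⟨hy, (hpE (y := ⟨y, hy⟩) (w := ⟨r * y * r⁻¹, hRQ hr hy⟩)).1 ?_⟩
        rw [← hact hr ⟨y, hy⟩, hρ]
        rfl
      have h3 := Subgroup.card_le_of_le hle
      rw [H.card_half.1, hcard, hx.card] at h3
      norm_num at h3
  have hR2 : ∀ {r}, r ∈ R → ∃ n : ℕ, r ^ 2 ^ n = 1 := fun {r} hr => exists_two_pow M.two (M.R_le hr)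
  have hfaith' : ∀ {r} (hr : r ∈ R), ρ ⟨r, hRA hr⟩ = 1 → SameAct Ω u r 1 := fun hr =>
    (hR2 hr).elim fun n hn => hfaith n _ hr hn
  intro r₀ hr₀
  by_contra hr₀1
  -- a central involution of the image
  set Rb : Subgroup (MulAut V) := (R.subgroupOf (cosetGrp u a E)).map ρ with hRb
  have hRb2 : IsPGroup 2 Rb :=
    ((M.two.to_le M.R_le).of_equiv (subgroupOfEquivOfLe (fun r hr => hRA hr)).symm).map ρ
  haveI : Finite Rb := Finite.of_surjective (fun r : R.subgroupOf (cosetGrp u a E) => (⟨ρ r, mem_map_of_mem ρ r.2⟩ : Rb))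
    (fun z => by
      obtain ⟨r, hr, hrz⟩ := z.2
      exact ⟨⟨r, hr⟩, Subtype.ext hrz⟩)
  haveI : Nontrivial Rb := ⟨⟨⟨_, mem_map_of_mem ρ (show (⟨r₀, hRA hr₀⟩ : (cosetGrp u a E)) ∈ R.subgroupOf (cosetGrp u a E) from hr₀)⟩, 1,
    fun e => hr₀1 (hfaith' hr₀ (congrArg Subtype.val e))⟩⟩
  haveI : Nontrivial (Subgroup.center Rb) := hRb2.center_nontrivial
  obtain ⟨m, hm⟩ := (hRb2.to_subgroup (Subgroup.center Rb)).exists_card_eq
  obtain ⟨z, hz⟩ := exists_prime_orderOf_dvd_card' (G := Subgroup.center Rb) 2 (by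
    rw [hm]
    refine dvd_pow_self 2 fun e => ?_
    rw [e, pow_zero] at hm
    exact absurd hm (ne_of_gt Finite.one_lt_card))
  obtain ⟨⟨σ, hσA⟩, hσR, hσz⟩ := (z : Rb).2
  replace hσR : σ ∈ R := hσR
  set S : MulAut V := ρ ⟨σ, hRA hσR⟩ with hSdef
  have hSz : ((z : Rb) : MulAut V) = S := hσz.symm
  have hS2 : S * S = 1 := by
    have h1 : z * z = 1 := by rw [← pow_two, ← hz, pow_orderOf_eq_one]
    rw [← hSz]
    exact congrArg (fun w : Subgroup.center Rb => ((w : Rb) : MulAut V)) h1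
  have hS1 : S ≠ 1 := fun e => by
    have h1 : z = 1 := Subtype.ext (Subtype.ext (hSz.trans e))
    rw [h1, orderOf_one] at hz
    omega
  have hSc : ∀ {r} (hr : r ∈ R), Commute (ρ ⟨r, hRA hr⟩) S := fun {r} hr => by
    have h1 := Subgroup.mem_center_iff.1 z.2 ⟨_, mem_map_of_mem ρ (show (⟨r, hRA hr⟩ : (cosetGrp u a E)) ∈ R.subgroupOf (cosetGrp u a E) from hr)⟩
    rw [← hSz]
    exact congrArg Subtype.val h1
  have hσsq : SameAct Ω u (σ * σ) 1 := hfaith' (mul_mem hσR hσR) (by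
    rw [show (⟨σ * σ, hRA (mul_mem hσR hσR)⟩ : (cosetGrp u a E)) = ⟨σ, hRA hσR⟩ * ⟨σ, hRA hσR⟩ from Subtype.ext rfl,
      map_mul, ← hSdef, hS2])
  have hσne : ¬ SameAct Ω u σ 1 := fun e => hS1 (hq.rho_one hQu (g := ⟨σ, hRA hσR⟩) e)
  have H := hhalf hσR hσsq hσne
  have hfixH : ∀ {y} (hy : y ∈ Q), S (p ⟨y, hy⟩) = p ⟨y, hy⟩ ↔ σ * y * σ⁻¹ * y⁻¹ ∈ E := fun {y} hy => by
    rw [hSdef, hact hσR ⟨y, hy⟩]
    exact hpE
  obtain ⟨e₁, he₁, he₁1⟩ : ∃ e ∈ E, e ≠ (1 : G) := by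
    by_contra hc
    push Not at hc
    have := hx.card
    rw [(Subgroup.eq_bot_iff_forall E).2 hc, Subgroup.card_bot] at this
    omega
  obtain ⟨v, hv, hvφ, hve⟩ := H.half_root he₁
  have hvE : v ∉ E := fun hv' => he₁1 (by rw [← hve, h.E_sq hl hv'])
  -- the only involution in the image
  have huniq : ∀ r (hr : r ∈ R), ρ ⟨r, hRA hr⟩ * ρ ⟨r, hRA hr⟩ = 1 → ρ ⟨r, hRA hr⟩ ≠ 1 → ρ ⟨r, hRA hr⟩ = S := by
    intro r hr hr2 hr1
    have hrsq : SameAct Ω u (r * r) 1 := hfaith' (mul_mem hr hr) (by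
      rw [show (⟨r * r, hRA (mul_mem hr hr)⟩ : (cosetGrp u a E)) = ⟨r, hRA hr⟩ * ⟨r, hRA hr⟩ from Subtype.ext rfl, map_mul, hr2])
    have hrne : ¬ SameAct Ω u r 1 := fun e => hr1 (hq.rho_one hQu (g := ⟨r, hRA hr⟩) e)
    have H' := hhalf hr hrsq hrne
    set v' := r * v * r⁻¹ with hv'
    have hv'Q : v' ∈ Q := hRQ hr hv
    have hv'half : σ * v' * σ⁻¹ * v'⁻¹ ∈ E := by
      refine (hfixH hv'Q).1 ?_
      rw [show p ⟨v', hv'Q⟩ = ρ ⟨r, hRA hr⟩ (p ⟨v, hv⟩) from (hact hr ⟨v, hv⟩).symm, ← MulAut.mul_apply,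
        ← (hSc hr).eq, MulAut.mul_apply,
        (hfixH hv).2 (show σ * v * σ⁻¹ * v⁻¹ ∈ E from (H.half_of_inverted hv hvφ).1.2)]
    have hv'φ : σ * v' * σ⁻¹ = v'⁻¹ := H.half_inverted hv'Q hv'half
    have hv'e : v' * v' = e₁ := by
      rw [hv', show r * v * r⁻¹ * (r * v * r⁻¹) = r * (v * v) * r⁻¹ by group, hve,
        ((mem_centSub.1 (M.sub (M.R_le hr))).2.2 e₁ he₁).eq, mul_inv_cancel_right]
    have hwh : v' * v⁻¹ ∈ H.half :=
      H.half.mul_mem ⟨hv'Q, hv'half⟩ (H.half.inv_mem (H.half_of_inverted hv hvφ).1)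
    have hwφ : σ * (v' * v⁻¹) * σ⁻¹ = (v' * v⁻¹)⁻¹ := H.half_inverted hwh.1 hwh.2
    have hvv' : Commute v'⁻¹ v := by
      show v'⁻¹ * v = v * v'⁻¹
      calc v'⁻¹ * v = (σ * v' * σ⁻¹) * (σ * v * σ⁻¹)⁻¹ := by rw [hv'φ, hvφ, inv_inv]
        _ = σ * (v' * v⁻¹) * σ⁻¹ := by group
        _ = (v' * v⁻¹)⁻¹ := hwφ
        _ = v * v'⁻¹ := by group
    have hwE : v' * v⁻¹ ∈ E := M.Q_sq_one _ hwh.1 (by
      rw [(show Commute v⁻¹ v' from (Commute.inv_left_iff.1 hvv').symm.inv_left).mul_mul_mul_comm, hv'e,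
        ← mul_inv_rev, hve, mul_inv_cancel])
    have hrv : r * v * r⁻¹ = v⁻¹ := H'.half_inverted hv hwE
    set k := r * σ with hk
    have hkR : k ∈ R := mul_mem hr hσR
    have hkρ : ρ ⟨k, hRA hkR⟩ = ρ ⟨r, hRA hr⟩ * S := by
      rw [hSdef, ← map_mul]; rfl
    have hksq : SameAct Ω u (k * k) 1 := hfaith' (mul_mem hkR hkR) (by
      rw [show (⟨k * k, hRA (mul_mem hkR hkR)⟩ : (cosetGrp u a E)) = ⟨k, hRA hkR⟩ * ⟨k, hRA hkR⟩ from Subtype.ext rfl,
        map_mul, hkρ, (hSc hr).symm.mul_mul_mul_comm, hr2, hS2, mul_one])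
    have hkv : k * v * k⁻¹ = v := by
      have hrv' : r * v⁻¹ * r⁻¹ = v := by rw [← conj_inv, hrv, inv_inv]
      rw [hk, show r * σ * v * (r * σ)⁻¹ = r * (σ * v * σ⁻¹) * r⁻¹ by group, hvφ, hrv']
    rcases T.cases k (M.R_sub hkR) hksq with hk1 | hkc
    · have h1 := hkρ.symm.trans (hq.rho_one hQu (g := ⟨k, hRA hkR⟩) hk1)
      exact (eq_inv_of_mul_eq_one_left h1).trans (inv_eq_of_mul_eq_one_right hS2)
    · refine absurd (M.fixed_E hl (M.R_sub hkR) hkc hv ?_) hvE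
      rw [hkv]
      exact SameAct.refl u v
  -- lifts commuting with the involution
  have hequi : ∀ γ : MulAut E, ∃ L : V ≃* V, (∀ v, N (L v) = γ (N v)) ∧ ∀ v, L (S v) = S (L v) := by
    intro γ
    obtain ⟨g, hg, hgγ⟩ := hx.onto_top γ
    set gA : (cosetGrp u a E) := ⟨g, hg⟩
    set σA : (cosetGrp u a E) := ⟨σ, hRA hσR⟩
    set s : (cosetGrp u a E) := gA * σA * gA⁻¹ with hs
    obtain ⟨n, hn⟩ := hR2 hσR
    obtain ⟨k, r, hk, hr, hkr⟩ := h.rho_two T hq s (hx.conj_exK hg (M.sub (M.R_le hσR))) (n := n) (by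
      show (g * σ * g⁻¹) ^ 2 ^ n = 1
      rw [conj_pow, hn, mul_one, mul_inv_cancel])
    set Λ := ρ k * ρ gA with hΛ
    have hr' : ρ r = Λ * S * Λ⁻¹ := by
      rw [← hkr, hs, map_mul, map_mul, map_inv, hΛ, mul_inv_rev, ← hSdef]
      group
    have hrS : ρ r = S := huniq r hr
      (by
        show ρ r * ρ r = 1
        rw [hr', show Λ * S * Λ⁻¹ * (Λ * S * Λ⁻¹) = Λ * (S * S) * Λ⁻¹ by group, hS2, mul_one, mul_inv_cancel])
      (fun e => hS1 (conj_eq_one_iff.1 (hr'.symm.trans e)))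
    have hcomm : Λ * S = S * Λ := by
      rw [← mul_inv_eq_iff_eq_mul, ← hr', hrS]
    refine ⟨Λ, fun w => ?_, fun w => ?_⟩
    · show N (ρ k (ρ gA w)) = γ (N w)
      rw [hq.equi, hq.equi, (conjE_eq_one_iff k).2 fun e he => (mem_exK.1 hk).2.2 e he]
      exact Subtype.ext (hgγ (N w))
    · exact congrArg (fun f : MulAut V => f w) hcomm
  have honto : ∀ e : E, ∃ w, S w = w ∧ N w = e := fun e => by
    obtain ⟨y, hy, hyφ, hye⟩ := H.half_root e.2
    exact ⟨p ⟨y, hy⟩, (hfixH hy).2 (H.half_of_inverted hy hyφ).1.2, Subtype.ext ((hq.N_p _).trans hye)⟩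
  have hiso : ∀ x w, S x = x → S w = w → B x w = 1 := by
    intro x w hxS hwS
    obtain ⟨⟨x, hxQ⟩, rfl⟩ := hq.surj x
    obtain ⟨⟨w, hwQ⟩, rfl⟩ := hq.surj w
    have hxh : x ∈ H.half := ⟨hxQ, (hfixH hxQ).1 hxS⟩
    have hwh : w ∈ H.half := ⟨hwQ, (hfixH hwQ).1 hwS⟩
    have h3 : σ * (x * w) * σ⁻¹ = (x * w)⁻¹ := H.half_inverted (mul_mem hxQ hwQ) (H.half.mul_mem hxh hwh).2
    rw [show σ * (x * w) * σ⁻¹ = (σ * x * σ⁻¹) * (σ * w * σ⁻¹) by group,
      show σ * x * σ⁻¹ = x⁻¹ from H.half_inverted hxQ hxh.2,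
      show σ * w * σ⁻¹ = w⁻¹ from H.half_inverted hwQ hwh.2, mul_inv_rev] at h3
    refine Subtype.ext ((hq.B_p _ _).trans ?_)
    show x * w * x⁻¹ * w⁻¹ = 1
    rw [(Commute.inv_inv_iff.1 (show Commute x⁻¹ w⁻¹ from h3)).eq, mul_inv_cancel_right, mul_inv_cancel]
  refine false_of_central hq.sq hE hx.card N hq.aniso B hq.pol hq.Bl hq.Br S
    (fun w => congrArg (fun f : MulAut V => f w) hS2) hequi honto hiso (fun w hwS => ?_) ?_
  · obtain ⟨⟨w, hwQ⟩, rfl⟩ := hq.surj w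
    obtain ⟨y, hy, hye⟩ := H.half_cover hwQ ((hfixH hwQ).1 hwS)
    refine ⟨p ⟨y, hy⟩, ?_⟩
    rw [hSdef, hact hσR ⟨y, hy⟩, ← hpinv ⟨y, hy⟩, ← map_mul]
    refine (inv_mul_eq_one.1 ?_).symm
    rw [← map_inv, ← map_mul]
    exact (hq.ker _).2 hye
  · obtain ⟨y, hy, hye⟩ := M.Q_form_three rfl v hv hvE e₁ he₁
    exact ⟨p ⟨v, hv⟩, p ⟨y, hy⟩, (hfixH hv).2 (H.half_of_inverted hv hvφ).1.2, fun e => he₁1 (by
      rw [← hye, ← hq.B_p ⟨v, hv⟩ ⟨y, hy⟩, e, OneMemClass.coe_one])⟩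

/-- No frame of type three lacks translations. -/
theorem no_exception_three (hf : Faithful G Ω) (IH : Below.{u, u} (Nat.card G)) (hcc : CosetClass Ω D) {u : G}
    {a b : Ω} {E : Subgroup G} (ht : TopFrame D u a b E 8 3) (hno : ¬ HasTrans u a E) : False := by
  classical
  haveI := Fact.mk Nat.prime_two
  haveI := h.finite_points
  obtain ⟨t, hx⟩ := h.exc hcc ht rfl hno
  obtain ⟨R, P0, Q, T⟩ := h.exists_tower hf IH ht hx (Or.inr rfl)
  obtain ⟨V, iV, hVfin, p, N, B, ρ, hq⟩ := h.exists_quad hf IH T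
  have hR := h.kernel_act_exception hf IH T hq
  letI : CommGroup E := { (inferInstance : Group E) with
    mul_comm := fun x y => Subtype.ext (hx.comm x x.2 y y.2) }
  have hE : ∀ x : E, x * x = 1 := fun x => Subtype.ext (hx.sq x x.2)
  have h64 : Nat.card V = 64 := by
    have h1 := hq.card
    rw [hx.card, T.base.Q_card] at h1
    norm_num at h1
    omega
  set φ : (cosetGrp u a E) →* MulAut E := conjE u a E with hφ
  have hequi : ∀ γ : MulAut E, ∃ L : V ≃* V, ∀ v, N (L v) = γ (N v) := fun γ => by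
    obtain ⟨g, hg, hgγ⟩ := hx.onto_top γ
    exact ⟨ρ ⟨g, hg⟩, fun v => by rw [hq.equi]; exact Subtype.ext (hgγ (N v))⟩
  -- a flag
  obtain ⟨c, y, x, hi⟩ := exists_indep' (E := E) hx.card
  obtain ⟨hc1, hy1, hyc, hx1, hxc, hxy, hxcy⟩ := id hi
  have hcy1 : c * y ≠ 1 := fun e => hyc (eq_of_mul_one hE e).symm
  have hi₁ : Indep c (c * y) x := ⟨hc1, hcy1, fun e => hy1 (mul_eq_left.1 e),
    hx1, hxc, hxcy, by rw [← mul_assoc, hE, one_mul]; exact hxy⟩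
  have hi₂ : Indep c (c * y) (y * x) := ⟨hc1, hcy1, fun e => hy1 (mul_eq_left.1 e),
    fun e => hxy (eq_of_mul_one hE e).symm,
    fun e => hxcy (by rw [← e, mul_comm (y * x), ← mul_assoc, hE, one_mul]),
    fun e => hxc (mul_left_cancel (e.trans (mul_comm c y))),
    fun e => hx1 (mul_eq_left.1 (e.trans (by rw [← mul_assoc, hE, one_mul])))⟩
  obtain ⟨γ₁, h1c, h1y, h1x⟩ := exists_aut hE hx.card hi hi₁
  obtain ⟨σ, hsc, hsy, hsx⟩ := exists_aut hE hx.card hi hi₂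
  -- a Sylow group above the flag
  let Y : Subgroup (cosetGrp u a E) := (u3 hE c y).comap φ
  obtain ⟨T₀⟩ : Nonempty (Sylow 2 Y) := inferInstance
  let ψ : Y →* u3 hE c y := (φ.comp Y.subtype).codRestrict (u3 hE c y) fun g => g.2
  have hψ : Function.Surjective ψ := fun δ => by
    obtain ⟨g, hg, hgγ⟩ := hx.onto_top (δ : MulAut E)
    have e : φ ⟨g, hg⟩ = δ := MulEquiv.ext fun z => Subtype.ext (hgγ z)
    exact ⟨⟨⟨g, hg⟩, show φ ⟨g, hg⟩ ∈ u3 hE c y by rw [e]; exact δ.2⟩, Subtype.ext e⟩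
  have hu2 : IsPGroup 2 (u3 hE c y) := IsPGroup.of_card (n := 3) (by rw [card_u3 hE hx.card hi]; norm_num)
  have htop : (⊤ : Subgroup (u3 hE c y)) = (T₀.mapSurjective hψ : Subgroup (u3 hE c y)) :=
    (T₀.mapSurjective hψ).is_maximal' (hu2.to_subgroup ⊤) le_top
  set T' : Subgroup (cosetGrp u a E) := (T₀ : Subgroup Y).map Y.subtype with hT'
  have hlift : ∀ δ ∈ u3 hE c y, ∃ g ∈ T', φ g = δ := fun δ hδ => by
    have h1 : (⟨δ, hδ⟩ : u3 hE c y) ∈ (T₀ : Subgroup Y).map ψ := by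
      have := Subgroup.mem_top (⟨δ, hδ⟩ : u3 hE c y)
      rwa [htop, Sylow.coe_mapSurjective] at this
    obtain ⟨g, hg, hgδ⟩ := h1
    exact ⟨g, mem_map_of_mem _ hg, congrArg Subtype.val hgδ⟩
  have hker : ∀ s ∈ T', φ s = 1 → ρ s = 1 := by
    intro s hs hs1
    have hsK : (s : G) ∈ exK u a E := hx.mem_exK_iff.2 ⟨s.2, (conjE_eq_one_iff s).1 hs1⟩
    obtain ⟨n, hn⟩ := exists_two_pow (T₀.isPGroup'.map _) hs
    obtain ⟨k, r, hk, hr, hkr⟩ := h.rho_two T hq s hsK (n := n) (by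
      rw [← SubgroupClass.coe_pow, hn, OneMemClass.coe_one])
    rw [hq.rho_one (fun w hw => (T.base.mem_Q_data hw).2.1) (hR r hr)] at hkr
    exact conj_eq_one_iff.1 hkr
  obtain ⟨g₁, hg₁, hg₁e⟩ := hlift γ₁ ⟨h1c, Or.inr h1y⟩
  obtain ⟨gs, hgs, hgse⟩ := hlift σ ⟨hsc, Or.inr hsy⟩
  have hσ2y : σ (σ y) = y := by rw [hsy, map_mul, hsc, hsy, ← mul_assoc, hE, one_mul]
  have hσ2x : σ (σ x) = c * x := by
    rw [hsx, map_mul, hsy, hsx, mul_assoc, ← mul_assoc y y, hE, one_mul]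
  have hr1 : ρ g₁ * ρ g₁ = 1 := by
    rw [← map_mul]
    refine hker _ (mul_mem hg₁ hg₁) ?_
    rw [map_mul, hg₁e]
    exact aut_ext hE hx.card hi (by simp [h1c]) (by simp [h1c, h1y, ← mul_assoc, hE]) (by simp [h1x])
  have hr4 : ρ gs * ρ gs * (ρ gs * ρ gs) = 1 := by
    rw [← map_mul, ← map_mul]
    refine hker _ (mul_mem (mul_mem hgs hgs) (mul_mem hgs hgs)) ?_
    rw [map_mul, map_mul, hgse]
    refine aut_ext hE hx.card hi ?_ ?_ ?_ <;> simp only [MulAut.mul_apply, MulAut.one_apply]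
    · rw [hsc, hsc, hsc, hsc]
    · rw [hσ2y, hσ2y]
    · rw [hσ2x, map_mul, map_mul, hsc, hsc, hσ2x, ← mul_assoc, hE, one_mul]
  have hrc : ρ g₁ * (ρ gs * ρ gs) = ρ gs * ρ gs * ρ g₁ := by
    rw [← mul_inv_eq_one, ← map_mul ρ gs gs, ← map_mul, ← map_mul, ← map_inv, ← map_mul]
    refine hker _ (mul_mem (mul_mem hg₁ (mul_mem hgs hgs)) (inv_mem (mul_mem (mul_mem hgs hgs) hg₁))) ?_
    simp only [map_mul, map_inv, hg₁e, hgse, mul_inv_eq_one]
    refine aut_ext hE hx.card hi ?_ ?_ ?_ <;> simp only [MulAut.mul_apply, h1c, hsc]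
    · rw [hσ2y, h1y, map_mul, map_mul, hsc, hsc, hσ2y]
    · rw [hσ2x, map_mul, h1c, h1x, hσ2x]
  exact false_of_three hq.sq hE hx.card h64 N hq.aniso B hq.pol hq.Bl hq.Br hequi hi h1c h1y h1x hsc hsy hsx
    (L₁ := ρ g₁) (Ls := ρ gs)
    (fun v => by rw [hq.equi, ← hφ, hg₁e]) (fun v => by rw [hq.equi, ← hφ, hgse])
    (fun v => congrArg (fun f : MulAut V => f v) hr1) (fun v => congrArg (fun f : MulAut V => f v) hr4)
    (fun v => congrArg (fun f : MulAut V => f v) hrc)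

end Crit

end CfsgLib.AschCrit
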