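import Cfsg.Agent.Lib.Invol.AschCrit.ExceptionRho
import Cfsg.Agent.Lib.Invol.AschCrit.ExceptionSquare

/-!
Owner: helper7. Aschbacher's criterion, slice F: no frame of type two lacks translations.

* `Crit.no_exception_two`: the squaring would be additive, so `Q` commutative.
-/

set_option autoImplicit false
set_option linter.unusedSectionVars false

namespace CfsgLib.AschCrit

open Subgroup MulAction Exception

universe u

variable {G : Type u} [Group G] [Finite G] {Ω : Type u} [MulAction G Ω]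

namespace Crit

variable {D : Set G} (h : Crit Ω D)
include h

/-- No frame of type two lacks translations. -/
theorem no_exception_two (hf : Faithful G Ω) (IH : Below.{u, u} (Nat.card G)) (hcc : CosetClass Ω D) {u : G}
    {a b : Ω} {E : Subgroup G} (ht : TopFrame D u a b E 8 2) (hno : ¬ HasTrans u a E) : False := by
  classical
  haveI := h.finite_points
  obtain ⟨t, hx⟩ := h.exc hcc ht rfl hno
  obtain ⟨R, P0, Q, T⟩ := h.exists_tower hf IH ht hx (Or.inl rfl)
  obtain ⟨V, iV, hVfin, p, N, B, ρ, hq⟩ := h.exists_quad hf IH T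
  letI : CommGroup E := { (inferInstance : Group E) with
    mul_comm := fun x y => Subtype.ext (hx.comm x x.2 y y.2) }
  have hE : ∀ x : E, x * x = 1 := fun x => Subtype.ext (hx.sq x x.2)
  have hcardV : Nat.card V = 8 := by
    have h1 := hq.card
    rw [hx.card, T.base.Q_card] at h1
    norm_num at h1
    omega
  have hN1 : N 1 = 1 := Subtype.ext (by
    rw [← map_one p, hq.N_p]
    simp)
  have hsurj : Function.Surjective N := fun e => by
    obtain ⟨y, hy, hye⟩ := T.base.Q_sq_onto (by norm_num) e e.2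
    exact ⟨p ⟨y, hy⟩, Subtype.ext (by rw [hq.N_p]; exact hye)⟩
  have hinj : Function.Injective N :=
    ((Nat.bijective_iff_surjective_and_card N).2 ⟨hsurj, hcardV.trans hx.card.symm⟩).1
  have hadd := false_of_two hE hx.card N hN1 hinj fun γ => by
    obtain ⟨g, hg, hgγ⟩ := hx.onto_top γ
    refine ⟨(ρ ⟨g, hg⟩).toMonoidHom, fun v => ?_⟩
    show N (ρ ⟨g, hg⟩ v) = γ (N v)
    rw [hq.equi]
    exact Subtype.ext (hgγ (N v))
  have hQE : Q ≤ E := fun x hxQ => T.cent x hxQ fun y hyQ => by
    have h1 : B (p ⟨x, hxQ⟩) (p ⟨y, hyQ⟩) = 1 := mul_eq_left.1 ((hq.pol _ _).symm.trans (hadd _ _))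
    have h2 : x * y * x⁻¹ * y⁻¹ = 1 := by
      rw [← hq.B_p ⟨x, hxQ⟩ ⟨y, hyQ⟩, h1, OneMemClass.coe_one]
    exact mul_inv_eq_iff_eq_mul.1 (mul_inv_eq_one.1 h2)
  have h3 := Subgroup.card_le_of_le hQE
  rw [T.base.Q_card, hx.card] at h3
  norm_num at h3

end Crit

end CfsgLib.AschCrit
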