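import Cfsg.Agent.Lib.Invol.AschCrit.ExceptionTransfer
import Cfsg.Agent.Lib.Invol.AschCrit.ExceptionTwo
import Cfsg.Agent.Lib.Invol.AschCrit.ExceptionThree

/-!
Owner: helper7. Aschbacher's criterion, slice F: every frame with eight elements in `E` has translations.

* `Crit.noException`: the interface `NoException`.
-/

set_option autoImplicit false
set_option linter.unusedSectionVars false

namespace CfsgLib.AschCrit

universe v

variable {G : Type v} [Group G] [Finite G] {Ω : Type v} [MulAction G Ω]

namespace Crit

variable {D : Set G} (h : Crit Ω D)
include h

/-- No frame lacks translations. -/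
theorem noException (hf : Faithful G Ω) (htop : Subgroup.closure D = ⊤) (IH : Below.{v, v} (Nat.card G)) :
    NoException Ω D := by
  intro u a b E q i hfr hq
  subst hq
  have ht := hfr.toTopFrame
  have hcc := h.cosetClass hf (h.localDichotomy hf IH)
  by_contra hno
  rcases ht.data.type with rfl | rfl | rfl
  · exact h.no_exception_one hf htop IH hcc ht hno
  · exact h.no_exception_two hf IH hcc ht hno
  · exact h.no_exception_three hf IH hcc ht hno

end Crit

end CfsgLib.AschCrit
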