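import Mathlib.GroupTheory.Index
import Mathlib.GroupTheory.OrderOfElement
import Mathlib.Algebra.Group.End
import Mathlib.Algebra.Field.ZMod
import Mathlib.Tactic.Group
import Mathlib.Tactic.NormNum
import Mathlib.Data.ZMod.Basic

/-!
Owner: helper7. Aschbacher's criterion, slice F: algebra for `NoException`.

* `aut_ext`, `exists_aut`, `card_aut_le`: automorphisms of an elementary group of order eight by triples.
* `card_u3`, `mem_u3_closure`, `u3_central`: a Sylow group of its automorphism group.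
-/

set_option autoImplicit false
set_option linter.unusedSectionVars false

namespace CfsgLib.AschCrit.Exception

universe u v

/-- Three generators of an elementary group of order eight. -/
def Indep {E : Type*} [CommGroup E] (x y z : E) : Prop :=
  x ≠ 1 ∧ y ≠ 1 ∧ y ≠ x ∧ z ≠ 1 ∧ z ≠ x ∧ z ≠ y ∧ z ≠ x * y

variable {E : Type u} [CommGroup E]

theorem zmod2_cases : ∀ k : ZMod 2, k = 0 ∨ k = 1 := by decide

theorem pow_val_add (hE : ∀ x : E, x * x = 1) (x : E) (a b : ZMod 2) :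
    x ^ (a + b).val = x ^ a.val * x ^ b.val := by
  rcases zmod2_cases a with rfl | rfl <;> rcases zmod2_cases b with rfl | rfl
  · simp
  · simp
  · simp
  · show x ^ ((0 : ZMod 2)).val = x ^ (1 : ℕ) * x ^ (1 : ℕ)
    simp [hE]

/-- Coordinates from three generators. -/
def coordHom (hE : ∀ x : E, x * x = 1) (x y z : E) : Multiplicative (ZMod 2 × ZMod 2 × ZMod 2) →* E where
  toFun p := x ^ p.toAdd.1.val * y ^ p.toAdd.2.1.val * z ^ p.toAdd.2.2.val
  map_one' := by simp
  map_mul' p r := by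
    simp only [toAdd_mul, Prod.fst_add, Prod.snd_add, pow_val_add hE]
    ac_rfl

theorem inv_self (hE : ∀ x : E, x * x = 1) (x : E) : x⁻¹ = x := inv_eq_of_mul_eq_one_right (hE x)

theorem eq_of_mul_one (hE : ∀ x : E, x * x = 1) {x y : E} (e : x * y = 1) : x = y :=
  (eq_inv_of_mul_eq_one_left e).trans (inv_self hE y)

theorem coordHom_injective (hE : ∀ x : E, x * x = 1) {x y z : E} (hi : Indep x y z) :
    Function.Injective (coordHom hE x y z) := by
  obtain ⟨hx, hy, hyx, hz, hzx, hzy, hzxy⟩ := hi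
  refine (injective_iff_map_eq_one _).2 fun p hp => ?_
  obtain ⟨⟨i, j, l⟩, rfl⟩ : ∃ w : ZMod 2 × ZMod 2 × ZMod 2, Multiplicative.ofAdd w = p := ⟨p.toAdd, rfl⟩
  change x ^ i.val * y ^ j.val * z ^ l.val = 1 at hp
  rcases zmod2_cases i with rfl | rfl <;> rcases zmod2_cases j with rfl | rfl <;>
    rcases zmod2_cases l with rfl | rfl <;> simp [ZMod.val_zero, ZMod.val_one] at hp ⊢
  · exact hz hp
  · exact hy hp
  · exact hzy (eq_of_mul_one hE hp).symm
  · exact hx hp
  · exact hzx (eq_of_mul_one hE hp).symm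
  · exact hyx (eq_of_mul_one hE hp).symm
  · exact hzxy (eq_of_mul_one hE hp).symm

theorem coordHom_bijective [Finite E] (hE : ∀ x : E, x * x = 1) (h8 : Nat.card E = 8) {x y z : E}
    (hi : Indep x y z) : Function.Bijective (coordHom hE x y z) := by
  refine (Nat.bijective_iff_injective_and_card _).2 ⟨coordHom_injective hE hi, ?_⟩
  rw [h8, Nat.card_congr Multiplicative.toAdd]
  simp [Nat.card_prod, Nat.card_zmod]

variable [Finite E]

/-- An automorphism is determined on three generators. -/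
theorem aut_ext (hE : ∀ x : E, x * x = 1) (h8 : Nat.card E = 8) {x y z : E} (hi : Indep x y z)
    {γ δ : MulAut E} (hx : γ x = δ x) (hy : γ y = δ y) (hz : γ z = δ z) : γ = δ := by
  refine MulEquiv.ext fun w => ?_
  obtain ⟨p, rfl⟩ := (coordHom_bijective hE h8 hi).2 w
  show γ (_ * _ * _) = δ (_ * _ * _)
  simp only [map_mul, map_pow, hx, hy, hz]

/-- Three generators go to any three generators. -/
theorem exists_aut (hE : ∀ x : E, x * x = 1) (h8 : Nat.card E = 8) {x y z x' y' z' : E}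
    (hi : Indep x y z) (hi' : Indep x' y' z') : ∃ γ : MulAut E, γ x = x' ∧ γ y = y' ∧ γ z = z' := by
  let e := MulEquiv.ofBijective _ (coordHom_bijective hE h8 hi)
  let e' := MulEquiv.ofBijective _ (coordHom_bijective hE h8 hi')
  have hval : ∀ w : E, ∀ p, coordHom hE x y z p = w → (e.symm.trans e') w = coordHom hE x' y' z' p := by
    intro w p hp
    show e' (e.symm w) = e' p
    rw [← hp]
    exact congrArg e' (e.symm_apply_apply p)
  refine ⟨e.symm.trans e', ?_, ?_, ?_⟩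
  · rw [hval x (Multiplicative.ofAdd (1, 0, 0)) (by simp [coordHom, ZMod.val_one])]
    simp [coordHom, ZMod.val_one]
  · rw [hval y (Multiplicative.ofAdd (0, 1, 0)) (by simp [coordHom, ZMod.val_one])]
    simp [coordHom, ZMod.val_one]
  · rw [hval z (Multiplicative.ofAdd (0, 0, 1)) (by simp [coordHom, ZMod.val_one])]
    simp [coordHom, ZMod.val_one]

theorem exists_ne_four (h8 : Nat.card E = 8) (s : Finset E) (hs : s.card ≤ 4) : ∃ z, z ∉ s := by
  classical
  haveI := Fintype.ofFinite E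
  obtain ⟨z, -, hz⟩ := Finset.exists_mem_notMem_of_card_lt_card (s := s) (t := Finset.univ)
    (by rw [Finset.card_univ, ← Nat.card_eq_fintype_card, h8]; omega)
  exact ⟨z, hz⟩

theorem exists_indep (h8 : Nat.card E = 8) {x y : E} (hx : x ≠ 1) (hy : y ≠ 1) (hyx : y ≠ x) :
    ∃ z, Indep x y z := by
  classical
  obtain ⟨z, hz⟩ := exists_ne_four h8 {1, x, y, x * y} Finset.card_le_four
  simp only [Finset.mem_insert, Finset.mem_singleton, not_or] at hz
  exact ⟨z, hx, hy, hyx, hz.1, hz.2.1, hz.2.2.1, hz.2.2.2⟩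

theorem exists_indep' (h8 : Nat.card E = 8) : ∃ x y z : E, Indep x y z := by
  classical
  obtain ⟨x, hx⟩ := exists_ne_four h8 {1} (by simp)
  obtain ⟨y, hy⟩ := exists_ne_four h8 {1, x} (le_trans Finset.card_le_two (by norm_num))
  simp only [Finset.mem_insert, Finset.mem_singleton, not_or] at hx hy
  obtain ⟨z, hz⟩ := exists_indep h8 hx hy.1 hy.2
  exact ⟨x, y, z, hz⟩

theorem indep_map (γ : MulAut E) {x y z : E} (hi : Indep x y z) : Indep (γ x) (γ y) (γ z) := by
  obtain ⟨hx, hy, hyx, hz, hzx, hzy, hzxy⟩ := hi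
  refine ⟨?_, ?_, ?_, ?_, ?_, ?_, ?_⟩ <;> simp only [ne_eq, ← map_mul, EmbeddingLike.apply_eq_iff_eq,
    EmbeddingLike.map_eq_one_iff] <;> assumption

/-- There are at most 168 automorphisms. -/
theorem card_aut_le (hE : ∀ x : E, x * x = 1) (h8 : Nat.card E = 8) : Nat.card (MulAut E) ≤ 168 := by
  classical
  obtain ⟨x, y, z, hi⟩ := exists_indep' h8
  haveI := Fintype.ofFinite E
  let f : MulAut E → Σ a : {a : E // a ≠ 1}, Σ b : {b : E // b ≠ 1 ∧ b ≠ (a : E)},
      {c : E // c ≠ 1 ∧ c ≠ (a : E) ∧ c ≠ (b : E) ∧ c ≠ (a : E) * b} := fun γ =>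
    have h := indep_map γ hi
    ⟨⟨γ x, h.1⟩, ⟨γ y, h.2.1, h.2.2.1⟩, ⟨γ z, h.2.2.2.1, h.2.2.2.2.1, h.2.2.2.2.2.1, h.2.2.2.2.2.2⟩⟩
  have hf : Function.Injective f := fun γ δ e => by
    have e1 : γ x = δ x := congrArg (fun p => (p.1 : E)) e
    have e2 : γ y = δ y := congrArg (fun p => (p.2.1 : E)) e
    have e3 : γ z = δ z := congrArg (fun p => (p.2.2 : E)) e
    exact aut_ext hE h8 hi e1 e2 e3
  refine le_trans (Nat.card_le_card_of_injective f hf) ?_
  have hsub : ∀ s : Finset E, Fintype.card {c : E // c ∉ s} = 8 - s.card := fun s => by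
    rw [Fintype.card_subtype_compl, Fintype.card_coe, ← Nat.card_eq_fintype_card, h8]
  have hA : Fintype.card {a : E // a ≠ 1} ≤ 7 := by
    rw [Fintype.card_congr (Equiv.subtypeEquivRight (q := fun a => a ∉ ({1} : Finset E)) (by simp)), hsub]
    simp
  rw [Nat.card_eq_fintype_card, Fintype.card_sigma]
  calc ∑ a : {a : E // a ≠ 1}, Fintype.card _ ≤ ∑ _a : {a : E // a ≠ 1}, 24 := Finset.sum_le_sum fun a _ => ?_
    _ ≤ 168 := by rw [Finset.sum_const, Finset.card_univ, smul_eq_mul]; omega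
  rw [Fintype.card_sigma]
  have hB : Fintype.card {b : E // b ≠ 1 ∧ b ≠ (a : E)} ≤ 6 := by
    rw [Fintype.card_congr (Equiv.subtypeEquivRight (q := fun b => b ∉ ({1, (a : E)} : Finset E)) (by simp)), hsub,
      Finset.card_pair (Ne.symm a.2)]
  calc ∑ b : {b : E // b ≠ 1 ∧ b ≠ (a : E)}, Fintype.card _ ≤ ∑ _b : {b : E // b ≠ 1 ∧ b ≠ (a : E)}, 4 :=
        Finset.sum_le_sum fun b _ => ?_
    _ ≤ 24 := by rw [Finset.sum_const, Finset.card_univ, smul_eq_mul]; omega
  rw [Fintype.card_congr (Equiv.subtypeEquivRight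
    (q := fun c => c ∉ ({1, (a : E), (b : E), (a : E) * b} : Finset E)) (by simp)), hsub]
  have h4 : ∀ a b : E, a ≠ 1 → b ≠ 1 → b ≠ a → ({1, a, b, a * b} : Finset E).card = 4 := by
    intro a b ha hb1 hb2
    have hab : a * b ≠ 1 := fun e => hb2 (eq_of_mul_one hE e).symm
    rw [Finset.card_insert_of_notMem, Finset.card_insert_of_notMem, Finset.card_pair]
    · exact fun e => ha (mul_eq_right.1 e.symm)
    · simp only [Finset.mem_insert, Finset.mem_singleton, not_or]
      exact ⟨Ne.symm hb2, fun e => hb1 (mul_eq_left.1 e.symm)⟩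
    · simp only [Finset.mem_insert, Finset.mem_singleton, not_or]
      exact ⟨Ne.symm ha, Ne.symm hb1, Ne.symm hab⟩
  have h4' := h4 a b a.2 b.2.1 b.2.2
  omega

/-- The automorphisms fixing `c` and `{y, c y}`. -/
def u3 (hE : ∀ x : E, x * x = 1) (c y : E) : Subgroup (MulAut E) where
  carrier := {γ | γ c = c ∧ (γ y = y ∨ γ y = c * y)}
  one_mem' := ⟨rfl, Or.inl rfl⟩
  mul_mem' := by
    rintro γ δ ⟨hc, hy⟩ ⟨hc', hy'⟩
    refine ⟨by rw [MulAut.mul_apply, hc', hc], ?_⟩
    rw [MulAut.mul_apply]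
    rcases hy' with e | e <;> rw [e]
    · exact hy
    · rw [map_mul, hc]
      rcases hy with e | e <;> rw [e]
      · exact Or.inr rfl
      · exact Or.inl (by rw [← mul_assoc, hE, one_mul])
  inv_mem' := by
    rintro γ ⟨hc, hy⟩
    have hc' : γ⁻¹ c = c := by conv_lhs => rw [← hc, MulAut.inv_apply_self]
    refine ⟨hc', ?_⟩
    rcases hy with e | e
    · left; conv_lhs => rw [← e, MulAut.inv_apply_self]
    · right
      apply γ.injective
      rw [MulAut.apply_inv_self, map_mul, hc, e, ← mul_assoc, hE, one_mul]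

theorem mem_u3 {hE : ∀ x : E, x * x = 1} {c y : E} {γ : MulAut E} :
    γ ∈ u3 hE c y ↔ γ c = c ∧ (γ y = y ∨ γ y = c * y) := Iff.rfl

section Flag

variable (hE : ∀ x : E, x * x = 1) (h8 : Nat.card E = 8) {c y x : E} (hi : Indep c y x)
include h8 hi

/-- The images of the third generator. -/
theorem u3_third {γ : MulAut E} (hγ : γ ∈ u3 hE c y) :
    γ x = x ∨ γ x = c * x ∨ γ x = y * x ∨ γ x = c * (y * x) := by
  obtain ⟨hcx, hy⟩ := hγ
  obtain ⟨p, hp⟩ := (coordHom_bijective hE h8 hi).2 (γ x)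
  obtain ⟨⟨i, j, l⟩, rfl⟩ : ∃ w : ZMod 2 × ZMod 2 × ZMod 2, Multiplicative.ofAdd w = p := ⟨p.toAdd, rfl⟩
  change c ^ i.val * y ^ j.val * x ^ l.val = γ x at hp
  have h := indep_map γ hi
  rw [hcx] at h
  obtain ⟨-, hy1, -, hz, hzc, hzy, hzcy⟩ := h
  rw [← hp] at hz hzc hzy hzcy ⊢
  rcases hy with e | e <;> rw [e] at hzy hzcy <;>
  rcases zmod2_cases i with rfl | rfl <;> rcases zmod2_cases j with rfl | rfl <;>
    rcases zmod2_cases l with rfl | rfl <;>
    simp [ZMod.val_zero, ZMod.val_one, mul_assoc] at hz hzc hzy hzcy ⊢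
  · exact absurd (by rw [← mul_assoc, hE, one_mul]) hzcy

/-- It has eight elements. -/
theorem card_u3 : Nat.card (u3 hE c y) = 8 := by
  classical
  obtain ⟨hc, hy, hyc, hx, hxc, hxy, hxcy⟩ := hi
  have hi : Indep c y x := ⟨hc, hy, hyc, hx, hxc, hxy, hxcy⟩
  have hyx : ∀ i j : ZMod 2, ∀ k : ZMod 2, Indep c (c ^ k.val * y) (c ^ i.val * y ^ j.val * x) := by
    intro i j k
    have hb := coordHom_injective hE hi
    have key : ∀ p r : ZMod 2 × ZMod 2 × ZMod 2, p ≠ r →
        coordHom hE c y x (Multiplicative.ofAdd p) ≠ coordHom hE c y x (Multiplicative.ofAdd r) := fun p r hne e =>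
      hne (Multiplicative.ofAdd.injective (hb e))
    have e0 : coordHom hE c y x (Multiplicative.ofAdd (0, 0, 0)) = 1 := by simp [coordHom]
    have e1 : coordHom hE c y x (Multiplicative.ofAdd (1, 0, 0)) = c := by simp [coordHom, ZMod.val_one]
    have e2 : coordHom hE c y x (Multiplicative.ofAdd (k, 1, 0)) = c ^ k.val * y := by
      simp [coordHom, ZMod.val_one]
    have e3 : coordHom hE c y x (Multiplicative.ofAdd (i, j, 1)) = c ^ i.val * y ^ j.val * x := by
      simp [coordHom, ZMod.val_one]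
    have e4 : coordHom hE c y x (Multiplicative.ofAdd (1 + k, 1, 0)) = c * (c ^ k.val * y) := by
      show c ^ (1 + k).val * y ^ (1 : ZMod 2).val * x ^ (0 : ZMod 2).val = _
      rw [pow_val_add hE]
      simp [ZMod.val_one, mul_assoc]
    refine ⟨hc, fun e => key _ _ ?_ ((e2.trans e).trans e0.symm), fun e => key _ _ ?_ ((e2.trans e).trans e1.symm),
      fun e => key _ _ ?_ ((e3.trans e).trans e0.symm), fun e => key _ _ ?_ ((e3.trans e).trans e1.symm),
      fun e => key _ _ ?_ ((e3.trans e).trans e2.symm), fun e => key _ _ ?_ ((e3.trans e).trans e4.symm)⟩ <;> simp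
  choose f hfc hfy hfx using fun p : ZMod 2 × ZMod 2 × ZMod 2 => exists_aut hE h8 hi (hyx p.1 p.2.1 p.2.2)
  have hmem : ∀ p, f p ∈ u3 hE c y := fun p => ⟨hfc p, by
    rw [hfy]; rcases zmod2_cases p.2.2 with e | e <;> rw [e] <;> simp [ZMod.val_one]⟩
  have hbij : Function.Bijective fun p : ZMod 2 × ZMod 2 × ZMod 2 => (⟨f p, hmem p⟩ : u3 hE c y) := by
    constructor
    · intro p r e
      have e' : f p = f r := congrArg Subtype.val e
      have h1 : c ^ p.2.2.val * y = c ^ r.2.2.val * y := by rw [← hfy, ← hfy, e']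
      have h2 : c ^ p.1.val * y ^ p.2.1.val * x = c ^ r.1.val * y ^ r.2.1.val * x := by rw [← hfx, ← hfx, e']
      have h3 : (p.1, p.2.1, (1 : ZMod 2)) = (r.1, r.2.1, (1 : ZMod 2)) :=
        Multiplicative.ofAdd.injective (coordHom_injective hE hi (by simpa [coordHom, ZMod.val_one] using h2))
      have h4 : (p.2.2, (1 : ZMod 2), (0 : ZMod 2)) = (r.2.2, (1 : ZMod 2), (0 : ZMod 2)) :=
        Multiplicative.ofAdd.injective (coordHom_injective hE hi (by simpa [coordHom, ZMod.val_one] using h1))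
      simp only [Prod.mk.injEq] at h3 h4
      exact Prod.ext h3.1 (Prod.ext h3.2.1 h4.1)
    · rintro ⟨γ, hγ⟩
      obtain ⟨k, hk⟩ : ∃ k : ZMod 2, γ y = c ^ k.val * y := by
        rcases hγ.2 with e | e
        · exact ⟨0, by simpa using e⟩
        · exact ⟨1, by simpa [ZMod.val_one] using e⟩
      obtain ⟨i, j, hij⟩ : ∃ i j : ZMod 2, γ x = c ^ i.val * y ^ j.val * x := by
        rcases u3_third hE h8 hi hγ with e | e | e | e
        · exact ⟨0, 0, by simpa using e⟩
        · exact ⟨1, 0, by simpa [ZMod.val_one] using e⟩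
        · exact ⟨0, 1, by simpa [ZMod.val_one] using e⟩
        · exact ⟨1, 1, by simpa [ZMod.val_one, mul_assoc] using e⟩
      exact ⟨(i, j, k), Subtype.ext (aut_ext hE h8 hi ((hfc _).trans hγ.1.symm) ((hfy _).trans hk.symm)
        ((hfx _).trans hij.symm))⟩
  rw [← Nat.card_eq_of_bijective _ hbij]
  simp [Nat.card_prod, Nat.card_zmod]

/-- The transvection to `c` is central. -/
theorem u3_central {τ : MulAut E} (hc : τ c = c) (hy : τ y = y) (hx : τ x = c * x) {γ : MulAut E}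
    (hγ : γ ∈ u3 hE c y) : Commute τ γ := by
  refine aut_ext hE h8 hi ?_ ?_ ?_ <;> simp only [MulAut.mul_apply]
  · rw [hγ.1, hc, hγ.1]
  · rw [hy]
    rcases hγ.2 with e | e <;> simp [e, hy, hc]
  · rw [hx, map_mul, hγ.1]
    rcases u3_third hE h8 hi hγ with e | e | e | e <;> rw [e] <;> simp [hx, hy, hc, mul_left_comm]

/-- It is generated by two involutions. -/
theorem mem_u3_closure {τ₁ τ₂ : MulAut E} (h1c : τ₁ c = c) (h1y : τ₁ y = c * y) (h1x : τ₁ x = x)
    (h2c : τ₂ c = c) (h2y : τ₂ y = y) (h2x : τ₂ x = y * x) {γ : MulAut E} (hγ : γ ∈ u3 hE c y) :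
    γ ∈ Subgroup.closure ({τ₁, τ₂} : Set (MulAut E)) := by
  set X := Subgroup.closure ({τ₁, τ₂} : Set (MulAut E))
  have h1 : τ₁ ∈ X := Subgroup.subset_closure (Or.inl rfl)
  have h2 : τ₂ ∈ X := Subgroup.subset_closure (Or.inr rfl)
  have hcan : ∀ g g' : E, g * g' * g' = g := fun g g' => by rw [mul_assoc, hE, mul_one]
  have hsy : ∀ δ : MulAut E, δ ∈ u3 hE c y → δ y = y → δ ∈ X := by
    intro δ hδ hδy
    rcases u3_third hE h8 hi hδ with e | e | e | e
    · rw [show δ = 1 from aut_ext hE h8 hi hδ.1 hδy e]; exact one_mem X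
    · rw [show δ = (τ₁ * τ₂) * (τ₁ * τ₂) from aut_ext hE h8 hi (by simp [h1c, h2c, hδ.1])
        (by simp [h1y, h2y, h1c, h2c, hδy, ← mul_assoc, hE, hcan])
        (by simp [h1y, h2y, h1x, h2x, h1c, h2c, e, ← mul_assoc, hE, mul_comm y c, hcan])]
      exact mul_mem (mul_mem h1 h2) (mul_mem h1 h2)
    · rw [show δ = τ₂ from aut_ext hE h8 hi (hδ.1.trans h2c.symm) (hδy.trans h2y.symm) (e.trans h2x.symm)]
      exact h2
    · rw [show δ = (τ₁ * τ₂) * (τ₁ * τ₂) * τ₂ from aut_ext hE h8 hi (by simp [h1c, h2c, hδ.1])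
        (by simp [h1y, h2y, h1c, h2c, hδy, ← mul_assoc, hE, hcan])
        (by simp [h1y, h2y, h1x, h2x, h1c, h2c, e, ← mul_assoc, hE, mul_comm y c, hcan])]
      exact mul_mem (mul_mem (mul_mem h1 h2) (mul_mem h1 h2)) h2
  rcases hγ.2 with e | e
  · exact hsy γ hγ e
  · have hm : τ₁ * γ ∈ u3 hE c y := mul_mem ⟨h1c, Or.inr h1y⟩ hγ
    have := hsy _ hm (by rw [MulAut.mul_apply, e, map_mul, h1c, h1y, ← mul_assoc, hE, one_mul])
    exact (X.mul_mem_cancel_left h1).1 this

/-- It is its own normaliser. -/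
theorem u3_normal {τ₁ τ₂ : MulAut E} (h1c : τ₁ c = c) (h1y : τ₁ y = c * y) (h1x : τ₁ x = x)
    (h2c : τ₂ c = c) (h2y : τ₂ y = y) (h2x : τ₂ x = y * x) {δ : MulAut E}
    (hδ : ∀ γ ∈ u3 hE c y, δ⁻¹ * γ * δ ∈ u3 hE c y) : δ ∈ u3 hE c y := by
  have hi' := hi
  obtain ⟨hc, hy, hyc, hx, hxc, hxy, hxcy⟩ := hi'
  have hm1 : τ₁ ∈ u3 hE c y := ⟨h1c, Or.inr h1y⟩
  have hm2 : τ₂ ∈ u3 hE c y := ⟨h2c, Or.inl h2y⟩
  have hcoord : ∀ e : E, (τ₂ e = e ∨ τ₂ e = c * e) →
      e = 1 ∨ e = c ∨ (τ₁ e = c * e ∧ (e = y ∨ e = c * y)) := by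
    intro e he
    obtain ⟨p, rfl⟩ := (coordHom_bijective hE h8 hi).2 e
    obtain ⟨⟨i, j, l⟩, rfl⟩ : ∃ w : ZMod 2 × ZMod 2 × ZMod 2, Multiplicative.ofAdd w = p := ⟨p.toAdd, rfl⟩
    change τ₂ (c ^ i.val * y ^ j.val * x ^ l.val) = c ^ i.val * y ^ j.val * x ^ l.val ∨
      τ₂ (c ^ i.val * y ^ j.val * x ^ l.val) = c * (c ^ i.val * y ^ j.val * x ^ l.val) at he
    show c ^ i.val * y ^ j.val * x ^ l.val = 1 ∨ c ^ i.val * y ^ j.val * x ^ l.val = c ∨
      (τ₁ (c ^ i.val * y ^ j.val * x ^ l.val) = c * (c ^ i.val * y ^ j.val * x ^ l.val) ∧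
        (c ^ i.val * y ^ j.val * x ^ l.val = y ∨ c ^ i.val * y ^ j.val * x ^ l.val = c * y))
    simp only [map_mul, map_pow, h2c, h2y, h2x, h1c, h1y, h1x, mul_pow] at he ⊢
    rcases zmod2_cases l with rfl | rfl
    · rcases zmod2_cases i with rfl | rfl <;> rcases zmod2_cases j with rfl | rfl <;>
        simp [ZMod.val_one, mul_left_comm]
    · exfalso
      simp only [ZMod.val_one, pow_one] at he
      rcases he with e | e
      · exact hy (mul_eq_right.1 (mul_left_cancel e))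
      · rw [mul_left_comm c] at e
        exact hyc (mul_right_cancel (mul_left_cancel e))
  have hfix : ∀ γ ∈ u3 hE c y, γ (δ c) = δ c := fun γ hγ => by
    have h1 := (hδ γ hγ).1
    rw [MulAut.mul_apply, MulAut.mul_apply] at h1
    have h2 := congrArg δ h1
    rwa [MulAut.apply_inv_self] at h2
  have hc' : δ c = c := by
    rcases hcoord _ (Or.inl (hfix τ₂ hm2)) with e | e | ⟨e, -⟩
    · exact absurd (EmbeddingLike.map_eq_one_iff.1 e) hc
    · exact e
    · rw [hfix τ₁ hm1] at e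
      exact absurd (mul_eq_right.1 e.symm) hc
  refine ⟨hc', ?_⟩
  have h1 : τ₂ (δ y) = δ y ∨ τ₂ (δ y) = c * δ y := by
    have h2 := (hδ τ₂ hm2).2
    rw [MulAut.mul_apply, MulAut.mul_apply] at h2
    rcases h2 with h2 | h2 <;> have h3 := congrArg δ h2 <;> rw [MulAut.apply_inv_self] at h3
    · exact Or.inl h3
    · exact Or.inr (by rw [h3, map_mul, hc'])
  rcases hcoord _ h1 with e | e | ⟨-, e⟩
  · exact absurd (EmbeddingLike.map_eq_one_iff.1 e) hy
  · exact absurd (δ.injective (e.trans hc'.symm)) hyc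
  · exact e

end Flag

/-- An involutory automorphism is a transvection. -/
theorem exists_flag (hE : ∀ x : E, x * x = 1) (h8 : Nat.card E = 8) {τ : MulAut E} (hτ : τ * τ = 1) (hne : τ ≠ 1) :
    ∃ c y x : E, Indep c y x ∧ τ c = c ∧ τ y = y ∧ τ x = c * x := by
  classical
  obtain ⟨x, hx⟩ : ∃ x, τ x ≠ x := by
    by_contra hc
    push Not at hc
    exact hne (MulEquiv.ext hc)
  have hxx : τ (τ x) = x := congrArg (fun g : MulAut E => g x) hτ
  set c := τ x * x with hc
  have hτc : τ c = c := by rw [hc, map_mul, hxx, mul_comm]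
  have hc1 : c ≠ 1 := fun e => hx (eq_of_mul_one hE e)
  let f : E →* E := τ.toMonoidHom * MonoidHom.id E
  have hmem : ∀ z, f z ∈ f.ker := fun z => by
    show τ (τ z * z) * (τ z * z) = 1
    rw [map_mul, show τ (τ z) = z from congrArg (fun g : MulAut E => g z) hτ, mul_comm z, hE]
  have hsq : 8 ≤ Nat.card f.ker * Nat.card f.ker := by
    have h1 : Nat.card f.range * Nat.card f.ker = Nat.card E := by
      rw [← Nat.card_congr (QuotientGroup.quotientKerEquivRange f).toEquiv, ← Subgroup.card_eq_card_quotient_mul_card_subgroup]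
    have h2 : Nat.card f.range ≤ Nat.card f.ker :=
      Subgroup.card_le_of_le (by rintro _ ⟨z, rfl⟩; exact hmem z)
    rw [h8] at h1
    rw [← h1]
    exact Nat.mul_le_mul_right _ h2
  obtain ⟨y, hy, hy1, hyc⟩ : ∃ y, τ y = y ∧ y ≠ 1 ∧ y ≠ c := by
    by_contra hcon
    push Not at hcon
    have : Nat.card f.ker ≤ 2 := by
      rw [← Nat.card_eq_fintype_card.trans (Fintype.card_fin 2)]
      refine Nat.card_le_card_of_injective (fun z : f.ker => if (z : E) = 1 then (0 : Fin 2) else 1) fun z w e => ?_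
      have hfx : ∀ z : f.ker, τ (z : E) = z := fun z => eq_of_mul_one hE z.2
      by_cases hz : (z : E) = 1 <;> by_cases hw : (w : E) = 1
      · exact Subtype.ext (hz.trans hw.symm)
      · simp [hz, hw] at e
      · simp [hz, hw] at e
      · exact Subtype.ext ((hcon _ (hfx z) hz).trans (hcon _ (hfx w) hw).symm)
    have := Nat.mul_le_mul this this
    omega
  refine ⟨c, y, x, ⟨hc1, hy1, hyc, fun e => hx (by rw [e, map_one]), fun e => hx ?_, fun e => hx ?_,
    fun e => hx ?_⟩, hτc, hy, ?_⟩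
  · rw [e]; exact hτc
  · rw [e]; exact hy
  · rw [e, map_mul, hτc, hy]
  · rw [hc, mul_assoc, hE, mul_one]

end CfsgLib.AschCrit.Exception
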