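import Cfsg.Agent.Lib.Invol.AschCrit.AffineProof
import Cfsg.Agent.Lib.Invol.AschCrit.ExceptionAlgebra

/-!
Owner: helper7. Aschbacher's criterion, slice F: an affine group on eight points without translations.

* `AffSinger.eight`: its linear parts are all automorphisms, its point stabiliser has odd order and contains for each
  vector an element fixing only it.
-/

set_option autoImplicit false
set_option linter.style.haveILetI false
set_option linter.unusedSectionVars false

namespace CfsgLib.AschCrit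

universe v

variable {V : Type v} [AddCommGroup V] [Finite V]

namespace AffSinger

variable {Γ : Subgroup (Equiv.Perm V)} {c : Γ} (h : AffSinger Γ c)
include h

/-- Eight points and no translations: the linear parts form the full linear group. -/
theorem eight (hno : NoTrans Γ) (h8 : Nat.card V = 8) :
    (∀ γ : V ≃+ V, ∃ g : Γ, ∀ x : V, g • x + g • (0 : V) = γ x) ∧
      (∀ v : V, v ≠ 0 → ∃ k : Γ, k • (0 : V) = 0 ∧ k • v = v ∧ ∀ x : V, k • x = x → x = 0 ∨ x = v) ∧
      ∀ g : Γ, g • (0 : V) = 0 → Odd (orderOf g) := by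
  classical
  haveI : Nontrivial V := Finite.one_lt_card_iff_nontrivial.1 (by omega)
  have hE : ∀ x : Multiplicative V, x * x = 1 := fun x => h.two x.toAdd
  have h8' : Nat.card (Multiplicative V) = 8 := (Nat.card_congr Multiplicative.toAdd).trans h8
  -- the linear part
  have hback : ∀ (g : Γ) (x : V), g⁻¹ • (g • x + g • (0 : V)) + g⁻¹ • (0 : V) = x := fun g x => by
    rw [h.lin_mul, inv_mul_cancel, one_smul, one_smul, add_zero]
  let l : Γ → V →+ V := fun g => AddMonoidHom.mk' (fun x => g • x + g • (0 : V)) fun x y => by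
    show g • (x + y) + g • (0 : V) = g • x + g • (0 : V) + (g • y + g • (0 : V))
    rw [h.affine]
    abel
  have hbij : ∀ g, Function.Bijective (l g) := fun g =>
    Finite.injective_iff_bijective.1 (Function.LeftInverse.injective (g := fun y => g⁻¹ • y + g⁻¹ • (0 : V))
      (hback g))
  let L : Γ → MulAut (Multiplicative V) := fun g => (AddEquiv.ofBijective (l g) (hbij g)).toMultiplicative
  have hLinj : Function.Injective L := by
    intro g k e
    have e' : ∀ x : V, g • x + g • (0 : V) = k • x + k • (0 : V) := fun x =>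
      congrArg (fun γ : MulAut (Multiplicative V) => (γ (Multiplicative.ofAdd x)).toAdd) e
    refine (inv_mul_eq_one.1 (hno (k⁻¹ * g) fun x => ?_)).symm
    have h1 : k • ((k⁻¹ * g) • x + (k⁻¹ * g) • (0 : V)) + k • (0 : V) = k • x + k • (0 : V) := by
      rw [h.lin_mul, mul_inv_cancel_left, e']
    have h2 : (k⁻¹ * g) • x + (k⁻¹ * g) • (0 : V) = x := (hbij k).1 h1
    calc (k⁻¹ * g) • x = (k⁻¹ * g) • x + ((k⁻¹ * g) • (0 : V) + (k⁻¹ * g) • (0 : V)) := by rw [h.two, add_zero]
      _ = x + (k⁻¹ * g) • (0 : V) := by rw [← add_assoc, h2]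
  have hle : Nat.card Γ ≤ 168 :=
    (Nat.card_le_card_of_injective L hLinj).trans (Exception.card_aut_le hE h8')
  -- the orders
  have hZ : Nat.card (Subgroup.zpowers c) = 7 := by
    obtain ⟨w, hw⟩ := exists_ne (0 : V)
    have h7 : Nat.card {x : V // x ≠ 0} = 7 := by
      haveI := Fintype.ofFinite V
      rw [Nat.card_eq_fintype_card, Fintype.card_subtype_compl, Fintype.card_subtype_eq,
        ← Nat.card_eq_fintype_card, h8]
    rw [← h7]
    refine Nat.card_eq_of_bijective (fun k : Subgroup.zpowers c => (⟨(k : Γ) • w, fun e => hw ?_⟩ : {x : V // x ≠ 0}))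
      ⟨fun k l e => Subtype.ext (h.cpow_ext k.2 l.2 hw (congrArg Subtype.val e)), fun x => ?_⟩
    · have := congrArg ((k : Γ)⁻¹ • ·) e
      simpa [h.inv_zero (h.cpow_zero k.2)] using this
    · obtain ⟨j, hj⟩ := h.gen w x.1 hw x.2
      exact ⟨⟨c ^ j, Subgroup.npow_mem_zpowers c j⟩, Subtype.ext hj⟩
  have hcardL : ∀ v : V, v ≠ 0 → Nat.card (MulAction.stabilizer Γ (0 : V)) = 7 * Nat.card (h.comp v) := by
    intro v hv
    rw [← hZ, ← Nat.card_prod]
    refine (Nat.card_eq_of_bijective (fun p : Subgroup.zpowers c × h.comp v =>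
      (⟨(p.1 : Γ) * p.2, mul_mem (h.cpow_zero p.1.2) p.2.2.1⟩ : MulAction.stabilizer Γ (0 : V))) ⟨?_, ?_⟩).symm
    · intro p q e
      obtain ⟨e1, e2⟩ := h.decomp_unique hv p.1.2 q.1.2 p.2.2 q.2.2 (congrArg Subtype.val e)
      exact Prod.ext (Subtype.ext e1) (Subtype.ext e2)
    · intro g
      obtain ⟨k, hk, s, hs, e⟩ := h.exists_decomp hv g.2
      exact ⟨(⟨k, hk⟩, ⟨s, hs⟩), Subtype.ext e⟩
  have hcardG : Nat.card Γ = 8 * Nat.card (MulAction.stabilizer Γ (0 : V)) := by
    rw [← (MulAction.stabilizer Γ (0 : V)).index_mul_card, MulAction.index_stabilizer,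
      show MulAction.orbit Γ (0 : V) = Set.univ from Set.eq_univ_of_forall h.trans, Set.ncard_univ, h8]
  have hthree : ∀ v : V, v ≠ 0 → Nat.card (h.comp v) = 3 := by
    intro v hv
    have h1 := hcardG.symm.trans_le hle
    rw [hcardL v hv] at h1
    have h2 : ¬ ∃ a : ℕ, Nat.card (h.comp v) = 2 ^ a := fun h2 =>
      h.not_solvable hno hv (h.solvable_of_two hv h2)
    have h3 : 1 ≤ Nat.card (h.comp v) := Nat.card_pos
    rcases Nat.lt_or_ge (Nat.card (h.comp v)) 3 with h4 | h4
    · refine absurd ?_ h2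
      rcases (show Nat.card (h.comp v) = 1 ∨ Nat.card (h.comp v) = 2 by omega) with e | e
      · exact ⟨0, e⟩
      · exact ⟨1, e⟩
    · omega
  obtain ⟨w, hw⟩ := exists_ne (0 : V)
  have h168 : Nat.card Γ = 168 := by rw [hcardG, hcardL w hw, hthree w hw]
  refine ⟨fun γ => ?_, fun v hv => ?_, fun g hg => ?_⟩
  · have hb : Function.Bijective L := (Nat.bijective_iff_injective_and_card L).2 ⟨hLinj,
      le_antisymm (Nat.card_le_card_of_injective L hLinj) (h168 ▸ Exception.card_aut_le hE h8')⟩
    obtain ⟨g, hg⟩ := hb.2 γ.toMultiplicative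
    exact ⟨g, fun x => congrArg (fun δ : MulAut (Multiplicative V) => (δ (Multiplicative.ofAdd x)).toAdd) hg⟩
  · haveI : Fact (Nat.Prime 3) := ⟨Nat.prime_three⟩
    obtain ⟨k, hk⟩ := exists_prime_orderOf_dvd_card' (G := h.comp v) 3 (by rw [hthree v hv])
    obtain ⟨hk0, hkv⟩ := h.mem_comp.1 k.2
    refine ⟨(k : Γ), hk0, hkv, fun x hx => ?_⟩
    by_contra hxv
    push Not at hxv
    obtain ⟨hx0, hxv⟩ := hxv
    have hne : (k : Γ) ≠ 1 := fun e => by
      rw [show k = 1 from Subtype.ext e, orderOf_one] at hk; omega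
    obtain ⟨y, hy⟩ : ∃ y, (k : Γ) • y ≠ y := by
      by_contra hall
      push Not at hall
      exact hne (Subtype.ext (Equiv.ext hall))
    obtain ⟨z, hz⟩ : ∃ z : Exception.Indep (Multiplicative.ofAdd v) (Multiplicative.ofAdd x) (Multiplicative.ofAdd y),
        True := by
      refine ⟨⟨hv, hx0, hxv, fun e => hy ?_, fun e => hy ?_, fun e => hy ?_, fun e => hy ?_⟩, trivial⟩
      · rw [show y = 0 from e]; exact hk0
      · rw [show y = v from e]; exact hkv
      · rw [show y = x from e]; exact hx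
      · rw [show y = v + x from e, h.lin_add hk0, hkv, hx]
    obtain ⟨p, hp⟩ := (Exception.coordHom_bijective hE h8' z).2 (Multiplicative.ofAdd ((k : Γ) • y))
    obtain ⟨⟨i, j, m⟩, rfl⟩ : ∃ r : ZMod 2 × ZMod 2 × ZMod 2, Multiplicative.ofAdd r = p := ⟨p.toAdd, rfl⟩
    have hpe : (k : Γ) • y = i.val • v + j.val • x + m.val • y :=
      (congrArg Multiplicative.toAdd hp).symm
    have hfix : ∀ a b : ℕ, (k : Γ) • (a • v + b • x) = a • v + b • x := by
      intro a b
      let φ : V →+ V := AddMonoidHom.mk' (fun x => (k : Γ) • x) (h.lin_add hk0)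
      show φ (a • v + b • x) = a • v + b • x
      rw [map_add, map_nsmul, map_nsmul, show φ v = v from hkv, show φ x = x from hx]
    set s := i.val • v + j.val • x with hs
    rcases Exception.zmod2_cases m with rfl | rfl
    · rw [ZMod.val_zero, zero_nsmul, add_zero] at hpe
      exact hy (by
        have h1 := hfix i.val j.val
        rw [← hs, ← hpe] at h1
        exact MulAction.injective (k : Γ) h1)
    · rw [ZMod.val_one, one_nsmul] at hpe
      have h2 : ((k : Γ) ^ 2) • y = y := by
        rw [pow_two, mul_smul, hpe, h.lin_add hk0, hfix, hpe, ← add_assoc, h.two, zero_add]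
      have h3 : ((k : Γ) ^ 3) • y = y := by
        rw [← Subgroup.coe_pow, show k ^ 3 = 1 from hk ▸ pow_orderOf_eq_one k]; rfl
      rw [pow_succ', mul_smul, h2] at h3
      exact hy h3
  · have h21 : Nat.card (MulAction.stabilizer Γ (0 : V)) = 21 := by rw [hcardL w hw, hthree w hw]
    have hdvd := orderOf_dvd_natCard (⟨g, hg⟩ : MulAction.stabilizer Γ (0 : V))
    rw [h21, ← Subgroup.orderOf_coe] at hdvd
    exact Odd.of_dvd_nat (by decide) hdvd

end AffSinger

end CfsgLib.AschCrit
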