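import Cfsg.Agent.Lib.Invol.AschCrit.OrbitProof
import Cfsg.Agent.Lib.Invol.AschCrit.Model
import Cfsg.Agent.Lib.Invol.AschCrit.ExceptionAffine

/-!
Owner: helper7. Aschbacher's criterion, slice F: a frame without translations has eight points and its coset
stabiliser induces the full linear group.

* `Exc`: the facts.
* `Crit.exc`: they hold without translations.
-/

set_option autoImplicit false
set_option linter.style.haveILetI false
set_option linter.unusedSectionVars false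

namespace CfsgLib.AschCrit

open Subgroup MulAction

universe u v

variable {G : Type u} [Group G] [Finite G] {Ω : Type v} [MulAction G Ω]

/-- The centraliser of `u` and `E` at `a`. -/
def exK (u : G) (a : Ω) (E : Subgroup G) : Subgroup G :=
  MulAction.stabilizer G a ⊓ Subgroup.centralizer (insert u (E : Set G))

theorem mem_exK {u : G} {a : Ω} {E : Subgroup G} {g : G} :
    g ∈ exK u a E ↔ g • a = a ∧ Commute g u ∧ ∀ e ∈ E, Commute g e := by
  simp only [exK, Subgroup.mem_inf, Subgroup.mem_centralizer_iff, MulAction.mem_stabilizer_iff,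
    Set.forall_mem_insert, Commute, SemiconjBy, SetLike.mem_coe]
  exact ⟨fun ⟨h1, h2, h3⟩ => ⟨h1, h2.symm, fun e he => (h3 e he).symm⟩,
    fun ⟨h1, h2, h3⟩ => ⟨h1, h2.symm, fun e he => (h3 e he).symm⟩⟩

theorem exK_le_cosetGrp {u : G} {a : Ω} {E : Subgroup G} : exK u a E ≤ cosetGrp u a E := by
  intro g hg
  obtain ⟨hga, hgu, hgE⟩ := mem_exK.1 hg
  refine ⟨hga, fun e he => ⟨?_, ?_⟩, ?_⟩
  · rw [(hgE e he).eq, mul_inv_cancel_right]; exact he
  · rw [mul_assoc, ← (hgE e he).eq, inv_mul_cancel_left]; exact he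
  · rw [hgu.eq, mul_inv_cancel_right, inv_mul_cancel]; exact one_mem _

/-- The coset stabiliser without translations. -/
structure Exc (u : G) (a : Ω) (E : Subgroup G) (t : G) : Prop where
  card : Nat.card E = 8
  sq : ∀ e ∈ E, e * e = 1
  comm : ∀ e ∈ E, ∀ f ∈ E, Commute e f
  t_mem : t ∈ cosetGrp u a E
  t_comm : Commute t u
  t_trans : ∀ e ∈ E, ∀ f ∈ E, e ≠ 1 → f ≠ 1 → ∃ j : ℕ, t ^ j * e * (t ^ j)⁻¹ = f
  /-- The centraliser of `E` moves no point of the coset. -/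
  triv : ∀ g ∈ cosetGrp u a E, (∀ e ∈ E, Commute g e) → Commute g u
  /-- A transitive subgroup with the torus induces every automorphism. -/
  onto : ∀ N : Subgroup G, N ≤ cosetGrp u a E → (∀ e ∈ E, ∃ g ∈ N, g * u * g⁻¹ = u * e) →
    (∃ g ∈ N, Commute g u ∧ ∀ e ∈ E, g * e * g⁻¹ = t * e * t⁻¹) →
    ∀ γ : MulAut E, ∃ g ∈ N, ∀ x : E, g * (x : G) * g⁻¹ = ((γ x : E) : G)
  trans : ∀ e ∈ E, ∃ g ∈ cosetGrp u a E, g * u * g⁻¹ = u * e
  fix : ∀ v ∈ E, v ≠ 1 → ∃ k ∈ cosetGrp u a E, Commute k u ∧ Commute k v ∧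
    ∀ e ∈ E, Commute k e → e = 1 ∨ e = v
  odd : ∀ g ∈ cosetGrp u a E, Commute g u → (∃ n : ℕ, g ^ 2 ^ n = 1) → ∀ e ∈ E, Commute g e

namespace Exc

variable {u t : G} {a : Ω} {E : Subgroup G} (hx : Exc u a E t)
include hx

/-- The whole coset stabiliser induces every automorphism. -/
theorem onto_top (γ : MulAut E) : ∃ g ∈ cosetGrp u a E, ∀ x : E, g * (x : G) * g⁻¹ = ((γ x : E) : G) :=
  hx.onto _ le_rfl hx.trans ⟨t, hx.t_mem, hx.t_comm, fun _ _ => rfl⟩ γ

/-- The torus lies in no smaller group than `cosetGrp` fixing `u`. -/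
theorem mem_exK_iff {g : G} : g ∈ exK u a E ↔ g ∈ cosetGrp u a E ∧ ∀ e ∈ E, Commute g e :=
  ⟨fun hg => ⟨exK_le_cosetGrp hg, (mem_exK.1 hg).2.2⟩,
    fun hg => mem_exK.2 ⟨hg.1.1, hx.triv g hg.1 hg.2, hg.2⟩⟩

end Exc

namespace Crit

variable {D : Set G} (h : Crit Ω D)
include h

/-- Without translations the coset stabiliser induces the full linear group. -/
theorem exc (hcc : CosetClass Ω D) {u : G} {a b : Ω} {E : Subgroup G} {q i : ℕ} (ht : TopFrame D u a b E q i)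
    (hq : q = 8) (hno : ¬ HasTrans u a E) : ∃ t : G, Exc u a E t := by
  classical
  have hl := ht.data
  letI : CommGroup E := { (inferInstance : Group E) with
    mul_comm := fun x y => Subtype.ext (hl.comm x x.2 y y.2) }
  have hsq : ∀ x : E, x * x = 1 := fun x => by
    rcases eq_or_ne x 1 with e | e
    · rw [e, one_mul]
    · exact Subtype.ext (h.sq (hl.mem x x.2 fun e1 => e (Subtype.ext e1)).1)
  obtain ⟨σ, hσ⟩ := exists_cosetHom (u := u) (a := a) (E := E)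
  let σ' : cosetGrp u a E →* Equiv.Perm (Additive E) := σ
  have happly : ∀ (g : cosetGrp u a E) (x : E), Commute (g : G) u → ((σ g x : E) : G) = (g : G) * x * (g : G)⁻¹ :=
    fun g x hgu => by rw [hσ, hgu.eq, mul_inv_cancel_right, inv_mul_cancel, one_mul]
  have hlin : ∀ (g : cosetGrp u a E) (x : E),
      ((σ g x * σ g 1 : E) : G) = (g : G) * x * (g : G)⁻¹ := fun g x => by
    set c : E := σ g 1 with hc
    have h1 : σ g x = c * ⟨(g : G) * x * (g : G)⁻¹, (g.2.2.1 _ x.2).1⟩ := Subtype.ext (by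
      rw [Subgroup.coe_mul, hc, hσ, hσ, Subgroup.coe_one, mul_one, mul_inv_cancel, mul_one])
    rw [h1, mul_comm c, mul_assoc, hsq, mul_one]
  have hcomm_u : ∀ (g : cosetGrp u a E), σ g (1 : E) = 1 → Commute (g : G) u := fun g hg0 => by
    have e : ((σ g (1 : E) : E) : G) = ((1 : E) : G) := congrArg (fun z : E => (z : G)) hg0
    rw [hσ, Subgroup.coe_one, mul_one, mul_inv_cancel, mul_one] at e
    exact mul_inv_eq_iff_eq_mul.1 (inv_mul_eq_one.1 e).symm
  have hzero : ∀ (g : cosetGrp u a E), Commute (g : G) u → σ g (1 : E) = 1 := fun g hg => Subtype.ext (by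
    rw [happly g 1 hg, Subgroup.coe_one, mul_one, mul_inv_cancel])
  obtain ⟨t, hto, htu, hta, htb, htE, htr, hnorm⟩ := hl.torus
  have htE' : ∀ e ∈ E, t⁻¹ * e * t ∈ E := fun e he => by
    obtain ⟨⟨f, hf⟩, hf'⟩ := Finite.surjective_of_injective
      (f := fun f : E => (⟨t * f * t⁻¹, htE f f.2⟩ : E))
      (fun f f' e' => Subtype.ext ((MulAut.conj t).injective (congrArg Subtype.val e' :))) ⟨e, he⟩
    rw [← show t * f * t⁻¹ = e from congrArg Subtype.val hf', show t⁻¹ * (t * f * t⁻¹) * t = f by group]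
    exact hf
  have htm : t ∈ cosetGrp u a E := ⟨hta, fun e he => ⟨htE e he, htE' e he⟩, by
    rw [htu.eq, mul_inv_cancel_right, inv_mul_cancel]; exact one_mem _⟩
  -- the permutation groups
  have hsinger : ∀ (N : Subgroup G), N ≤ cosetGrp u a E → (∀ e ∈ E, ∃ g ∈ N, g * u * g⁻¹ = u * e) →
      ∀ τ : cosetGrp u a E, (τ : G) ∈ N → Commute (τ : G) u →
      (∀ e ∈ E, (τ : G) * e * (τ : G)⁻¹ = t * e * t⁻¹) →
      ∃ c : (N.subgroupOf (cosetGrp u a E)).map σ',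
        AffSinger ((N.subgroupOf (cosetGrp u a E)).map σ') c := by
    intro N hN hNt τ hτN hτu hτe
    have hpow : ∀ (j : ℕ) (x : E), ((σ (τ ^ j) x : E) : G) = t ^ j * x * (t ^ j)⁻¹ := by
      intro j
      induction j with
      | zero => intro x; simp
      | succ j ih =>
        intro x
        rw [pow_succ', map_mul, Equiv.Perm.mul_apply, happly _ _ hτu, ih,
          hτe _ (by rw [← ih]; exact SetLike.coe_mem _), pow_succ']
        group
    refine ⟨⟨σ' τ, τ, Subgroup.mem_subgroupOf.2 hτN, rfl⟩, ⟨fun x => hsq x.toMul, ?_, ?_, ?_, ?_, ?_⟩⟩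
    · rintro ⟨_, g, -, rfl⟩ x y
      show σ g (x.toMul * y.toMul) = σ g x.toMul * σ g y.toMul * σ g 1
      have e1 := hlin g (x.toMul * y.toMul)
      have e2 : ((σ g x.toMul * σ g 1 * (σ g y.toMul * σ g 1) : E) : G) =
          (g : G) * ((x.toMul * y.toMul : E) : G) * (g : G)⁻¹ := by
        rw [Subgroup.coe_mul, hlin, hlin, Subgroup.coe_mul]; group
      have e3 := Subtype.ext (e1.trans e2.symm)
      calc σ g (x.toMul * y.toMul) = σ g (x.toMul * y.toMul) * σ g 1 * σ g 1 := by rw [mul_assoc, hsq, mul_one]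
        _ = σ g x.toMul * σ g 1 * (σ g y.toMul * σ g 1) * σ g 1 := by rw [e3]
        _ = σ g x.toMul * σ g y.toMul * σ g 1 := by
          rw [mul_mul_mul_comm, hsq, mul_one]
    · intro x
      obtain ⟨g, hg, hgu⟩ := hNt _ x.toMul.2
      refine ⟨⟨σ' ⟨g, hN hg⟩, ⟨g, hN hg⟩, Subgroup.mem_subgroupOf.2 hg, rfl⟩, ?_⟩
      show σ ⟨g, hN hg⟩ (1 : E) = x.toMul
      refine Subtype.ext ?_
      rw [hσ, Subgroup.coe_one, mul_one, mul_inv_cancel, mul_one]
      show u⁻¹ * (g * u * g⁻¹) = _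
      rw [hgu, inv_mul_cancel_left]
    · exact hzero τ hτu
    · intro x y hx hy
      obtain ⟨j, hj⟩ := htr _ x.toMul.2 _ y.toMul.2 (fun e => hx (Subtype.ext e)) (fun e => hy (Subtype.ext e))
      refine ⟨j, ?_⟩
      show (σ' τ ^ j) x = y
      rw [← map_pow]
      exact Subtype.ext ((hpow j x.toMul).trans hj)
    · rintro ⟨_, g, hg, rfl⟩ hg0
      have hgu : Commute (g : G) u := hcomm_u g hg0
      obtain ⟨j, hj⟩ := hnorm g hgu g.2.1 (fun e he => (g.2.2.1 e he).1)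
      refine ⟨j, Subtype.ext ?_⟩
      show σ' τ ^ (j : ℤ) = _
      rw [zpow_natCast, ← map_pow]
      show σ' (τ ^ j) = σ' g * σ' τ * (σ' g)⁻¹
      rw [← map_inv, ← map_mul, ← map_mul]
      refine Equiv.ext fun x => Additive.toMul.injective (Subtype.ext ?_)
      show ((σ (τ ^ j) x.toMul : E) : G) = ((σ (g * τ * g⁻¹) x.toMul : E) : G)
      have hc : Commute ((g * τ * g⁻¹ : cosetGrp u a E) : G) u := by
        show Commute ((g : G) * (τ : G) * (g : G)⁻¹) u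
        exact (hgu.mul_left hτu).mul_left hgu.inv_left
      rw [happly _ _ hc, hpow]
      refine (hj x.toMul x.toMul.2).symm.trans ?_
      show (g : G) * t * (g : G)⁻¹ * x.toMul * ((g : G) * t * (g : G)⁻¹)⁻¹ =
        (g : G) * (τ : G) * (g : G)⁻¹ * x.toMul * ((g : G) * (τ : G) * (g : G)⁻¹)⁻¹
      have he : (g : G)⁻¹ * x.toMul * g ∈ E := (g.2.2.1 _ x.toMul.2).2
      calc (g : G) * t * (g : G)⁻¹ * x.toMul * ((g : G) * t * (g : G)⁻¹)⁻¹
          = g * (t * ((g : G)⁻¹ * x.toMul * g) * t⁻¹) * (g : G)⁻¹ := by group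
        _ = g * ((τ : G) * ((g : G)⁻¹ * x.toMul * g) * (τ : G)⁻¹) * (g : G)⁻¹ := by rw [hτe _ he]
        _ = _ := by group
  have htop : ∀ e ∈ E, ∃ g ∈ cosetGrp u a E, g * u * g⁻¹ = u * e := fun e he =>
    (hcc u a b E q i ht).1 e he
  obtain ⟨c, hS⟩ := hsinger _ le_rfl htop ⟨t, htm⟩ htm htu fun _ _ => rfl
  set Γ := ((cosetGrp u a E).subgroupOf (cosetGrp u a E)).map σ' with hΓ
  have hmemΓ : ∀ g : cosetGrp u a E, σ' g ∈ Γ := fun g => ⟨g, Subgroup.mem_subgroupOf.2 g.2, rfl⟩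
  have hnoT : NoTrans Γ := hS.all_or_noTrans.resolve_left fun hall => hno fun w hw => by
    obtain ⟨g, -, hg⟩ := hall (Additive.ofMul ⟨w, hw⟩)
    have hval : ∀ x : E, ((σ g x : E) : G) = (x : G) * w := fun x =>
      congrArg (fun z : E => (z : G)) (Equiv.congr_fun hg x)
    have h0 : u⁻¹ * ((g : G) * u * (g : G)⁻¹) = w := by
      have := hval 1
      simpa [hσ] using this
    refine ⟨g, g.2.1, fun e he => ?_, by rw [← h0, mul_inv_cancel_left]⟩
    have := hval ⟨e, he⟩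
    rw [hσ, h0, ← (hl.comm w hw e he).eq] at this
    exact mul_inv_eq_iff_eq_mul.1 (mul_left_cancel this)
  have h8 : Nat.card (Additive E) = 8 := (Nat.card_congr Additive.toMul).trans (hl.card_E.trans hq)
  have htriv : ∀ g ∈ cosetGrp u a E, (∀ e ∈ E, Commute g e) → Commute g u := by
    intro g hg hgE
    refine hcomm_u ⟨g, hg⟩ ?_
    have h1 := hnoT ⟨σ' ⟨g, hg⟩, hmemΓ _⟩ fun x => by
      show σ ⟨g, hg⟩ x.toMul = x.toMul * σ ⟨g, hg⟩ 1
      have e1 := hlin ⟨g, hg⟩ x.toMul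
      rw [show ((⟨g, hg⟩ : cosetGrp u a E) : G) = g from rfl, (hgE _ x.toMul.2).eq, mul_inv_cancel_right] at e1
      calc σ ⟨g, hg⟩ x.toMul = σ ⟨g, hg⟩ x.toMul * σ ⟨g, hg⟩ 1 * σ ⟨g, hg⟩ 1 := by
            rw [mul_assoc, hsq, mul_one]
        _ = _ := by rw [Subtype.ext e1]
    have h2 : σ' ⟨g, hg⟩ = 1 := congrArg Subtype.val h1
    exact Equiv.congr_fun h2 (1 : E)
  refine ⟨t, hl.card_E.trans hq, fun e he => congrArg Subtype.val (hsq ⟨e, he⟩), hl.comm, htm, htu, htr, htriv,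
    fun N hN hNt hNτ γ => ?_, htop, fun v hv hv1 => ?_, fun g hg hgu hgn e he => ?_⟩
  · obtain ⟨τ, hτN, hτu, hτe⟩ := hNτ
    obtain ⟨c', hS'⟩ := hsinger N hN hNt ⟨τ, hN hτN⟩ hτN hτu hτe
    have hno' : NoTrans ((N.subgroupOf (cosetGrp u a E)).map σ') := by
      rintro ⟨_, g, hg, rfl⟩ hgt
      exact Subtype.ext (congrArg Subtype.val (hnoT ⟨σ' g, hmemΓ g⟩ hgt) :)
    obtain ⟨⟨_, g, hg, rfl⟩, hgγ⟩ := (hS'.eight hno' h8).1 γ.toAdditive
    refine ⟨g, Subgroup.mem_subgroupOf.1 hg, fun x => ?_⟩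
    rw [← hlin g x]
    exact congrArg Subtype.val (hgγ (Additive.ofMul x) : σ g x * σ g 1 = γ x)
  · have hv0 : (Additive.ofMul ⟨v, hv⟩ : Additive E) ≠ 0 := fun e => hv1 (congrArg (fun z : E => (z : G)) e)
    obtain ⟨k', hk0, hkv, hkfix⟩ := (hS.eight hnoT h8).2.1 _ hv0
    obtain ⟨_, k, hkm, rfl⟩ := k'
    have hku := hcomm_u k hk0
    refine ⟨k, k.2, hku, ?_, fun e he hke => ?_⟩
    · have e1 := happly k ⟨v, hv⟩ hku
      rw [show σ k ⟨v, hv⟩ = ⟨v, hv⟩ from hkv] at e1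
      exact mul_inv_eq_iff_eq_mul.1 e1.symm
    · rcases hkfix (Additive.ofMul ⟨e, he⟩) (Subtype.ext (by
        show ((σ k ⟨e, he⟩ : E) : G) = e
        rw [happly k ⟨e, he⟩ hku, hke.eq, mul_inv_cancel_right])) with h1 | h1
      · exact Or.inl (congrArg (fun z : E => (z : G)) h1)
      · exact Or.inr (congrArg (fun z : E => (z : G)) h1)
  · obtain ⟨n, hn⟩ := hgn
    have hodd := (hS.eight hnoT h8).2.2 ⟨σ' ⟨g, hg⟩, hmemΓ _⟩ (hzero ⟨g, hg⟩ hgu)
    have h1 : orderOf (⟨σ' ⟨g, hg⟩, hmemΓ _⟩ : Γ) ∣ 2 ^ n := by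
      refine orderOf_dvd_of_pow_eq_one (Subtype.ext ?_)
      show σ' ⟨g, hg⟩ ^ 2 ^ n = 1
      rw [← map_pow, show (⟨g, hg⟩ : cosetGrp u a E) ^ 2 ^ n = 1 from Subtype.ext (by simpa using hn), map_one]
    have h2 : σ' ⟨g, hg⟩ = 1 := congrArg Subtype.val
      (orderOf_eq_one_iff.1 (Nat.eq_one_of_dvd_coprimes ((Nat.coprime_two_left.2 hodd).pow_left n) h1 dvd_rfl))
    have h3 := happly ⟨g, hg⟩ ⟨e, he⟩ hgu
    rw [show σ ⟨g, hg⟩ = 1 from h2] at h3
    exact mul_inv_eq_iff_eq_mul.1 h3.symm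

end Crit

end CfsgLib.AschCrit
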