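import Cfsg.Agent.Lib.Invol.AschCrit.FormulaSwap
import Cfsg.Agent.Lib.Invol.AschCrit.FormulaCount

/-!
Owner: helper7. Aschbacher's criterion, the counting formula (slice D).

* `Crit.card_swap_fibre_dvd`: the swappers with one point divide the fibre.
* `Crit.formula`: the interface `Formula`.
-/

set_option autoImplicit false
set_option linter.unusedSectionVars false
set_option linter.style.haveILetI false

namespace CfsgLib.AschCrit

open Subgroup

universe u v

variable {G : Type u} [Group G] [Finite G] {Ω : Type v} [MulAction G Ω]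

/-- The elements of `C(w)` acting on the fixed points of `w` as `1` or as `t`. -/
def actGrp (w t : G) (ht : t * t = 1) (htw : Commute t w) : Subgroup G where
  carrier := {g | Commute g w ∧
    ((∀ x : Ω, w • x = x → g • x = x) ∨ (∀ x : Ω, w • x = x → g • x = t • x))}
  one_mem' := ⟨Commute.one_left w, Or.inl fun x _ => one_smul _ x⟩
  mul_mem' := by
    rintro g k ⟨hg, hg'⟩ ⟨hk, hk'⟩
    refine ⟨hg.mul_left hk, ?_⟩
    have htx : ∀ x : Ω, w • x = x → w • t • x = t • x := fun x hx => by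
      rw [← mul_smul, ← htw.eq, mul_smul, hx]
    rcases hg' with hg' | hg' <;> rcases hk' with hk' | hk'
    · exact Or.inl fun x hx => by rw [mul_smul, hk' x hx, hg' x hx]
    · exact Or.inr fun x hx => by rw [mul_smul, hk' x hx, hg' _ (htx x hx)]
    · exact Or.inr fun x hx => by rw [mul_smul, hk' x hx, hg' x hx]
    · exact Or.inl fun x hx => by rw [mul_smul, hk' x hx, hg' _ (htx x hx), ← mul_smul, ht, one_smul]
  inv_mem' := by
    rintro g ⟨hg, hg'⟩
    refine ⟨hg.inv_left, ?_⟩
    rcases hg' with hg' | hg'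
    · exact Or.inl fun x hx => inv_smul_eq_iff.2 (hg' x hx).symm
    · refine Or.inr fun x hx => inv_smul_eq_iff.2 ?_
      rw [hg' _ (by rw [← mul_smul, ← htw.eq, mul_smul, hx]), ← mul_smul, ht, one_smul]

namespace Crit

variable {D : Set G} (h : Crit Ω D)
include h

/-- The swappers at the point of `t` commuting with `w` divide the fibre of `t`. -/
theorem card_swap_fibre_dvd (hf : Faithful G Ω) {a b : Ω} {t w : G}
    (ht : t ∈ D) (hta : t • a = b) (hw : IsMulti Ω w) (htw : Commute t w) {p : Ω} (htp : t • p = p)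
    (hfix : ∀ s ∈ fib D w p t, ∀ x : Ω, w • x = x → (s * t) • x = x) :
    Nat.card {s : G // s ∈ fib D w p t ∧ s • a = b} ∣ Nat.card (fib D w p t) := by
  classical
  have htt := h.sq ht
  have hti : t⁻¹ = t := inv_eq_of_mul_eq_one_right htt
  have hwp : w • p = p := h.fix_of_commute' ht htw.symm htp
  set H := actGrp (Ω := Ω) w t htt htw with hH
  have htH : t ∈ H := ⟨htw, Or.inr fun x _ => rfl⟩
  have hHp : ∀ g ∈ H, g • p = p := by
    rintro g ⟨-, hg | hg⟩
    · exact hg p hwp
    · rw [hg p hwp, htp]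
  obtain ⟨x₁, x₂, hx12, hwx1, hwx2⟩ := hw.2
  have hiso : Cfsg.IsIsolatedInvolution (⟨t, htH⟩ : H) := by
    refine ⟨by rw [Subgroup.orderOf_mk]; exact h.inv t ht, ?_⟩
    rintro ⟨g, hg⟩ hcom
    refine Subtype.ext (?_ : g * t * g⁻¹ = t)
    by_contra hne
    have hcom' : Commute t (g * t * g⁻¹) := congrArg Subtype.val hcom
    have hact : ∀ x : Ω, w • x = x → (t * (g * t * g⁻¹)) • x = x := by
      intro x hx
      have hgi : w • g⁻¹ • x = g⁻¹ • x := by rw [← mul_smul, ← hg.1.inv_left.eq, mul_smul, hx]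
      rcases hg.2 with hg' | hg'
      · have e1 : g⁻¹ • x = x := inv_smul_eq_iff.2 (hg' x hx).symm
        have htx : w • t • x = t • x := by rw [← mul_smul, ← htw.eq, mul_smul, hx]
        rw [mul_smul, mul_smul, mul_smul, e1, hg' _ htx, ← mul_smul, htt, one_smul]
      · have e1 : g⁻¹ • x = t • x := inv_smul_eq_iff.2
          (by rw [hg' _ (by rw [← mul_smul, ← htw.eq, mul_smul, hx]), ← mul_smul, htt, one_smul])
        have e2 : t • g⁻¹ • x = x := by rw [e1, ← mul_smul, htt, one_smul]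
        rw [mul_smul, mul_smul, mul_smul, e2, hg' x hx, ← mul_smul, htt, one_smul]
    exact hx12 ((h.pair_single ht (h.conj t ht g) (Ne.symm hne) hcom' htp (hact x₁ hwx1)).trans
      (h.pair_single ht (h.conj t ht g) (Ne.symm hne) hcom' htp (hact x₂ hwx2)).symm)
  set O := (Cfsg.oddCore H).map H.subtype with hO
  have hOodd : Odd (Nat.card O) := by
    rw [card_map_of_injective H.subtype_injective]
    exact ZStar.odd_card_oddCore H
  have hOH : O ≤ H := map_subtype_le _
  have htO : t ∈ normalizer (O : Set G) := by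
    have := Subgroup.le_normalizer_map (H := Cfsg.oddCore H) H.subtype
      ⟨⟨t, htH⟩, by rw [Subgroup.normalizer_eq_top]; exact mem_top _, rfl⟩
    exact this
  have hsO : ∀ s ∈ fib D w p t, s * t ∈ O := by
    intro s hs
    obtain ⟨⟨hsD, hsp, hsw⟩, hodd⟩ := hs
    have hstH : s * t ∈ H := ⟨hsw.mul_left htw, Or.inl (hfix s ⟨⟨hsD, hsp, hsw⟩, hodd⟩)⟩
    have hsH : s ∈ H := by simpa [mul_assoc, htt] using mul_mem hstH htH
    obtain ⟨y, hy, hyt⟩ := CfsgLib.Signalizer.exists_conj_of_odd (h.inv t ht) (h.inv s hsD) (by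
      have : orderOf (t * s) = orderOf (s * t) := by
        rw [← orderOf_inv (s * t), mul_inv_rev, hti, inv_eq_of_mul_eq_one_right (h.sq hsD)]
      rwa [this])
    have hyH : y ∈ H := (Subgroup.closure_le H).2 (by rintro x (rfl | rfl); exacts [htH, hsH]) hy
    have h1 := inv_mem (mem_map_of_mem H.subtype (ZStar.mem_oddCore_of_isolated hiso ⟨y, hyH⟩))
    show s * t ∈ O
    rw [← hyt]
    convert h1 using 1
    show y * t * y⁻¹ * t = (t * y * t⁻¹ * y⁻¹)⁻¹
    simp [mul_assoc, hti]
  have hback : ∀ y ∈ invertedIn O t, y * t ∈ fib D w p t := by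
    rintro y ⟨hy, hinv⟩
    have hodd : Odd (orderOf y) := hOodd.of_dvd_nat (by
      rw [← Subgroup.orderOf_mk y hy]; exact orderOf_dvd_natCard _)
    obtain ⟨x, hx, hxt⟩ := exists_conj_of_inverted htt hodd hinv
    have hyH := hOH hy
    refine ⟨⟨hxt ▸ h.conj t ht x, ?_, hyH.1.mul_left htw⟩, ?_⟩
    · rw [mul_smul, htp, hHp y hyH]
    · rw [mul_assoc, htt, mul_one]
      exact hodd
  have hinv : ∀ s : G, s ∈ D → t * (s * t) * t⁻¹ = (s * t)⁻¹ := fun s hs => by
    rw [mul_inv_rev, hti, inv_eq_of_mul_eq_one_right (h.sq hs)]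
    simp only [mul_assoc, htt, mul_one]
  have e1 : Nat.card (fib D w p t) = Nat.card (invertedIn O t) := Nat.card_congr
    { toFun := fun s => ⟨s.1 * t, hsO s s.2, hinv _ s.2.1.1⟩
      invFun := fun y => ⟨y.1 * t, hback _ y.2⟩
      left_inv := fun s => Subtype.ext (by simp only [mul_assoc, htt, mul_one])
      right_inv := fun y => Subtype.ext (by simp only [mul_assoc, htt, mul_one]) }
  set Y := O ⊓ pairFix (G := G) a b with hY
  have htS : t ∈ pairSet (G := G) a b := Or.inr ⟨hta, h.swap_back' ht hta⟩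
  have htY : t ∈ normalizer (Y : Set G) := by
    refine mem_normalizer_iff.2 fun x => ?_
    rw [hY, mem_inf, mem_inf]
    refine and_congr (mem_normalizer_iff.1 htO x) ⟨fun hx => conj_mem_pairFix htS hx, fun hx => ?_⟩
    have := conj_mem_pairFix (inv_mem htS) hx
    simpa [mul_assoc] using this
  have e2 : Nat.card {s : G // s ∈ fib D w p t ∧ s • a = b} = Nat.card (invertedIn Y t) := Nat.card_congr
    { toFun := fun s => ⟨s.1 * t, ⟨hsO s s.2.1, by
          refine ⟨?_, ?_⟩
          · show (s.1 * t) • a = a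
            rw [mul_smul, hta, h.swap_back' s.2.1.1.1 s.2.2]
          · show (s.1 * t) • b = b
            rw [mul_smul, h.swap_back' ht hta, s.2.2]⟩, hinv _ s.2.1.1.1⟩
      invFun := fun y => ⟨y.1 * t, hback _ ⟨y.2.1.1, y.2.2⟩, by
        rw [mul_smul, hta]; exact y.2.1.2.2⟩
      left_inv := fun s => Subtype.ext (by simp only [mul_assoc, htt, mul_one])
      right_inv := fun y => Subtype.ext (by simp only [mul_assoc, htt, mul_one]) }
  rw [e1, e2]
  exact card_invertedIn_dvd hOodd htt htO htY inf_le_left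

/-- The swappers commuting with `w` fall evenly over their points. -/
theorem card_swappers_points (hf : Faithful G Ω) {a b : Ω} (hab : a ≠ b) {t w : G} (ht : t ∈ D)
    (hta : t • a = b) (htw : Commute t w) {p : Ω} (htp : t • p = p) :
    Nat.card {s : G // s ∈ D ∧ s • a = b ∧ Commute s w} =
      Nat.card (swapPoints D w a b) * Nat.card {s : G // s ∈ fib D w p t ∧ s • a = b} := by
  classical
  haveI := h.finite_points
  haveI := Fintype.ofFinite (swapPoints D w a b)
  have htt := h.sq ht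
  have hti : t⁻¹ = t := inv_eq_of_mul_eq_one_right htt
  have e : {s : G // s ∈ D ∧ s • a = b ∧ Commute s w} ≃
      Σ x : swapPoints D w a b, {s : G // s ∈ D ∧ s • a = b ∧ Commute s w ∧ s • (x : Ω) = x} :=
    { toFun := fun s => ⟨⟨_, s.1, s.2.1, s.2.2.1, s.2.2.2, (h.fix_exists s.1 s.2.1).choose_spec⟩,
        s.1, s.2.1, s.2.2.1, s.2.2.2, (h.fix_exists s.1 s.2.1).choose_spec⟩
      invFun := fun q => ⟨q.2.1, q.2.2.1, q.2.2.2.1, q.2.2.2.2.1⟩
      left_inv := fun _ => rfl
      right_inv := by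
        rintro ⟨⟨x, hx⟩, s, hs, hsa, hsw, hsx⟩
        exact Sigma.subtype_ext (Subtype.ext (h.fix_unique s hs _ _ (h.fix_exists s hs).choose_spec hsx)) rfl }
  have hodd : ∀ {s : G}, s ∈ D → s • a = b → s * t ∈ pairCore a b ∧ Odd (orderOf (s * t)) := fun {s} hs hsa =>
    ⟨h.mul_mem_pairCore hf hab ht hs hta hsa, (odd_pairCore (G := G) a b).of_dvd_nat (by
      rw [← Subgroup.orderOf_mk (s * t) (h.mul_mem_pairCore hf hab ht hs hta hsa)]
      exact orderOf_dvd_natCard _)⟩
  have hc : ∀ x : swapPoints D w a b, Nat.card {s : G // s ∈ D ∧ s • a = b ∧ Commute s w ∧ s • (x : Ω) = x} =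
      Nat.card {s : G // s ∈ fib D w p t ∧ s • a = b} := by
    rintro ⟨x, s, hs, hsa, hsw, hsx⟩
    obtain ⟨hmem, ho⟩ := hodd hs hsa
    obtain ⟨k, hk, hkt⟩ := exists_conj_of_inverted htt ho (y := s * t) (by
      rw [mul_inv_rev, hti, inv_eq_of_mul_eq_one_right (h.sq hs)]
      simp only [mul_assoc, htt, mul_one])
    rw [mul_assoc s, htt, mul_one] at hkt
    have hkN : k ∈ pairFix (G := G) a b := pairCore_le a b ((zpowers_le.2 hmem) hk)
    have hkw : Commute k w := by
      obtain ⟨j, rfl⟩ := hk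
      exact (hsw.mul_left htw).zpow_left j
    have hkp : k • p = x := h.fix_unique s hs _ _ (by rw [← hkt, mul_smul, mul_smul, inv_smul_smul, htp]) hsx
    have hka : k • a = a := hkN.1
    have hkb : k • b = b := hkN.2
    refine (Nat.card_congr ((MulAut.conj k).toEquiv.subtypeEquiv fun r => ?_)).symm
    simp only [MulEquiv.toEquiv_eq_coe, MulEquiv.coe_toEquiv, MulAut.conj_apply]
    have hconj : Commute (k * r * k⁻¹) w ↔ Commute r w := by
      conv_lhs => rw [show w = k * w * k⁻¹ by rw [hkw.eq, mul_inv_cancel_right], Commute.conj_iff]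
    have hx' : (k * r * k⁻¹) • x = x ↔ r • p = p := by
      rw [← hkp, mul_smul, mul_smul, inv_smul_smul]
      exact ⟨fun e => MulAction.injective k e, fun e => by rw [e]⟩
    have ha' : (k * r * k⁻¹) • a = b ↔ r • a = b := by
      rw [mul_smul, mul_smul, inv_smul_eq_iff.2 hka.symm]
      constructor
      · intro e
        exact MulAction.injective k (e.trans hkb.symm)
      · intro e
        rw [e, hkb]
    constructor
    · rintro ⟨⟨⟨hrD, hrp, hrw⟩, -⟩, hra⟩
      exact ⟨h.conj r hrD k, ha'.2 hra, hconj.2 hrw, hx'.2 hrp⟩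
    · rintro ⟨hrD, hra, hrw, hrx⟩
      have hrD' : r ∈ D := by simpa [mul_assoc] using h.conjBack hrD k
      exact ⟨⟨⟨hrD', hx'.1 hrx, hconj.1 hrw⟩, (hodd hrD' (ha'.1 hra)).2⟩, ha'.1 hra⟩
  rw [Nat.card_congr e, Nat.card_sigma, Finset.sum_congr rfl (fun x _ => hc x), Finset.sum_const,
    smul_eq_mul, Finset.card_univ, ← Nat.card_eq_fintype_card]

/-- The swappers commuting with `u` are as many as the members centralising `u` at a point. -/
theorem card_swappers_commute_multi (hf : Faithful G Ω) {a b : Ω} (hab : a ≠ b) {t u : G} (ht : t ∈ D)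
    (htu : Commute t u) (hta : t • a = b) (hua : u • a = a) (hub : u • b = b) (hu : u * u = 1) :
    Nat.card {s : G // s ∈ D ∧ s • a = b ∧ Commute s u} = Nat.card (memsC D u a) := by
  obtain ⟨d, hd, hda, hdu⟩ := h.exists_mem_commute hu hua
  have hui : u⁻¹ = u := inv_eq_of_mul_eq_one_right hu
  have key : ∀ s : G, s ∈ D → s • a = b → (Commute s u ↔ Commute (s * d * s) u) := by
    intro s hs hsa
    refine ⟨fun hc => (hc.mul_left hdu).mul_left hc, fun hc => ?_⟩
    have hs' : (u * s * u⁻¹) ∈ D ∧ (u * s * u⁻¹) • a = b := ⟨h.conj s hs u, by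
      rw [mul_smul, mul_smul, inv_smul_eq_iff.2 hua.symm, hsa, hub]⟩
    have e : u * s * u⁻¹ * d * (u * s * u⁻¹) = s * d * s := by
      calc u * s * u⁻¹ * d * (u * s * u⁻¹) = u * s * (u⁻¹ * d * u) * s * u⁻¹ := by group
        _ = u * (s * d * s) * u⁻¹ := by
          rw [show u⁻¹ * d * u = d by rw [mul_assoc, hdu.eq, inv_mul_cancel_left]]
          group
        _ = _ := by rw [← hc.eq, mul_inv_cancel_right]
    have := congrArg Subtype.val ((h.swap_bijective hab hd hda).injective
      (a₁ := ⟨_, hs'⟩) (a₂ := ⟨s, hs, hsa⟩) (Subtype.ext e))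
    exact (mul_inv_eq_iff_eq_mul.1 this).symm
  let φ := Equiv.ofBijective _ (h.swap_bijective hab hd hda)
  have e1 : Nat.card {s : {s : G // s ∈ D ∧ s • a = b} // Commute (s : G) u} =
      Nat.card {m : mems D b // Commute (m : G) u} :=
    Nat.card_congr (φ.subtypeEquiv fun s => key s s.2.1 s.2.2)
  rw [← h.card_memsC_conj t u a, show t * u * t⁻¹ = u by rw [htu.eq, mul_inv_cancel_right], hta]
  have e2 : Nat.card {m : mems D b // Commute (m : G) u} = Nat.card (memsC D u b) :=
    Nat.card_congr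
      { toFun := fun m => ⟨m.1.1, m.1.2.1, m.1.2.2, m.2⟩
        invFun := fun m => ⟨⟨m.1, m.2.1, m.2.2.1⟩, m.2.2.2⟩
        left_inv := fun _ => rfl
        right_inv := fun _ => rfl }
  refine Eq.trans ?_ (e1.trans e2)
  exact Nat.card_congr
    { toFun := fun s => ⟨⟨s.1, s.2.1, s.2.2.1⟩, s.2.2.2⟩
      invFun := fun s => ⟨s.1.1, s.1.2.1, s.1.2.2, s.2⟩
      left_inv := fun _ => rfl
      right_inv := fun _ => rfl }

/-- The counting formula. -/
theorem formula (hf : Faithful G Ω) (IH : Below.{v, v} (Nat.card G)) (hcc : CosetClass Ω D) :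
    Formula Ω D := by
  classical
  intro u a b E q i hfr t ht htu hta
  haveI := h.finite_points
  have hu := hfr.multi
  have hl := hfr.data
  have hcc' := (hcc u a b E q i hfr).2
  have hu2 : u * u = 1 := by rw [← pow_two, ← hu.1, pow_orderOf_eq_one]
  have hab := hl.ne
  set v := u * t with hv
  have hcon : ∃ g : G, g * u * g⁻¹ = v := hcc' t ht htu
  have hvm : IsMulti Ω v := h.mulMulti hf u hu t ht htu.symm
  have htv : Commute t v := htu.mul_right (Commute.refl t)
  obtain ⟨p, htp⟩ := h.fix_exists t ht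
  have hvp : v • p = p := h.fix_of_commute' ht htv.symm htp
  obtain ⟨e₁, he₁, he₁1⟩ : ∃ e ∈ E, e ≠ 1 := by
    by_contra hno
    push Not at hno
    have : E = ⊥ := (Subgroup.eq_bot_iff_forall _).2 hno
    obtain ⟨s, hs, hq⟩ := hl.pow
    have h1 := hl.card_E
    rw [this, Subgroup.card_bot, hq] at h1
    exact (Nat.one_lt_pow (show s ≠ 0 by omega) one_lt_two).ne h1
  set ku := Nat.card (memsC D u a) with hku
  set c := Nat.card (fib D u a e₁) with hc
  set g := Nat.card (swapPoints D v a b) with hg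
  set c' := Nat.card {s : G // s ∈ fib D v p t ∧ s • a = b} with hc'
  set f := q ^ i + 1 with hfdef
  set k := Nat.card (mems D a) with hkdef
  -- the fibre of `t` at `v`
  have hfibv : Nat.card (fib D v p t) = c := h.card_fibre hu hl he₁ he₁1 hcon hvp ⟨ht, htp, htv⟩
  have hfixv : ∀ s ∈ fib D v p t, ∀ x : Ω, v • x = x → (s * t) • x = x := by
    intro s hs x hx
    obtain ⟨m, hmv, hmp⟩ := h.exists_normalise hu hl.fix_a hcon hvp
    have hmem : ∀ r : G, r ∈ memsC D v p → m⁻¹ * r * m ∈ memsC D u a := fun r hr => by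
      rw [← h.conj_memsC_iff m, show m * (m⁻¹ * r * m) * m⁻¹ = r by group, hmv, hmp]
      exact hr
    have hodd : Odd (orderOf (m⁻¹ * s * m * (m⁻¹ * t * m))) := by
      rw [show m⁻¹ * s * m * (m⁻¹ * t * m) = m⁻¹ * (s * t) * m⁻¹⁻¹ by group,
        CfsgLib.Signalizer.orderOf_conj]
      exact hs.2
    have hy : u • m⁻¹ • x = m⁻¹ • x := by
      rw [← hmv, mul_smul, mul_smul] at hx
      exact eq_inv_smul_iff.2 hx
    have := h.mul_fix_of_odd hf IH hu hl (hmem s hs.1) (hmem t ⟨ht, htp, htv⟩) hodd _ hy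
    rw [show m⁻¹ * s * m * (m⁻¹ * t * m) = m⁻¹ * (s * t) * m by group, mul_smul, smul_inv_smul,
      mul_smul] at this
    exact MulAction.injective m⁻¹ this
  obtain ⟨r, hr⟩ : c' ∣ c := hfibv ▸ h.card_swap_fibre_dvd hf ht hta hvm htv htp hfixv
  -- `k = k_u g c'`
  have hk : k = ku * (g * c') := by
    rw [hkdef, h.card_mems_eq a b, h.card_swappers_mul hf hab ht hu2 htu hta hl.fix_a hl.fix_b,
      h.card_swappers_commute_multi hf hab ht htu hta hl.fix_a hl.fix_b hu2,
      h.card_swappers_points hf hab ht hta htv htp]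
  have hkodd : Odd k := (h.odd_points a).2
  rw [hk, Nat.odd_mul, Nat.odd_mul] at hkodd
  obtain ⟨hkuodd, hgodd, hc'odd⟩ := hkodd
  have hkuc : ku = (q - 1) * c := h.card_memsC_fibres hl he₁ he₁1
  have hrodd : Odd r := by
    rw [hkuc, hr, Nat.odd_mul, Nat.odd_mul] at hkuodd
    exact hkuodd.2.2
  -- the points of the swappers
  have hgf : g ≤ f := by
    refine le_trans (Nat.card_mono (Set.toFinite {x : Ω | v • x = x}) ?_) ?_
    · rintro x ⟨s, hs, -, hsv, hsx⟩
      exact h.fix_of_commute' hs hsv.symm hsx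
    · show Nat.card {x : Ω // v • x = x} ≤ f
      rw [card_fix_conj hcon, hl.card_fix]
  -- the two counts
  have hfixc : k = Nat.card {x : G // x ∈ mems D a ∧ 4 ∣ orderOf (u * x)} + ku * c := by
    rw [hkdef, h.fixedCount u a hu hl.fix_a, h.card_fixed_pairs hu hl hcc' he₁ he₁1]
  set A := Nat.card {x : G // x ∈ mems D a ∧ 4 ∣ orderOf (u * x)} with hA
  have hmoved := h.card_moved hu hl.fix_a hcc' hl.card_fix hku.symm
  have hfn : f ≤ Nat.card Ω := by rw [hfdef, ← hl.card_fix]; exact Finite.card_subtype_le _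
  rw [← hkdef, hk] at hmoved
  rw [hk] at hfixc
  rw [hr] at hfixc
  rw [hr] at hkuc
  have hpos : 0 < ku * c' := Nat.mul_pos hkuodd.pos hc'odd.pos
  have hle : r ≤ g := by
    refine Nat.le_of_mul_le_mul_left ?_ hpos
    calc ku * c' * r = ku * (c' * r) := mul_assoc _ _ _
      _ ≤ A + ku * (c' * r) := Nat.le_add_left _ _
      _ = ku * (g * c') := hfixc.symm
      _ = ku * c' * g := by ring
  refine ⟨g, r, c' * r, c', rfl, mul_comm _ _, hgodd, hrodd, hle, hgf, hkuc, ?_, ?_, ?_⟩
  · rw [hk, hkuc]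
  · obtain ⟨m, hm⟩ : ∃ m, Nat.card Ω = m + f := ⟨Nat.card Ω - f, by omega⟩
    rw [hm, Nat.add_sub_cancel] at hmoved
    have e1 : g * m = f * (q ^ i) * ((q - 1) * r) := by
      refine Nat.eq_of_mul_eq_mul_left hpos ?_
      calc ku * c' * (g * m) = m * (ku * (g * c')) := by ring
        _ = f * ku * ((f - 1) * ku) := hmoved
        _ = f * ku * (q ^ i * ((q - 1) * (c' * r))) := by rw [hfdef, Nat.add_sub_cancel, ← hkuc]
        _ = _ := by ring
    rw [hm, show m + f - 1 = m + q ^ i by omega, mul_add, e1, hfdef]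
    ring
  · constructor
    · intro hgr x hx h4
      have hA0 : A = 0 := by
        rw [hgr] at hfixc
        have : ku * (r * c') = ku * (c' * r) := by ring
        omega
      haveI : Nonempty {x : G // x ∈ mems D a ∧ 4 ∣ orderOf (u * x)} := ⟨⟨x, hx, h4⟩⟩
      exact Nat.card_pos.ne' hA0
    · intro hall
      have hA0 : A = 0 := Nat.card_eq_zero.2 (Or.inl ⟨fun x => hall x.1 x.2.1 x.2.2⟩)
      rw [hA0, zero_add] at hfixc
      refine Nat.eq_of_mul_eq_mul_left hpos ?_
      calc ku * c' * g = ku * (g * c') := by ring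
        _ = ku * (c' * r) := hfixc
        _ = ku * c' * r := by ring

end Crit

end CfsgLib.AschCrit
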