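import Cfsg.Agent.Lib.Invol.AschCrit.ExceptionTools
import Cfsg.Agent.Lib.Invol.AschCrit.ExceptionSquare
import Cfsg.Agent.Lib.Invol.AschCrit.EndOne.Basic
import Cfsg.Agent.Lib.Invol.AschCrit.FormulaProof
import Cfsg.Agent.Lib.Invol.AschCrit.Transfer

/-!
Owner: helper7. Aschbacher's criterion, slice F: no frame of type one lacks translations.
See `notes/aschbacher_proof_v3.md`, section 7, and G8 of the red team.

* `Crit.no_shared_involution`: no involution of the kernel fixes the fixed points of two elements of the coset.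
* `Crit.kernel_one_exception`: the kernel is `E <u>`.
* `Crit.no_exception_one`: Thompson transfer.
-/

set_option autoImplicit false
set_option linter.style.haveILetI false
set_option linter.unusedSectionVars false

namespace CfsgLib.AschCrit

open Subgroup MulAction

universe v

variable {G : Type v} [Group G] [Finite G] {Ω : Type v} [MulAction G Ω]

namespace Crit

variable {D : Set G} (h : Crit Ω D)
include h

/-- The data at any further fixed point of a multi with the whole `E`. -/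
theorem topFrame_of_cent (hf : Faithful G Ω) (IH : Below.{v, v} (Nat.card G)) {u : G} {a b : Ω} {E : Subgroup G}
    {q i : ℕ} (ht : TopFrame D u a b E q i) {r : G} (hr : orderOf r = 2) (hra : r • a = a) {p : Ω} (hrp : r • p = p)
    (hp : p ≠ a) (hrE : ∀ e ∈ E, Commute r e) : ∃ j : ℕ, TopFrame D r a p E q j := by
  have hl := ht.data
  have hld := h.localDichotomy hf IH
  have hm : IsMulti Ω r := ⟨hr, a, p, fun e => hp e.symm, hra, hrp⟩
  have hEm : MemGroup D r a E :=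
    ⟨fun e he he1 => ⟨(hl.mem e he he1).1, (hl.mem e he he1).2.1, (hrE e he).symm⟩, hl.comm⟩
  obtain ⟨b₁, E₁, q₁, j, hl₁⟩ := h.exists_lData_of_memGroup hld hm hra hEm (hl.card_E ▸ four_le_q hl)
  obtain ⟨hle, hmove⟩ := h.memGroupLe _ _ _ _ _ _ hl₁ E hEm
  have hq₁ : q₁ = q := le_antisymm (hl₁.card_E ▸ ht.top r a E₁ hm hra ⟨hl₁.mem, hl₁.comm⟩) (hl.card_E ▸ hle)
  obtain ⟨b₂, hl₂⟩ := hmove (by rw [hl.card_E, hq₁])
  rw [hq₁] at hl₂
  obtain ⟨Q, -, -, hQ, hQt⟩ := h.unipTrans hf IH r a b₂ E q j ⟨hm, hl₂, ht.top⟩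
  obtain ⟨g, hg, hgb⟩ := hQt p hrp hp
  obtain ⟨hga, hgr, hgE⟩ := hQ g hg
  refine ⟨j, hm, ?_, ht.top⟩
  have h1 := h.lData_conj hl₂ g
  rw [hgb, hga, show g * r * g⁻¹ = r by rw [hgr.eq, mul_inv_cancel_right]] at h1
  convert h1 using 1
  ext e
  refine ⟨fun he => ⟨e, he, by simp [(hgE e he).eq]⟩, ?_⟩
  rintro ⟨f, hf', rfl⟩
  simpa [(hgE f hf').eq] using hf'

/-- In type one no involution centralising `u` and `E` fixes the fixed points of two elements of the coset. -/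
theorem no_shared_involution (hf : Faithful G Ω) (IH : Below.{v, v} (Nat.card G)) (hcc : CosetClass Ω D)
    {u : G} {a b : Ω} {E : Subgroup G} (ht : TopFrame D u a b E 8 1) {r e : G} (hr : orderOf r = 2)
    (hrK : r ∈ exK u a E) (hfix : r ∈ fixAll Ω u) (he : e ∈ E) (he1 : e ≠ 1) (hfix' : r ∈ fixAll Ω (u * e)) :
    False := by
  haveI := h.finite_points
  have hl := ht.data
  obtain ⟨hra, hru, hrE⟩ := mem_exK.1 hrK
  obtain ⟨j, htr⟩ := h.topFrame_of_cent hf IH ht hr hra (hfix b hl.fix_b) (Ne.symm hl.ne) hrE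
  have hu2 : u * u = 1 := by rw [← pow_two, ← ht.multi.1, pow_orderOf_eq_one]
  obtain ⟨g, hg, hgu⟩ := (hcc u a b E 8 1 ht).1 e he
  set x := g • b with hx
  have hxfix : (u * e) • x = x := by
    rw [hx, ← hgu, mul_smul, mul_smul, inv_smul_smul, hl.fix_b]
  have hxa : x ≠ a := fun e1 => hl.ne (smul_left_cancel g (hg.1.trans e1.symm))
  have humem : u ∈ fixGrp r a b E := ⟨⟨hl.fix_a, hl.fix_b⟩, Subgroup.mem_centralizer_iff.2 fun y hy => by
    rcases hy with rfl | hy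
    · exact hru.eq
    · exact (hl.mem y hy · |>.2.2.eq) |> fun k => by
        rcases eq_or_ne y 1 with h1 | h1
        · rw [h1, one_mul, mul_one]
        · exact k h1⟩
  rcases h.kernelFix hf IH r a b E 8 j htr u humem ⟨1, by rw [pow_one, pow_two, hu2]⟩ with h1 | ⟨hj, -⟩
  · have h2 : u • x = x := h1 x (hfix' x hxfix)
    rw [mul_smul] at hxfix
    have h3 : e • x = x := smul_left_cancel u (hxfix.trans h2.symm)
    exact hxa (h.fix_unique e (hl.mem e he he1).1 x a h3 (hl.mem e he he1).2.1)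
  · subst hj
    have hform := h.formula hf IH hcc
    obtain ⟨s, hs, hsu, hsa⟩ := h.exists_swapper hu2 hl.ne hl.fix_a hl.fix_b
    have hr2 : r * r = 1 := by rw [← pow_two, ← hr, pow_orderOf_eq_one]
    obtain ⟨s', hs', hsr', hsa'⟩ := h.exists_swapper hr2 htr.data.ne htr.data.fix_a htr.data.fix_b
    obtain ⟨g₁, r₁, c₁, c₁', -, -, hgo₁, -, hle₁, -, -, -, hn₁, -⟩ := hform u a b E 8 1 ht s hs hsu hsa
    obtain ⟨g₃, r₃, c₃, c₃', -, -, hgo₃, hro₃, -, -, -, -, hn₃, -⟩ := hform r a b E 8 3 htr s' hs' hsr' hsa'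
    have h1 : g₁ * (Nat.card Ω - 1) ≤ g₁ * 512 := by
      rw [hn₁]
      norm_num
      omega
    have h3 : g₃ * 512 < g₃ * (Nat.card Ω - 1) := by
      rw [hn₃]
      norm_num
      have := hro₃.pos
      omega
    have := Nat.le_of_mul_le_mul_left h1 hgo₁.pos
    have := Nat.lt_of_mul_lt_mul_left h3
    omega

/-- In type one without translations the kernel is `E <u>`. -/
theorem kernel_one_exception (hf : Faithful G Ω) (IH : Below.{v, v} (Nat.card G)) (hcc : CosetClass Ω D)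
    {u : G} {a b : Ω} {E : Subgroup G} (ht : TopFrame D u a b E 8 1) {t : G} (hx : Exc u a E t) :
    ∃ P : Sylow 2 (exK u a E), ∀ x : G,
      x ∈ (P : Subgroup (exK u a E)).map (exK u a E).subtype ↔ x ∈ E ∨ u⁻¹ * x ∈ E := by
  classical
  haveI := Fact.mk Nat.prime_two
  haveI := h.finite_points
  have hl := ht.data
  set K := exK u a E with hK
  have hu2 : u * u = 1 := by rw [← pow_two, ← ht.multi.1, pow_orderOf_eq_one]
  have hEu : ∀ e ∈ E, Commute e u := fun e he => by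
    rcases eq_or_ne e 1 with h1 | h1
    · rw [h1]; exact Commute.one_left u
    · exact (hl.mem e he h1).2.2
  have hEa : ∀ e ∈ E, e • a = a := fun e he => by
    rcases eq_or_ne e 1 with h1 | h1
    · rw [h1, one_smul]
    · exact (hl.mem e he h1).2.1
  have hEK : E ≤ K := fun e he => mem_exK.2 ⟨hEa e he, hEu e he, fun f hf' => hl.comm e he f hf'⟩
  have huK : u ∈ K := mem_exK.2 ⟨hl.fix_a, Commute.refl u, fun e he => (hEu e he).symm⟩
  obtain ⟨P⟩ : Nonempty (Sylow 2 K) := inferInstance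
  set S := (P : Subgroup K).map K.subtype with hS
  have hS2 : IsPGroup 2 S := P.isPGroup'.map _
  have hSK : S ≤ K := map_subtype_le _
  have hES : E ≤ S := fun e he => mem_sylow_of_central P (hEK he) (hx.sq e he)
    fun k hk => (mem_exK.1 hk).2.2 e he
  have huS : u ∈ S := mem_sylow_of_central P huK hu2 fun k hk => (mem_exK.1 hk).2.1
  have hEb : ∀ e ∈ E, e • b = b → e = 1 := fun e he heb => by
    by_contra h1
    exact hl.ne (h.fix_unique e (hl.mem e he h1).1 b a heb (hl.mem e he h1).2.1).symm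
  have hdisj : ∀ e ∈ E, e ∈ fixAll Ω u → e = 1 := fun e he hfe => hEb e he (hfe b hl.fix_b)
  have hdec : ∀ s ∈ S, ∃ e ∈ E, e⁻¹ * s ∈ fixAll Ω u := fun s hs => by
    obtain ⟨hsa, hsu, hsE⟩ := mem_exK.1 (hSK hs)
    obtain ⟨e, he, hse⟩ := hl.kernel_one rfl s hsu hsa (exists_two_pow hS2 hs) hsE
    exact ⟨e, he, fun x hx' => by rw [mul_smul, hse x hx', inv_smul_smul]⟩
  have huFix : u ∈ fixAll Ω u := fun x hx' => hx'
  -- elements normalising `S`
  set N := cosetGrp u a E ⊓ normalizer (S : Set G) with hN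
  have hcore : ∀ g ∈ cosetGrp u a E, ∀ k ∈ K, g * k * g⁻¹ ∈ K := by
    intro g hg k hk
    refine hx.mem_exK_iff.2 ⟨mul_mem (mul_mem hg (exK_le_cosetGrp hk)) (inv_mem hg), fun e he => ?_⟩
    have h1 := ((mem_exK.1 hk).2.2 _ (hg.2.1 e he).2)
    rw [← Commute.conj_iff g, show g * (g⁻¹ * e * g) * g⁻¹ = e by group] at h1
    exact h1
  have hNget : ∀ g ∈ cosetGrp u a E, ∃ k ∈ K, k * g ∈ N := fun g hg => by
    obtain ⟨k, hk, hkn⟩ := exists_normalizing P (hcore g hg)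
    exact ⟨k, hk, mul_mem (exK_le_cosetGrp hk) hg, mem_normalizer_of_conj_mem hkn⟩
  have hNS : ∀ g ∈ N, ∀ s ∈ S, g * s * g⁻¹ ∈ S := fun g hg s hs => (mem_normalizer_iff.1 hg.2 s).1 hs
  have hNE : ∀ g ∈ N, ∀ e ∈ E, g * e * g⁻¹ ∈ E := fun g hg e he => (hg.1.2.1 e he).1
  -- no element of the kernel part stays when `u` moves
  have hinj : ∀ g ∈ N, ∀ e ∈ E, e ≠ 1 → g * u * g⁻¹ = u * e →
      ∀ r ∈ S, r ∈ fixAll Ω u → g * r * g⁻¹ ∈ fixAll Ω u → r = 1 := by
    intro g hg e he he1 hgu r hr hrf hgr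
    by_contra hr1
    obtain ⟨n, hn⟩ := exists_two_pow hS2 hr
    obtain ⟨m, -, hm⟩ := (Nat.dvd_prime_pow Nat.prime_two).1 (orderOf_dvd_of_pow_eq_one hn)
    obtain ⟨k, rfl⟩ : ∃ k, m = k + 1 := by
      rcases m with _ | k
      · exact absurd (orderOf_eq_one_iff.1 (by rw [hm, pow_zero])) hr1
      · exact ⟨k, rfl⟩
    have ho : orderOf (r ^ 2 ^ k) = 2 := by
      rw [orderOf_pow_of_dvd (by positivity) (by rw [hm]; exact pow_dvd_pow 2 (by omega)), hm, pow_succ,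
        Nat.mul_div_cancel_left _ (by positivity)]
    have h1 : g * r ^ 2 ^ k * g⁻¹ ∈ fixAll Ω u := by rw [← conj_pow]; exact pow_mem hgr _
    refine h.no_shared_involution hf IH hcc ht (r := g * r ^ 2 ^ k * g⁻¹) (e := e)
      (by rw [CfsgLib.Signalizer.orderOf_conj]; exact ho) (hSK (hNS g hg _ (pow_mem hr _))) h1 he he1 ?_
    intro x hx'
    have h2 : u • (g⁻¹ • x) = g⁻¹ • x := by
      rw [← hgu, mul_smul, mul_smul] at hx'
      exact (eq_inv_smul_iff.2 hx')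
    rw [mul_smul, mul_smul, pow_mem hrf _ _ h2, smul_inv_smul]
  -- a moving element of `N`
  obtain ⟨e₁, he₁, he₁1⟩ : ∃ e ∈ E, e ≠ (1 : G) := by
    by_contra hc
    push Not at hc
    have h4 := four_le_q hl
    rw [← hl.card_E, (Subgroup.eq_bot_iff_forall E).2 hc, Subgroup.card_bot] at h4
    omega
  obtain ⟨n₀, hn₀N, hn₀u⟩ : ∃ n ∈ N, n * u * n⁻¹ = u * e₁ := by
    obtain ⟨g, hg, hgu⟩ := hx.trans e₁ he₁
    obtain ⟨k, hk, hkN⟩ := hNget g hg
    refine ⟨k * g, hkN, ?_⟩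
    obtain ⟨-, hku, hkE⟩ := mem_exK.1 hk
    rw [show k * g * u * (k * g)⁻¹ = k * (g * u * g⁻¹) * k⁻¹ by group, hgu,
      (hku.mul_right (hkE e₁ he₁)).eq, mul_inv_cancel_right]
  -- the kernel part is elementary and small
  have hsq : ∀ r ∈ S, r ∈ fixAll Ω u → r * r = 1 := by
    intro r hr hrf
    obtain ⟨e, he, hef⟩ := hdec _ (hNS n₀ hn₀N r hr)
    refine hinj n₀ hn₀N e₁ he₁ he₁1 hn₀u (r * r) (mul_mem hr hr) (mul_mem hrf hrf) ?_
    set r' := e⁻¹ * (n₀ * r * n₀⁻¹) with hr'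
    have hc : Commute e r' := Commute.mul_right (Commute.inv_right (Commute.refl e))
      ((mem_exK.1 (hSK (hNS n₀ hn₀N r hr))).2.2 e he).symm
    have h2 : n₀ * (r * r) * n₀⁻¹ = r' * r' := by
      calc n₀ * (r * r) * n₀⁻¹ = (e * r') * (e * r') := by rw [hr']; group
        _ = (e * e) * (r' * r') := hc.symm.mul_mul_mul_comm e r'
        _ = r' * r' := by rw [hx.sq e he, one_mul]
    rw [h2]
    exact mul_mem hef hef
  -- the elements trivial modulo `E`
  set R₀ := S ⊓ fixAll Ω u with hR₀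
  have hsq' : ∀ r ∈ R₀, r * r = 1 := fun r hr => hsq r hr.1 hr.2
  let N₁ : Subgroup G :=
    { carrier := {g | g ∈ N ∧ ∀ r ∈ R₀, r⁻¹ * (g * r * g⁻¹) ∈ E}
      one_mem' := ⟨one_mem N, fun r _ => by simp [one_mem]⟩
      mul_mem' := by
        rintro g k ⟨hg, hg'⟩ ⟨hk, hk'⟩
        refine ⟨mul_mem hg hk, fun r hr => ?_⟩
        rw [show r⁻¹ * (g * k * r * (g * k)⁻¹) = r⁻¹ * (g * r * g⁻¹) * (g * (r⁻¹ * (k * r * k⁻¹)) * g⁻¹) by group]
        exact mul_mem (hg' r hr) (hNE g hg _ (hk' r hr))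
      inv_mem' := by
        rintro g ⟨hg, hg'⟩
        refine ⟨inv_mem hg, fun r hr => ?_⟩
        obtain ⟨e, he, hef⟩ := hdec _ (hNS _ (inv_mem hg) r hr.1)
        set r' := e⁻¹ * (g⁻¹ * r * g⁻¹⁻¹) with hr'
        have hr'R : r' ∈ R₀ := ⟨S.mul_mem (S.inv_mem (hES he)) (hNS _ (inv_mem hg) r hr.1), hef⟩
        have h1 := hg' r' hr'R
        rw [show r'⁻¹ * (g * r' * g⁻¹) = r'⁻¹ * ((g * e * g⁻¹)⁻¹ * r) by rw [hr']; group] at h1
        set f := (g * e * g⁻¹)⁻¹ with hf'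
        have hfE : f ∈ E := inv_mem (hNE g hg e he)
        have hcomm : Commute f r' := ((mem_exK.1 (hSK hr'R.1)).2.2 f hfE).symm
        rw [show r'⁻¹ * (f * r) = (r'⁻¹ * f) * r by group, hcomm.inv_right.symm.eq, mul_assoc] at h1
        have h2 : r'⁻¹ * r ∈ E := (E.mul_mem_cancel_left hfE).1 h1
        have h3 : r' = r := inv_mul_eq_one.1 (hdisj _ h2 (mul_mem (inv_mem hr'R.2) hr.2))
        rw [show g⁻¹ * r * g⁻¹⁻¹ = e * r' by rw [hr']; group, h3]
        rw [(((mem_exK.1 (hSK hr.1)).2.2 e he).symm).eq, inv_mul_cancel_left]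
        exact he }
  have hN₁mem : ∀ g, g ∈ N₁ ↔ g ∈ N ∧ ∀ r ∈ R₀, r⁻¹ * (g * r * g⁻¹) ∈ E := fun g => Iff.rfl
  have hcent : ∀ g ∈ N₁, Commute g u → ∀ r ∈ R₀, Commute g r := by
    intro g hg hgu r hr
    obtain ⟨hgN, hgm⟩ := (hN₁mem g).1 hg
    have h1 : r⁻¹ * (g * r * g⁻¹) = 1 := hdisj _ (hgm r hr)
      (mul_mem (inv_mem hr.2) (conj_mem_fixAll hgu hr.2))
    exact mul_inv_eq_iff_eq_mul.1 (inv_mul_eq_one.1 h1).symm
  have hconjN₁ : ∀ n ∈ N, ∀ g ∈ N₁, n * g * n⁻¹ ∈ N₁ := by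
    intro n hn g hg
    obtain ⟨hgN, hgm⟩ := (hN₁mem g).1 hg
    refine (hN₁mem _).2 ⟨mul_mem (mul_mem hn hgN) (inv_mem hn), fun r hr => ?_⟩
    obtain ⟨e, he, hef⟩ := hdec _ (hNS _ (inv_mem hn) r hr.1)
    set r' := e⁻¹ * (n⁻¹ * r * n⁻¹⁻¹) with hr'
    have hr'R : r' ∈ R₀ := ⟨S.mul_mem (S.inv_mem (hES he)) (hNS _ (inv_mem hn) r hr.1), hef⟩
    have hgr' : g * r' * g⁻¹ = r' * (r'⁻¹ * (g * r' * g⁻¹)) := by rw [mul_inv_cancel_left]
    set f := r'⁻¹ * (g * r' * g⁻¹) with hf'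
    have hfE : f ∈ E := hgm r' hr'R
    have hge : g * e * g⁻¹ ∈ E := hNE g hgN e he
    have hc : Commute (g * e * g⁻¹) r' := ((mem_exK.1 (hSK hr'R.1)).2.2 _ hge).symm
    have h2 : r⁻¹ * (n * g * n⁻¹ * r * (n * g * n⁻¹)⁻¹) = n * (e⁻¹ * (g * e * g⁻¹) * f) * n⁻¹ := by
      calc r⁻¹ * (n * g * n⁻¹ * r * (n * g * n⁻¹)⁻¹)
          = n * (r'⁻¹ * e⁻¹ * ((g * e * g⁻¹) * (g * r' * g⁻¹))) * n⁻¹ := by rw [hr']; group
        _ = n * (r'⁻¹ * e⁻¹ * ((g * e * g⁻¹) * r') * f) * n⁻¹ := by rw [hgr']; group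
        _ = n * (r'⁻¹ * (e⁻¹ * r') * (g * e * g⁻¹) * f) * n⁻¹ := by rw [hc.eq]; group
        _ = _ := by
          rw [show Commute e⁻¹ r' from ((mem_exK.1 (hSK hr'R.1)).2.2 _ (inv_mem he)).symm,
            inv_mul_cancel_left]
    rw [h2]
    exact hNE n hn _ (mul_mem (mul_mem (inv_mem he) hge) hfE)
  have hcardR : Nat.card R₀ ≤ 8 := by
    rw [← hx.card]
    choose φ hφE hφ using fun r : R₀ => hdec _ (hNS n₀ hn₀N r r.2.1)
    refine Nat.card_le_card_of_injective (fun r => (⟨φ r, hφE r⟩ : E)) fun r r' e => ?_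
    have e' : φ r = φ r' := congrArg Subtype.val e
    have h1 : n₀ * ((r : G)⁻¹ * r') * n₀⁻¹ ∈ fixAll Ω u := by
      rw [show n₀ * ((r : G)⁻¹ * r') * n₀⁻¹ = ((φ r)⁻¹ * (n₀ * r * n₀⁻¹))⁻¹ * ((φ r)⁻¹ * (n₀ * r' * n₀⁻¹)) by group]
      exact mul_mem (inv_mem (hφ r)) (e' ▸ hφ r')
    exact Subtype.ext (inv_mul_eq_one.1 (hinj n₀ hn₀N e₁ he₁ he₁1 hn₀u _ (mul_mem (inv_mem r.2.1) r'.2.1)
      (mul_mem (inv_mem r.2.2) r'.2.2) h1))
  -- a torus centralising the kernel part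
  obtain ⟨τ, hτN, hτu, hτe⟩ : ∃ τ ∈ N₁, Commute τ u ∧ ∀ e ∈ E, τ * e * τ⁻¹ = t * e * t⁻¹ := by
    obtain ⟨k, hk, hkN⟩ := hNget t hx.t_mem
    set t' := k * t with ht'
    have ht'u : Commute t' u := ((mem_exK.1 hk).2.1).mul_left hx.t_comm
    have ht'E : ∀ e ∈ E, t' * e * t'⁻¹ = t * e * t⁻¹ := fun e he => by
      rw [ht', show k * t * e * (k * t)⁻¹ = k * (t * e * t⁻¹) * k⁻¹ by group,
        ((mem_exK.1 hk).2.2 _ (hx.t_mem.2.1 e he).1).eq, mul_inv_cancel_right]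
    let X := {r : R₀ // (r : G) ≠ 1 ∧ (r : G) ≠ u}
    haveI := Fintype.ofFinite R₀
    haveI : Fintype X := Fintype.ofFinite X
    have hX : Fintype.card X ≤ 6 := by
      let o : R₀ := ⟨u, huS, huFix⟩
      have hou : (1 : R₀) ≠ o := fun e => by
        have h1 : (1 : G) = u := congrArg Subtype.val e
        have := ht.multi.1
        rw [← h1, orderOf_one] at this
        omega
      have h1 : Fintype.card X ≤ Fintype.card {r : R₀ // r ∉ ({1, o} : Finset R₀)} :=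
        Fintype.card_le_of_injective (fun r => ⟨r.1, by
          simp only [Finset.mem_insert, Finset.mem_singleton, not_or]
          exact ⟨fun e => r.2.1 (congrArg Subtype.val e), fun e => r.2.2 (congrArg Subtype.val e)⟩⟩)
          fun r r' e => Subtype.ext (congrArg Subtype.val e :)
      rw [Fintype.card_subtype_compl, Fintype.card_coe, Finset.card_pair hou] at h1
      have h2 := Nat.card_eq_fintype_card (α := R₀)
      omega
    have hmem : ∀ r ∈ R₀, t' * r * t'⁻¹ ∈ R₀ := fun r hr => ⟨hNS t' hkN r hr.1, conj_mem_fixAll ht'u hr.2⟩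
    let π : Equiv.Perm X := Equiv.ofBijective
      (fun r => ⟨⟨t' * r.1 * t'⁻¹, hmem _ r.1.2⟩, fun e => r.2.1 (conj_eq_one_iff.1 e), fun e => r.2.2 (by
        have e1 : t' * (r.1 : G) * t'⁻¹ = t' * u * t'⁻¹ := by
          rw [ht'u.eq, mul_inv_cancel_right]; exact e
        exact mul_left_cancel (mul_right_cancel e1))⟩)
      (Finite.injective_iff_bijective.1 fun r r' e => Subtype.ext (Subtype.ext ((MulAut.conj t').injective
        (congrArg (fun z : X => ((z.1 : R₀) : G)) e :))))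
    have hπ : π ^ 720 = 1 := by
      classical
      have h1 : Fintype.card (Equiv.Perm X) ∣ 720 := by
        rw [Fintype.card_perm, show (720 : ℕ) = Nat.factorial 6 from rfl]
        exact Nat.factorial_dvd_factorial hX
      exact orderOf_dvd_iff_pow_eq_one.1 (dvd_trans orderOf_dvd_card h1)
    have hpowc : ∀ (j : ℕ) (r : X), (((π ^ j) r).1 : G) = t' ^ j * r.1 * (t' ^ j)⁻¹ := by
      intro j
      induction j with
      | zero => intro r; simp
      | succ j ih =>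
        intro r
        rw [pow_succ', Equiv.Perm.mul_apply]
        show t' * ((π ^ j) r).1 * t'⁻¹ = _
        rw [ih, pow_succ']
        group
    refine ⟨t' ^ 4320, (hN₁mem _).2 ⟨pow_mem hkN _, fun r hr => ?_⟩, ht'u.pow_left _, fun e he => ?_⟩
    · have h1 : t' ^ 4320 * r * (t' ^ 4320)⁻¹ = r := by
        rcases eq_or_ne r 1 with rfl | hr1
        · group
        rcases eq_or_ne r u with rfl | hru
        · rw [(ht'u.pow_left 4320).eq, mul_inv_cancel_right]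
        rw [← hpowc 4320 ⟨⟨r, hr⟩, hr1, hru⟩, show (4320 : ℕ) = 720 * 6 from rfl, pow_mul, hπ, one_pow]
        rfl
      rw [h1, inv_mul_cancel]
      exact one_mem E
    · have h7 := pow_seven_fix (t := t') hx.card (fun f hf' => by rw [ht'E f hf']; exact (hx.t_mem.2.1 f hf').1)
        (fun e he f hf' he1 hf1 => by
          obtain ⟨j, hj⟩ := hx.t_trans e he f hf' he1 hf1
          refine ⟨j, ?_⟩
          rw [← hj]
          clear hj
          induction j generalizing e with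
          | zero => simp
          | succ j ih =>
            rw [pow_succ, pow_succ, show t' ^ j * t' * e * (t' ^ j * t')⁻¹ = t' ^ j * (t' * e * t'⁻¹) * (t' ^ j)⁻¹ by group,
              show t ^ j * t * e * (t ^ j * t)⁻¹ = t ^ j * (t * e * t⁻¹) * (t ^ j)⁻¹ by group, ht'E e he]
            exact ih _ (hx.t_mem.2.1 e he).1 fun e1 => he1 (conj_eq_one_iff.1 e1))
      have hm : ∀ m : ℕ, ∀ f ∈ E, t' ^ (7 * m) * f * (t' ^ (7 * m))⁻¹ = f := by
        intro m
        induction m with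
        | zero => intro f _; simp
        | succ m ih =>
          intro f hf'
          rw [Nat.mul_succ, pow_add, show t' ^ (7 * m) * t' ^ 7 * f * (t' ^ (7 * m) * t' ^ 7)⁻¹ =
            t' ^ (7 * m) * (t' ^ 7 * f * (t' ^ 7)⁻¹) * (t' ^ (7 * m))⁻¹ by group, h7 f hf', ih f hf']
      rw [show (4320 : ℕ) = 7 * 617 + 1 from rfl, pow_succ,
        show t' ^ (7 * 617) * t' * e * (t' ^ (7 * 617) * t')⁻¹ =
          t' ^ (7 * 617) * (t' * e * t'⁻¹) * (t' ^ (7 * 617))⁻¹ by group, ht'E e he,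
        hm 617 _ (hx.t_mem.2.1 e he).1]
  -- all automorphisms come from elements trivial modulo `E`
  have htrans : ∀ e ∈ E, ∃ g ∈ N₁, g * u * g⁻¹ = u * e := by
    intro e he
    rcases eq_or_ne e 1 with rfl | he1
    · exact ⟨1, one_mem _, by simp⟩
    have hg₁ : n₀ * τ * n₀⁻¹ ∈ N₁ := hconjN₁ n₀ hn₀N τ hτN
    set g₁ := n₀ * τ * n₀⁻¹ with hg₁def
    set x := u⁻¹ * (g₁ * u * g₁⁻¹) with hxdef
    have hxE : x ∈ E := ((hN₁mem g₁).1 hg₁).1.1.2.2
    have hx1 : x ≠ 1 := by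
      intro hx1
      have hc : Commute g₁ u := mul_inv_eq_iff_eq_mul.1 (inv_mul_eq_one.1 hx1).symm
      have h1 : Commute τ (n₀⁻¹ * u * n₀) := by
        have := (Commute.conj_iff n₀⁻¹).2 hc
        rwa [show n₀⁻¹ * g₁ * n₀⁻¹⁻¹ = τ by rw [hg₁def]; group, inv_inv] at this
      set f := u⁻¹ * (n₀⁻¹ * u * n₀) with hfdef
      have hfE : f ∈ E := by
        have h2 : n₀⁻¹ ∈ cosetGrp u a E := inv_mem hn₀N.1
        have := h2.2.2
        rwa [inv_inv] at this
      have hf1 : f ≠ 1 := fun e1 => by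
        have h2 : n₀⁻¹ * u * n₀ = u := (inv_mul_eq_one.1 e1).symm
        apply he₁1
        have h3 : n₀ * u * n₀⁻¹ = u := by
          conv_lhs => rw [← h2]
          group
        rw [hn₀u] at h3
        exact mul_eq_left.1 h3
      have h2 : Commute τ f := hτu.inv_right.mul_right h1
      obtain ⟨g', hg'E, hg'1, hg'f⟩ : ∃ g' ∈ E, g' ≠ 1 ∧ g' ≠ f := by
        by_contra hc'
        push Not at hc'
        have hsub : (E : Set G) ⊆ {1, f} := fun z hz => by
          rcases eq_or_ne z 1 with h5 | h5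
          · exact Or.inl h5
          · exact Or.inr (hc' z hz h5)
        have h5 := Set.ncard_le_ncard hsub
        rw [← Nat.card_coe_set_eq] at h5
        have h6 := Set.ncard_insert_le (1 : G) {f}
        rw [Set.ncard_singleton] at h6
        have h7 : Nat.card (E : Set G) = 8 := hx.card
        omega
      obtain ⟨j, hj⟩ := hx.t_trans f hfE g' hg'E hf1 hg'1
      have hfix : ∀ j : ℕ, t ^ j * f * (t ^ j)⁻¹ = f := fun j => by
        induction j with
        | zero => simp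
        | succ j ih =>
          rw [pow_succ, show t ^ j * t * f * (t ^ j * t)⁻¹ = t ^ j * (t * f * t⁻¹) * (t ^ j)⁻¹ by group,
            ← hτe f hfE, h2.eq, mul_inv_cancel_right, ih]
      exact hg'f (hj.symm.trans (hfix j))
    obtain ⟨j, hj⟩ := hx.t_trans x hxE e he hx1 he1
    refine ⟨τ ^ j * g₁ * (τ ^ j)⁻¹, mul_mem (mul_mem (pow_mem hτN j) hg₁) (inv_mem (pow_mem hτN j)), ?_⟩
    have hτj : ∀ f ∈ E, τ ^ j * f * (τ ^ j)⁻¹ = t ^ j * f * (t ^ j)⁻¹ := by
      clear hj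
      induction j with
      | zero => intro f _; simp
      | succ j ih =>
        intro f hf'
        rw [pow_succ, pow_succ, show τ ^ j * τ * f * (τ ^ j * τ)⁻¹ = τ ^ j * (τ * f * τ⁻¹) * (τ ^ j)⁻¹ by group,
          show t ^ j * t * f * (t ^ j * t)⁻¹ = t ^ j * (t * f * t⁻¹) * (t ^ j)⁻¹ by group, hτe f hf',
          ih _ (hx.t_mem.2.1 f hf').1]
    calc τ ^ j * g₁ * (τ ^ j)⁻¹ * u * (τ ^ j * g₁ * (τ ^ j)⁻¹)⁻¹
        = τ ^ j * (g₁ * ((τ ^ j)⁻¹ * u * τ ^ j) * g₁⁻¹) * (τ ^ j)⁻¹ := by group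
      _ = τ ^ j * (u * x) * (τ ^ j)⁻¹ := by
        rw [(hτu.pow_left j).inv_left.eq, inv_mul_cancel_right, hxdef, mul_inv_cancel_left]
      _ = τ ^ j * u * (τ ^ j)⁻¹ * (τ ^ j * x * (τ ^ j)⁻¹) := by group
      _ = u * e := by rw [(hτu.pow_left j).eq, mul_inv_cancel_right, hτj x hxE, hj]
  have honto := hx.onto N₁ (fun g hg => ((hN₁mem g).1 hg).1.1) htrans ⟨τ, hτN, hτu, hτe⟩
  -- `R₀ = <u>`
  have hpair : ∀ r ∈ R₀, r = 1 ∨ r = u := by
    obtain ⟨g, hgN, hgu⟩ := htrans e₁ he₁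
    obtain ⟨k, hkA, hku, hkv, hkfix⟩ := hx.fix e₁ he₁ he₁1
    obtain ⟨k', hk'N, hk'⟩ := honto (conjE u a E ⟨k, hkA⟩)
    have hk'E : ∀ e ∈ E, k' * e * k'⁻¹ = k * e * k⁻¹ := fun e he => hk' ⟨e, he⟩
    have hk'u : Commute k' u := by
      have h1 : k⁻¹ * k' ∈ cosetGrp u a E := mul_mem (inv_mem hkA) ((hN₁mem k').1 hk'N).1.1
      have h2 := hx.triv _ h1 fun e he => mul_inv_eq_iff_eq_mul.1 (by
        rw [show k⁻¹ * k' * e * (k⁻¹ * k')⁻¹ = k⁻¹ * (k' * e * k'⁻¹) * k by group, hk'E e he]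
        group)
      have h3 := hku.mul_left h2
      rwa [mul_inv_cancel_left] at h3
    set j := g⁻¹ * (k' * g * k'⁻¹) with hj
    have hjN : j ∈ N₁ := mul_mem (inv_mem hgN) (mul_mem (mul_mem hk'N hgN) (inv_mem hk'N))
    have hju : Commute j u := by
      refine mul_inv_eq_iff_eq_mul.1 ?_
      calc j * u * j⁻¹ = g⁻¹ * (k' * (g * (k'⁻¹ * u * k') * g⁻¹) * k'⁻¹) * g := by rw [hj]; group
        _ = g⁻¹ * (k' * u * k'⁻¹ * (k' * e₁ * k'⁻¹)) * g := by
          rw [hk'u.inv_left.eq, inv_mul_cancel_right, hgu]; group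
        _ = g⁻¹ * (g * u * g⁻¹) * g := by
          rw [hk'u.eq, mul_inv_cancel_right, hk'E e₁ he₁, hkv.eq, mul_inv_cancel_right, hgu]
        _ = u := by group
    have hmove : ∀ r ∈ R₀, r ≠ 1 → r⁻¹ * (g * r * g⁻¹) = e₁ := by
      intro r hr hr1
      set f := r⁻¹ * (g * r * g⁻¹) with hfdef
      have hfE : f ∈ E := ((hN₁mem g).1 hgN).2 r hr
      have h1 : k' * f * k'⁻¹ = f := by
        have hrk := hcent k' hk'N hk'u r hr
        have hrj := hcent j hjN hju r hr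
        calc k' * f * k'⁻¹ = (k' * r * k'⁻¹)⁻¹ * (k' * g * (k'⁻¹ * (k' * r * k'⁻¹) * k') * g⁻¹ * k'⁻¹) := by
              rw [hfdef]; group
          _ = r⁻¹ * (k' * g * (k'⁻¹ * r * k') * g⁻¹ * k'⁻¹) := by rw [hrk.eq, mul_inv_cancel_right]
          _ = r⁻¹ * (g * j * r * (g * j)⁻¹) := by rw [hj]; group
          _ = r⁻¹ * (g * (j * r * j⁻¹) * g⁻¹) := by group
          _ = f := by rw [hrj.eq, mul_inv_cancel_right]
      rw [hk'E f hfE] at h1
      rcases hkfix f hfE (mul_inv_eq_iff_eq_mul.1 h1) with h2 | h2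
      · exfalso
        refine hr1 (hinj g ((hN₁mem g).1 hgN).1 e₁ he₁ he₁1 hgu r hr.1 hr.2 ?_)
        rw [← inv_mul_eq_one.1 h2]
        exact hr.2
      · exact h2
    intro r hr
    by_contra hc
    push Not at hc
    obtain ⟨hr1, hru⟩ := hc
    have huR : u ∈ R₀ := ⟨huS, huFix⟩
    have hu1 : u ≠ 1 := fun e => by have := ht.multi.1; rw [e, orderOf_one] at this; omega
    have e1 := hmove r hr hr1
    have e2 := hmove u huR hu1
    have hcr : Commute e₁ r := ((mem_exK.1 (hSK hr.1)).2.2 e₁ he₁).symm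
    have h1 : g * (r * u) * g⁻¹ = r * u := by
      calc g * (r * u) * g⁻¹ = (r * (r⁻¹ * (g * r * g⁻¹))) * (g * u * g⁻¹) := by group
        _ = r * e₁ * (u * e₁) := by rw [e1, hgu]
        _ = r * (u * (e₁ * e₁)) := by rw [mul_assoc r, ← mul_assoc e₁, (hEu e₁ he₁).eq]; group
        _ = r * u := by rw [hx.sq e₁ he₁, mul_one]
    have hru' : r * u = 1 := hinj g ((hN₁mem g).1 hgN).1 e₁ he₁ he₁1 hgu _ (mul_mem hr.1 huS)
      (mul_mem hr.2 huFix) (by rw [h1]; exact mul_mem hr.2 huFix)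
    exact hru ((eq_inv_of_mul_eq_one_left hru').trans (inv_eq_of_mul_eq_one_right hu2))
  refine ⟨P, fun x => ⟨fun hxS => ?_, ?_⟩⟩
  · obtain ⟨e, he, hef⟩ := hdec x hxS
    rcases hpair (e⁻¹ * x) ⟨S.mul_mem (S.inv_mem (hES he)) hxS, hef⟩ with h1 | h1
    · exact Or.inl (inv_mul_eq_one.1 h1 ▸ he)
    · refine Or.inr ?_
      rw [show x = e * u by rw [← h1, mul_inv_cancel_left], (hEu e he).eq, inv_mul_cancel_left]
      exact he
  · rintro (h1 | h1)
    · exact hES h1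
    · have := mul_mem huS (hES h1)
      rwa [mul_inv_cancel_left] at this

end Crit

end CfsgLib.AschCrit
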