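import Cfsg.Agent.Lib.Invol.AschCrit.ExceptionTower

/-!
Owner: helper7. Aschbacher's criterion, slice F: the coset stabiliser on `Q / E`.

* `Quad`, `Crit.exists_quad`: `Q / E` with its squaring and commutator form and the action of the coset stabiliser.
* `Crit.rho_two`: on it a 2-element of the kernel acts, up to conjugation, as an element of `R`.
-/

set_option autoImplicit false
set_option linter.unusedSectionVars false

namespace CfsgLib.AschCrit

open Subgroup MulAction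

universe u

variable {G : Type u} [Group G] {Ω : Type u} [MulAction G Ω]

/-- `V = Q / E` with the squaring, the commutator form and the action of the coset stabiliser. -/
structure Quad (Ω : Type u) [MulAction G Ω] (u : G) (a : Ω) (E Q : Subgroup G) {V : Type u} [CommGroup V]
    (p : Q →* V) (N : V → E) (B : V → V → E) (ρ : cosetGrp u a E →* MulAut V) : Prop where
  surj : Function.Surjective p
  ker : ∀ y : Q, p y = 1 ↔ (y : G) ∈ E
  card : Nat.card V * Nat.card E = Nat.card Q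
  sq : ∀ v : V, v * v = 1
  aniso : ∀ v : V, N v = 1 → v = 1
  pol : ∀ v w, N (v * w) = N v * N w * B v w
  Bl : ∀ v v' w, B (v * v') w = B v w * B v' w
  Br : ∀ v w w', B v (w * w') = B v w * B v w'
  equi : ∀ (g : cosetGrp u a E) (v : V), N (ρ g v) = conjE u a E g (N v)
  act : ∀ (g : cosetGrp u a E) (y w : Q),
    SameAct Ω u ((g : G) * y * (g : G)⁻¹) w → ρ g (p y) = p w
  N_p : ∀ y : Q, ((N (p y) : E) : G) = (y : G) * y
  B_p : ∀ x y : Q, ((B (p x) (p y) : E) : G) = (x : G) * y * (x : G)⁻¹ * (y : G)⁻¹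

namespace Quad

variable {u : G} {a : Ω} {E Q : Subgroup G} {V : Type u} [CommGroup V] {p : Q →* V} {N : V → E}
  {B : V → V → E} {ρ : cosetGrp u a E →* MulAut V}

/-- An element trivial on the fixed points is trivial on `V`. -/
theorem rho_one (hq : Quad Ω u a E Q p N B ρ) (hQ : ∀ y ∈ Q, Commute y u) {g : cosetGrp u a E}
    (hg1 : SameAct Ω u (g : G) 1) : ρ g = 1 := by
  refine MulEquiv.ext fun v => ?_
  obtain ⟨y, rfl⟩ := hq.surj v
  refine hq.act g y y ?_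
  have h1 := (hg1.mul (SameAct.refl u (y : G)) (hQ y y.2)).mul (hg1.inv (Commute.one_left u))
    (Commute.one_left u).inv_left
  rwa [one_mul, inv_one, mul_one] at h1

/-- `Q` is trivial on `V`. -/
theorem rho_Q (hq : Quad Ω u a E Q p N B ρ) {g : cosetGrp u a E} (hg : (g : G) ∈ Q) : ρ g = 1 := by
  refine MulEquiv.ext fun v => ?_
  obtain ⟨y, rfl⟩ := hq.surj v
  have h1 := hq.act g y (⟨(g : G), hg⟩ * y * ⟨(g : G), hg⟩⁻¹) (SameAct.refl u _)
  rwa [map_mul, map_mul, map_inv, mul_comm (p ⟨(g : G), hg⟩), mul_inv_cancel_right] at h1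

end Quad

variable [Finite G]

namespace Crit

variable {D : Set G} (h : Crit Ω D)
include h

/-- The action of the coset stabiliser on `Q / E`. -/
theorem exists_quad (hf : Faithful G Ω) (IH : Below.{u, u} (Nat.card G)) {u t : G} {a b : Ω} {E : Subgroup G}
    {i : ℕ} {R P0 Q : Subgroup G} (T : Tower D u a b E i t R P0 Q) :
    ∃ (V : Type u) (_ : CommGroup V) (_ : Finite V) (p : Q →* V) (N : V → E) (B : V → V → E)
      (ρ : cosetGrp u a E →* MulAut V), Quad Ω u a E Q p N B ρ := by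
  classical
  haveI := h.finite_points
  have hl := T.frame.data
  have M := T.base
  obtain ⟨L, hL, hLmul, hLE, hLinv, hLcomp⟩ := h.exists_map hf IH T
  have hcE : ∀ {y e : G}, y ∈ Q → e ∈ E → Commute y e := fun hy he => (M.mem_Q_data hy).2.2 _ he
  have hEsq : ∀ {e : G}, e ∈ E → e * e = 1 := fun he => h.E_sq hl he
  have hEinv : ∀ {e : G}, e ∈ E → e⁻¹ = e := fun he => inv_eq_of_mul_eq_one_right (hEsq he)
  haveI : (E.subgroupOf Q).Normal := ⟨fun e he y => by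
    rw [mem_subgroupOf] at he ⊢
    show (y : G) * e * (y : G)⁻¹ ∈ E
    rwa [(hcE y.2 he).eq, mul_inv_cancel_right]⟩
  set p : Q →* Q ⧸ E.subgroupOf Q := QuotientGroup.mk' (E.subgroupOf Q) with hp
  have hps : Function.Surjective p := QuotientGroup.mk'_surjective _
  have hpeq : ∀ y y' : Q, p y = p y' ↔ (y : G)⁻¹ * y' ∈ E := fun y y' => by
    rw [hp, QuotientGroup.mk'_apply, QuotientGroup.mk'_apply, QuotientGroup.eq, mem_subgroupOf]
    rfl
  letI : CommGroup (Q ⧸ E.subgroupOf Q) := { (inferInstance : Group (Q ⧸ E.subgroupOf Q)) with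
    mul_comm := fun v w => by
      obtain ⟨x, rfl⟩ := hps v
      obtain ⟨y, rfl⟩ := hps w
      rw [← map_mul, ← map_mul, hpeq]
      show ((x : G) * y)⁻¹ * (y * x) ∈ E
      rw [show ((x : G) * y)⁻¹ * (y * x) = (y : G)⁻¹ * (x : G)⁻¹ * (y : G)⁻¹⁻¹ * (x : G)⁻¹⁻¹ by group]
      exact M.QQ _ (inv_mem y.2) _ (inv_mem x.2) }
  have hshift : ∀ {x x' : Q}, p x = p x' → ∃ e ∈ E, (x' : G) = (x : G) * e := fun hxx =>
    ⟨_, (hpeq _ _).1 hxx, (mul_inv_cancel_left _ _).symm⟩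
  have hsqwd : ∀ {x x' : Q}, p x = p x' → (x' : G) * x' = (x : G) * x := fun {x x'} hxx => by
    obtain ⟨e, he, hxe⟩ := hshift hxx
    rw [hxe, (hcE x.2 he).symm.mul_mul_mul_comm, hEsq he, mul_one]
  have hcwd : ∀ {x x' y y' : Q}, p x = p x' → p y = p y' →
      (x' : G) * y' * (x' : G)⁻¹ * (y' : G)⁻¹ = (x : G) * y * (x : G)⁻¹ * (y : G)⁻¹ := by
    intro x x' y y' hxx hyy
    obtain ⟨e, he, hxe⟩ := hshift hxx
    obtain ⟨f, hf', hyf⟩ := hshift hyy
    rw [hxe, hyf]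
    calc (x : G) * e * (y * f) * ((x : G) * e)⁻¹ * ((y : G) * f)⁻¹
        = x * (e * (y * f) * e⁻¹) * (x : G)⁻¹ * f⁻¹ * (y : G)⁻¹ := by group
      _ = x * (y * f) * (x : G)⁻¹ * f⁻¹ * (y : G)⁻¹ := by
        rw [(hcE (mul_mem y.2 (M.E_Q hf')) he).symm.eq, mul_inv_cancel_right]
      _ = x * y * (f * (x : G)⁻¹ * f⁻¹) * (y : G)⁻¹ := by group
      _ = _ := by rw [← (hcE (inv_mem x.2) hf').eq, mul_inv_cancel_right]
  let σ : Q ⧸ E.subgroupOf Q → Q := Function.surjInv hps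
  have hσ : ∀ v, p (σ v) = v := Function.surjInv_eq hps
  let N : Q ⧸ E.subgroupOf Q → E := fun v => ⟨(σ v : G) * σ v, M.Q_sq _ (σ v).2⟩
  let B : Q ⧸ E.subgroupOf Q → Q ⧸ E.subgroupOf Q → E := fun v w =>
    ⟨(σ v : G) * σ w * (σ v : G)⁻¹ * (σ w : G)⁻¹, M.QQ _ (σ v).2 _ (σ w).2⟩
  have hNp : ∀ y : Q, ((N (p y) : E) : G) = (y : G) * y := fun y => hsqwd (hσ (p y)).symm
  have hBp : ∀ x y : Q, ((B (p x) (p y) : E) : G) = (x : G) * y * (x : G)⁻¹ * (y : G)⁻¹ := fun x y =>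
    hcwd (hσ (p x)).symm (hσ (p y)).symm
  -- the action
  let ψ : cosetGrp u a E → Q ⧸ E.subgroupOf Q → Q ⧸ E.subgroupOf Q := fun g v =>
    p ⟨L g (σ v), (hL g g.2 _ (σ v).2).1⟩
  have hψp : ∀ (g : cosetGrp u a E) (y : Q), ψ g (p y) = p ⟨L g y, (hL g g.2 _ y.2).1⟩ := by
    intro g y
    refine (hpeq _ _).2 ?_
    obtain ⟨e, he, hye⟩ := hshift (hσ (p y))
    show (L g (σ (p y) : G))⁻¹ * L g (y : G) ∈ E
    rw [hye, hLmul g g.2 _ (σ (p y)).2 _ (M.E_Q he), hLE g g.2 e he, inv_mul_cancel_left]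
    exact (g.2.2.1 e he).1
  have hact : ∀ (g : cosetGrp u a E) (y w : Q),
      SameAct Ω u ((g : G) * y * (g : G)⁻¹) w → ψ g (p y) = p w := by
    intro g y w hw
    rw [hψp]
    exact congrArg p (Subtype.ext (M.eq_of_act hl (hL g g.2 _ y.2).1 w.2 ((hL g g.2 _ y.2).2.1.symm.trans hw)))
  have hψmul : ∀ (g : cosetGrp u a E) v w, ψ g (v * w) = ψ g v * ψ g w := by
    intro g v w
    obtain ⟨x, rfl⟩ := hps v
    obtain ⟨y, rfl⟩ := hps w
    rw [← map_mul, hψp, hψp, hψp, ← map_mul]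
    exact congrArg p (Subtype.ext (hLmul g g.2 _ x.2 _ y.2))
  have hψ1 : ∀ v, ψ 1 v = v := fun v => by
    obtain ⟨y, rfl⟩ := hps v
    refine hact 1 y y ?_
    rw [OneMemClass.coe_one, one_mul, inv_one, mul_one]
    exact SameAct.refl u _
  have hψc : ∀ (g k : cosetGrp u a E) v, ψ (g * k) v = ψ g (ψ k v) := by
    intro g k v
    obtain ⟨y, rfl⟩ := hps v
    rw [hψp (g * k), hψp k, hψp g]
    exact ((hpeq _ _).2 (hLcomp g g.2 k k.2 _ y.2)).symm
  let ρ : cosetGrp u a E →* MulAut (Q ⧸ E.subgroupOf Q) := MonoidHom.mk'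
    (fun g =>
      { toFun := ψ g
        invFun := ψ g⁻¹
        left_inv := fun v => by rw [← hψc, inv_mul_cancel, hψ1]
        right_inv := fun v => by rw [← hψc, mul_inv_cancel, hψ1]
        map_mul' := hψmul g })
    fun g k => MulEquiv.ext fun v => hψc g k v
  refine ⟨Q ⧸ E.subgroupOf Q, inferInstance, inferInstance, p, N, B, ρ,
    { surj := hps
      ker := fun y => by rw [hp, QuotientGroup.mk'_apply, QuotientGroup.eq_one_iff, mem_subgroupOf]
      card := ?_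
      sq := fun v => ?_
      aniso := fun v hv => ?_
      pol := fun v w => ?_
      Bl := fun v v' w => ?_
      Br := fun v w w' => ?_
      equi := fun g v => ?_
      act := hact
      N_p := hNp
      B_p := hBp }⟩
  · rw [← Nat.card_congr (subgroupOfEquivOfLe M.E_Q).toEquiv, ← Subgroup.card_eq_card_quotient_mul_card_subgroup]
  · obtain ⟨y, rfl⟩ := hps v
    rw [← map_mul]
    exact (QuotientGroup.eq_one_iff _).2 (mem_subgroupOf.2 (M.Q_sq _ y.2))
  · obtain ⟨y, rfl⟩ := hps v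
    refine (QuotientGroup.eq_one_iff _).2 (mem_subgroupOf.2 (M.Q_sq_one _ y.2 ?_))
    rw [← hNp, hv, OneMemClass.coe_one]
  · obtain ⟨x, rfl⟩ := hps v
    obtain ⟨y, rfl⟩ := hps w
    refine Subtype.ext ?_
    rw [← map_mul, Subgroup.coe_mul, Subgroup.coe_mul, hNp, hNp, hNp, hBp, Subgroup.coe_mul]
    set c := (x : G) * y * (x : G)⁻¹ * (y : G)⁻¹ with hc
    have hcE' : c ∈ E := M.QQ _ x.2 _ y.2
    calc (x : G) * y * (x * y) = x * (c⁻¹ * x) * y * y := by rw [hc]; group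
      _ = x * (x * c⁻¹) * y * y := by rw [(hcE x.2 (inv_mem hcE')).eq]
      _ = x * x * (c⁻¹ * (y * y)) := by group
      _ = x * x * (y * y) * c := by
        rw [← (hcE (mul_mem y.2 y.2) (inv_mem hcE')).eq, hEinv hcE', ← mul_assoc]
  · obtain ⟨x, rfl⟩ := hps v
    obtain ⟨x', rfl⟩ := hps v'
    obtain ⟨y, rfl⟩ := hps w
    refine Subtype.ext ?_
    rw [← map_mul, Subgroup.coe_mul, hBp, hBp, hBp, Subgroup.coe_mul]
    set c := (x' : G) * y * (x' : G)⁻¹ * (y : G)⁻¹ with hc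
    have hcE' : c ∈ E := M.QQ _ x'.2 _ y.2
    calc (x : G) * x' * y * ((x : G) * x')⁻¹ * (y : G)⁻¹ = (x * c) * ((y : G) * (x : G)⁻¹ * (y : G)⁻¹) := by
          rw [hc]; group
      _ = c * ((x : G) * y * (x : G)⁻¹ * (y : G)⁻¹) := by rw [(hcE x.2 hcE').eq]; group
      _ = _ := ((hl.comm c hcE' _ (M.QQ _ x.2 _ y.2)).eq)
  · obtain ⟨x, rfl⟩ := hps v
    obtain ⟨y, rfl⟩ := hps w
    obtain ⟨y', rfl⟩ := hps w'
    refine Subtype.ext ?_
    rw [← map_mul, Subgroup.coe_mul, hBp, hBp, hBp, Subgroup.coe_mul]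
    set c := (x : G) * y' * (x : G)⁻¹ * (y' : G)⁻¹ with hc
    have hcE' : c ∈ E := M.QQ _ x.2 _ y'.2
    calc (x : G) * ((y : G) * y') * (x : G)⁻¹ * ((y : G) * y')⁻¹
        = ((x : G) * y * (x : G)⁻¹) * c * (y : G)⁻¹ := by rw [hc]; group
      _ = ((x : G) * y * (x : G)⁻¹) * ((y : G)⁻¹ * c) := by rw [mul_assoc, ← (hcE (inv_mem y.2) hcE').eq]
      _ = _ := by group
  · obtain ⟨y, rfl⟩ := hps v
    refine Subtype.ext ?_
    show ((N (ψ g (p y)) : E) : G) = _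
    rw [hψp, hNp, conjE_apply, hNp]
    exact (hL g g.2 _ y.2).2.2

/-- On `V` a 2-element of the kernel acts, up to conjugation, as an element of `R`. -/
theorem rho_two {u t : G} {a b : Ω} {E : Subgroup G} {i : ℕ}
    {R P0 Q : Subgroup G} (T : Tower D u a b E i t R P0 Q) {V : Type u} [CommGroup V] {p : Q →* V} {N : V → E}
    {B : V → V → E} {ρ : cosetGrp u a E →* MulAut V} (hq : Quad Ω u a E Q p N B ρ) (s : cosetGrp u a E)
    (hs : (s : G) ∈ exK u a E) {n : ℕ} (hn : (s : G) ^ 2 ^ n = 1) :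
    ∃ k r : cosetGrp u a E, (k : G) ∈ exK u a E ∧ (r : G) ∈ R ∧ ρ k * ρ s * (ρ k)⁻¹ = ρ r := by
  haveI := Fact.mk Nat.prime_two
  have M := T.base
  obtain ⟨P1, hP1, hle, hP1F, -, hmax⟩ := exists_max_two M.two M.sub
  rw [← Subgroup.eq_of_le_of_card_ge hle (M.sylow P1 hP1 hP1F)] at hmax
  obtain ⟨k, hk, hks⟩ := hmax (zpowers (s : G)) (isPGroup_two_of_pow hn) (zpowers_le.2 hs)
  obtain ⟨r, hr, y, hy, hry⟩ := M.prod _ (hks _ (mem_zpowers _))
  have hrK : r ∈ exK u a E := M.sub (M.R_le hr)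
  have hyK : y ∈ exK u a E := M.sub ((M.Q_mem y).1 hy).1
  refine ⟨⟨k, exK_le_cosetGrp hk⟩, ⟨r, exK_le_cosetGrp hrK⟩, hk, hr, ?_⟩
  rw [← map_inv, ← map_mul, ← map_mul,
    show (⟨k, exK_le_cosetGrp hk⟩ * s * ⟨k, exK_le_cosetGrp hk⟩⁻¹ : cosetGrp u a E) =
      ⟨r, exK_le_cosetGrp hrK⟩ * ⟨y, exK_le_cosetGrp hyK⟩ from Subtype.ext hry,
    map_mul, hq.rho_Q (g := ⟨y, exK_le_cosetGrp hyK⟩) hy, mul_one]

end Crit

end CfsgLib.AschCrit
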