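import Cfsg.Agent.Lib.Invol.AschCrit.ExceptionBase
import Cfsg.Agent.Lib.Invol.AschCrit.CentKernel
import Mathlib.GroupTheory.Nilpotent

/-!
Owner: helper7. Aschbacher's criterion, slice F: tools for `NoException`.

* `fixAll`: the elements fixing all fixed points of `u`.
* `conjE`: the action of the coset stabiliser on `E`.
* `exists_normalizing`, `mem_sylow_of_central`: Sylow groups of a subgroup.
-/

set_option autoImplicit false
set_option linter.style.haveILetI false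
set_option linter.unusedSectionVars false

namespace CfsgLib.AschCrit

open Subgroup MulAction

universe u v

variable {G : Type u} [Group G] {Ω : Type v} [MulAction G Ω]

/-- The elements fixing every fixed point of `u`. -/
def fixAll (Ω : Type v) [MulAction G Ω] (u : G) : Subgroup G where
  carrier := {g | ∀ x : Ω, u • x = x → g • x = x}
  one_mem' x _ := one_smul G x
  mul_mem' {g k} hg hk x hx := by rw [mul_smul, hk x hx, hg x hx]
  inv_mem' {g} hg x hx := inv_smul_eq_iff.2 (hg x hx).symm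

theorem mem_fixAll {u g : G} : g ∈ fixAll Ω u ↔ ∀ x : Ω, u • x = x → g • x = x := Iff.rfl

theorem conj_mem_fixAll {u g k : G} (hg : Commute g u) (hk : k ∈ fixAll Ω u) : g * k * g⁻¹ ∈ fixAll Ω u := by
  intro x hx
  have h1 : u • (g⁻¹ • x) = g⁻¹ • x := by rw [← mul_smul, ← hg.inv_left.eq, mul_smul, hx]
  rw [mul_smul, mul_smul, hk _ h1, smul_inv_smul]

/-- The action of the coset stabiliser on `E`. -/
def conjE (u : G) (a : Ω) (E : Subgroup G) : cosetGrp u a E →* MulAut E where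
  toFun g :=
    { toFun := fun x => ⟨(g : G) * x * (g : G)⁻¹, (g.2.2.1 _ x.2).1⟩
      invFun := fun x => ⟨(g : G)⁻¹ * x * (g : G), (g.2.2.1 _ x.2).2⟩
      left_inv := fun x => Subtype.ext (by
        show (g : G)⁻¹ * ((g : G) * x * (g : G)⁻¹) * (g : G) = x
        group)
      right_inv := fun x => Subtype.ext (by
        show (g : G) * ((g : G)⁻¹ * x * (g : G)) * (g : G)⁻¹ = x
        group)
      map_mul' := fun x y => Subtype.ext (by
        show (g : G) * (x * y) * (g : G)⁻¹ = (g : G) * x * (g : G)⁻¹ * ((g : G) * y * (g : G)⁻¹)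
        group) }
  map_one' := MulEquiv.ext fun x => Subtype.ext (by show (1 : G) * x * (1 : G)⁻¹ = x; group)
  map_mul' g k := MulEquiv.ext fun x => Subtype.ext (by
    show ((g : G) * k) * x * ((g : G) * k)⁻¹ = (g : G) * ((k : G) * x * (k : G)⁻¹) * (g : G)⁻¹
    group)

theorem conjE_apply {u : G} {a : Ω} {E : Subgroup G} (g : cosetGrp u a E) (x : E) :
    ((conjE u a E g x : E) : G) = (g : G) * x * (g : G)⁻¹ := rfl

theorem conjE_eq_one_iff {u : G} {a : Ω} {E : Subgroup G} (g : cosetGrp u a E) :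
    conjE u a E g = 1 ↔ ∀ e ∈ E, Commute (g : G) e := by
  constructor
  · intro e1 e he
    have h1 := congrArg (fun γ : MulAut E => ((γ ⟨e, he⟩ : E) : G)) e1
    exact mul_inv_eq_iff_eq_mul.1 (h1 : (g : G) * e * (g : G)⁻¹ = e)
  · intro hg
    refine MulEquiv.ext fun x => Subtype.ext ?_
    show (g : G) * x * (g : G)⁻¹ = x
    rw [(hg x x.2).eq, mul_inv_cancel_right]

variable [Finite G]

theorem isPGroup_two_of_pow {g : G} {n : ℕ} (hn : g ^ 2 ^ n = 1) : IsPGroup 2 (zpowers g) := by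
  obtain ⟨m, -, hm⟩ := (Nat.dvd_prime_pow Nat.prime_two).1 (orderOf_dvd_of_pow_eq_one hn)
  exact IsPGroup.of_card (n := m) (by rw [Nat.card_zpowers, hm])

theorem mem_normalizer_of_conj_mem {H : Subgroup G} {g : G} (hg : ∀ e ∈ H, g * e * g⁻¹ ∈ H) :
    g ∈ normalizer (H : Set G) :=
  mem_normalizer_iff_map_conj_eq.2 (eq_of_le_of_card_ge (by rintro _ ⟨b, hb, rfl⟩; exact hg b hb)
    (card_map_of_injective (MulAut.conj g).injective).ge)

theorem exists_two_pow {P : Subgroup G} (hP : IsPGroup 2 P) {g : G} (hg : g ∈ P) : ∃ n : ℕ, g ^ 2 ^ n = 1 := by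
  obtain ⟨n, hn⟩ := hP ⟨g, hg⟩
  exact ⟨n, congrArg Subtype.val hn⟩

/-- A Sylow group of a subgroup contains a 2-group normalised by it inside. -/
theorem le_of_maximal {K : Subgroup G} (P : Sylow 2 K) {X : Subgroup G} (hXK : X ≤ K) (hX : IsPGroup 2 X)
    (hn : ∀ s ∈ (P : Subgroup K).map K.subtype, ∀ x ∈ X, s * x * s⁻¹ ∈ X) :
    X ≤ (P : Subgroup K).map K.subtype := by
  have hs : (P : Subgroup K).map K.subtype ≤ normalizer (X : Set G) := fun s hs =>
    mem_normalizer_of_conj_mem (hn s hs)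
  have hsup : IsPGroup 2 ↥((P : Subgroup K).map K.subtype ⊔ X) :=
    IsPGroup.to_sup_of_normal_right' (P.isPGroup'.map _) hX hs
  have hle : (P : Subgroup K).map K.subtype ⊔ X ≤ K := sup_le (map_subtype_le _) hXK
  have h1 : ((P : Subgroup K).map K.subtype ⊔ X).subgroupOf K = P :=
    P.is_maximal' (hsup.of_equiv (subgroupOfEquivOfLe hle).symm) fun k hk =>
      mem_subgroupOf.2 (mem_sup_left (mem_map_of_mem _ hk))
  intro x hx
  exact ⟨⟨x, hXK hx⟩, h1 ▸ mem_subgroupOf.2 (mem_sup_right hx), rfl⟩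

/-- A central involution lies in every Sylow group. -/
theorem mem_sylow_of_central {K : Subgroup G} (P : Sylow 2 K) {z : G} (hz : z ∈ K) (hz2 : z * z = 1)
    (hc : ∀ k ∈ K, Commute k z) : z ∈ (P : Subgroup K).map K.subtype := by
  refine le_of_maximal P (zpowers_le.2 hz) (isPGroup_two_of_pow (n := 1) (by rw [pow_one, pow_two, hz2])) ?_
    (mem_zpowers z)
  intro s hs x hx
  obtain ⟨j, rfl⟩ := hx
  rw [((hc s (map_subtype_le _ hs)).zpow_right j).eq, mul_inv_cancel_right]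
  exact zpow_mem (mem_zpowers z) j

/-- An element normalising a subgroup normalises, up to the subgroup, a Sylow group of it. -/
theorem exists_normalizing {K : Subgroup G} (P : Sylow 2 K) {g : G} (hg : ∀ k ∈ K, g * k * g⁻¹ ∈ K) :
    ∃ k ∈ K, ∀ s ∈ (P : Subgroup K).map K.subtype, (k * g) * s * (k * g)⁻¹ ∈ (P : Subgroup K).map K.subtype := by
  haveI := Fact.mk Nat.prime_two
  set X := ((P : Subgroup K).map K.subtype).map (MulAut.conj g).toMonoidHom with hX
  have hXK : X ≤ K := by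
    rintro _ ⟨s, hs, rfl⟩
    exact hg s (map_subtype_le _ hs)
  have hXp : IsPGroup 2 (X.subgroupOf K) :=
    ((P.isPGroup'.map _).map _).of_equiv (subgroupOfEquivOfLe hXK).symm
  obtain ⟨T, hT⟩ := hXp.exists_le_sylow
  obtain ⟨⟨k, hk⟩, hkT⟩ := MulAction.exists_smul_eq K T P
  refine ⟨k, hk, fun s hs => ?_⟩
  have hm : g * s * g⁻¹ ∈ X := mem_map_of_mem _ hs
  obtain ⟨x, hxv⟩ : ∃ x : K, (x : G) = g * s * g⁻¹ := ⟨⟨_, hXK hm⟩, rfl⟩
  have hxT : x ∈ (T : Subgroup K) := hT (mem_subgroupOf.2 (hxv.symm ▸ hm))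
  refine ⟨(⟨k, hk⟩ : K) * x * (⟨k, hk⟩ : K)⁻¹, ?_, ?_⟩
  · clear hs hm hxv
    rw [SetLike.mem_coe, ← hkT, Sylow.coe_subgroup_smul, Subgroup.mem_pointwise_smul_iff_inv_smul_mem]
    convert hxT using 1
    show (MulAut.conj (⟨k, hk⟩ : K))⁻¹ _ = _
    rw [← map_inv, MulAut.conj_apply, inv_inv]
    group
  · show k * (x : G) * k⁻¹ = (k * g) * s * (k * g)⁻¹
    rw [hxv]
    group

/-- The seventh power of a transitive element on seven points fixes them. -/
theorem pow_seven_fix {t : G} {E : Subgroup G} (h8 : Nat.card E = 8) (hn : ∀ e ∈ E, t * e * t⁻¹ ∈ E)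
    (ht : ∀ e ∈ E, ∀ f ∈ E, e ≠ 1 → f ≠ 1 → ∃ j : ℕ, t ^ j * e * (t ^ j)⁻¹ = f) :
    ∀ e ∈ E, t ^ 7 * e * (t ^ 7)⁻¹ = e := by
  classical
  intro e he
  rcases eq_or_ne e 1 with rfl | he1
  · group
  have hpow : ∀ j : ℕ, ∀ f ∈ E, t ^ j * f * (t ^ j)⁻¹ ∈ E := by
    intro j
    induction j with
    | zero => intro f hf; simpa using hf
    | succ j ih =>
      intro f hf
      rw [pow_succ', show t * t ^ j * f * (t * t ^ j)⁻¹ = t * (t ^ j * f * (t ^ j)⁻¹) * t⁻¹ by group]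
      exact hn _ (ih f hf)
  haveI := Fintype.ofFinite E
  have hcard : Fintype.card {x : E // x ≠ 1} = 7 := by
    rw [Fintype.card_subtype_compl, Fintype.card_subtype_eq, ← Nat.card_eq_fintype_card, h8]
  have hmk : ∀ j : ℕ, (⟨t ^ j * e * (t ^ j)⁻¹, hpow j e he⟩ : E) ≠ 1 := fun j h1 =>
    he1 (conj_eq_one_iff.1 (congrArg Subtype.val h1))
  let f : Fin 8 → {x : E // x ≠ 1} := fun j => ⟨⟨t ^ (j : ℕ) * e * (t ^ (j : ℕ))⁻¹, hpow _ e he⟩, hmk _⟩
  obtain ⟨i, j, hij, hfij⟩ := Fintype.exists_ne_map_eq_of_card_lt f (by rw [hcard, Fintype.card_fin]; norm_num)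
  have hperiod : ∃ d : ℕ, 0 < d ∧ d ≤ 7 ∧ t ^ d * e * (t ^ d)⁻¹ = e := by
    have key : ∀ i j : Fin 8, (i : ℕ) < j → f i = f j → ∃ d : ℕ, 0 < d ∧ d ≤ 7 ∧ t ^ d * e * (t ^ d)⁻¹ = e := by
      intro i j hlt he'
      have h1 : t ^ (i : ℕ) * e * (t ^ (i : ℕ))⁻¹ = t ^ (j : ℕ) * e * (t ^ (j : ℕ))⁻¹ :=
        congrArg (fun x : {x : E // x ≠ 1} => ((x : E) : G)) he'
      refine ⟨j - i, by omega, by omega, ?_⟩
      have h2 : t ^ (j : ℕ) = t ^ (i : ℕ) * t ^ ((j : ℕ) - i) := by rw [← pow_add]; congr 1; omega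
      rw [h2] at h1
      calc t ^ ((j : ℕ) - i) * e * (t ^ ((j : ℕ) - i))⁻¹ = (t ^ (i : ℕ))⁻¹ *
            (t ^ (i : ℕ) * t ^ ((j : ℕ) - i) * e * (t ^ (i : ℕ) * t ^ ((j : ℕ) - i))⁻¹) * t ^ (i : ℕ) := by group
        _ = e := by rw [← h1]; group
    rcases lt_or_gt_of_ne (fun h1 => hij (Fin.ext h1)) with h1 | h1
    · exact key i j h1 hfij
    · exact key j i h1 hfij.symm
  obtain ⟨d, hd0, hd7, hd⟩ := hperiod
  have hmul : ∀ m : ℕ, t ^ (d * m) * e * (t ^ (d * m))⁻¹ = e := by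
    intro m
    induction m with
    | zero => simp
    | succ m ih =>
      rw [Nat.mul_succ, pow_add, show t ^ (d * m) * t ^ d * e * (t ^ (d * m) * t ^ d)⁻¹ =
        t ^ (d * m) * (t ^ d * e * (t ^ d)⁻¹) * (t ^ (d * m))⁻¹ by group, hd, ih]
  have hle : Fintype.card {x : E // x ≠ 1} ≤ Fintype.card (Fin d) := by
    refine Fintype.card_le_of_surjective
      (fun j : Fin d => (⟨⟨t ^ (j : ℕ) * e * (t ^ (j : ℕ))⁻¹, hpow _ e he⟩, hmk _⟩ : {x : E // x ≠ 1})) fun x => ?_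
    obtain ⟨m, hm⟩ := ht e he _ x.1.2 he1 (fun e1 => x.2 (Subtype.ext e1))
    refine ⟨⟨m % d, Nat.mod_lt _ hd0⟩, Subtype.ext (Subtype.ext ?_)⟩
    show t ^ (m % d) * e * (t ^ (m % d))⁻¹ = x.1
    rw [← hm]
    conv_rhs => rw [← Nat.mod_add_div m d, pow_add]
    rw [show t ^ (m % d) * t ^ (d * (m / d)) * e * (t ^ (m % d) * t ^ (d * (m / d)))⁻¹ =
      t ^ (m % d) * (t ^ (d * (m / d)) * e * (t ^ (d * (m / d)))⁻¹) * (t ^ (m % d))⁻¹ by group, hmul]
  rw [hcard, Fintype.card_fin] at hle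
  obtain rfl : d = 7 := by omega
  exact hd

end CfsgLib.AschCrit
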