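import Mathlib

/-!
Owner: helper18. Aschbacher's criterion, slice E: an involutory automorphism fixing exactly `E` in a group of
order `|E|³` with squares and commutators in `E`.

`half_inverted`, `half_cover`, `half_centralizer`, `half_root`: the elements moved into `E` are inverted and form
the image of `y ↦ φ y * y⁻¹`, each non-trivial one has them as centraliser, their squares give all of `E`.
-/

set_option autoImplicit false

namespace CfsgLib.AschCrit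

variable {G : Type*} [Group G] [Finite G]

/-- `Q` over `E` as in unitary type, with `φ` an involutory automorphism of `Q` fixing exactly `E`. -/
structure HalfData (Q E : Subgroup G) (φ : G → G) : Prop where
  E_Q : E ≤ Q
  card : Nat.card Q = Nat.card E ^ 3
  central : ∀ y ∈ Q, ∀ e ∈ E, Commute y e
  sq : ∀ y ∈ Q, y * y ∈ E
  sq_one : ∀ y ∈ Q, y * y = 1 → y ∈ E
  E_sq : ∀ e ∈ E, e * e = 1
  comm : ∀ y ∈ Q, ∀ y' ∈ Q, y * y' * y⁻¹ * y'⁻¹ ∈ E
  form : ∀ y ∈ Q, y ∉ E → ∀ e ∈ E, ∃ y' ∈ Q, y * y' * y⁻¹ * y'⁻¹ = e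
  mem : ∀ y ∈ Q, φ y ∈ Q
  map_mul : ∀ y ∈ Q, ∀ y' ∈ Q, φ (y * y') = φ y * φ y'
  involutive : ∀ y ∈ Q, φ (φ y) = y
  fixed : ∀ y ∈ Q, φ y = y ↔ y ∈ E

namespace HalfData

variable {Q E : Subgroup G} {φ : G → G}

theorem map_one (H : HalfData Q E φ) : φ 1 = 1 := (H.fixed 1 (one_mem _)).2 (one_mem _)

theorem map_inv (H : HalfData Q E φ) {y : G} (hy : y ∈ Q) : φ y⁻¹ = (φ y)⁻¹ :=
  eq_inv_of_mul_eq_one_left (by rw [← H.map_mul _ (inv_mem hy) _ hy, inv_mul_cancel, H.map_one])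

theorem inv_E (H : HalfData Q E φ) {e : G} (he : e ∈ E) : e⁻¹ = e := inv_eq_of_mul_eq_one_right (H.E_sq e he)

/-- The elements moved into `E`. -/
def half (H : HalfData Q E φ) : Subgroup G where
  carrier := {v | v ∈ Q ∧ φ v * v⁻¹ ∈ E}
  one_mem' := ⟨one_mem _, by rw [H.map_one, inv_one, mul_one]; exact one_mem _⟩
  mul_mem' := fun {v w} ⟨hv, hve⟩ ⟨hw, hwe⟩ => ⟨mul_mem hv hw, by
    rw [H.map_mul v hv w hw, show φ v * φ w * (v * w)⁻¹ = φ v * (φ w * w⁻¹) * v⁻¹ by group,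
      (H.central _ (H.mem v hv) _ hwe).eq, mul_assoc]
    exact mul_mem hwe hve⟩
  inv_mem' := fun {v} ⟨hv, hve⟩ => ⟨inv_mem hv, by
    rw [H.map_inv hv, show (φ v)⁻¹ * v⁻¹⁻¹ = v⁻¹ * (φ v * v⁻¹)⁻¹ * v⁻¹⁻¹ by group,
      (H.central _ (inv_mem hv) _ (inv_mem hve)).eq, mul_inv_cancel_right]
    exact inv_mem hve⟩

/-- `y ↦ φ y * y⁻¹` gives inverted elements. -/
theorem move_inverted (H : HalfData Q E φ) {y : G} (hy : y ∈ Q) :
    φ y * y⁻¹ ∈ Q ∧ φ (φ y * y⁻¹) = (φ y * y⁻¹)⁻¹ := by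
  refine ⟨mul_mem (H.mem y hy) (inv_mem hy), ?_⟩
  rw [H.map_mul _ (H.mem y hy) _ (inv_mem hy), H.involutive y hy, H.map_inv hy, mul_inv_rev, inv_inv]

/-- An inverted element is moved into `E`, by its square. -/
theorem half_of_inverted (H : HalfData Q E φ) {v : G} (hv : v ∈ Q) (h : φ v = v⁻¹) :
    v ∈ H.half ∧ φ v * v⁻¹ = v * v :=
  have h1 : φ v * v⁻¹ = v * v := by rw [h, ← mul_inv_rev, H.inv_E (H.sq v hv)]
  ⟨⟨hv, h1 ▸ H.sq v hv⟩, h1⟩

/-- The order of the half, and the two surjections. -/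
theorem card_half (H : HalfData Q E φ) :
    Nat.card H.half = Nat.card E ^ 2 ∧ (∀ e ∈ E, ∃ y ∈ Q, φ y * y⁻¹ * (φ y * y⁻¹) = e) := by
  classical
  have hq : 0 < Nat.card E := Nat.card_pos
  -- the shift on the half
  let ε : H.half →* E := MonoidHom.mk' (fun v => ⟨φ v * (v : G)⁻¹, v.2.2⟩) fun v w => Subtype.ext (by
    show φ ((v : G) * w) * ((v : G) * w)⁻¹ = φ v * (v : G)⁻¹ * (φ w * (w : G)⁻¹)
    rw [H.map_mul _ v.2.1 _ w.2.1, show φ (v : G) * φ w * ((v : G) * w)⁻¹ =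
      φ v * (φ (w : G) * (w : G)⁻¹) * (v : G)⁻¹ by group,
      mul_assoc (φ (v : G)), ← (H.central _ (inv_mem v.2.1) _ w.2.2).eq, ← mul_assoc])
  have hεker : Nat.card ε.ker = Nat.card E := Nat.card_congr
    { toFun := fun v => ⟨((v.1 : H.half) : G), (H.fixed _ v.1.2.1).1
        (mul_inv_eq_one.1 (congrArg Subtype.val (MonoidHom.mem_ker.1 v.2)))⟩
      invFun := fun e => ⟨⟨e, H.E_Q e.2, by rw [(H.fixed _ (H.E_Q e.2)).2 e.2, mul_inv_cancel]; exact one_mem _⟩,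
        MonoidHom.mem_ker.2 (Subtype.ext (by
          show φ (e : G) * (e : G)⁻¹ = 1
          rw [(H.fixed _ (H.E_Q e.2)).2 e.2, mul_inv_cancel]))⟩
      left_inv := fun v => rfl
      right_inv := fun e => rfl }
  have hW : Nat.card H.half ≤ Nat.card E ^ 2 := by
    rw [← Subgroup.card_mul_index ε.ker, Subgroup.index_ker, hεker, pow_two]
    exact Nat.mul_le_mul_left _ (Subgroup.card_le_card_group _)
  -- the shift of the moved elements
  have hmem : ∀ y : Q, φ y * (y : G)⁻¹ ∈ H.half := fun y =>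
    (H.half_of_inverted (H.move_inverted y.2).1 (H.move_inverted y.2).2).1
  have hεt : ∀ (y : Q) (h1 : φ y * (y : G)⁻¹ ∈ H.half),
      (ε ⟨_, h1⟩ : G) = φ y * (y : G)⁻¹ * (φ y * (y : G)⁻¹) := fun y _ =>
    (H.half_of_inverted (H.move_inverted y.2).1 (H.move_inverted y.2).2).2
  let ξ : Q →* E := MonoidHom.mk' (fun y => ε ⟨φ y * (y : G)⁻¹, hmem y⟩) fun x y => by
    have hty := (H.move_inverted y.2).1
    set c := (x : G) * (φ y * (y : G)⁻¹) * (x : G)⁻¹ * (φ y * (y : G)⁻¹)⁻¹ with hc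
    have hcE : c ∈ E := H.comm _ x.2 _ hty
    have hch : c ∈ H.half := ⟨H.E_Q hcE, by
      rw [(H.fixed _ (H.E_Q hcE)).2 hcE, mul_inv_cancel]; exact one_mem _⟩
    have hεc : ε ⟨c, hch⟩ = 1 := Subtype.ext (by
      show φ c * c⁻¹ = 1
      rw [(H.fixed _ (H.E_Q hcE)).2 hcE, mul_inv_cancel])
    have he : (⟨φ (x * y : Q) * ((x * y : Q) : G)⁻¹, hmem (x * y)⟩ : H.half) =
        ⟨φ x * (x : G)⁻¹, hmem x⟩ * ⟨c, hch⟩ * ⟨φ y * (y : G)⁻¹, hmem y⟩ := Subtype.ext (by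
      show φ ((x : G) * y) * ((x : G) * y)⁻¹ = φ x * (x : G)⁻¹ * c * (φ y * (y : G)⁻¹)
      rw [H.map_mul _ x.2 _ y.2, hc]
      group)
    show ε _ = ε _ * ε _
    rw [he, _root_.map_mul, _root_.map_mul, hεc, mul_one]
  have hξker : Nat.card ξ.ker = Nat.card H.half := Nat.card_congr
    { toFun := fun y => ⟨((y.1 : Q) : G), y.1.2, H.sq_one _ (H.move_inverted y.1.2).1
        ((hεt y.1 (hmem y.1)).symm.trans (congrArg Subtype.val (MonoidHom.mem_ker.1 y.2)))⟩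
      invFun := fun v => ⟨⟨v, v.2.1⟩, MonoidHom.mem_ker.2 (Subtype.ext
        ((hεt ⟨v, v.2.1⟩ (hmem _)).trans (H.E_sq _ v.2.2)))⟩
      left_inv := fun v => rfl
      right_inv := fun v => rfl }
  have hQ := Subgroup.card_mul_index ξ.ker
  rw [Subgroup.index_ker, hξker, H.card] at hQ
  have hle : Nat.card ξ.range ≤ Nat.card E := Subgroup.card_le_card_group _
  have hWeq : Nat.card H.half = Nat.card E ^ 2 := by
    refine le_antisymm hW (Nat.le_of_mul_le_mul_right ?_ hq)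
    rw [show Nat.card E ^ 2 * Nat.card E = Nat.card E ^ 3 by ring, ← hQ]
    exact Nat.mul_le_mul_left _ hle
  refine ⟨hWeq, fun e he => ?_⟩
  have htop : ξ.range = ⊤ := Subgroup.eq_top_of_card_eq _ (by
    rw [hWeq] at hQ
    exact Nat.eq_of_mul_eq_mul_left (pow_pos hq 2) (hQ.trans (by ring)))
  obtain ⟨y, hy⟩ := MonoidHom.range_eq_top.1 htop ⟨e, he⟩
  exact ⟨y, y.2, (hεt y (hmem y)).symm.trans (congrArg Subtype.val hy)⟩

/-- Every element moved into `E` is a moved element modulo `E`. -/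
theorem half_cover (H : HalfData Q E φ) {v : G} (hv : v ∈ Q) (hve : φ v * v⁻¹ ∈ E) :
    ∃ y ∈ Q, v⁻¹ * (φ y * y⁻¹) ∈ E := by
  obtain ⟨y, hy, hye⟩ := H.card_half.2 _ hve
  obtain ⟨htQ, htφ⟩ := H.move_inverted hy
  refine ⟨y, hy, (H.fixed _ (mul_mem (inv_mem hv) htQ)).1 ?_⟩
  set t := φ y * y⁻¹ with ht
  have h1 : φ t = φ v * v⁻¹ * t := by
    rw [← hye, htφ]
    obtain ⟨-, h⟩ := H.half_of_inverted htQ htφ
    rw [← h, htφ, inv_mul_cancel_right]
  rw [H.map_mul _ (inv_mem hv) _ htQ, H.map_inv hv, h1]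
  group

/-- The elements moved into `E` are inverted. -/
theorem half_inverted (H : HalfData Q E φ) {v : G} (hv : v ∈ Q) (hve : φ v * v⁻¹ ∈ E) : φ v = v⁻¹ := by
  obtain ⟨y, hy, he⟩ := H.half_cover hv hve
  obtain ⟨htQ, htφ⟩ := H.move_inverted hy
  have hv' : v = φ y * y⁻¹ * (v⁻¹ * (φ y * y⁻¹))⁻¹ := by group
  rw [hv', H.map_mul _ htQ _ (H.E_Q (inv_mem he)), htφ, (H.fixed _ (H.E_Q (inv_mem he))).2 (inv_mem he),
    mul_inv_rev (φ y * y⁻¹), inv_inv, (H.central _ (inv_mem htQ) _ (inv_mem he)).eq, H.inv_E he]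

/-- All of `E` are squares of inverted elements. -/
theorem half_root (H : HalfData Q E φ) {e : G} (he : e ∈ E) : ∃ v ∈ Q, φ v = v⁻¹ ∧ v * v = e := by
  obtain ⟨y, hy, hye⟩ := H.card_half.2 e he
  exact ⟨_, (H.move_inverted hy).1, (H.move_inverted hy).2, hye⟩

/-- Only the half centralises a non-trivial element of it. -/
theorem half_centralizer (H : HalfData Q E φ) {v d : G} (hv : v ∈ Q) (hve : φ v * v⁻¹ ∈ E) (hvE : v ∉ E)
    (hd : d ∈ Q) (hc : Commute v d) : φ d * d⁻¹ ∈ E := by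
  classical
  let f : Q →* E := MonoidHom.mk' (fun x => ⟨v * x * v⁻¹ * (x : G)⁻¹, H.comm v hv x x.2⟩) fun x y =>
    Subtype.ext (by
      show v * ((x : G) * y) * v⁻¹ * ((x : G) * y)⁻¹ = v * x * v⁻¹ * (x : G)⁻¹ * (v * y * v⁻¹ * (y : G)⁻¹)
      rw [show v * ((x : G) * y) * v⁻¹ * ((x : G) * y)⁻¹ =
        v * x * v⁻¹ * ((v * y * v⁻¹ * (y : G)⁻¹) * (x : G)⁻¹) by group,
        ← (H.central _ (inv_mem x.2) _ (H.comm v hv y y.2)).eq, ← mul_assoc])
  have hf : Function.Surjective f := fun e => by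
    obtain ⟨y, hy, hye⟩ := H.form v hv hvE e e.2
    exact ⟨⟨y, hy⟩, Subtype.ext hye⟩
  set K : Subgroup G := f.ker.map Q.subtype with hK
  have hKc : Nat.card K = Nat.card E ^ 2 := by
    rw [hK, Subgroup.card_map_of_injective (Subgroup.subtype_injective _)]
    have h1 := Subgroup.card_mul_index f.ker
    rw [Subgroup.index_ker, MonoidHom.range_eq_top.2 hf, Subgroup.card_top, H.card,
      show Nat.card E ^ 3 = Nat.card E ^ 2 * Nat.card E by ring] at h1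
    exact Nat.eq_of_mul_eq_mul_right Nat.card_pos h1
  have hle : H.half ≤ K := fun w hw => by
    refine ⟨⟨w, hw.1⟩, MonoidHom.mem_ker.2 (Subtype.ext ?_), rfl⟩
    have hvi := H.half_inverted hv hve
    have hwi := H.half_inverted hw.1 hw.2
    have h1 := H.half_inverted (mul_mem hv hw.1) (H.half.mul_mem ⟨hv, hve⟩ hw).2
    rw [H.map_mul v hv w hw.1, hvi, hwi, mul_inv_rev] at h1
    have h3 : Commute v⁻¹ w⁻¹ := h1
    show v * w * v⁻¹ * w⁻¹ = 1
    rw [(Commute.inv_inv_iff.1 h3).eq, mul_inv_cancel_right, mul_inv_cancel]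
  have heq := Subgroup.eq_of_le_of_card_ge hle (by rw [hKc, H.card_half.1])
  have hdK : d ∈ K := ⟨⟨d, hd⟩, MonoidHom.mem_ker.2 (Subtype.ext
    (show v * d * v⁻¹ * d⁻¹ = 1 by rw [hc.eq, mul_inv_cancel_right, mul_inv_cancel])), rfl⟩
  exact (heq.symm ▸ hdK : d ∈ H.half).2

end HalfData

end CfsgLib.AschCrit
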