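import Cfsg.Agent.Lib.Invol.AschCrit.ModelTrans
import Cfsg.Agent.Lib.Invol.AschCrit.ModelHalf
import Cfsg.Agent.Lib.Invol.AschCrit.CentData
import Cfsg.Agent.Lib.Invol.AschCrit.FormulaProof

/-!
Owner: helper18. Aschbacher's criterion, slice E: the action on the fixed points of a multi of unitary type.

* `SameAct`: the same action on the fixed points of `u`.
* `ModelBase.fixed_E`: an element moving all but `q + 1` of them fixes only `E` in `Q`.
* `Crit.act_cases`, `Crit.act_of_sq`: elements of `centSub` on the fixed points.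
* `Crit.cGrp_act`, `Crit.exists_conj_act`, `Crit.exists_transfer`: conjugates of `Q` act as `Q`, with equal squares.
* `Crit.frame_of_fixGrp`: a non-trivial involution of `fixGrp` is a multi of unitary type on which `u` is not trivial.
-/

set_option autoImplicit false
set_option linter.unusedSectionVars false

namespace CfsgLib.AschCrit

open Subgroup MulAction CfsgLib.Lie.RankOne CfsgLib.Lie.RankOneClass

universe u

variable {G : Type u} [Group G] {Ω : Type u} [MulAction G Ω]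

/-- The same action on the fixed points of `u`. -/
def SameAct (Ω : Type u) [MulAction G Ω] (u g g' : G) : Prop := ∀ p : Ω, u • p = p → g • p = g' • p

namespace SameAct

variable {u g g' g'' k k' : G}

theorem refl (u g : G) : SameAct Ω u g g := fun _ _ => rfl

theorem symm (h : SameAct Ω u g g') : SameAct Ω u g' g := fun p hp => (h p hp).symm

theorem trans (h : SameAct Ω u g g') (h' : SameAct Ω u g' g'') : SameAct Ω u g g'' := fun p hp =>
  (h p hp).trans (h' p hp)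

theorem fixed (hc : Commute g u) {p : Ω} (hp : u • p = p) : u • (g • p) = g • p := by
  rw [← mul_smul, ← hc.eq, mul_smul, hp]

theorem mul (h : SameAct Ω u g g') (h' : SameAct Ω u k k') (hk : Commute k' u) :
    SameAct Ω u (g * k) (g' * k') := fun p hp => by
  rw [mul_smul, mul_smul, h' p hp, h _ (fixed hk hp)]

theorem inv (h : SameAct Ω u g g') (hc : Commute g' u) : SameAct Ω u g⁻¹ g'⁻¹ := fun p hp => by
  have h1 := h _ (fixed hc.inv_left hp)
  rw [smul_inv_smul] at h1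
  exact inv_smul_eq_iff.2 h1.symm

theorem conj (h : SameAct Ω u k k') (hg : Commute g u) (hk : Commute k' u) :
    SameAct Ω u (g * k * g⁻¹) (g * k' * g⁻¹) :=
  ((SameAct.refl u g).mul h hk).mul (SameAct.refl u g⁻¹) hg.inv_left

end SameAct

variable [Finite G]

namespace ModelBase

variable {D : Set G} {u : G} {a b : Ω} {E : Subgroup G} {q i : ℕ} {R P0 Q : Subgroup G}

theorem mem_Q_data (M : ModelBase D u a b E q i R P0 Q) {y : G} (hy : y ∈ Q) :
    y • a = a ∧ Commute y u ∧ ∀ e ∈ E, Commute y e :=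
  mem_centSub.1 (M.sub ((M.Q_mem y).1 hy).1)

theorem Q_two (M : ModelBase D u a b E q i R P0 Q) {y : G} (hy : y ∈ Q) : ∃ n : ℕ, y ^ 2 ^ n = 1 := by
  obtain ⟨n, hn⟩ := M.two ⟨y, ((M.Q_mem y).1 hy).1⟩
  exact ⟨n, congrArg Subtype.val hn⟩

/-- Elements of `Q` agreeing at `b` are equal. -/
theorem eq_of_smul (M : ModelBase D u a b E q i R P0 Q) {y y' : G} (hy : y ∈ Q) (hy' : y' ∈ Q)
    (h : y • b = y' • b) : y = y' :=
  (inv_mul_eq_one.1 (M.Q_free _ (mul_mem (inv_mem hy') hy) (by rw [mul_smul, h, inv_smul_smul]))).symm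

theorem eq_of_act (M : ModelBase D u a b E q i R P0 Q) (hl : LData D u a b E q i) {y y' : G} (hy : y ∈ Q)
    (hy' : y' ∈ Q) (h : SameAct Ω u y y') : y = y' :=
  M.eq_of_smul hy hy' (h b hl.fix_b)

/-- The part in `Q`. -/
theorem exists_part (M : ModelBase D u a b E q i R P0 Q) (hl : LData D u a b E q i) {g : G}
    (hg : g ∈ centSub u a E) : ∃ y ∈ Q, g • b = y • b ∧ y⁻¹ * g ∈ fixGrp u a b E := by
  obtain ⟨hga, hgu, -⟩ := mem_centSub.1 hg
  obtain ⟨y, hy, hyb⟩ := M.Q_trans _ (SameAct.fixed hgu hl.fix_b)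
    (fun e => hl.ne (smul_left_cancel g (e.trans hga.symm)).symm)
  exact ⟨y, hy, hyb.symm, mem_fixGrp.2 ⟨mul_mem (inv_mem (M.sub ((M.Q_mem y).1 hy).1)) hg,
    by rw [mul_smul, ← hyb, inv_smul_smul]⟩⟩

/-- An element moving all but `q + 1` fixed points of `u` fixes only `E` in `Q`. -/
theorem fixed_E (M : ModelBase D u a b E q i R P0 Q) (hl : LData D u a b E q i) [Finite Ω] {g : G}
    (hg : g ∈ fixGrp u a b E) (hcard : Nat.card {x : Ω // u • x = x ∧ g • x = x} = q + 1) {y : G} (hy : y ∈ Q)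
    (hc : SameAct Ω u (g * y * g⁻¹) y) : y ∈ E := by
  classical
  obtain ⟨hgF, hgb⟩ := mem_fixGrp.1 hg
  obtain ⟨hga, hgu, hgE⟩ := mem_centSub.1 hgF
  obtain ⟨hya, hyu, -⟩ := M.mem_Q_data hy
  have hne : ∀ {x}, x ∈ Q → x • b ≠ a := fun hx e =>
    hl.ne (smul_left_cancel _ (e.trans (M.mem_Q_data hx).1.symm)).symm
  let f : Option E → {x : Ω // u • x = x ∧ g • x = x} := fun o => o.elim ⟨a, hl.fix_a, hga⟩
    fun e => ⟨(e : G) • b, SameAct.fixed (M.mem_Q_data (M.E_Q e.2)).2.1 hl.fix_b, by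
      rw [← mul_smul, (hgE e e.2).eq, mul_smul, hgb]⟩
  have hinj : Function.Injective f := by
    rintro (_ | e) (_ | e') he
    · rfl
    · exact absurd (congrArg Subtype.val he).symm (hne (M.E_Q e'.2))
    · exact absurd (congrArg Subtype.val he) (hne (M.E_Q e.2))
    · exact congrArg some (Subtype.ext (M.eq_of_smul (M.E_Q e.2) (M.E_Q e'.2) (congrArg Subtype.val he)))
  have hyb : g • (y • b) = y • b := by
    have h1 := hc b hl.fix_b
    rwa [mul_smul, mul_smul, inv_smul_eq_iff.2 hgb.symm] at h1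
  obtain ⟨o, ho⟩ := ((Nat.bijective_iff_injective_and_card f).2
    ⟨hinj, by rw [Finite.card_option, hl.card_E, hcard]⟩).2 ⟨y • b, SameAct.fixed hyu hl.fix_b, hyb⟩
  rcases o with _ | e
  · exact absurd (congrArg Subtype.val ho).symm (hne hy)
  · rw [M.eq_of_smul hy (M.E_Q e.2) (congrArg Subtype.val ho).symm]
    exact e.2

end ModelBase

namespace Crit

variable {D : Set G} (h : Crit Ω D)
include h

theorem E_sq {u : G} {a b : Ω} {E : Subgroup G} {q i : ℕ} (hl : LData D u a b E q i) {e : G} (he : e ∈ E) :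
    e * e = 1 := by
  rcases eq_or_ne e 1 with h1 | h1
  · rw [h1, one_mul]
  · exact h.sq (hl.mem e he h1).1

/-- A 2-element of `<D cap C(u)>` at `a` acts as an element of `Q`. -/
theorem cGrp_act (hf : Faithful G Ω) (IH : Below.{u, u} (Nat.card G)) {u : G} {a b : Ω} {E : Subgroup G}
    {q i : ℕ} (hu : IsMulti Ω u) (hl : LData D u a b E q i) {R P0 Q : Subgroup G}
    (M : ModelBase D u a b E q i R P0 Q) {g : G} (hg : g ∈ cGrp D u) (hga : g • a = a)
    (hg2 : ∃ n : ℕ, g ^ 2 ^ n = 1) {y : G} (hy : y ∈ Q) (hgy : g • b = y • b) : SameAct Ω u g y := by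
  classical
  haveI := h.finite_points
  haveI : FaithfulSMul (cImage Ω D u) (MulAction.fixedBy Ω u) :=
    faithfulSMul_iff.2 fun g hg => Subtype.ext (Equiv.ext hg)
  obtain ⟨U, hB⟩ := h.bend hf IH hu hl
  haveI := hB.simple
  obtain ⟨t₀, ht₀, ht₀a, ht₀c⟩ := h.exists_swapper_centralised hl.ne _
    (isPGroup_sup_involution (IsPGroup.of_bot (p := 2) (G := G)) hu.1
      (fun g hg => by rw [Subgroup.mem_bot.1 hg]; exact Commute.one_left u))
    (fix_sup (fun g hg => by rw [Subgroup.mem_bot.1 hg]; exact ⟨one_smul _ _, one_smul _ _⟩) hl.fix_a hl.fix_b)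
  set π := cProj Ω D u with hπ
  set t : cGrp D u := ⟨t₀, mem_cGrp ht₀ (ht₀c u (mem_sup_right (mem_zpowers u))).symm⟩ with ht
  have hab' : fixPt hl.fix_b ≠ fixPt hl.fix_a := fun e => hl.ne (congrArg Subtype.val e).symm
  have hta : π t • fixPt hl.fix_a = fixPt hl.fix_b := Subtype.ext ht₀a
  have hS := hB.setup (π t) ((h.cImage_crit hu).sq (h.cProj_mem (d := t) ht₀)) (by rw [hta]; exact hab')
  have hU : ∀ {x : G} (hx : x ∈ cGrp D u), x • a = a → (∃ n : ℕ, x ^ 2 ^ n = 1) → π ⟨x, hx⟩ ∈ U := by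
    rintro x hx hxa ⟨n, hn⟩
    refine CfsgLib.RankOneInter.TIAuto.mem_Q_of_two_power hS (Subtype.ext hxa) (n := n) ?_
    rw [← map_pow, show (⟨x, hx⟩ : cGrp D u) ^ 2 ^ n = 1 from Subtype.ext hn, map_one]
  obtain ⟨hya, hyu, -⟩ := M.mem_Q_data hy
  have hyc := ((M.Q_mem y).1 hy).2
  obtain ⟨x, -, huniq⟩ := CfsgLib.Lie.RankOne.existsUnique_smul hS (fixPt hl.fix_b)
    (⟨y • b, SameAct.fixed hyu hl.fix_b⟩ : MulAction.fixedBy Ω u) hab'
    (fun e => hl.ne (smul_left_cancel y ((congrArg Subtype.val e).trans hya.symm)).symm)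
  have he : π ⟨g, hg⟩ = π ⟨y, hyc⟩ := congrArg Subtype.val
    ((huniq ⟨_, hU hg hga hg2⟩ (Subtype.ext hgy)).trans
      (huniq ⟨_, hU hyc hya (M.Q_two hy)⟩ (Subtype.ext rfl)).symm)
  intro p hp
  exact congrArg Subtype.val (congrArg (· • (⟨p, hp⟩ : MulAction.fixedBy Ω u)) he)

/-- A conjugate of an element of `Q` acts as an element of `Q`. -/
theorem exists_conj_act (hf : Faithful G Ω) (IH : Below.{u, u} (Nat.card G)) {u : G} {a b : Ω} {E : Subgroup G}
    {q i : ℕ} (hu : IsMulti Ω u) (hl : LData D u a b E q i) {R P0 Q : Subgroup G}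
    (M : ModelBase D u a b E q i R P0 Q) {g : G} (hg : g ∈ centSub u a E) {y : G} (hy : y ∈ Q) :
    ∃ v ∈ Q, SameAct Ω u (g * y * g⁻¹) v := by
  obtain ⟨hga, hgu, -⟩ := mem_centSub.1 hg
  have hgy : g * y * g⁻¹ ∈ centSub u a E := mul_mem (mul_mem hg (M.sub ((M.Q_mem y).1 hy).1)) (inv_mem hg)
  obtain ⟨v, hv, hvb, -⟩ := M.exists_part hl hgy
  obtain ⟨n, hn⟩ := M.Q_two hy
  exact ⟨v, hv, h.cGrp_act hf IH hu hl M (conj_mem_cGrp h hgu ((M.Q_mem y).1 hy).2) (mem_centSub.1 hgy).1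
    ⟨n, by rw [conj_pow, hn, mul_one, mul_inv_cancel]⟩ hv hvb⟩

/-- Conjugation by an element of `centSub`, as a map on `Q`. -/
theorem exists_conj_map (hf : Faithful G Ω) (IH : Below.{u, u} (Nat.card G)) {u : G} {a b : Ω} {E : Subgroup G}
    {q i : ℕ} (hu : IsMulti Ω u) (hl : LData D u a b E q i) {R P0 Q : Subgroup G}
    (M : ModelBase D u a b E q i R P0 Q) {g : G} (hg : g ∈ centSub u a E) :
    ∃ φ : G → G, (∀ y ∈ Q, φ y ∈ Q ∧ SameAct Ω u (g * y * g⁻¹) (φ y)) ∧
      (∀ y ∈ Q, ∀ y' ∈ Q, φ (y * y') = φ y * φ y') ∧ ∀ e ∈ E, φ e = e := by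
  classical
  obtain ⟨-, hgu, hgE⟩ := mem_centSub.1 hg
  choose! φ hφ hφa using fun y (hy : y ∈ Q) => h.exists_conj_act hf IH hu hl M hg hy
  refine ⟨φ, fun y hy => ⟨hφ y hy, hφa y hy⟩, fun y hy y' hy' => ?_, fun e he => ?_⟩
  · refine M.eq_of_act hl (hφ _ (mul_mem hy hy')) (mul_mem (hφ y hy) (hφ y' hy')) ?_
    have h1 := (hφa y hy).mul (hφa y' hy') (M.mem_Q_data (hφ y' hy')).2.1
    rw [show g * y * g⁻¹ * (g * y' * g⁻¹) = g * (y * y') * g⁻¹ by group] at h1
    exact (hφa _ (mul_mem hy hy')).symm.trans h1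
  · have h1 := hφa e (M.E_Q he)
    rw [(hgE e he).eq, mul_inv_cancel_right] at h1
    exact (M.eq_of_act hl (M.E_Q he) (hφ e (M.E_Q he)) h1).symm

/-- An involutory automorphism moving all but `q + 1` fixed points, as `HalfData`. -/
theorem halfData {u : G} {a b : Ω} {E : Subgroup G} {q : ℕ} (hl : LData D u a b E q 3) {R P0 Q : Subgroup G}
    (M : ModelBase D u a b E q 3 R P0 Q) {g : G} (hg : g ∈ fixGrp u a b E)
    (hcard : Nat.card {x : Ω // u • x = x ∧ g • x = x} = q + 1) (hg2 : SameAct Ω u (g * g) 1) {φ : G → G}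
    (hφ : ∀ y ∈ Q, φ y ∈ Q ∧ SameAct Ω u (g * y * g⁻¹) (φ y))
    (hmul : ∀ y ∈ Q, ∀ y' ∈ Q, φ (y * y') = φ y * φ y') (hE : ∀ e ∈ E, φ e = e) : HalfData Q E φ := by
  haveI := h.finite_points
  obtain ⟨-, hgu, -⟩ := mem_centSub.1 (mem_fixGrp.1 hg).1
  refine ⟨M.E_Q, by rw [M.Q_card, hl.card_E], fun y hy e he => (M.mem_Q_data hy).2.2 e he, M.Q_sq, M.Q_sq_one,
    fun e he => h.E_sq hl he, M.QQ, fun y hy hyE e he => M.Q_form_three rfl y hy hyE e he,
    fun y hy => (hφ y hy).1, hmul, fun y hy => ?_, fun y hy => ⟨fun e => ?_, hE y⟩⟩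
  · obtain ⟨hφy, hay⟩ := hφ y hy
    obtain ⟨hφφ, hayy⟩ := hφ _ hφy
    refine M.eq_of_act hl hφφ hy (hayy.symm.trans ?_)
    refine (((hay.conj hgu (M.mem_Q_data hφy).2.1)).symm.trans ?_)
    have h1 := (hg2.mul (SameAct.refl u y) (M.mem_Q_data hy).2.1).mul
      (hg2.inv (Commute.one_left u)) (Commute.one_left u).inv_left
    rw [one_mul, inv_one, mul_one] at h1
    rwa [show g * (g * y * g⁻¹) * g⁻¹ = g * g * y * (g * g)⁻¹ by group]
  · refine M.fixed_E hl hg hcard hy ?_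
    have h1 := (hφ y hy).2
    rwa [e] at h1

/-- Conjugates by a translation of elements centralising `u` and `E` at `a` are such. -/
theorem conj_centSub {u : G} {a b : Ω} {E : Subgroup G} {q i : ℕ} (hl : LData D u a b E q i) {x g : G}
    (hx : x ∈ transSub u a E) (hg : g ∈ centSub u a E) : x * g * x⁻¹ ∈ centSub u a E := by
  obtain ⟨hga, hgu, hgE⟩ := mem_centSub.1 hg
  obtain ⟨hxa, hxE, hxu⟩ := hx
  obtain ⟨hxa', -, hxu'⟩ := inv_mem (show x ∈ transSub u a E from ⟨hxa, hxE, hxu⟩)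
  rw [inv_inv] at hxu'
  refine mem_centSub.2 ⟨by rw [mul_smul, mul_smul, hxa', hga, hxa], ?_, fun e he => ?_⟩
  · have h1 : Commute g (x⁻¹ * u * x) := by
      rw [show x⁻¹ * u * x = u * (u⁻¹ * (x⁻¹ * u * x)) by group]
      exact hgu.mul_right (hgE _ hxu')
    show x * g * x⁻¹ * u = u * (x * g * x⁻¹)
    calc x * g * x⁻¹ * u = x * (g * (x⁻¹ * u * x)) * x⁻¹ := by group
      _ = x * (x⁻¹ * u * x * g) * x⁻¹ := by rw [h1.eq]
      _ = u * (x * g * x⁻¹) := by group
  · exact ((hxE e he).mul_left (hgE e he)).mul_left (hxE e he).inv_left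

/-- An element of `fixGrp` involutory on the fixed points of `u` fixes all or `q + 1` of them. -/
theorem act_cases (hf : Faithful G Ω) (IH : Below.{u, u} (Nat.card G)) {u : G} {a b : Ω} {E : Subgroup G}
    {q : ℕ} (ht : TopFrame D u a b E q 3) {k : G} (hk : k ∈ fixGrp u a b E) (hkk : SameAct Ω u (k * k) 1) :
    SameAct Ω u k 1 ∨ Nat.card {p : Ω // u • p = p ∧ k • p = p} = q + 1 := by
  classical
  haveI := Fact.mk Nat.prime_two
  haveI := h.finite_points
  obtain ⟨-, hku, -⟩ := mem_centSub.1 (mem_fixGrp.1 hk).1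
  -- the 2-part of `k`
  obtain ⟨l, m, hm, hlm⟩ := Nat.exists_eq_two_pow_mul_odd (orderOf_pos k).ne'
  have hk' : SameAct Ω u (k ^ m) k := by
    obtain ⟨m', rfl⟩ := hm
    intro p hp
    rw [pow_succ, mul_smul, pow_mul, pow_two]
    have h3 : ∀ n : ℕ, (k * k) ^ n • (k • p) = k • p := fun n => by
      have h4 := hkk _ (SameAct.fixed hku hp)
      rw [one_smul] at h4
      exact mem_stabilizer_iff.1 (pow_mem (mem_stabilizer_iff.2 h4) n)
    exact h3 m'
  have hk2 : ∃ n : ℕ, (k ^ m) ^ 2 ^ n = 1 := ⟨l, by rw [← pow_mul, mul_comm, ← hlm, pow_orderOf_eq_one]⟩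
  rcases h.kernelFix hf IH u a b E q 3 ht _ (pow_mem hk m) hk2 with hall | ⟨-, hcard⟩
  · exact Or.inl fun p hp => by rw [← hk' p hp, hall p hp, one_smul]
  · refine Or.inr ?_
    rw [← hcard]
    exact Nat.card_congr (Equiv.subtypeEquivRight fun p => and_congr_right fun hp => by rw [hk' p hp])

/-- An element squaring to a non-trivial element of `E` on the fixed points of `u` acts as an element of `Q`. -/
theorem act_of_sq (hf : Faithful G Ω) (IH : Below.{u, u} (Nat.card G)) {u : G} {a b : Ω} {E : Subgroup G}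
    {q : ℕ} (ht : TopFrame D u a b E q 3) {R P0 Q : Subgroup G} (M : ModelBase D u a b E q 3 R P0 Q) {g : G}
    (hg : g ∈ centSub u a E) {ε : G} (hεE : ε ∈ E) (hε1 : ε ≠ 1) (hgg : SameAct Ω u (g * g) ε) :
    ∃ v ∈ Q, SameAct Ω u g v ∧ v * v = ε := by
  classical
  haveI := h.finite_points
  have hl := ht.data
  obtain ⟨v, hv, hvb, hh⟩ := M.exists_part hl hg
  obtain ⟨-, hvu, hvE⟩ := M.mem_Q_data hv
  set k := v⁻¹ * g with hk
  obtain ⟨hkF, hkb⟩ := mem_fixGrp.1 hh
  obtain ⟨-, hku, -⟩ := mem_centSub.1 hkF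
  obtain ⟨v₂, hv₂, hv₂a⟩ := h.exists_conj_act hf IH ht.multi hl M hkF hv
  have hv₂u := (M.mem_Q_data hv₂).2.1
  have hprod : SameAct Ω u ε (v * v₂ * (k * k)) := by
    have h1 := ((SameAct.refl u v).mul hv₂a hv₂u).mul (SameAct.refl u (k * k)) (hku.mul_left hku)
    rw [show v * (k * v * k⁻¹) * (k * k) = v * k * (v * k) by group,
      show v * k = g by rw [hk, mul_inv_cancel_left]] at h1
    exact hgg.symm.trans h1
  have hvv : v * v₂ = ε := by
    refine (M.eq_of_smul (M.E_Q hεE) (mul_mem hv hv₂) ?_).symm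
    rw [hprod b hl.fix_b, mul_smul, mul_smul k, hkb, hkb]
  have hkk : SameAct Ω u (k * k) 1 := fun p hp => by
    have h1 := hprod p hp
    rw [hvv, mul_smul ε (k * k) p] at h1
    rw [one_smul]
    exact (smul_left_cancel ε h1).symm
  rcases h.act_cases hf IH ht hh hkk with hk1 | hcard
  · refine ⟨v, hv, ?_, ?_⟩
    · have h1 := (SameAct.refl u v).mul hk1 (Commute.one_left u)
      rwa [mul_one, hk, mul_inv_cancel_left] at h1
    · have h1 : SameAct Ω u (k * v * k⁻¹) v := by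
        have h3 := (hk1.mul (SameAct.refl u v) hvu).mul (hk1.inv (Commute.one_left u)) (Commute.one_left u).inv_left
        rwa [one_mul, inv_one, mul_one] at h3
      rw [← hvv, M.eq_of_act hl hv₂ hv (hv₂a.symm.trans h1)]
  · exfalso
    obtain ⟨φ, hφ, hφm, hφE⟩ := h.exists_conj_map hf IH ht.multi hl M hkF
    have H := h.halfData hl M hh hcard hkk hφ hφm hφE
    have hφv : φ v = v₂ := M.eq_of_act hl (hφ v hv).1 hv₂ ((hφ v hv).2.symm.trans hv₂a)
    have hv₂v : v₂ = v⁻¹ * ε := by rw [← hvv, inv_mul_cancel_left]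
    have hhalf : φ v * v⁻¹ ∈ E := by
      rw [hφv, hv₂v, mul_assoc, ← ((hvE ε hεE).inv_left).eq, ← mul_assoc, ← mul_inv_rev, H.inv_E (M.Q_sq v hv)]
      exact mul_mem (M.Q_sq v hv) hεE
    have h1 := H.half_inverted hv hhalf
    rw [hφv, hv₂v, mul_eq_left] at h1
    exact hε1 h1

/-- The image of `Q` under a translation acts as `Q`, with the same squares. -/
theorem exists_transfer (hf : Faithful G Ω) (IH : Below.{u, u} (Nat.card G)) {u : G} {a b : Ω} {E : Subgroup G}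
    {q : ℕ} (ht : TopFrame D u a b E q 3) {R P0 Q : Subgroup G} (M : ModelBase D u a b E q 3 R P0 Q) {x : G}
    (hx : x ∈ transSub u a E) {y : G} (hy : y ∈ Q) :
    x * y * x⁻¹ ∈ centSub u a E ∧ ∃ v ∈ Q, SameAct Ω u (x * y * x⁻¹) v ∧ v * v = y * y := by
  have hyx := h.conj_centSub ht.data hx (M.sub ((M.Q_mem y).1 hy).1)
  refine ⟨hyx, ?_⟩
  have hxe : ∀ {e}, e ∈ E → x * e * x⁻¹ = e := fun he => by rw [(hx.2.1 _ he).eq, mul_inv_cancel_right]
  by_cases hye : y ∈ E
  · exact ⟨y, hy, by rw [hxe hye]; exact SameAct.refl u y, rfl⟩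
  refine h.act_of_sq hf IH ht M hyx (M.Q_sq y hy) (fun h1 => hye (M.Q_sq_one y hy h1)) ?_
  rw [show x * y * x⁻¹ * (x * y * x⁻¹) = x * (y * y) * x⁻¹ by group, hxe (M.Q_sq y hy)]
  exact SameAct.refl u _

/-- Types 1 and 3 do not occur together. -/
theorem no_one_three (hf : Faithful G Ω) (IH : Below.{u, u} (Nat.card G)) {w u : G} {a b b' : Ω}
    {E : Subgroup G} {q : ℕ} (htw : TopFrame D w a b E q 1) (ht : TopFrame D u a b' E q 3) : False := by
  have hform := h.formula hf IH (h.cosetClass hf (h.localDichotomy hf IH))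
  haveI := h.finite_points
  have hsw : ∀ {z : G} {c : Ω} {j : ℕ}, TopFrame D z a c E q j → ∃ t ∈ D, Commute t z ∧ t • a = c := by
    intro z c j hz
    obtain ⟨t, htD, hta, htc⟩ := h.exists_swapper_centralised hz.data.ne (zpowers z)
      (IsPGroup.of_card (n := 1) (by rw [Nat.card_zpowers, pow_one, hz.multi.1]))
      (fun x hx => by
        obtain ⟨k, rfl⟩ := hx
        exact ⟨zpow_mem (show z ∈ stabilizer G a from hz.data.fix_a) k,
          zpow_mem (show z ∈ stabilizer G c from hz.data.fix_b) k⟩)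
    exact ⟨t, htD, (htc z (mem_zpowers z)).symm, hta⟩
  obtain ⟨t, htD, htc, hta⟩ := hsw htw
  obtain ⟨g, r, c, c', -, -, hgo, -, hrg, hgle, -, -, hn, -⟩ := hform w a b E q 1 htw t htD htc hta
  obtain ⟨t', ht'D, ht'c, ht'a⟩ := hsw ht
  obtain ⟨g', r', d, d', -, -, hgo', hro', -, -, -, -, hn', -⟩ := hform u a b' E q 3 ht t' ht'D ht'c ht'a
  have hq := four_le_q htw.data
  have hn1 : Nat.card Ω - 1 ≤ q ^ 3 := by
    refine Nat.le_of_mul_le_mul_left ?_ hgo.pos
    rw [hn]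
    have h8 : (q ^ 1 + 1) * (q - 1) * r ≤ (q ^ 1 + 1) * (q - 1) * g := Nat.mul_le_mul_left _ hrg
    have h9 : g + (q ^ 1 + 1) * (q - 1) * g = g * q ^ 2 := by
      obtain ⟨q', rfl⟩ : ∃ q', q = q' + 1 := ⟨q - 1, by omega⟩
      simp only [Nat.add_sub_cancel]
      ring
    calc q ^ 1 * (g + (q ^ 1 + 1) * (q - 1) * r) ≤ q ^ 1 * (g * q ^ 2) :=
          Nat.mul_le_mul_left _ (by omega)
      _ = g * q ^ 3 := by ring
  have h8 : q ^ 3 * (g' + (q ^ 3 + 1) * (q - 1) * r') ≤ q ^ 3 * g' := by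
    rw [← hn', mul_comm _ g']
    exact Nat.mul_le_mul_left g' hn1
  have h9 : 0 < (q ^ 3 + 1) * (q - 1) * r' := Nat.mul_pos (Nat.mul_pos (by positivity) (by omega)) hro'.pos
  have := Nat.le_of_mul_le_mul_left h8 (by positivity)
  omega

/-- The local data at `b` of an involution fixing `a`, `b` and centralising `E`. -/
theorem exists_topFrame (hf : Faithful G Ω) (IH : Below.{u, u} (Nat.card G)) {u : G} {a b : Ω}
    {E : Subgroup G} {q i : ℕ} (ht : TopFrame D u a b E q i) {w : G} (hw2 : orderOf w = 2) (hwa : w • a = a)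
    (hwb : w • b = b) (hwE : ∀ e ∈ E, Commute w e) : ∃ j, TopFrame D w a b E q j := by
  classical
  haveI := h.finite_points
  have hl := ht.data
  have hwm : IsMulti Ω w := ⟨hw2, a, b, hl.ne, hwa, hwb⟩
  have hEm : MemGroup D w a E :=
    ⟨fun f hf hf1 => ⟨(hl.mem f hf hf1).1, (hl.mem f hf hf1).2.1, (hwE f hf).symm⟩, hl.comm⟩
  obtain ⟨b₁, E₁, q₁, j, hl₁⟩ := h.exists_lData_of_memGroup (h.localDichotomy hf IH) hwm hwa hEm
    (hl.card_E ▸ four_le_q hl)
  obtain ⟨hle, hmove⟩ := h.memGroupLe _ _ _ _ _ _ hl₁ E hEm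
  have hq₁ : q₁ = q := le_antisymm (hl₁.card_E ▸ ht.top w a E₁ hwm hwa ⟨hl₁.mem, hl₁.comm⟩) (hl.card_E ▸ hle)
  obtain ⟨b₂, hl₂⟩ := hmove (hl.card_E.trans hq₁.symm)
  rw [hq₁] at hl₂
  obtain ⟨Qw, -, -, hQw, hQwt⟩ := h.unipTrans hf IH w a b₂ E q j ⟨hwm, hl₂, ht.top⟩
  obtain ⟨y, hy, hyb⟩ := hQwt b hwb hl.ne.symm
  obtain ⟨hya, hyw, hyE⟩ := hQw y hy
  refine ⟨j, hwm, ?_, ht.top⟩
  have h4 := h.lData_conj hl₂ y
  have hEy : E.map (MulAut.conj y).toMonoidHom = E := by
    ext f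
    constructor
    · rintro ⟨f', hf', rfl⟩
      show y * f' * y⁻¹ ∈ E
      rw [(hyE f' hf').eq, mul_inv_cancel_right]
      exact hf'
    · intro hf'
      exact ⟨f, hf', show y * f * y⁻¹ = f by rw [(hyE f hf').eq, mul_inv_cancel_right]⟩
  rwa [hyw.eq, mul_inv_cancel_right, hya, hyb, hEy] at h4

/-- No involution centralising `E` fixes more than the fixed points of a multi of unitary type. -/
theorem no_more_fixed (hf : Faithful G Ω) (IH : Below.{u, u} (Nat.card G)) {u : G} {a b : Ω} {E : Subgroup G}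
    {q : ℕ} (ht : TopFrame D u a b E q 3) {w : G} (hw2 : orderOf w = 2) (hwE : ∀ e ∈ E, Commute w e)
    (h1 : ∀ p : Ω, u • p = p → w • p = p) {p : Ω} (hup : u • p ≠ p) (hwp : w • p = p) : False := by
  haveI := h.finite_points
  obtain ⟨j, htw⟩ := h.exists_topFrame hf IH ht hw2 (h1 a ht.data.fix_a) (h1 b ht.data.fix_b) hwE
  have h3 : {x : Ω | u • x = x}.ncard < {x : Ω | w • x = x}.ncard :=
    Set.ncard_lt_ncard (Set.ssubset_iff_of_subset (fun x hx => h1 x hx) |>.2 ⟨p, hwp, hup⟩)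
  rw [← Nat.card_coe_set_eq, ← Nat.card_coe_set_eq] at h3
  have h4 : Nat.card ({x : Ω | u • x = x} : Set Ω) = q ^ 3 + 1 := ht.data.card_fix
  have h5 : Nat.card ({x : Ω | w • x = x} : Set Ω) = q ^ j + 1 := htw.data.card_fix
  have h6 : q ^ j ≤ q ^ 3 := Nat.pow_le_pow_right (by have := four_le_q ht.data; omega) (by
    rcases htw.data.type with h | h | h <;> omega)
  omega

/-- A non-trivial involution of `fixGrp` has unitary type and `u` moves some of its fixed points. -/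
theorem frame_of_fixGrp (hf : Faithful G Ω) (IH : Below.{u, u} (Nat.card G)) {u : G} {a b : Ω}
    {E : Subgroup G} {q : ℕ} (ht : TopFrame D u a b E q 3) {w : G} (hw : w ∈ fixGrp u a b E)
    (hw2 : orderOf w = 2) (hne : ¬ ∀ p : Ω, u • p = p → w • p = p) :
    TopFrame D w a b E q 3 ∧ u ∈ fixGrp w a b E ∧ ¬ ∀ p : Ω, w • p = p → u • p = p := by
  classical
  haveI := h.finite_points
  have hl := ht.data
  obtain ⟨hwF, hwb⟩ := mem_fixGrp.1 hw
  obtain ⟨hwa, hwu, hwE⟩ := mem_centSub.1 hwF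
  obtain ⟨j, htw⟩ := h.exists_topFrame hf IH ht hw2 hwa hwb hwE
  have huE : ∀ e ∈ E, Commute u e := fun e he => by
    rcases eq_or_ne e 1 with h1 | h1
    · rw [h1]; exact Commute.one_right _
    · exact (hl.mem e he h1).2.2.symm
  have hufix : u ∈ fixGrp w a b E := mem_fixGrp.2 ⟨mem_centSub.2 ⟨hl.fix_a, hwu.symm, huE⟩, hl.fix_b⟩
  have hcommon : Nat.card {x : Ω // u • x = x ∧ w • x = x} = q + 1 :=
    ((h.kernelFix hf IH u a b E q 3 ht w hw
      ⟨1, by rw [pow_one, ← hw2, pow_orderOf_eq_one]⟩).resolve_left hne).2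
  rcases h.kernelFix hf IH w a b E q j htw u hufix ⟨1, by rw [pow_one, ← ht.multi.1, pow_orderOf_eq_one]⟩
    with hall | ⟨rfl, hc⟩
  · exfalso
    have h1 : Nat.card {x : Ω // w • x = x} = Nat.card {x : Ω // u • x = x ∧ w • x = x} :=
      Nat.card_congr (Equiv.subtypeEquivRight fun x => ⟨fun hx => ⟨hall x hx, hx⟩, fun hx => hx.2⟩)
    rw [htw.data.card_fix, hcommon] at h1
    have hj : j = 1 := Nat.pow_right_injective (a := q) (by have := four_le_q hl; omega)
      (show q ^ j = q ^ 1 by rw [pow_one]; omega)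
    subst hj
    exact h.no_one_three hf IH htw ht
  · refine ⟨htw, hufix, fun hall => ?_⟩
    have h1 : Nat.card {x : Ω // w • x = x} = Nat.card {x : Ω // w • x = x ∧ u • x = x} :=
      Nat.card_congr (Equiv.subtypeEquivRight fun x => ⟨fun hx => ⟨hx, hall x hx⟩, fun hx => hx.1⟩)
    rw [htw.data.card_fix, hc] at h1
    have h4 := four_le_q hl
    have : q * 1 < q ^ 3 := by
      rw [pow_succ']; exact Nat.mul_lt_mul_of_pos_left (by nlinarith) (by omega)
    omega

end Crit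

end CfsgLib.AschCrit
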