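import Cfsg.Agent.Lib.Invol.AschCrit.CentTorus
import Cfsg.Agent.Lib.Invol.AschCrit.Dep.TightKernel

/-!
Owner: helper18. Aschbacher's criterion, slice E: `<D cap C(u)>` is perfect and has an odd kernel on `Fix u`.

* `Crit.mem_commutator_cGrp`: the members centralising `u` are commutators.
* `Crit.odd_kerGrp`: the kernel has odd order.
-/

set_option autoImplicit false
set_option linter.unusedSectionVars false

namespace CfsgLib.AschCrit

open Subgroup MulAction CfsgLib.Lie.RankOne CfsgLib.Lie.RankOneClass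
open CfsgLib.OddTransitive.RankOne (involutionGroup exists_cyclic)
open scoped commutatorElement

universe u

variable {G : Type u} [Group G] [Finite G] {Ω : Type u} [MulAction G Ω]

namespace Crit

variable {D : Set G} (h : Crit Ω D)
include h

/-- The group of the members centralising `u` is perfect. -/
theorem commutator_cGrp (hf : Faithful G Ω) (IH : Below.{u, u} (Nat.card G)) {v : G} {a b : Ω} {E : Subgroup G}
    {q i : ℕ} (hv : IsMulti Ω v) (hl : LData D v a b E q i) : commutator (cGrp D v) = ⊤ := by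
  classical
  obtain ⟨y, -, -, -, -, hyc, -, hyE, hyt⟩ := h.torusCent_aux hf IH hv hl ⊥ IsPGroup.of_bot
    (fun g hg => by rw [Subgroup.mem_bot.1 hg]; exact ⟨one_smul _ _, one_smul _ _⟩)
    (fun g hg => by rw [Subgroup.mem_bot.1 hg]; exact Commute.one_left v)
    (fun g hg e he => by rw [Subgroup.mem_bot.1 hg]; simpa using he)
  have hEc : ∀ {e : G}, e ∈ E → e ∈ cGrp D v := fun {e} he => by
    rcases eq_or_ne e 1 with h1 | h1
    · rw [h1]; exact one_mem _
    · exact mem_cGrp (hl.mem e he h1).1 (hl.mem e he h1).2.2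
  have hE : ∀ (e : G) (he : e ∈ E), e ≠ 1 → (⟨e, hEc he⟩ : cGrp D v) ∈ commutator (cGrp D v) := by
    intro e he he1
    obtain ⟨f, hf', hf1, hfe⟩ : ∃ f ∈ E, f ≠ 1 ∧ f ≠ e := by
      by_contra hc
      push Not at hc
      have hsub : (E : Set G) ⊆ {1, e} := fun x hx => by
        rcases eq_or_ne x 1 with h1 | h1
        · exact Or.inl h1
        · exact Or.inr (hc x hx h1)
      have h3 := Set.ncard_le_ncard hsub
      rw [← Nat.card_coe_set_eq] at h3
      have h5 := Set.ncard_insert_le (1 : G) {e}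
      rw [Set.ncard_singleton] at h5
      have h6 : Nat.card (E : Set G) = q := hl.card_E
      have := four_le_q hl
      omega
    have hff : f⁻¹ = f := inv_eq_of_mul_eq_one_right (h.sq (hl.mem f hf' hf1).1)
    obtain ⟨j, hj⟩ := hyt f hf' (e * f) (mul_mem he hf') hf1 (fun e1 => hfe (by
      rw [eq_inv_of_mul_eq_one_left e1, hff])) (fun g hg => by
        rw [Subgroup.mem_bot.1 hg]; exact ⟨Commute.one_left _, Commute.one_left _⟩)
    have h1 : ⁅(⟨y, hyc⟩ : cGrp D v) ^ j, (⟨f, hEc hf'⟩ : cGrp D v)⁆ = ⟨e, hEc he⟩ := Subtype.ext (by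
      show y ^ j * f * (y ^ j)⁻¹ * f⁻¹ = e
      rw [hj, mul_inv_cancel_right])
    rw [← h1]
    exact Subgroup.commutator_mem_commutator (mem_top _) (mem_top _)
  obtain ⟨e₀, he₀, he₀1⟩ : ∃ e ∈ E, e ≠ (1 : G) := by
    by_contra hc
    push Not at hc
    have h4 := four_le_q hl
    rw [← hl.card_E, (Subgroup.eq_bot_iff_forall E).2 hc, Subgroup.card_bot] at h4
    omega
  rw [eq_top_iff]
  have htop : Subgroup.closure {d : cGrp D v | (d : G) ∈ cMems D v} = ⊤ := Subgroup.closure_closure_coe_preimage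
  rw [← htop, Subgroup.closure_le]
  intro d hd
  obtain ⟨e, he, he1, hodd⟩ : ∃ e ∈ E, e ≠ 1 ∧ Odd (orderOf ((d : G) * e)) := by
    by_cases hda : (d : G) • a = a
    · obtain ⟨e, hee, -⟩ := hl.fibre d ⟨hd.1, hda, hd.2⟩
      exact ⟨e, hee⟩
    · refine ⟨e₀, he₀, he₀1, ?_⟩
      have h1 := h.odd_of_ne (hl.mem e₀ he₀ he₀1).1 hd.1 (hl.mem e₀ he₀ he₀1).2.1 hda
      rwa [← CfsgLib.Signalizer.orderOf_conj e₀, show e₀ * ((d : G) * e₀) * e₀⁻¹ = e₀ * (d : G) by group]
  set ε : cGrp D v := ⟨e, hEc he⟩ with hε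
  set A := Abelianization.of (G := cGrp D v) with hA
  have hAe : A ε = 1 := by
    rw [← MonoidHom.mem_ker, Abelianization.ker_of]; exact hE e he he1
  show d ∈ commutator (cGrp D v)
  rw [← Abelianization.ker_of, MonoidHom.mem_ker]
  have h1 : orderOf (A d) ∣ 2 := orderOf_dvd_of_pow_eq_one (by
    rw [← map_pow, show d ^ 2 = 1 from Subtype.ext (by rw [Subgroup.coe_pow, pow_two]; exact h.sq hd.1), map_one])
  have h3 : orderOf (A d) ∣ orderOf ((d : G) * e) := by
    have h4 := orderOf_map_dvd A (d * ε)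
    rw [map_mul, hAe, mul_one, ← Subgroup.orderOf_coe] at h4
    exact h4
  exact orderOf_eq_one_iff.1 (Nat.eq_one_of_dvd_coprimes (Nat.coprime_two_left.2 hodd) h1 h3)

/-- The kernel on the fixed points has odd order. -/
theorem kerGrp_eq_kerCore (hf : Faithful G Ω) (IH : Below.{u, u} (Nat.card G)) {v : G} {a b : Ω} {E : Subgroup G}
    {q i : ℕ} (hv : IsMulti Ω v) (hl : LData D v a b E q i) : kerGrp Ω D v = kerCore Ω D v := by
  classical
  haveI := Fact.mk Nat.prime_two
  haveI := h.finite_points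
  haveI : FaithfulSMul (cImage Ω D v) (MulAction.fixedBy Ω v) :=
    faithfulSMul_iff.2 fun g hg => Subtype.ext (Equiv.ext hg)
  obtain ⟨U, hB⟩ := h.bend hf IH hv hl
  haveI := hB.simple
  set a' := fixPt hl.fix_a with ha'
  set π := cProj Ω D v with hπ
  obtain ⟨t₀, ht₀, ht₀a, ht₀c⟩ := h.exists_swapper_centralised hl.ne _
    (isPGroup_sup_involution (IsPGroup.of_bot (p := 2) (G := G)) hv.1
      (fun g hg => by rw [Subgroup.mem_bot.1 hg]; exact Commute.one_left v))
    (fix_sup (fun g hg => by rw [Subgroup.mem_bot.1 hg]; exact ⟨one_smul _ _, one_smul _ _⟩) hl.fix_a hl.fix_b)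
  set t : cGrp D v := ⟨t₀, mem_cGrp ht₀ (ht₀c v (mem_sup_right (mem_zpowers v))).symm⟩ with ht
  have hta : π t • a' = fixPt hl.fix_b := Subtype.ext ht₀a
  have hS := hB.setup (π t) ((h.cImage_crit hv).sq (h.cProj_mem (d := t) ht₀))
    (by rw [hta]; exact fun e => hl.ne (congrArg Subtype.val e).symm)
  have h2 := hB.rank
  set O : Subgroup (cGrp D v) := (kerCore Ω D v).subgroupOf (cGrp D v) with hO
  haveI hOn : O.Normal := ⟨fun x hx g => by
    rw [hO, Subgroup.mem_subgroupOf] at hx ⊢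
    exact h.conj_mem_kerCore (commute_of_mem_cGrp g.2) hx⟩
  have hOker : O ≤ π.ker := fun x hx => by
    obtain ⟨hxc, hxe⟩ := mem_kerGrp.1 (kerCore_le (Subgroup.mem_subgroupOf.1 hx))
    exact hxe
  set f : cGrp D v ⧸ O →* cImage Ω D v := QuotientGroup.lift O π hOker with hfdef
  have hfπ : ∀ x, f (QuotientGroup.mk' O x) = π x := fun x => rfl
  have hfs : Function.Surjective f := fun y => by
    obtain ⟨x, hx⟩ := MonoidHom.rangeRestrict_surjective
      (MulAction.toPermHom (cGrp D v) (MulAction.fixedBy Ω v)) y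
    exact ⟨QuotientGroup.mk' O x, hx⟩
  have hperf : commutator (cGrp D v ⧸ O) = ⊤ := by
    have h1 := congrArg (Subgroup.map (QuotientGroup.mk' O)) (h.commutator_cGrp hf IH hv hl)
    rw [commutator_def, Subgroup.map_commutator,
      Subgroup.map_top_of_surjective _ (QuotientGroup.mk'_surjective O)] at h1
    exact h1
  have hker : ∀ x, QuotientGroup.mk' O x ∈ f.ker → (x : G) ∈ kerGrp Ω D v := fun x hx =>
    mem_kerGrp.2 ⟨x.2, hx⟩
  have hfc : f.ker ≤ center (cGrp D v ⧸ O) := fun z hz => mem_center_iff.2 fun g => by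
    obtain ⟨x, rfl⟩ := QuotientGroup.mk'_surjective O z
    obtain ⟨y, rfl⟩ := QuotientGroup.mk'_surjective O g
    have h1 : y * x * y⁻¹ * x⁻¹ ∈ O :=
      Subgroup.mem_subgroupOf.2 (h.comm_mem_kerCore hv y.2 x (hker x hz))
    have h3 : QuotientGroup.mk' O (y * x * y⁻¹ * x⁻¹) = 1 := (QuotientGroup.eq_one_iff _).2 h1
    rw [map_mul, map_mul, map_mul, map_inv, map_inv, mul_inv_eq_one, mul_inv_eq_iff_eq_mul] at h3
    exact h3
  have hfp : IsPGroup 2 f.ker := by
    rintro ⟨z, hz⟩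
    obtain ⟨x, rfl⟩ := QuotientGroup.mk'_surjective O z
    obtain ⟨r, m, hm, hrm⟩ := Nat.exists_eq_two_pow_mul_odd (orderOf_pos (x : G)).ne'
    refine ⟨r, Subtype.ext ?_⟩
    show QuotientGroup.mk' O x ^ 2 ^ r = 1
    rw [← map_pow]
    refine (QuotientGroup.eq_one_iff _).2 (Subgroup.mem_subgroupOf.2 ?_)
    rw [Subgroup.coe_pow]
    refine h.mem_kerCore_of_pow hv (pow_mem (hker x hz) _) hm ?_
    rw [← pow_mul, ← hrm, pow_orderOf_eq_one]
    exact one_mem _
  have hPidx : Odd (U.comap f).index := by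
    rw [Subgroup.index_comap_of_surjective U hfs]
    have hc := CfsgLib.Lie.RankOne.card_group hS
    rw [mul_assoc, ← Subgroup.card_mul_index U] at hc
    rw [Nat.eq_of_mul_eq_mul_left Nat.card_pos hc]
    refine hS.odd_card.mul (Even.add_one ?_)
    exact hS.even_card
  set Q0 : Subgroup (cGrp D v ⧸ O) := (E.subgroupOf (cGrp D v)).map (QuotientGroup.mk' O) with hQ0
  have hEJ : ∀ e (he : e ∈ E), π ⟨e, hB.memE e he⟩ ∈ involutionGroup hS h2 := fun e he => by
    rcases eq_or_ne e 1 with h1 | h1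
    · rw [show (⟨e, hB.memE e he⟩ : cGrp D v) = 1 from Subtype.ext h1, map_one]; exact one_mem _
    · exact Or.inr (hB.J_mem e he h1)
  have hbot : f.ker = ⊥ := by
    refine ker_eq_bot hS h2 hB.two hperf hfs hfc hfp hPidx Q0 ?_ ?_ ?_ ?_
    · rintro _ ⟨e, he, rfl⟩
      rw [hfπ]
      rcases hEJ e he with h1 | h1
      · rw [show π e = 1 from h1]; exact one_mem _
      · exact CfsgLib.Lie.RankOne.J_mem_Q hS h1
    · rintro _ ⟨e, he, rfl⟩ hk
      have h1 : (e : G) = 1 := hB.inj e he 1 (one_mem _) ((show π e = 1 from hk).trans (map_one π).symm)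
      rw [show e = 1 from Subtype.ext h1, map_one]
    · intro g hga _ hy
      obtain ⟨e, he, rfl⟩ := hy
      obtain ⟨x, rfl⟩ := QuotientGroup.mk'_surjective O g
      rw [hfπ] at hga
      rcases eq_or_ne (e : G) 1 with h1 | h1
      · rw [show e = 1 from Subtype.ext h1, map_one, mul_one, mul_inv_cancel]; exact one_mem _
      have hxa : (x : G) • a = a := congrArg Subtype.val hga
      have hd : (x : G) * e * (x : G)⁻¹ ∈ memsC D v a := by
        have h3 := h.memsC_conj (hl.mem e he h1) (x : G)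
        rwa [show (x : G) * v * (x : G)⁻¹ = v by
          rw [(commute_of_mem_cGrp x.2 : Commute (x : G) v).eq, mul_inv_cancel_right], hxa] at h3
      obtain ⟨e', ⟨he', he'1, hodd⟩, -⟩ := hl.fibre _ hd
      refine ⟨⟨e', hB.memE e' he'⟩, he', QuotientGroup.eq.2 (Subgroup.mem_subgroupOf.2 ?_)⟩
      have hππ : π (x * e * x⁻¹) = π ⟨e', hB.memE e' he'⟩ := by
        have hJx : π (x * e * x⁻¹) ∈ involutionGroup hS h2 := by
          rw [map_mul, map_mul, map_inv]
          rcases hEJ e he with h4 | h4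
          · rw [show π e = 1 from h4, mul_one, mul_inv_cancel]; exact one_mem _
          · exact Or.inr (conj_mem_J hS h4 hga)
        have hsq := CfsgLib.OddTransitive.RankOne.sq_eq_one hS h2
        have h4 : orderOf (π (x * e * x⁻¹ * ⟨e', hB.memE e' he'⟩)) = 1 := by
          have hmem := mul_mem hJx (hEJ e' he')
          rw [← map_mul] at hmem
          refine Nat.eq_one_of_dvd_coprimes (Nat.coprime_two_left.2 hodd) (orderOf_dvd_of_pow_eq_one ?_)
            ((orderOf_map_dvd π _).trans (dvd_of_eq ((Subgroup.orderOf_coe _).symm.trans rfl)))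
          rw [pow_two]
          exact congrArg Subtype.val (hsq ⟨_, hmem⟩)
        rw [orderOf_eq_one_iff, map_mul, ← eq_inv_iff_mul_eq_one] at h4
        rw [h4, inv_eq_of_mul_eq_one_right (congrArg Subtype.val (hsq ⟨_, hEJ e' he'⟩))]
      have hee : (e' : G)⁻¹ = e' := inv_eq_of_mul_eq_one_right (h.sq (hl.mem e' he' he'1).1)
      show (e' : G)⁻¹ * ((x : G) * e * (x : G)⁻¹) ∈ kerCore Ω D v
      have hodd' : Odd (orderOf ((e' : G)⁻¹ * ((x : G) * e * (x : G)⁻¹))) := by
        rw [hee, ← CfsgLib.Signalizer.orderOf_conj (e' : G),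
          show (e' : G) * ((e' : G) * ((x : G) * e * (x : G)⁻¹)) * (e' : G)⁻¹ =
            ((e' : G) * e') * ((x : G) * e * (x : G)⁻¹) * (e' : G)⁻¹ by group, h.sq (hl.mem e' he' he'1).1,
          one_mul, hee]
        exact hodd
      refine h.mem_kerCore_of_pow hv (mem_kerGrp.2 ⟨((⟨e', hB.memE e' he'⟩ : cGrp D v)⁻¹ * (x * e * x⁻¹)).2, ?_⟩)
        hodd' (by rw [pow_orderOf_eq_one]; exact one_mem _)
      show π ((⟨e', hB.memE e' he'⟩ : cGrp D v)⁻¹ * (x * e * x⁻¹)) = 1
      rw [map_mul, map_inv, hππ, inv_mul_cancel]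
    · intro z hz
      rcases hz with h1 | h1
      · exact ⟨1, one_mem _, by rw [map_one]; exact h1.symm⟩
      · obtain ⟨e, he, -, hee⟩ := hB.J_onto z h1
        exact ⟨QuotientGroup.mk' O ⟨e, hB.memE e he⟩, mem_map_of_mem _ he, by rw [hfπ]; exact hee⟩
  refine le_antisymm (fun g hg => ?_) kerCore_le
  obtain ⟨hgc, hge⟩ := mem_kerGrp.1 hg
  have h1 : QuotientGroup.mk' O ⟨g, hgc⟩ ∈ f.ker := hge
  rw [hbot, Subgroup.mem_bot] at h1
  exact Subgroup.mem_subgroupOf.1 ((QuotientGroup.eq_one_iff _).1 h1)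

/-- The kernel on the fixed points has odd order. -/
theorem odd_kerGrp (hf : Faithful G Ω) (IH : Below.{u, u} (Nat.card G)) {v : G} {a b : Ω} {E : Subgroup G}
    {q i : ℕ} (hv : IsMulti Ω v) (hl : LData D v a b E q i) : Odd (Nat.card (kerGrp Ω D v)) := by
  rw [h.kerGrp_eq_kerCore hf IH hv hl]
  exact odd_kerCore

end Crit

end CfsgLib.AschCrit
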