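import Cfsg.Agent.Lib.Invol.AschCrit.ExceptionTools
import Cfsg.Agent.Lib.Invol.AschCrit.ModelAct
import Cfsg.Agent.Lib.Invol.AschCrit.ModelCover

/-!
Owner: helper7. Aschbacher's criterion, slice F: without translations the coset stabiliser acts on `Q` through the
fixed points of the multi, in the types two and three.

* `excCore`, `Crit.excCore_act`: the odd core of the kernel of `E` at `a` fixes the fixed points of the multi.
* `Tower`, `Crit.exists_tower`: the hypotheses.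
* `Tower.exists_map`: conjugation by the coset stabiliser gives maps of `Q`, multiplicative modulo `E`.
-/

set_option autoImplicit false
set_option linter.unusedSectionVars false

namespace CfsgLib.AschCrit

open Subgroup MulAction

universe u

variable {G : Type u} [Group G] {Ω : Type u} [MulAction G Ω]

theorem SameAct.pow {u g g' : G} (hs : SameAct Ω u g g') (hc : Commute g' u) (n : ℕ) :
    SameAct Ω u (g ^ n) (g' ^ n) := by
  induction n with
  | zero => rw [pow_zero, pow_zero]; exact SameAct.refl u 1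
  | succ n ih => rw [pow_succ, pow_succ]; exact ih.mul hs hc

/-- The odd core of the kernel of `E` at `a`. -/
def excCore (u : G) (a : Ω) (E : Subgroup G) : Subgroup G :=
  (Cfsg.oddCore (exK u a E)).map (exK u a E).subtype

variable [Finite G]

theorem excCore_le {u : G} {a : Ω} {E : Subgroup G} : excCore u a E ≤ exK u a E := map_subtype_le _

theorem odd_excCore {u : G} {a : Ω} {E : Subgroup G} : Odd (Nat.card (excCore u a E)) := by
  rw [excCore, card_map_of_injective (exK u a E).subtype_injective]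
  exact CfsgLib.ZStar.odd_card_oddCore _

/-- An odd normal subgroup of the kernel lies in its odd core. -/
theorem le_excCore {u : G} {a : Ω} {E N : Subgroup G} (hle : N ≤ exK u a E)
    (hn : ∀ k ∈ exK u a E, ∀ x ∈ N, k * x * k⁻¹ ∈ N) (hodd : Odd (Nat.card N)) : N ≤ excCore u a E := by
  intro x hx
  have hN : (N.subgroupOf (exK u a E)).Normal := ⟨fun y hy k => by
    rw [mem_subgroupOf] at hy ⊢
    exact hn k k.2 _ hy⟩
  refine ⟨⟨x, hle hx⟩, CfsgLib.ZStar.le_oddCore hN ?_ (mem_subgroupOf.2 hx), rfl⟩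
  rwa [Nat.card_congr (subgroupOfEquivOfLe hle).toEquiv]

theorem conj_excCore_mem {u : G} {a : Ω} {E : Subgroup G} {k x : G} (hk : k ∈ exK u a E)
    (hx : x ∈ excCore u a E) : k * x * k⁻¹ ∈ excCore u a E := by
  haveI : (Cfsg.oddCore (exK u a E)).Characteristic := CfsgLib.Core.characteristic_pPrimeCore 2 _
  obtain ⟨y, hy, rfl⟩ := hx
  exact ⟨_, (inferInstance : (Cfsg.oddCore (exK u a E)).Normal).conj_mem y hy ⟨k, hk⟩, rfl⟩

namespace Exc

variable {u t : G} {a : Ω} {E : Subgroup G} (hx : Exc u a E t)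
include hx

theorem conj_exK {g k : G} (hg : g ∈ cosetGrp u a E) (hk : k ∈ exK u a E) : g * k * g⁻¹ ∈ exK u a E := by
  refine hx.mem_exK_iff.2 ⟨mul_mem (mul_mem hg (exK_le_cosetGrp hk)) (inv_mem hg), fun e he => ?_⟩
  have h1 := ((mem_exK.1 hk).2.2 _ (hg.2.1 e he).2)
  rw [← Commute.conj_iff g, show g * (g⁻¹ * e * g) * g⁻¹ = e by group] at h1
  exact h1

theorem conj_excCore {g x : G} (hg : g ∈ cosetGrp u a E) (hxc : x ∈ excCore u a E) :
    g * x * g⁻¹ ∈ excCore u a E := by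
  refine le_excCore (N := (excCore u a E).map (MulAut.conj g).toMonoidHom) ?_ ?_ ?_ ⟨x, hxc, rfl⟩
  · rintro _ ⟨y, hy, rfl⟩
    exact hx.conj_exK hg (excCore_le hy)
  · rintro k hk _ ⟨y, hy, rfl⟩
    have hk' : g⁻¹ * k * g ∈ exK u a E := by
      have := hx.conj_exK (inv_mem hg) hk
      rwa [inv_inv] at this
    refine ⟨_, conj_excCore_mem hk' hy, ?_⟩
    simp [mul_assoc]
  · rw [card_map_of_injective (MulAut.conj g).injective]
    exact odd_excCore

end Exc

/-- A frame of type two or three without translations, with its base. -/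
structure Tower (D : Set G) (u : G) (a b : Ω) (E : Subgroup G) (i : ℕ) (t : G) (R P0 Q : Subgroup G) : Prop where
  frame : TopFrame D u a b E 8 i
  base : ModelBase D u a b E 8 i R P0 Q
  exc : Exc u a E t
  cent : ∀ v ∈ Q, (∀ y ∈ Q, Commute v y) → v ∈ E
  cases : ∀ k ∈ fixGrp u a b E, SameAct Ω u (k * k) 1 →
    SameAct Ω u k 1 ∨ Nat.card {p : Ω // u • p = p ∧ k • p = p} = 8 + 1
  sqact : ∀ g ∈ centSub u a E, ∀ ε ∈ E, ε ≠ 1 → SameAct Ω u (g * g) ε →
    ∃ v ∈ Q, SameAct Ω u g v ∧ v * v = ε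

namespace Crit

variable {D : Set G} (h : Crit Ω D)
include h

/-- In type two an element involutory on the fixed points of `u` fixes them. -/
theorem act_one_of_ne_three (hf : Faithful G Ω) (IH : Below.{u, u} (Nat.card G)) {u : G} {a b : Ω}
    {E : Subgroup G} {q i : ℕ} (ht : TopFrame D u a b E q i) (hi : i ≠ 3) {k : G} (hk : k ∈ fixGrp u a b E)
    (hkk : SameAct Ω u (k * k) 1) : SameAct Ω u k 1 := by
  obtain ⟨-, hku, -⟩ := mem_centSub.1 (mem_fixGrp.1 hk).1
  obtain ⟨l, m, hm, hlm⟩ := Nat.exists_eq_two_pow_mul_odd (orderOf_pos k).ne'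
  obtain ⟨m', hm'⟩ := hm
  have hk' : SameAct Ω u (k ^ m) k := by
    intro p hp
    rw [hm', pow_succ, mul_smul, pow_mul, pow_two]
    have h4 := hkk _ (SameAct.fixed hku hp)
    rw [one_smul] at h4
    exact mem_stabilizer_iff.1 (pow_mem (mem_stabilizer_iff.2 h4) m')
  have hk2 : ∃ n : ℕ, (k ^ m) ^ 2 ^ n = 1 := ⟨l, by rw [← pow_mul, mul_comm, ← hlm, pow_orderOf_eq_one]⟩
  rcases h.kernelFix hf IH u a b E q i ht _ (pow_mem hk m) hk2 with hall | ⟨hi3, -⟩
  · exact fun p hp => by rw [← hk' p hp, hall p hp, one_smul]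
  · exact absurd hi3 hi

/-- In type two an element squaring to a non-trivial element of `E` acts as an element of `Q`. -/
theorem act_of_sq_two (hf : Faithful G Ω) (IH : Below.{u, u} (Nat.card G)) {u : G} {a b : Ω} {E : Subgroup G}
    {q i : ℕ} (ht : TopFrame D u a b E q i) (hi : i ≠ 3) {R P0 Q : Subgroup G}
    (M : ModelBase D u a b E q i R P0 Q) {g : G}
    (hg : g ∈ centSub u a E) {ε : G} (hεE : ε ∈ E) (hgg : SameAct Ω u (g * g) ε) :
    ∃ v ∈ Q, SameAct Ω u g v ∧ v * v = ε := by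
  classical
  haveI := h.finite_points
  have hl := ht.data
  obtain ⟨v, hv, hvb, hh⟩ := M.exists_part hl hg
  obtain ⟨-, hvu, hvE⟩ := M.mem_Q_data hv
  set k := v⁻¹ * g with hk
  obtain ⟨hkF, hkb⟩ := mem_fixGrp.1 hh
  obtain ⟨-, hku, -⟩ := mem_centSub.1 hkF
  obtain ⟨v₂, hv₂, hv₂a⟩ := h.exists_conj_act hf IH ht.multi hl M hkF hv
  have hv₂u := (M.mem_Q_data hv₂).2.1
  have hprod : SameAct Ω u ε (v * v₂ * (k * k)) := by
    have h1 := ((SameAct.refl u v).mul hv₂a hv₂u).mul (SameAct.refl u (k * k)) (hku.mul_left hku)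
    rw [show v * (k * v * k⁻¹) * (k * k) = v * k * (v * k) by group,
      show v * k = g by rw [hk, mul_inv_cancel_left]] at h1
    exact hgg.symm.trans h1
  have hvv : v * v₂ = ε := by
    refine (M.eq_of_smul (M.E_Q hεE) (mul_mem hv hv₂) ?_).symm
    rw [hprod b hl.fix_b, mul_smul, mul_smul k, hkb, hkb]
  have hkk : SameAct Ω u (k * k) 1 := fun p hp => by
    have h1 := hprod p hp
    rw [hvv, mul_smul ε (k * k) p] at h1
    rw [one_smul]
    exact (smul_left_cancel ε h1).symm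
  have hk1 := h.act_one_of_ne_three hf IH ht hi hh hkk
  refine ⟨v, hv, ?_, ?_⟩
  · have h1 := (SameAct.refl u v).mul hk1 (Commute.one_left u)
    rwa [mul_one, hk, mul_inv_cancel_left] at h1
  · have h1 : SameAct Ω u (k * v * k⁻¹) v := by
      have h3 := (hk1.mul (SameAct.refl u v) hvu).mul (hk1.inv (Commute.one_left u)) (Commute.one_left u).inv_left
      rwa [one_mul, inv_one, mul_one] at h3
    rw [← hvv, M.eq_of_act hl hv₂ hv (hv₂a.symm.trans h1)]

/-- A frame of type two or three without translations has a tower. -/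
theorem exists_tower (hf : Faithful G Ω) (IH : Below.{u, u} (Nat.card G)) {u t : G} {a b : Ω} {E : Subgroup G}
    {i : ℕ} (ht : TopFrame D u a b E 8 i) (hx : Exc u a E t) (hi : i = 2 ∨ i = 3) :
    ∃ R P0 Q : Subgroup G, Tower D u a b E i t R P0 Q := by
  classical
  haveI := h.finite_points
  have hl := ht.data
  obtain ⟨R, hR, -, hRF, hRc, -⟩ := exists_max_two (IsPGroup.of_bot (p := 2) (G := G))
    (bot_le : ⊥ ≤ fixGrp u a b E)
  obtain ⟨P0, Q, M⟩ := h.exists_base hf IH ht.multi hl R hR hRF hRc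
  refine ⟨R, P0, Q, ht, M, hx, fun v hv hall => ?_, fun k hk hkk => ?_, fun g hg ε hε hε1 hgg => ?_⟩
  · by_contra hvE
    rcases hi with rfl | rfl
    · have h1 : Nat.card Q ≤ Nat.card (Bool × E) := by
        refine Nat.card_le_card_of_injective (fun y : Q => if hy : (y : G) ∈ E then (false, (⟨y, hy⟩ : E))
          else (true, ⟨y * v⁻¹, (M.Q_form_two rfl v hv hvE y y.2 (hall y y.2)).resolve_left hy⟩)) fun y y' e => ?_
        dsimp only at e
        split_ifs at e with hy hy'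
        · exact Subtype.ext (congrArg (fun p : Bool × E => (p.2 : G)) e)
        · exact absurd (congrArg Prod.fst e) (by simp)
        · exact absurd (congrArg Prod.fst e) (by simp)
        · exact Subtype.ext (mul_right_cancel (congrArg (fun p : Bool × E => (p.2 : G)) e))
      rw [M.Q_card, Nat.card_prod, hx.card] at h1
      simp at h1
    · obtain ⟨e, he, he1⟩ : ∃ e ∈ E, e ≠ (1 : G) := by
        by_contra hc
        push Not at hc
        have := hx.card
        rw [(Subgroup.eq_bot_iff_forall E).2 hc, Subgroup.card_bot] at this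
        omega
      obtain ⟨y, hy, hye⟩ := M.Q_form_three rfl v hv hvE e he
      exact he1 (by rw [← hye, (hall y hy).eq, mul_inv_cancel_right, mul_inv_cancel])
  · rcases hi with rfl | rfl
    · exact Or.inl (h.act_one_of_ne_three hf IH ht (by norm_num) hk hkk)
    · exact h.act_cases hf IH ht hk hkk
  · rcases hi with rfl | rfl
    · exact h.act_of_sq_two hf IH ht (by norm_num) M hg hε hgg
    · exact h.act_of_sq hf IH ht M hg hε hε1 hgg

/-- An element commuting with the action of `Q` acts as an element of `E`. -/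
theorem act_E (hf : Faithful G Ω) (IH : Below.{u, u} (Nat.card G)) {u t : G} {a b : Ω} {E : Subgroup G} {i : ℕ}
    {R P0 Q : Subgroup G} (T : Tower D u a b E i t R P0 Q) {r : G} (hr : r ∈ centSub u a E)
    (hcom : ∀ y ∈ Q, SameAct Ω u (r * y) (y * r)) : ∃ v ∈ E, SameAct Ω u r v := by
  classical
  haveI := h.finite_points
  have hl := T.frame.data
  have M := T.base
  obtain ⟨hra, hru, -⟩ := mem_centSub.1 hr
  have hpt : ∀ {p : Ω}, u • p = p → p = a ∨ ∃ v ∈ Q, v • b = p := fun {p} hp =>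
    (eq_or_ne p a).imp id fun h1 => M.Q_trans p hp h1
  have hcom' : ∀ {y}, y ∈ Q → ∀ p : Ω, u • p = p → r • (y • p) = y • (r • p) := fun {y} hy p hp => by
    rw [← mul_smul, hcom y hy p hp, mul_smul]
  obtain ⟨v, hv, hvb, hk⟩ := M.exists_part hl hr
  obtain ⟨hva, hvu, -⟩ := M.mem_Q_data hv
  set k := v⁻¹ * r with hkd
  have hkp : ∀ {y}, y ∈ Q → k • (y • b) = (v⁻¹ * y * v) • b := fun {y} hy => by
    rw [hkd, mul_smul, hcom' hy b hl.fix_b, hvb, ← mul_smul, ← mul_smul, mul_assoc]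
  have hka : k • a = a := (mem_centSub.1 (mem_fixGrp.1 hk).1).1
  have hcE : ∀ {y e}, y ∈ Q → e ∈ E → Commute y e := fun hy he => (M.mem_Q_data hy).2.2 _ he
  have hvE : v ∈ E := by
    have hkk : SameAct Ω u (k * k) 1 := fun p hp => by
      rw [one_smul, mul_smul]
      rcases hpt hp with rfl | ⟨y, hy, rfl⟩
      · rw [hka, hka]
      · rw [hkp hy, hkp (mul_mem (mul_mem (inv_mem hv) hy) hv)]
        congr 1
        rw [show v⁻¹ * (v⁻¹ * y * v) * v = (v * v)⁻¹ * y * (v * v) by group, mul_assoc,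
          (hcE hy (M.Q_sq v hv)).eq, inv_mul_cancel_left]
    rcases T.cases k hk hkk with hk1 | hc
    · refine T.cent v hv fun y hy => ?_
      have h1 := hk1 _ (SameAct.fixed (M.mem_Q_data hy).2.1 hl.fix_b)
      rw [one_smul, hkp hy] at h1
      have h3 := M.eq_of_smul (mul_mem (mul_mem (inv_mem hv) hy) hv) hy h1
      show v * y = y * v
      conv_lhs => rw [← h3]
      group
    · obtain ⟨v₂, hv₂, hv₂a⟩ := h.exists_conj_act hf IH T.frame.multi hl M (mem_fixGrp.1 hk).1 hv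
      refine M.fixed_E hl hk hc hv ?_
      have h1 : v₂ = v := M.eq_of_smul hv₂ hv (by
        rw [← hv₂a b hl.fix_b, mul_smul, mul_smul, inv_smul_eq_iff.2 (mem_fixGrp.1 hk).2.symm, hkp hv,
          inv_mul_cancel, one_mul])
      rwa [h1] at hv₂a
  refine ⟨v, hvE, fun p hp => ?_⟩
  rcases hpt hp with rfl | ⟨y, hy, rfl⟩
  · rw [hra, hva]
  · rw [hcom' hy b hl.fix_b, hvb, ← mul_smul, ← mul_smul, (hcE hy hvE).eq]

/-- The odd core fixes the fixed points of `u`. -/
theorem excCore_act (hf : Faithful G Ω) (IH : Below.{u, u} (Nat.card G)) {u t : G} {a b : Ω} {E : Subgroup G}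
    {i : ℕ} {R P0 Q : Subgroup G} (T : Tower D u a b E i t R P0 Q) {n : G} (hn : n ∈ excCore u a E) :
    SameAct Ω u n 1 := by
  classical
  haveI := h.finite_points
  have hl := T.frame.data
  have M := T.base
  have hnK : n ∈ centSub u a E := excCore_le hn
  have hodd : ∀ {x}, x ∈ excCore u a E → Odd (orderOf x) := fun hx =>
    odd_excCore.of_dvd_nat (Subgroup.orderOf_dvd_natCard _ hx)
  have hnu : Commute n u := (mem_centSub.1 hnK).2.1
  have hcom : ∀ y ∈ Q, SameAct Ω u (n * y) (y * n) := by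
    intro y hy
    obtain ⟨v, hv, hva⟩ := h.exists_conj_act hf IH T.frame.multi hl M hnK hy
    have hyu := (M.mem_Q_data hy).2.1
    set x := n * y * n⁻¹ * y⁻¹ with hxdef
    have hxC : x ∈ excCore u a E := by
      rw [hxdef, show n * y * n⁻¹ * y⁻¹ = n * (y * n⁻¹ * y⁻¹) by group]
      exact mul_mem hn (conj_excCore_mem (M.sub ((M.Q_mem y).1 hy).1) (inv_mem hn))
    set w := v * y⁻¹ with hw
    have hwQ : w ∈ Q := mul_mem hv (inv_mem hy)
    have hxw : SameAct Ω u x w := hva.mul (SameAct.refl u y⁻¹) hyu.inv_left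
    have h1 := hxw.pow (M.mem_Q_data hwQ).2.1 (orderOf x)
    rw [pow_orderOf_eq_one] at h1
    have h2 : w ^ orderOf x = 1 := M.eq_of_act hl (pow_mem hwQ _) (one_mem _) h1.symm
    obtain ⟨m, hm⟩ := M.Q_two hwQ
    have h3 : w = 1 := orderOf_eq_one_iff.1 (Nat.eq_one_of_dvd_coprimes
      ((Nat.coprime_two_left.2 (hodd hxC)).pow_left m) (orderOf_dvd_of_pow_eq_one hm) (orderOf_dvd_of_pow_eq_one h2))
    rw [hw, mul_inv_eq_one] at h3
    rw [h3] at hva
    have h4 := hva.mul (SameAct.refl u n) hnu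
    rwa [inv_mul_cancel_right] at h4
  obtain ⟨e, he, hne⟩ := h.act_E hf IH T hnK hcom
  have heu := (M.mem_Q_data (M.E_Q he)).2.1
  have h1 := hne.pow heu (orderOf n)
  rw [pow_orderOf_eq_one] at h1
  obtain ⟨j, hj⟩ := hodd hn
  have h2 : e ^ orderOf n = e := by
    rw [hj, pow_succ, pow_mul, pow_two, h.E_sq hl he, one_pow, one_mul]
  rw [h2] at h1
  exact hne.trans h1.symm

/-- Conjugation by the coset stabiliser as maps of `Q`, multiplicative modulo `E`. -/
theorem exists_map (hf : Faithful G Ω) (IH : Below.{u, u} (Nat.card G)) {u t : G} {a b : Ω} {E : Subgroup G}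
    {i : ℕ} {R P0 Q : Subgroup G} (T : Tower D u a b E i t R P0 Q) :
    ∃ L : G → G → G,
      (∀ g ∈ cosetGrp u a E, ∀ y ∈ Q, L g y ∈ Q ∧ SameAct Ω u (g * y * g⁻¹) (L g y) ∧
        L g y * L g y = g * (y * y) * g⁻¹) ∧
      (∀ g ∈ cosetGrp u a E, ∀ y ∈ Q, ∀ y' ∈ Q, L g (y * y') = L g y * L g y') ∧
      (∀ g ∈ cosetGrp u a E, ∀ e ∈ E, L g e = g * e * g⁻¹) ∧
      (∀ g ∈ cosetGrp u a E, ∀ y ∈ Q, L g y ∈ E → y ∈ E) ∧
      ∀ g ∈ cosetGrp u a E, ∀ k ∈ cosetGrp u a E, ∀ y ∈ Q, (L g (L k y))⁻¹ * L (g * k) y ∈ E := by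
  classical
  haveI := h.finite_points
  have hl := T.frame.data
  have M := T.base
  have hEc : ∀ {g e}, g ∈ cosetGrp u a E → e ∈ E → g * e * g⁻¹ ∈ E := fun hg he => (hg.2.1 _ he).1
  have hQK : ∀ {y}, y ∈ Q → y ∈ exK u a E := fun hy => M.sub ((M.Q_mem _).1 hy).1
  choose! L hLQ hLa hLsq using fun (g : G) (y : G) (hgy : g ∈ cosetGrp u a E ∧ y ∈ Q) =>
    show ∃ v ∈ Q, SameAct Ω u (g * y * g⁻¹) v ∧ v * v = g * (y * y) * g⁻¹ by
      obtain ⟨hg, hy⟩ := hgy
      by_cases hyE : y ∈ E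
      · exact ⟨_, M.E_Q (hEc hg hyE), SameAct.refl u _, by group⟩
      have he := hEc hg (M.Q_sq y hy)
      refine T.sqact _ (T.exc.conj_exK hg (hQK hy)) _ he (fun e1 => hyE (M.Q_sq_one y hy (conj_eq_one_iff.1 e1))) ?_
      rw [show g * y * g⁻¹ * (g * y * g⁻¹) = g * (y * y) * g⁻¹ by group]
      exact SameAct.refl u _
  have hu : ∀ {g y}, g ∈ cosetGrp u a E → y ∈ Q → Commute (L g y) u := fun hg hy =>
    (M.mem_Q_data (hLQ _ _ ⟨hg, hy⟩)).2.1
  have hmul : ∀ g ∈ cosetGrp u a E, ∀ y ∈ Q, ∀ y' ∈ Q, L g (y * y') = L g y * L g y' := by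
    intro g hg y hy y' hy'
    refine M.eq_of_act hl (hLQ _ _ ⟨hg, mul_mem hy hy'⟩) (mul_mem (hLQ _ _ ⟨hg, hy⟩) (hLQ _ _ ⟨hg, hy'⟩)) ?_
    have h1 := (hLa _ _ ⟨hg, hy⟩).mul (hLa _ _ ⟨hg, hy'⟩) (hu hg hy')
    rw [show g * y * g⁻¹ * (g * y' * g⁻¹) = g * (y * y') * g⁻¹ by group] at h1
    exact (hLa _ _ ⟨hg, mul_mem hy hy'⟩).symm.trans h1
  have hLE : ∀ g ∈ cosetGrp u a E, ∀ e ∈ E, L g e = g * e * g⁻¹ := fun g hg e he =>
    M.eq_of_act hl (hLQ _ _ ⟨hg, M.E_Q he⟩) (M.E_Q (hEc hg he)) (hLa _ _ ⟨hg, M.E_Q he⟩).symm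
  have hinvE : ∀ g ∈ cosetGrp u a E, ∀ y ∈ Q, L g y ∈ E → y ∈ E := by
    intro g hg y hy hyE
    have h1 := hLsq _ _ ⟨hg, hy⟩
    rw [T.exc.sq _ hyE] at h1
    exact M.Q_sq_one y hy (conj_eq_one_iff.1 h1.symm)
  have hinj : ∀ g ∈ cosetGrp u a E, ∀ y ∈ Q, ∀ y' ∈ Q, L g y = L g y' → y = y' := by
    intro g hg y hy y' hy' he
    have hd : y⁻¹ * y' ∈ Q := mul_mem (inv_mem hy) hy'
    have h1 : L g (y⁻¹ * y') = 1 := by
      have h3 := hmul g hg y hy _ hd
      rw [mul_inv_cancel_left, he] at h3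
      exact left_eq_mul.1 h3
    have h2 := hinvE g hg _ hd (h1 ▸ one_mem E)
    rw [hLE g hg _ h2, conj_eq_one_iff] at h1
    exact inv_mul_eq_one.1 h1
  have hsur : ∀ g ∈ cosetGrp u a E, ∀ v ∈ Q, ∃ y ∈ Q, L g y = v := by
    intro g hg v hv
    obtain ⟨⟨y, hy⟩, hye⟩ := Finite.surjective_of_injective
      (f := fun y : Q => (⟨L g y, hLQ _ _ ⟨hg, y.2⟩⟩ : Q))
      (fun y y' e => Subtype.ext (hinj g hg y y.2 y' y'.2 (congrArg Subtype.val e))) ⟨v, hv⟩
    exact ⟨y, hy, congrArg Subtype.val hye⟩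
  refine ⟨L, fun g hg y hy => ⟨hLQ _ _ ⟨hg, hy⟩, hLa _ _ ⟨hg, hy⟩, hLsq _ _ ⟨hg, hy⟩⟩, hmul, hLE, hinvE,
    fun g hg k hk y hy => ?_⟩
  -- the error acts as an element commuting with the action of `Q`
  set v := L k y with hv
  have hvQ : v ∈ Q := hLQ _ _ ⟨hk, hy⟩
  set c := k * y * k⁻¹ * v⁻¹ with hc
  have hcK : c ∈ exK u a E := mul_mem (T.exc.conj_exK hk (hQK hy)) (inv_mem (hQK hvQ))
  have hc1 : SameAct Ω u c 1 := by
    have h1 := (hLa _ _ ⟨hk, hy⟩).mul (SameAct.refl u v⁻¹) (M.mem_Q_data hvQ).2.1.inv_left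
    rwa [← hv, mul_inv_cancel] at h1
  have hcu : Commute c u := (mem_exK.1 hcK).2.1
  have hgc : g * c * g⁻¹ ∈ centSub u a E := T.exc.conj_exK hg hcK
  have hgcu : Commute (g * c * g⁻¹) u := (mem_centSub.1 hgc).2.1
  obtain ⟨e, he, hge⟩ := h.act_E hf IH T hgc (fun w hw => by
    obtain ⟨y', hy', rfl⟩ := hsur g hg w hw
    have hy'u := (M.mem_Q_data hy').2.1
    set d := c * y' * c⁻¹ * y'⁻¹ with hd
    have hdc : d ∈ excCore u a E := by
      refine le_excCore (N := kerGrp Ω D u ⊓ exK u a E) inf_le_right ?_ ?_ ⟨?_, ?_⟩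
      · intro k' hk' x hx'
        exact ⟨h.conj_mem_kerGrp (mem_exK.1 hk').2.1 hx'.1, (exK u a E).mul_mem ((exK u a E).mul_mem hk' hx'.2) ((exK u a E).inv_mem hk')⟩
      · exact (h.odd_kerGrp hf IH T.frame.multi hl).of_dvd_nat (Subgroup.card_dvd_of_le inf_le_left)
      · have hy'c := ((M.Q_mem y').1 hy').2
        refine mem_kerGrp.2 ⟨(cGrp D u).mul_mem (conj_mem_cGrp h hcu hy'c) ((cGrp D u).inv_mem hy'c), ?_⟩
        refine (cProj_eq_one_iff _).2 fun p hp => ?_
        have h1 := ((hc1.mul (SameAct.refl u y') hy'u).mul (hc1.inv (Commute.one_left u))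
          (Commute.one_left u).inv_left).mul (SameAct.refl u y'⁻¹) hy'u.inv_left
        have h2 := h1 p hp
        rwa [inv_one, mul_one, one_mul, mul_inv_cancel, one_smul] at h2
      · exact (exK u a E).mul_mem ((exK u a E).mul_mem ((exK u a E).mul_mem hcK (hQK hy')) ((exK u a E).inv_mem hcK))
          ((exK u a E).inv_mem (hQK hy'))
    have hd1 := h.excCore_act hf IH T (T.exc.conj_excCore hg hdc)
    have h1 := hd1.mul ((hLa _ _ ⟨hg, hy'⟩).mul (SameAct.refl u (g * c * g⁻¹)) hgcu)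
      ((hu hg hy').mul_left hgcu)
    rw [show g * d * g⁻¹ * (g * y' * g⁻¹ * (g * c * g⁻¹)) = g * c * g⁻¹ * (g * y' * g⁻¹) by
      rw [hd]; group, one_mul] at h1
    exact ((SameAct.refl u (g * c * g⁻¹)).mul (hLa _ _ ⟨hg, hy'⟩) (hu hg hy')).symm.trans h1)
  have heu := (M.mem_Q_data (M.E_Q he)).2.1
  have hgk : g * k ∈ cosetGrp u a E := mul_mem hg hk
  have hLv := hLQ _ _ ⟨hg, hvQ⟩
  have h1 : L (g * k) y = e * L g v := by
    refine M.eq_of_act hl (hLQ _ _ ⟨hgk, hy⟩) (mul_mem (M.E_Q he) hLv) ((hLa _ _ ⟨hgk, hy⟩).symm.trans ?_)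
    have h2 := hge.mul (hLa _ _ ⟨hg, hvQ⟩) (hu hg hvQ)
    rwa [show g * c * g⁻¹ * (g * v * g⁻¹) = g * k * y * (g * k)⁻¹ by rw [hc]; group] at h2
  rw [h1, ← ((M.mem_Q_data hLv).2.2 e he).eq, inv_mul_cancel_left]
  exact he

end Crit

end CfsgLib.AschCrit
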