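import Cfsg.Agent.Lib.Invol.AschCrit.ExceptionOne

/-!
Owner: helper7. Aschbacher's criterion, slice F: no frame of type one lacks translations.
See G8 of `notes/aschbacher_v3_redteam_helper27.md`.

* `Crit.no_exception_one`: the conjugates of `u` in a Sylow group form `u E`, and Thompson transfer.
-/

set_option autoImplicit false
set_option maxHeartbeats 1000000
set_option linter.style.haveILetI false
set_option linter.unusedSectionVars false

namespace CfsgLib.AschCrit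

open Subgroup MulAction Exception

universe v

variable {G : Type v} [Group G] [Finite G] {Ω : Type v} [MulAction G Ω]

/-- Two involutions whose product has fourth power one generate at most a dihedral group of order eight. -/
theorem closure_two_cases {Q : Type*} [Group Q] {x y : Q} (hx : x * x = 1) (hy : y * y = 1)
    (h4 : (x * y) ^ 4 = 1) {z : Q} (hz : z ∈ Subgroup.closure ({x, y} : Set Q)) :
    ∃ j : ℕ, z = (x * y) ^ j ∨ z = x * (x * y) ^ j := by
  have hxy : y = x * (x * y) := by rw [← mul_assoc, hx, one_mul]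
  have hinv : (x * y) ^ 3 = y * x := by
    have h1 : (x * y) ^ 3 * (x * y) = 1 := by rw [← pow_succ]; exact h4
    rw [eq_inv_of_mul_eq_one_left h1, mul_inv_rev, inv_eq_of_mul_eq_one_right hx, inv_eq_of_mul_eq_one_right hy]
  have step : ∀ w ∈ ({x, y} : Set Q), ∀ v : Q, (∃ j : ℕ, v = (x * y) ^ j ∨ v = x * (x * y) ^ j) →
      ∃ j : ℕ, w * v = (x * y) ^ j ∨ w * v = x * (x * y) ^ j := by
    rintro w (rfl | rfl) v ⟨j, rfl | rfl⟩
    · exact ⟨j, Or.inr rfl⟩
    · exact ⟨j, Or.inl (by rw [← mul_assoc, hx, one_mul])⟩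
    · exact ⟨j + 1, Or.inr (by rw [pow_succ', ← mul_assoc x (x * w), ← hxy])⟩
    · exact ⟨3 + j, Or.inl (by rw [pow_add, hinv, ← mul_assoc])⟩
  induction hz using Subgroup.closure_induction_left with
  | one => exact ⟨0, Or.inl (pow_zero _).symm⟩
  | mul_left w hw v hv ih => exact step w hw v ih
  | inv_mul_cancel w hw v hv ih =>
    have h1 : w⁻¹ = w := by
      rcases hw with rfl | rfl
      · exact inv_eq_of_mul_eq_one_right hx
      · exact inv_eq_of_mul_eq_one_right hy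
    rw [h1]
    exact step w hw v ih

namespace Crit

variable {D : Set G} (h : Crit Ω D)
include h

/-- No frame of type one lacks translations. -/
theorem no_exception_one (hf : Faithful G Ω) (htop : Subgroup.closure D = ⊤) (IH : Below.{v, v} (Nat.card G))
    (hcc : CosetClass Ω D) {u : G} {a b : Ω} {E : Subgroup G} (ht : TopFrame D u a b E 8 1)
    (hno : ¬ HasTrans u a E) : False := by
  classical
  haveI := Fact.mk Nat.prime_two
  haveI := h.finite_points
  obtain ⟨t, hx⟩ := h.exc hcc ht rfl hno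
  have hl := ht.data
  set A := cosetGrp u a E with hA
  set K := exK u a E with hK
  obtain ⟨P₀, hS⟩ : ∃ P₀ : Sylow 2 K, ∀ x, x ∈ (P₀ : Subgroup K).map K.subtype ↔ x ∈ E ∨ u⁻¹ * x ∈ E :=
    h.kernel_one_exception hf IH hcc ht hx
  set S := (P₀ : Subgroup K).map K.subtype with hSdef
  have hS2 : IsPGroup 2 S := P₀.isPGroup'.map _
  have hSK : S ≤ K := map_subtype_le _
  have hu2 : u * u = 1 := by rw [← pow_two, ← ht.multi.1, pow_orderOf_eq_one]
  have huinv : u⁻¹ = u := inv_eq_of_mul_eq_one_right hu2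
  have hES : E ≤ S := fun e he => (hS e).2 (Or.inl he)
  have huS : u ∈ S := (hS u).2 (Or.inr (by rw [inv_mul_cancel]; exact one_mem E))
  have hEu : ∀ e ∈ E, Commute e u := fun e he => (mem_exK.1 (hSK (hES he))).2.1
  have huE : u ∉ E := fun hu =>
    hl.ne (h.fix_unique u (hl.mem u hu (fun e => by have := ht.multi.1; rw [e, orderOf_one] at this; omega)).1
      a b hl.fix_a hl.fix_b)
  letI : CommGroup E := { (inferInstance : Group E) with
    mul_comm := fun x y => Subtype.ext (hx.comm x x.2 y y.2) }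
  have hE : ∀ x : E, x * x = 1 := fun x => Subtype.ext (hx.sq x x.2)
  set φ : A →* MulAut E := conjE u a E with hφdef
  have hker : ∀ g : A, φ g = 1 ↔ (g : G) ∈ K := fun g => by
    rw [hφdef, conjE_eq_one_iff, hx.mem_exK_iff]
    exact ⟨fun hg => ⟨g.2, hg⟩, fun hg => hg.2⟩
  have hsurj : Function.Surjective φ := fun γ => by
    obtain ⟨g, hg, hgγ⟩ := hx.onto_top γ
    exact ⟨⟨g, hg⟩, MulEquiv.ext fun z => Subtype.ext (hgγ z)⟩
  -- the order of the kernel part
  have hScard : Nat.card S = 16 := by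
    have h1 : Nat.card (Bool × E) = Nat.card S := by
      refine Nat.card_eq_of_bijective (fun p => (⟨if p.1 then u * p.2 else p.2, by
        rcases p.1 with _ | _
        · exact hES p.2.2
        · exact mul_mem huS (hES p.2.2)⟩ : S)) ⟨?_, ?_⟩
      · rintro ⟨i, e⟩ ⟨j, f⟩ heq
        have heq' : (if i then u * (e : G) else e) = if j then u * (f : G) else f := congrArg Subtype.val heq
        rcases i with _ | _ <;> rcases j with _ | _ <;> simp only [if_true, Bool.false_eq_true, if_false] at heq'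
        · rw [Subtype.ext heq']
        · exact absurd (by rw [eq_mul_inv_of_mul_eq heq'.symm]; exact mul_mem e.2 (inv_mem f.2)) huE
        · exact absurd (by rw [eq_mul_inv_of_mul_eq heq']; exact mul_mem f.2 (inv_mem e.2)) huE
        · rw [Subtype.ext (mul_left_cancel heq')]
      · rintro ⟨s, hs⟩
        rcases (hS s).1 hs with h1 | h1
        · exact ⟨⟨false, ⟨s, h1⟩⟩, rfl⟩
        · exact ⟨⟨true, ⟨_, h1⟩⟩, Subtype.ext (by simp)⟩
    rw [← h1, Nat.card_prod, hx.card]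
    simp
  have hP₀ : 2 ^ Nat.factorization (Nat.card K) 2 = 16 := by
    rw [← Sylow.card_eq_multiplicity P₀, ← hScard, hSdef, card_map_of_injective K.subtype_injective]
  have hKbound : ∀ X : Subgroup G, X ≤ K → IsPGroup 2 X → Nat.card X ≤ 16 := by
    intro X hXK hX
    obtain ⟨T, hT⟩ := (hX.of_equiv (subgroupOfEquivOfLe hXK).symm).exists_le_sylow
    rw [← hP₀, ← Sylow.card_eq_multiplicity T, ← Nat.card_congr (subgroupOfEquivOfLe hXK).toEquiv]
    exact card_le_of_le hT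
  -- `A` normalises the kernel part
  have hSnorm : ∀ g ∈ A, ∀ s ∈ S, g * s * g⁻¹ ∈ S := by
    intro g hg s hs
    refine (hS _).2 ?_
    rcases (hS s).1 hs with h1 | h1
    · exact Or.inl (hg.2.1 s h1).1
    · refine Or.inr ?_
      rw [show u⁻¹ * (g * s * g⁻¹) = (u⁻¹ * (g * u * g⁻¹)) * (g * (u⁻¹ * s) * g⁻¹) by group]
      exact mul_mem hg.2.2 (hg.2.1 _ h1).1
  -- two-elements fixing a point of the coset
  have hfixed : ∀ w ∈ A, (∃ n : ℕ, w ^ 2 ^ n = 1) → ∀ e ∈ E, Commute w (u * e) → w ∈ K := by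
    intro w hw ⟨n, hn⟩ e he hwc
    obtain ⟨g, hg, hgu⟩ := hx.trans e he
    have hc : Commute (g⁻¹ * w * g) u := by
      have := (Commute.conj_iff g⁻¹).2 hwc
      rwa [inv_inv, ← hgu, show g⁻¹ * (g * u * g⁻¹) * g = u by group] at this
    have hcE := hx.odd _ (mul_mem (mul_mem (inv_mem hg) hw) hg) hc ⟨n, by
      rw [show g⁻¹ * w * g = g⁻¹ * w * g⁻¹⁻¹ by group, conj_pow, hn, mul_one, mul_inv_cancel]⟩
    refine hx.mem_exK_iff.2 ⟨hw, fun f hf' => ?_⟩
    have h1 := (Commute.conj_iff g).2 (hcE _ (hg.2.1 f hf').2)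
    rwa [show g * (g⁻¹ * w * g) * g⁻¹ = w by group, show g * (g⁻¹ * f * g) * g⁻¹ = f by group] at h1
  -- the centraliser of `u` at `a`
  have hbound : ∀ X : Subgroup G, IsPGroup 2 X → (∀ x ∈ X, x • a = a ∧ Commute x u) → Nat.card X ≤ 16 := by
    intro X hX hXc
    set C := MulAction.stabilizer G a ⊓ Subgroup.centralizer ({u} : Set G) with hC
    have hXC : X ≤ C := fun x hx' => ⟨(hXc x hx').1, mem_centralizer_singleton_iff.2 (hXc x hx').2⟩
    have hEC : E ≤ C := fun e he => ⟨(mem_exK.1 (hSK (hES he))).1,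
      mem_centralizer_singleton_iff.2 (hEu e he)⟩
    obtain ⟨TX, hTX⟩ := (hX.of_equiv (subgroupOfEquivOfLe hXC).symm).exists_le_sylow
    obtain ⟨TE, hTE⟩ :=
      ((hS2.to_le hES).of_equiv (subgroupOfEquivOfLe hEC).symm).exists_le_sylow
    set X' := (TE : Subgroup C).map C.subtype with hX'
    have hX'2 : IsPGroup 2 X' := TE.isPGroup'.map _
    have hEX' : E ≤ X' := fun e he => ⟨⟨e, hEC he⟩, hTE (mem_subgroupOf.2 he), rfl⟩
    have hX'K : X' ≤ K := by
      have hnorm : ∀ x ∈ X', ∀ e ∈ E, x * e * x⁻¹ ∈ E := by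
        intro x hx' e he
        rcases eq_or_ne e 1 with rfl | he1
        · simpa using one_mem E
        obtain ⟨⟨hxa, hxu⟩, -⟩ : (x • a = a ∧ Commute x u) ∧ True :=
          ⟨⟨(map_subtype_le _ hx' : x ∈ C).1, mem_centralizer_singleton_iff.1 (map_subtype_le _ hx' : x ∈ C).2⟩, trivial⟩
        refine hl.maximal X' hX'2 hEX' _ (mul_mem (mul_mem hx' (hEX' he)) (inv_mem hx')) ?_
        have h1 := h.memsC_conj (hl.mem e he he1) x
        rwa [hxu.eq, mul_inv_cancel_right, hxa] at h1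
      intro x hx'
      have hxC : x ∈ C := map_subtype_le _ hx'
      have hxu : Commute x u := mem_centralizer_singleton_iff.1 hxC.2
      have hxA : x ∈ A := ⟨hxC.1, fun e he => ⟨hnorm x hx' e he, by
        have := hnorm x⁻¹ (inv_mem hx') e he
        rwa [inv_inv] at this⟩, by rw [hxu.eq, mul_inv_cancel_right, inv_mul_cancel]; exact one_mem E⟩
      exact mem_exK.2 ⟨hxC.1, hxu, hx.odd x hxA hxu (exists_two_pow hX'2 hx')⟩
    calc Nat.card X = Nat.card (X.subgroupOf C) := (Nat.card_congr (subgroupOfEquivOfLe hXC).toEquiv).symm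
      _ ≤ Nat.card TX := card_le_of_le hTX
      _ = Nat.card TE := by rw [Sylow.card_eq_multiplicity, Sylow.card_eq_multiplicity]
      _ = Nat.card X' := (card_map_of_injective C.subtype_injective).symm
      _ ≤ 16 := hKbound X' hX'K hX'2
  -- the preimages of the Sylow groups of the automorphisms
  let Y : E → E → Subgroup G := fun c y => ((u3 hE c y).comap φ).map A.subtype
  have hY : ∀ c y (g : G), g ∈ Y c y ↔ ∃ hg : g ∈ A, φ ⟨g, hg⟩ ∈ u3 hE c y := fun c y g =>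
    ⟨fun ⟨g', hg', e⟩ => e ▸ ⟨g'.2, hg'⟩, fun ⟨hg, hg'⟩ => ⟨⟨g, hg⟩, hg', rfl⟩⟩
  have hYA : ∀ c y, Y c y ≤ A := fun c y => map_subtype_le _
  have hYK : ∀ c y, K ≤ Y c y := fun c y g hg => (hY c y g).2 ⟨exK_le_cosetGrp hg, by
    rw [(hker ⟨g, exK_le_cosetGrp hg⟩).2 hg]; exact one_mem _⟩
  have hT : ∀ c y x : E, Indep c y x → ∀ T : Sylow 2 (Y c y),
      Nat.card ((T : Subgroup (Y c y)).map (Y c y).subtype) = 128 ∧
      S ≤ (T : Subgroup (Y c y)).map (Y c y).subtype ∧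
      ∀ g ∈ (T : Subgroup (Y c y)).map (Y c y).subtype, g ∈ K → g ∈ S := by
    intro c y x hi T
    set T' := (T : Subgroup (Y c y)).map (Y c y).subtype with hT'
    have hYcard : Nat.card (Y c y) = 8 * Nat.card K := by
      show Nat.card (((u3 hE c y).comap φ).map A.subtype) = _
      rw [card_map_of_injective A.subtype_injective, ← card_range_mul_ker (φ.comp ((u3 hE c y).comap φ).subtype),
        ← card_u3 hE hx.card hi]
      congr 1
      · rw [show (φ.comp ((u3 hE c y).comap φ).subtype).range = u3 hE c y from Subgroup.ext fun γ =>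
          ⟨fun ⟨g, hg⟩ => hg ▸ g.2, fun hγ => by
            obtain ⟨g, rfl⟩ := hsurj γ
            exact ⟨⟨g, hγ⟩, rfl⟩⟩]
      · refine Nat.card_congr ⟨fun g => ⟨((g.1.1 : A) : G), (hker _).1 g.2⟩,
          fun k => ⟨⟨⟨k.1, exK_le_cosetGrp k.2⟩, by
            show φ _ ∈ u3 hE c y
            rw [(hker _).2 k.2]; exact one_mem _⟩, (hker _).2 k.2⟩, fun g => rfl, fun k => rfl⟩
    have hST : S ≤ T' := le_of_maximal T (hSK.trans (hYK c y)) hS2 fun g hg s hs =>
      hSnorm g (hYA c y (map_subtype_le _ hg)) s hs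
    refine ⟨?_, hST, fun g hg hgK => ?_⟩
    · rw [hT', card_map_of_injective (Y c y).subtype_injective, Sylow.card_eq_multiplicity, hYcard,
        Nat.factorization_mul (by norm_num) Nat.card_pos.ne', Finsupp.add_apply, pow_add, hP₀,
        show (8 : ℕ) = 2 ^ 3 from rfl, Nat.Prime.factorization_pow Nat.prime_two, Finsupp.single_eq_same]
      norm_num
    · have heq : S = T' ⊓ K := eq_of_le_of_card_ge (le_inf hST hSK) (by
        rw [hScard]; exact hKbound _ inf_le_right ((T.isPGroup'.map _).to_le inf_le_left))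
      rw [heq]
      exact ⟨hg, hgK⟩
  -- one flag
  obtain ⟨c, y, x, hi⟩ := exists_indep' (E := E) hx.card
  obtain ⟨T₀⟩ : Nonempty (Sylow 2 (Y c y)) := inferInstance
  obtain ⟨hTcard, hST, hTK⟩ := hT c y x hi T₀
  set T := (T₀ : Subgroup (Y c y)).map (Y c y).subtype with hTdef
  have hT2 : IsPGroup 2 T := T₀.isPGroup'.map _
  have hTY : T ≤ Y c y := map_subtype_le _
  have hTA : T ≤ A := hTY.trans (hYA c y)
  -- the conjugates of `u` in `T`
  have hfus : ∀ w ∈ T, (∃ g : G, g * u * g⁻¹ = w) → u⁻¹ * w ∈ E := by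
    rintro w hwT ⟨g, rfl⟩
    set w := g * u * g⁻¹ with hw
    have hwA : w ∈ A := hTA hwT
    have hw2 : w * w = 1 := by
      rw [hw, show g * u * g⁻¹ * (g * u * g⁻¹) = g * (u * u) * g⁻¹ by group, hu2, mul_one, mul_inv_cancel]
    by_cases hwK : w ∈ K
    · rcases (hS w).1 (hTK w hwT hwK) with h1 | h1
      · exfalso
        have hw1 : w ≠ 1 := fun e => huE (by rw [conj_eq_one_iff.1 e]; exact one_mem E)
        have hD : u ∈ D := by
          have := h.conj _ (hl.mem w h1 hw1).1 g⁻¹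
          rwa [hw, show g⁻¹ * (g * u * g⁻¹) * g⁻¹⁻¹ = u by group] at this
        exact hl.ne (h.fix_unique u hD a b hl.fix_a hl.fix_b)
      · exact h1
    exfalso
    obtain ⟨m, hma, hmu⟩ := h.fus hu2 hl.fix_a (g := g) hwA.1
    set τ := φ ⟨w, hwA⟩ with hτ
    have hτ2 : τ * τ = 1 := by
      rw [hτ, ← map_mul, show (⟨w, hwA⟩ : A) * ⟨w, hwA⟩ = 1 from Subtype.ext hw2, map_one]
    have hτ1 : τ ≠ 1 := fun e => hwK ((hker _).1 e)
    obtain ⟨c', y', x', hi', hτc, hτy, hτx⟩ := exists_flag hE hx.card hτ2 hτ1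
    have hwY : w ∈ Y c' y' := (hY _ _ _).2 ⟨hwA, hτc, Or.inl hτy⟩
    have hW2 : IsPGroup 2 ↥(zpowers w ⊔ S) :=
      IsPGroup.to_sup_of_normal_right' (isPGroup_two_of_pow (n := 1) (by rw [pow_one, pow_two, hw2])) hS2
        (zpowers_le.2 (mem_normalizer_of_conj_mem (hSnorm w hwA)))
    obtain ⟨T₁, hT₁⟩ := (hW2.of_equiv
      (subgroupOfEquivOfLe (sup_le (zpowers_le.2 hwY) (hSK.trans (hYK c' y')))).symm).exists_le_sylow
    obtain ⟨hcard₁, -, hK₁⟩ := hT c' y' x' hi' T₁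
    set P := (T₁ : Subgroup (Y c' y')).map (Y c' y').subtype with hP
    have hwP : w ∈ P := ⟨⟨w, hwY⟩, hT₁ (mem_subgroupOf.2 (mem_sup_left (mem_zpowers w))), rfl⟩
    have hP2 : IsPGroup 2 P := T₁.isPGroup'.map _
    set C := P ⊓ Subgroup.centralizer ({w} : Set G) with hC
    have hCcard : Nat.card C ≤ 16 := by
      have h1 := hbound (C.map (MulAut.conj m⁻¹).toMonoidHom) ((hP2.to_le inf_le_left).map _) (by
        rintro _ ⟨z, hz, rfl⟩
        obtain ⟨hzA, -⟩ := (hY _ _ _).1 (map_subtype_le _ hz.1)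
        constructor
        · show (m⁻¹ * z * m⁻¹⁻¹) • a = a
          rw [inv_inv, mul_smul, mul_smul, hma, hzA.1, inv_smul_eq_iff.2 hma.symm]
        · show Commute (m⁻¹ * z * m⁻¹⁻¹) u
          have h2 := (Commute.conj_iff m⁻¹).2 (mem_centralizer_singleton_iff.1 hz.2 : Commute z w)
          rwa [show w = m * u * m⁻¹ from hmu.symm, show m⁻¹ * (m * u * m⁻¹) * m⁻¹⁻¹ = u by group] at h2)
      rwa [card_map_of_injective (MulAut.conj m⁻¹).injective] at h1
    set CE := E ⊓ Subgroup.centralizer ({w} : Set G) with hCE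
    have hCE4 : Nat.card CE ≤ 4 := by
      obtain ⟨d, hd⟩ := card_dvd_of_le (show CE ≤ E from inf_le_left)
      rw [hx.card] at hd
      rcases Nat.lt_or_ge d 2 with hd2 | hd2
      · exfalso
        interval_cases d
        · omega
        · refine hτ1 ((hker _).2 (hx.mem_exK_iff.2 ⟨hwA, fun e he => ?_⟩))
          have he' : e ∈ CE := by
            rw [eq_of_le_of_card_ge (show CE ≤ E from inf_le_left) (by rw [hx.card]; omega)]
            exact he
          exact (mem_centralizer_singleton_iff.1 he'.2 : Commute e w).symm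
      · have := Nat.mul_le_mul_left (Nat.card CE) hd2
        omega
    have hmem : ∀ z ∈ P, w * z * w * z⁻¹ ∈ CE := by
      intro z hz
      have hzP : w * z * w * z⁻¹ ∈ P := mul_mem (mul_mem (mul_mem hwP hz) hwP) (inv_mem hz)
      obtain ⟨hzA, hzu⟩ := (hY _ _ _).1 (map_subtype_le _ hz)
      have hcomm : Commute τ (φ ⟨z, hzA⟩) := u3_central hE hx.card hi' hτc hτy hτx hzu
      have hxK : w * z * w * z⁻¹ ∈ K := by
        refine (hker (⟨w, hwA⟩ * ⟨z, hzA⟩ * ⟨w, hwA⟩ * ⟨z, hzA⟩⁻¹)).1 ?_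
        rw [map_mul, map_mul, map_mul, map_inv, ← hτ, hcomm.eq, mul_assoc (φ _), hτ2, mul_one, mul_inv_cancel]
      set v := w * z * w * z⁻¹ with hv
      have hvS := hK₁ v hzP hxK
      have hwinv : w⁻¹ = w := inv_eq_of_mul_eq_one_right hw2
      have hvinv : w * v * w⁻¹ = v⁻¹ := by
        calc w * v * w⁻¹ = (w * w) * (z * w * z⁻¹ * w⁻¹) := by rw [hv]; group
          _ = z * w⁻¹ * z⁻¹ * w⁻¹ := by rw [hw2, one_mul, hwinv]
          _ = v⁻¹ := by rw [hv]; group
      have hv2 : v⁻¹ = v := by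
        rcases (hS v).1 hvS with h1 | h1
        · exact inv_eq_of_mul_eq_one_right (hx.sq v h1)
        · refine inv_eq_of_mul_eq_one_right ?_
          have h2 : v = u * (u⁻¹ * v) := (mul_inv_cancel_left u v).symm
          have h3 : Commute (u⁻¹ * v) u := hEu _ h1
          calc v * v = u * ((u⁻¹ * v) * u) * (u⁻¹ * v) := by group
            _ = u * (u * (u⁻¹ * v)) * (u⁻¹ * v) := by rw [h3.eq]
            _ = (u * u) * ((u⁻¹ * v) * (u⁻¹ * v)) := by group
            _ = 1 := by rw [hu2, hx.sq _ h1, one_mul]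
      have hcw : Commute w v := by
        rw [hv2] at hvinv
        exact mul_inv_eq_iff_eq_mul.1 hvinv
      rcases (hS v).1 hvS with h1 | h1
      · exact ⟨h1, mem_centralizer_singleton_iff.2 hcw.symm⟩
      · refine absurd (hfixed w hwA ⟨1, by rw [pow_one, pow_two, hw2]⟩ _ h1 ?_) hwK
        rwa [mul_inv_cancel_left]
    let f : P → CE := fun z => ⟨_, hmem z z.2⟩
    let sec : Set.range f → P := fun r => r.2.choose
    have hsec : ∀ z : P, f (sec ⟨f z, z, rfl⟩) = f z := fun z =>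
      (Exists.choose_spec (show f z ∈ Set.range f from ⟨z, rfl⟩) :)
    have hinj : Function.Injective (fun z : P => ((⟨f z, z, rfl⟩ : Set.range f),
        (⟨(sec ⟨f z, z, rfl⟩ : G)⁻¹ * z, by
          refine ⟨P.mul_mem (P.inv_mem (sec _).2) z.2, mem_centralizer_singleton_iff.2 ?_⟩
          have h1 : w * (sec ⟨f z, z, rfl⟩ : G) * w * (sec ⟨f z, z, rfl⟩ : G)⁻¹ = w * (z : G) * w * (z : G)⁻¹ :=
            congrArg Subtype.val (hsec z)
          set p : G := (sec ⟨f z, z, rfl⟩ : G)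
          have h2 : p * w * p⁻¹ = (z : G) * w * (z : G)⁻¹ := by
            have := congrArg (w * ·) h1
            simpa only [← mul_assoc, hw2, one_mul] using this
          calc p⁻¹ * z * w = p⁻¹ * ((z : G) * w * (z : G)⁻¹) * z := by group
            _ = p⁻¹ * (p * w * p⁻¹) * z := by rw [h2]
            _ = w * (p⁻¹ * z) := by group⟩ : C))) := by
      intro z z' e
      have e1 : (⟨f z, z, rfl⟩ : Set.range f) = ⟨f z', z', rfl⟩ := congrArg Prod.fst e
      have e2 : (sec ⟨f z, z, rfl⟩ : G)⁻¹ * z = (sec ⟨f z', z', rfl⟩ : G)⁻¹ * z' :=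
        congrArg (fun p => ((p.2 : C) : G)) e
      rw [e1] at e2
      exact Subtype.ext (mul_left_cancel e2)
    have h1 := Nat.card_le_card_of_injective _ hinj
    rw [Nat.card_prod, hcard₁] at h1
    have h2 : Nat.card (Set.range f) ≤ 4 :=
      le_trans (Nat.card_le_card_of_injective Subtype.val Subtype.val_injective) hCE4
    exact absurd (h1.trans (Nat.mul_le_mul h2 hCcard)) (by norm_num)
  -- `T` is a Sylow group
  obtain ⟨Q, hTQ⟩ := hT2.exists_le_sylow
  have himage : ∀ γ ∈ u3 hE c y, ∃ g ∈ T, ∃ hg : g ∈ A, φ ⟨g, hg⟩ = γ := by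
    let ψ : T →* MulAut E := φ.comp (Subgroup.inclusion hTA)
    have h1 : ψ.range ≤ u3 hE c y := by
      rintro _ ⟨g, rfl⟩
      obtain ⟨hg, hg'⟩ := (hY c y g).1 (hTY g.2)
      exact hg'
    have h2 : Nat.card ψ.ker ≤ 16 := hScard ▸ Nat.card_le_card_of_injective
      (fun g : ψ.ker => (⟨((g.1 : T) : G), hTK _ g.1.2 ((hker ⟨((g.1 : T) : G), hTA g.1.2⟩).1 g.2)⟩ : S))
      fun g g' e => Subtype.ext (Subtype.ext (congrArg Subtype.val e :))
    have h3 := card_range_mul_ker ψ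
    rw [hTcard] at h3
    have h4 : ψ.range = u3 hE c y := eq_of_le_of_card_ge h1 (by
      rw [card_u3 hE hx.card hi]
      by_contra hlt
      push Not at hlt
      have := Nat.mul_le_mul (Nat.le_of_lt_succ hlt) h2
      omega)
    intro γ hγ
    obtain ⟨g, hg⟩ := (h4 ▸ hγ : γ ∈ ψ.range)
    exact ⟨g, g.2, hTA g.2, hg⟩
  obtain ⟨hy1, hyc⟩ : y ≠ 1 ∧ y ≠ c := ⟨hi.2.1, hi.2.2.1⟩
  obtain ⟨hc1, -, -, hx1, hxc, hxy, hxcy⟩ := id hi
  have hi₁ : Indep c (c * y) x := ⟨hc1, fun e => hyc (eq_of_mul_one hE e).symm, fun e => hy1 (mul_eq_left.1 e),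
    hx1, hxc, hxcy, by rw [← mul_assoc, hE, one_mul]; exact hxy⟩
  have hi₂ : Indep c y (y * x) := ⟨hc1, hy1, hyc, fun e => hxy (eq_of_mul_one hE e).symm,
    fun e => hxcy (by rw [← e, mul_comm (y * x), ← mul_assoc, hE, one_mul]),
    fun e => hx1 (mul_eq_left.1 e), fun e => hxc (mul_left_cancel (e.trans (mul_comm c y)))⟩
  obtain ⟨τ₁, h1c, h1y, h1x⟩ := exists_aut hE hx.card hi hi₁
  obtain ⟨τ₂, h2c, h2y, h2x⟩ := exists_aut hE hx.card hi hi₂
  have hTQeq : T = Q := by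
    by_contra hne
    haveI : Group.IsNilpotent (Q : Subgroup G) := Q.isPGroup'.isNilpotent
    have hlt : T.subgroupOf (Q : Subgroup G) < ⊤ := lt_top_iff_ne_top.2 fun e =>
      hne (le_antisymm hTQ (subgroupOf_eq_top.1 e))
    obtain ⟨n, hn, hnT⟩ := SetLike.exists_of_lt (Group.normalizerCondition_of_isNilpotent _ hlt)
    have hnorm : ∀ z ∈ T, (n : G) * z * (n : G)⁻¹ ∈ T ∧ (n : G)⁻¹ * z * n ∈ T := fun z hz =>
      ⟨mem_subgroupOf.1 ((mem_normalizer_iff.1 hn ⟨z, hTQ hz⟩).1 (mem_subgroupOf.2 hz)),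
        mem_subgroupOf.1 (((mem_normalizer_iff.1 hn) ((n : (Q : Subgroup G))⁻¹ * ⟨z, hTQ hz⟩ * n)).2 (by
          rw [show n * ((n : (Q : Subgroup G))⁻¹ * ⟨z, hTQ hz⟩ * n) * n⁻¹ = ⟨z, hTQ hz⟩ by group]
          exact mem_subgroupOf.2 hz))⟩
    have hmap : ∀ k : G, (∀ z ∈ T, k * z * k⁻¹ ∈ T) → ∀ e ∈ E, k * e * k⁻¹ ∈ E ∧ u⁻¹ * (k * u * k⁻¹) ∈ E := by
      intro k hk e he
      have hu' := hfus _ (hk u (hST huS)) ⟨k, rfl⟩
      obtain ⟨g, -, hgu⟩ := hx.trans e he
      have hue := hfus _ (hk (u * e) (hST (mul_mem huS (hES he)))) ⟨k * g, by rw [← hgu]; group⟩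
      refine ⟨?_, hu'⟩
      rw [show k * e * k⁻¹ = (u⁻¹ * (k * u * k⁻¹))⁻¹ * (u⁻¹ * (k * (u * e) * k⁻¹)) by group]
      exact mul_mem (inv_mem hu') hue
    have h1 := hmap n fun z hz => (hnorm z hz).1
    have h2 := hmap (n : G)⁻¹ fun z hz => by rw [inv_inv]; exact (hnorm z hz).2
    have hc0 : (c : G) ≠ 1 := fun e => hc1 (Subtype.ext e)
    have hna : (n : G) • a = a := by
      have he := (h1 c c.2).1
      have he1 : (n : G) * c * (n : G)⁻¹ ≠ 1 := fun e => hc0 (conj_eq_one_iff.1 e)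
      refine h.fix_unique _ (hl.mem _ he he1).1 _ _ ?_ (hl.mem _ he he1).2.1
      rw [mul_smul, mul_smul, inv_smul_smul, (hl.mem c c.2 hc0).2.1]
    have hnA : (n : G) ∈ A := ⟨hna, fun e he => ⟨(h1 e he).1, by
      have := (h2 e he).1
      rwa [inv_inv] at this⟩, (h1 c c.2).2⟩
    have hnY : (n : G) ∈ Y c y := by
      refine (hY c y _).2 ⟨hnA, u3_normal hE hx.card hi h1c h1y h1x h2c h2y h2x fun γ hγ => ?_⟩
      obtain ⟨g, hgT, hgA, rfl⟩ := himage γ hγ
      rw [← map_inv, ← map_mul, ← map_mul]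
      obtain ⟨hA', hu'⟩ := (hY c y _).1 (hTY (hnorm g hgT).2)
      exact hu'
    refine hnT (mem_subgroupOf.2 ?_)
    have h3 : (((Q : Subgroup G) ⊓ Y c y).subgroupOf (Y c y)) = T₀ := T₀.is_maximal'
      ((Q.isPGroup'.to_le inf_le_left).of_equiv (subgroupOfEquivOfLe inf_le_right).symm) fun z hz =>
        mem_subgroupOf.2 ⟨hTQ (mem_map_of_mem _ hz), z.2⟩
    exact ⟨⟨n, hnY⟩, h3 ▸ mem_subgroupOf.2 ⟨n.2, hnY⟩, rfl⟩
  -- a subgroup of index two without conjugates of `u`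
  haveI hEn : (E.subgroupOf T).Normal := ⟨fun z hz g => by
    rw [mem_subgroupOf] at hz ⊢
    exact ((hTA g.2).2.1 _ hz).1⟩
  set π := QuotientGroup.mk' (E.subgroupOf T) with hπ
  let ψ : T →* MulAut E := φ.comp (Subgroup.inclusion hTA)
  have hψE : E.subgroupOf T ≤ ψ.ker := fun z hz =>
    (hker ⟨(z : G), hTA z.2⟩).2 (hSK (hES (mem_subgroupOf.1 hz)))
  have hπeq : ∀ z z' : T, π z = π z' ↔ (z : G)⁻¹ * z' ∈ E := fun z z' => by
    rw [hπ, QuotientGroup.mk'_apply, QuotientGroup.mk'_apply, QuotientGroup.eq, mem_subgroupOf]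
    rfl
  obtain ⟨g₁, hg₁T, hg₁A, hg₁⟩ := himage τ₁ ⟨h1c, Or.inr h1y⟩
  obtain ⟨g₂, hg₂T, hg₂A, hg₂⟩ := himage τ₂ ⟨h2c, Or.inl h2y⟩
  set t₁ : T := ⟨g₁, hg₁T⟩ with ht₁
  set t₂ : T := ⟨g₂, hg₂T⟩ with ht₂
  have hψ1 : ψ t₁ = τ₁ := hg₁
  have hψ2 : ψ t₂ = τ₂ := hg₂
  have hsq : ∀ z : T, ψ z ≠ 1 → ψ (z * z) = 1 → π (z * z) = 1 := by
    intro z hz hz2
    have hzK : (z : G) * z ∈ K := (hker ⟨((z * z : T) : G), hTA (z * z).2⟩).1 hz2
    refine (QuotientGroup.eq_one_iff _).2 (mem_subgroupOf.2 ?_)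
    rcases (hS _).1 (hTK _ (mul_mem z.2 z.2) hzK) with h1 | h1
    · exact h1
    · refine absurd ((hker ⟨(z : G), hTA z.2⟩).2 (hfixed z (hTA z.2) (exists_two_pow hT2 z.2) _ h1 ?_)) hz
      rw [mul_inv_cancel_left]
      exact (Commute.refl _).mul_right (Commute.refl _)
  have hτ1ne : τ₁ ≠ 1 := fun e => hc1 (mul_eq_right.1 (by rw [← h1y, e]; rfl))
  have hτ2ne : τ₂ ≠ 1 := fun e => hy1 (mul_eq_right.1 (by rw [← h2x, e]; rfl))
  have hσy : (τ₁ * τ₂) y = c * y := by rw [MulAut.mul_apply, h2y, h1y]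
  have hσc : (τ₁ * τ₂) c = c := by rw [MulAut.mul_apply, h2c, h1c]
  have hσx : (τ₁ * τ₂) x = c * y * x := by rw [MulAut.mul_apply, h2x, map_mul, h1y, h1x]
  have hσ2x : (τ₁ * τ₂) ((τ₁ * τ₂) x) = c * x := by
    rw [hσx, map_mul, map_mul, hσc, hσy, hσx]
    calc c * (c * y) * (c * y * x) = (c * c) * (y * y) * (c * x) := by ac_rfl
      _ = c * x := by rw [hE, hE, one_mul, one_mul]
  have hσne : τ₁ * τ₂ ≠ 1 := fun e => hc1 (mul_eq_right.1 (by rw [← hσy, e]; rfl))
  have hσ2ne : (τ₁ * τ₂) * (τ₁ * τ₂) ≠ 1 := fun e => hc1 (mul_eq_right.1 (by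
    rw [← hσ2x, ← MulAut.mul_apply, e]; rfl))
  have hinv1 : τ₁ * τ₁ = 1 := aut_ext hE hx.card hi (by simp [h1c]) (by simp [h1c, h1y, ← mul_assoc, hE])
    (by simp [h1x])
  have hinv2 : τ₂ * τ₂ = 1 := aut_ext hE hx.card hi (by simp [h2c]) (by simp [h2y])
    (by simp [h2y, h2x, ← mul_assoc, hE])
  have hσ4 : (τ₁ * τ₂) ^ 4 = 1 := by
    refine aut_ext hE hx.card hi ?_ ?_ ?_ <;> simp only [pow_succ, pow_zero, one_mul, MulAut.mul_apply, MulAut.one_apply]
    · simp only [h1c, h2c]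
    · simp only [h2y, h1y, map_mul, h1c, h2c, ← mul_assoc, hE, one_mul]
    · have e2 : ∀ z, τ₁ (τ₂ z) = (τ₁ * τ₂) z := fun _ => rfl
      simp only [e2]
      rw [hσ2x, map_mul, map_mul, hσc, hσc, hσ2x, ← mul_assoc, hE, one_mul]
  set X := Subgroup.closure ({π t₁, π t₂} : Set (T ⧸ E.subgroupOf T)) with hX
  set o : T := ⟨u, hST huS⟩ with ho
  have hx₁ : π t₁ * π t₁ = 1 := by
    rw [← map_mul]; exact hsq _ (by rw [hψ1]; exact hτ1ne) (by rw [map_mul, hψ1, hinv1])
  have hx₂ : π t₂ * π t₂ = 1 := by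
    rw [← map_mul]; exact hsq _ (by rw [hψ2]; exact hτ2ne) (by rw [map_mul, hψ2, hinv2])
  have hx₄ : (π t₁ * π t₂) ^ 4 = 1 := by
    rw [← map_mul, show (4 : ℕ) = 2 * 2 from rfl, pow_mul, pow_two, pow_two, ← map_mul, ← map_mul]
    refine hsq _ (by simp only [map_mul, hψ1, hψ2]; exact hσ2ne) ?_
    rw [show (t₁ * t₂ * (t₁ * t₂)) * (t₁ * t₂ * (t₁ * t₂)) = (t₁ * t₂) ^ 4 by
      simp [pow_succ, mul_assoc], map_pow, map_mul, hψ1, hψ2, hσ4]
  have hoψ : ψ o = 1 := (hker ⟨u, _⟩).2 (hSK huS)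
  have hoX : π o ∉ X := by
    intro ho'
    obtain ⟨j, hj⟩ := closure_two_cases hx₁ hx₂ hx₄ ho'
    have hmod : (π t₁ * π t₂) ^ j = (π t₁ * π t₂) ^ (j % 4) := by
      conv_lhs => rw [← Nat.mod_add_div j 4, pow_add, pow_mul, hx₄, one_pow, mul_one]
    rw [hmod] at hj
    rcases hj with hj | hj
    · rw [← map_mul, ← map_pow] at hj
      have h1 : (τ₁ * τ₂) ^ (j % 4) = 1 := by
        have h2 := hψE (mem_subgroupOf.2 ((hπeq _ _).1 hj) : o⁻¹ * (t₁ * t₂) ^ (j % 4) ∈ E.subgroupOf T)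
        rw [MonoidHom.mem_ker, map_mul, map_inv, hoψ, inv_one, one_mul, map_pow, map_mul, hψ1, hψ2] at h2
        exact h2
      have hj0 : j % 4 = 0 := by
        have h5 : j % 4 < 4 := Nat.mod_lt _ (by norm_num)
        interval_cases j % 4
        · rfl
        · exact absurd (by rwa [pow_one] at h1) hσne
        · exact absurd (by rwa [pow_two] at h1) hσ2ne
        · refine absurd ?_ hσne
          rwa [pow_succ (τ₁ * τ₂) 3, h1, one_mul] at hσ4
      rw [hj0, pow_zero, map_one] at hj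
      exact huE (mem_subgroupOf.1 ((QuotientGroup.eq_one_iff _).1 hj : o ∈ E.subgroupOf T))
    · rw [← map_mul, ← map_pow, ← map_mul] at hj
      have h1 : τ₁ * (τ₁ * τ₂) ^ (j % 4) = 1 := by
        have h2 := hψE (mem_subgroupOf.2 ((hπeq _ _).1 hj) : o⁻¹ * (t₁ * (t₁ * t₂) ^ (j % 4)) ∈ E.subgroupOf T)
        rw [MonoidHom.mem_ker, map_mul, map_inv, hoψ, inv_one, one_mul, map_mul, map_pow, map_mul, hψ1, hψ2] at h2
        exact h2
      have h5 : j % 4 < 4 := Nat.mod_lt _ (by norm_num)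
      interval_cases j % 4
      · exact hτ1ne (by simpa using h1)
      · exact hτ2ne (by rw [pow_one, ← mul_assoc, hinv1, one_mul] at h1; exact h1)
      · have h3 : (τ₁ * ((τ₁ * τ₂) * (τ₁ * τ₂))) y = y := by rw [← pow_two, h1]; rfl
        simp only [MulAut.mul_apply, h2y, h1y, map_mul, h1c, h2c, ← mul_assoc, hE, one_mul] at h3
        exact hc1 (mul_eq_right.1 h3)
      · refine hτ2ne ?_
        have h3 : τ₁ * (τ₁ * τ₂) ^ 3 * (τ₁ * τ₂) = τ₁ * τ₂ := by rw [h1, one_mul]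
        rw [mul_assoc, ← pow_succ, hσ4, mul_one] at h3
        exact mul_eq_left.1 h3.symm
  have hXi : X.index = 2 := by
    refine index_eq_two_iff.2 ⟨π o, fun z => ?_⟩
    obtain ⟨z, rfl⟩ := QuotientGroup.mk'_surjective (E.subgroupOf T) z
    obtain ⟨hzA, hz⟩ := (hY c y z).1 (hTY z.2)
    have h2 : ψ z ∈ (Subgroup.closure ({t₁, t₂} : Set T)).map ψ := by
      rw [MonoidHom.map_closure, Set.image_pair, hψ1, hψ2]
      exact mem_u3_closure hE hx.card hi h1c h1y h1x h2c h2y h2x hz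
    obtain ⟨p, hp, hpz⟩ := h2
    have hpX : π p ∈ X := by
      have := mem_map_of_mem π hp
      rwa [MonoidHom.map_closure, Set.image_pair] at this
    have hrK : ((p⁻¹ * z : T) : G) ∈ K := (hker ⟨((p⁻¹ * z : T) : G), hTA (p⁻¹ * z).2⟩).1 (by
      show ψ (p⁻¹ * z) = 1
      rw [map_mul, map_inv, hpz, inv_mul_cancel])
    have ho2 : π o * π o = 1 := by
      rw [← map_mul, show o * o = 1 from Subtype.ext hu2, map_one]
    rcases (hS _).1 (hTK _ (p⁻¹ * z).2 hrK) with h1 | h1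
    · have hpe : π p = π z := (hπeq p z).2 h1
      refine Or.inr ⟨hpe ▸ hpX, fun hc => hoX ?_⟩
      exact (X.mul_mem_cancel_left (hpe ▸ hpX)).1 hc
    · have hpe : π z = π p * π o := by
        rw [← map_mul]
        refine ((hπeq (p * o) z).2 ?_).symm
        show ((p : G) * u)⁻¹ * z ∈ E
        rw [mul_inv_rev, mul_assoc]
        exact h1
      refine Or.inl ⟨?_, fun hc => hoX ?_⟩
      · rw [hpe, mul_assoc, ho2, mul_one]; exact hpX
      · rw [hpe] at hc
        exact (X.mul_mem_cancel_left hpX).1 hc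
  set T' : Subgroup G := (X.comap π).map T.subtype with hT'
  have hidx : T'.relIndex (Q : Subgroup G) = 2 := by
    rw [← hTQeq, Subgroup.relIndex, hT', subgroupOf, comap_map_eq_self_of_injective T.subtype_injective,
      index_comap_of_surjective _ (QuotientGroup.mk'_surjective _), hXi]
  obtain ⟨e₁, he₁, f₁, hf₁, hne, he₁1, hf₁1⟩ : ∃ e ∈ E, ∃ f ∈ E, e ≠ f ∧ e ≠ 1 ∧ f ≠ 1 :=
    ⟨c, c.2, y, y.2, fun e => hyc (Subtype.ext e).symm, fun e => hc1 (Subtype.ext e), fun e => hy1 (Subtype.ext e)⟩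
  obtain ⟨g, hg⟩ := h.exists_conj_mem (h.commMul hf) htop (hl.mem e₁ he₁ he₁1).1 (hl.mem f₁ hf₁ hf₁1).1 hne
    (hx.comm e₁ he₁ f₁ hf₁) Q T' hidx ht.multi.1
  obtain ⟨w, hw, hwg⟩ := hg
  have h1 := hfus (g * u * g⁻¹) (hwg ▸ w.2) ⟨g, rfl⟩
  refine hoX ?_
  have h2 : π o = π w := (hπeq o w).2 (by rw [show (w : G) = g * u * g⁻¹ from hwg]; exact h1)
  rw [h2]
  exact hw

end Crit

end CfsgLib.AschCrit
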