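import Cfsg.Agent.Lib.Invol.AschCrit.ToolsDef
import Mathlib.GroupTheory.Transfer
import Mathlib.GroupTheory.IndexNormal
import Mathlib.GroupTheory.SpecificGroups.Cyclic

/-!
Owner: helper7. Aschbacher's criterion: the extremal form of Thompson's transfer lemma.

The transfer of `c` to `S / T0` is a product over cycles. Cycles of even length give one. A Sylow
2-subgroup of `C(c)` fixes no fixed coset with value in `T0`, so these are even in number, while all
fixed cosets are odd in number.
-/

set_option autoImplicit false
set_option linter.style.haveILetI false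

namespace CfsgLib.AschCrit

open Subgroup MulAction
open scoped IsMulCommutative

universe v

theorem extremalTransfer : ExtremalTransfer.{v} := by
  classical
  intro G _ _ S T0 _ hi c hcS heven hext
  haveI : Fact (Nat.Prime 2) := ⟨Nat.prime_two⟩
  haveI : (T0.subgroupOf (S : Subgroup G)).Normal := Subgroup.normal_of_index_eq_two hi
  have hcard : Nat.card ((S : Subgroup G) ⧸ T0.subgroupOf (S : Subgroup G)) = 2 := by
    rw [← index_eq_card]; exact hi
  let _ : CommGroup ((S : Subgroup G) ⧸ T0.subgroupOf (S : Subgroup G)) :=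
    haveI := isCyclic_of_prime_card hcard
    IsCyclic.commGroup
  set ϕ := QuotientGroup.mk' (T0.subgroupOf (S : Subgroup G))
  obtain ⟨c₀, hc, hcu⟩ : ∃ c₀ : (S : Subgroup G) ⧸ T0.subgroupOf (S : Subgroup G), c₀ ≠ 1 ∧
      ∀ d, d ≠ 1 → d = c₀ := by
    obtain ⟨a, b, hab, huniv⟩ := Nat.card_eq_two_iff.mp hcard
    have hall : ∀ d, d = a ∨ d = b := fun d => by
      have hd : d ∈ ({a, b} : Set _) := huniv ▸ Set.mem_univ d
      simpa using hd
    rcases hall 1 with h | h
    · exact ⟨b, fun h' => hab (h.symm.trans h'.symm),
        fun d hd => (hall d).resolve_left fun hda => hd (hda.trans h.symm)⟩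
    · exact ⟨a, fun h' => hab (h'.trans h),
        fun d hd => (hall d).resolve_right fun hdb => hd (hdb.trans h.symm)⟩
  have hc2 : c₀ ^ 2 = 1 := by
    have h := pow_card_eq_one' (x := c₀)
    rwa [hcard] at h
  obtain ⟨k, hk⟩ := IsPGroup.iff_orderOf.1 S.2 ⟨c, hcS⟩
  rw [Subgroup.orderOf_mk] at hk
  set X := G ⧸ (S : Subgroup G)
  haveI : Fintype X := Fintype.ofFinite X
  haveI : Fintype (Quotient (orbitRel (zpowers c) X)) := Fintype.ofFinite _
  set w : X → G := fun x => x.out⁻¹ * c * x.out with hw
  have hfix : ∀ x : X, c • x = x ↔ w x ∈ (S : Subgroup G) := by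
    intro x
    conv_lhs => rw [← QuotientGroup.out_eq' x, MulAction.Quotient.smul_mk, QuotientGroup.eq, smul_eq_mul]
    rw [← (S : Subgroup G).inv_mem_iff]
    simp [hw, mul_assoc]
  -- fixed cosets with value outside `T0`
  set good : Finset X := Finset.univ.filter (fun x => c • x = x ∧ w x ∉ T0) with hgood
  set bad : Finset X := Finset.univ.filter (fun x => c • x = x ∧ w x ∈ T0) with hbad
  -- the transfer
  have key : MonoidHom.transfer ϕ c = c₀ ^ good.card := by
    rw [MonoidHom.transfer_eq_prod_quotient_orbitRel_zpowers_quot]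
    set lgood : Finset (Quotient (orbitRel (zpowers c) X)) :=
      Finset.univ.filter (fun q => c • q.out = q.out ∧ w q.out ∉ T0) with hlgood
    have hval : ∀ q : Quotient (orbitRel (zpowers c) X),
        ϕ ⟨q.out.out⁻¹ * c ^ Function.minimalPeriod (c • ·) q.out * q.out.out,
          QuotientGroup.out_conj_pow_minimalPeriod_mem (S : Subgroup G) c q.out⟩ =
        if q ∈ lgood then c₀ else 1 := by
      intro q
      set l := Function.minimalPeriod (c • ·) q.out with hl
      have hdvd : l ∣ 2 ^ k := by
        refine Function.IsPeriodicPt.minimalPeriod_dvd ?_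
        show (c • ·)^[2 ^ k] q.out = q.out
        rw [smul_iterate_apply, ← hk, pow_orderOf_eq_one, one_smul]
      obtain ⟨j, -, hj⟩ := (Nat.dvd_prime_pow Nat.prime_two).1 hdvd
      have hmem := QuotientGroup.out_conj_pow_minimalPeriod_mem (S : Subgroup G) c q.out
      have hl1 : c • q.out = q.out ↔ l = 1 := by
        rw [hl, Function.minimalPeriod_eq_one_iff_isFixedPt]
        rfl
      rcases Nat.eq_zero_or_pos j with rfl | hj0
      · rw [pow_zero] at hj
        have hwS : w q.out ∈ (S : Subgroup G) := (hfix _).1 (hl1.2 hj)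
        have e : (⟨q.out.out⁻¹ * c ^ l * q.out.out, hmem⟩ : (S : Subgroup G)) = ⟨w q.out, hwS⟩ :=
          Subtype.ext (by simp [hj, hw])
        show ϕ ⟨q.out.out⁻¹ * c ^ l * q.out.out, hmem⟩ = _
        rw [e]
        by_cases hT : w q.out ∈ T0
        · rw [if_neg (by simp [hlgood, hT])]
          exact (QuotientGroup.eq_one_iff _).mpr (mem_subgroupOf.mpr hT)
        · rw [if_pos (by simp [hlgood, hT, hl1.2 hj])]
          exact hcu _ fun h1 => hT (mem_subgroupOf.mp ((QuotientGroup.eq_one_iff _).mp h1))
      · have hne : ¬ c • q.out = q.out := fun e => by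
          have := hl1.1 e
          rw [hj] at this
          exact (Nat.one_lt_two_pow (by omega)).ne' this
        rw [if_neg (by simp [hlgood, hne])]
        refine (QuotientGroup.eq_one_iff _).mpr (mem_subgroupOf.mpr ?_)
        show q.out.out⁻¹ * c ^ l * q.out.out ∈ T0
        have := heven l q.out.out⁻¹ (by rw [hj]; exact Nat.even_pow.2 ⟨even_two, by omega⟩)
          (by rw [inv_inv]; exact hmem)
        rwa [inv_inv] at this
    rw [Finset.prod_congr rfl (fun q _ => hval q), Finset.prod_ite, Finset.prod_const, Finset.prod_const_one,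
      mul_one, Finset.filter_mem_eq_inter, Finset.univ_inter]
    congr 1
    refine Finset.card_bij' (fun q _ => q.out) (fun x _ => Quotient.mk'' x) ?_ ?_ ?_ ?_
    · intro q hq
      simpa [hlgood, hgood] using hq
    · intro x hx
      simp only [hgood, Finset.mem_filter, Finset.mem_univ, true_and] at hx
      have he : (Quotient.mk'' x : Quotient (orbitRel (zpowers c) X)).out = x := by
        obtain ⟨⟨g, hg⟩, hge⟩ := Quotient.exact (Quotient.out_eq' (Quotient.mk'' x :
          Quotient (orbitRel (zpowers c) X)))
        obtain ⟨i, rfl⟩ := Subgroup.mem_zpowers_iff.1 hg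
        rw [← hge]
        exact MulAction.mem_stabilizer_iff.1 (zpow_mem (show c ∈ MulAction.stabilizer G x from hx.1) i)
      simp only [hlgood, Finset.mem_filter, Finset.mem_univ, true_and, he]
      exact hx
    · intro q _
      exact Quotient.out_eq' q
    · intro x hx
      simp only [hgood, Finset.mem_filter, Finset.mem_univ, true_and] at hx
      obtain ⟨⟨g, hg⟩, hge⟩ := Quotient.exact (Quotient.out_eq' (Quotient.mk'' x :
        Quotient (orbitRel (zpowers c) X)))
      obtain ⟨i, rfl⟩ := Subgroup.mem_zpowers_iff.1 hg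
      show (Quotient.mk'' x : Quotient (orbitRel (zpowers c) X)).out = x
      rw [← hge]
      exact MulAction.mem_stabilizer_iff.1 (zpow_mem (show c ∈ MulAction.stabilizer G x from hx.1) i)
  -- the fixed cosets are odd in number
  have hindex : ¬ 2 ∣ Nat.card X := S.not_dvd_index
  have hF : ¬ 2 ∣ Nat.card (fixedPoints (zpowers c) X) := fun h2 => hindex
    ((Nat.ModEq.dvd_iff (IsPGroup.card_modEq_card_fixedPoints (p := 2) (G := zpowers c)
      (IsPGroup.of_card (n := k) (by rw [Nat.card_zpowers, hk])) X) dvd_rfl).2 h2)
  have hFc : Nat.card (fixedPoints (zpowers c) X) = good.card + bad.card := by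
    rw [← Finset.card_union_of_disjoint (Finset.disjoint_left.2 fun x h1 h2 => by
        simp only [hgood, hbad, Finset.mem_filter] at h1 h2
        exact h1.2.2 h2.2.2),
      ← Nat.card_eq_finsetCard]
    refine Nat.card_congr (Equiv.subtypeEquivRight fun x => ?_)
    simp only [hgood, hbad, Finset.mem_union, Finset.mem_filter, Finset.mem_univ, true_and]
    constructor
    · intro hx
      have := hx ⟨c, mem_zpowers c⟩
      by_cases hT : w x ∈ T0
      exacts [Or.inr ⟨this, hT⟩, Or.inl ⟨this, hT⟩]
    · intro hx
      have hcx : c • x = x := hx.elim And.left And.left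
      rintro ⟨g, hg⟩
      obtain ⟨i, rfl⟩ := Subgroup.mem_zpowers_iff.1 hg
      exact MulAction.mem_stabilizer_iff.1 (zpow_mem (show c ∈ MulAction.stabilizer G x from hcx) i)
  -- a Sylow subgroup of the centraliser fixes none with value in `T0`
  obtain ⟨P⟩ : Nonempty (Sylow 2 (centralizer ({c} : Set G))) := inferInstance
  have hb : ∀ (g : centralizer ({c} : Set G)) (x : X), x ∈ bad → (g : G) • x ∈ bad := by
    intro g x hx
    simp only [hbad, Finset.mem_filter, Finset.mem_univ, true_and] at hx ⊢
    have hgc : Commute (g : G) c := mem_centralizer_singleton_iff.1 g.2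
    refine ⟨by rw [← mul_smul, ← hgc.eq, mul_smul, hx.1], ?_⟩
    -- the representatives differ by an element of `S`
    obtain ⟨s, hs⟩ : ∃ s ∈ (S : Subgroup G), ((g : G) • x).out = (g : G) * x.out * s := by
      refine ⟨((g : G) * x.out)⁻¹ * ((g : G) • x).out, ?_, by group⟩
      rw [← QuotientGroup.eq, QuotientGroup.out_eq']
      conv_rhs => rw [← QuotientGroup.out_eq' x, MulAction.Quotient.smul_mk]
      rfl
    obtain ⟨hsS, hs⟩ := hs
    have hwS := (hfix x).1 hx.1
    have hconj := (inferInstance : (T0.subgroupOf (S : Subgroup G)).Normal).conj_mem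
      ⟨w x, hwS⟩ (mem_subgroupOf.2 hx.2) ⟨s⁻¹, inv_mem hsS⟩
    rw [mem_subgroupOf] at hconj
    convert hconj using 1
    show ((g : G) • x).out⁻¹ * c * ((g : G) • x).out = s⁻¹ * w x * s⁻¹⁻¹
    rw [hs, hw]
    calc ((g : G) * x.out * s)⁻¹ * c * ((g : G) * x.out * s)
        = s⁻¹ * x.out⁻¹ * ((g : G)⁻¹ * (c * g)) * (x.out * s) := by group
      _ = _ := by rw [← hgc.eq, inv_mul_cancel_left]; group
  let Y : SubMulAction (P : Subgroup (centralizer ({c} : Set G))) X :=
    { carrier := {x | x ∈ bad}
      smul_mem' := fun g x hx => hb (g : centralizer ({c} : Set G)) x hx }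
  have hbad2 : 2 ∣ bad.card := by
    have hmod := IsPGroup.card_modEq_card_fixedPoints (p := 2) (G := (P : Subgroup (centralizer ({c} : Set G))))
      P.2 Y
    have hempty : IsEmpty (fixedPoints (P : Subgroup (centralizer ({c} : Set G))) Y) := by
      constructor
      rintro ⟨⟨x, hx⟩, hfx⟩
      have hx' : x ∈ bad := hx
      simp only [hbad, Finset.mem_filter, Finset.mem_univ, true_and] at hx'
      have hwS := (hfix x).1 hx'.1
      refine hext (w x) hwS ⟨x.out⁻¹, by simp [hw]⟩ (fun Q hQ hQw => ?_) hx'.2
      -- `x.out⁻¹ P x.out` lies in `S` and centralises `w x`, and is a largest 2-group there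
      have hcw : ∀ y : G, Commute y (w x) → x.out * y * x.out⁻¹ ∈ centralizer ({c} : Set G) := by
        intro y hy
        refine mem_centralizer_singleton_iff.2 ?_
        have := (Commute.conj_iff x.out).2 hy
        rwa [show x.out * w x * x.out⁻¹ = c by simp [hw, mul_assoc]] at this
      let f : Q →* centralizer ({c} : Set G) :=
        { toFun := fun y => ⟨x.out * y * x.out⁻¹, hcw y (hQw y y.2)⟩
          map_one' := Subtype.ext (by simp)
          map_mul' := fun y z => Subtype.ext (by simp [mul_assoc]) }
      have hfi : Function.Injective f := fun y z e => Subtype.ext (by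
        have := congrArg Subtype.val e
        exact mul_left_cancel (mul_right_cancel this))
      obtain ⟨R, hR⟩ := (IsPGroup.of_surjective hQ f.rangeRestrict
        f.rangeRestrict_surjective).exists_le_sylow
      have h1 : Nat.card Q ≤ Nat.card (P : Subgroup (centralizer ({c} : Set G))) := by
        rw [Nat.card_congr (Equiv.ofBijective f.rangeRestrict
          ⟨fun y z e => hfi (congrArg Subtype.val e), f.rangeRestrict_surjective⟩), P.card_eq_multiplicity,
          ← R.card_eq_multiplicity]
        exact card_le_of_le hR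
      refine h1.trans (Nat.card_le_card_of_injective (fun y : (P : Subgroup (centralizer ({c} : Set G))) =>
        (⟨x.out⁻¹ * ((y : centralizer ({c} : Set G)) : G) * x.out, ?_, ?_⟩ :
          {z : G // z ∈ (S : Subgroup G) ∧ Commute z (w x)})) fun y z e => ?_)
      · have := congrArg Subtype.val (hfx y)
        have h2 : ((y : centralizer ({c} : Set G)) : G) • x = x := this
        conv_lhs at h2 => rw [← QuotientGroup.out_eq' x, MulAction.Quotient.smul_mk, smul_eq_mul]
        have h3 : ((((y : centralizer ({c} : Set G)) : G) * x.out : G) : X) = ((x.out : G) : X) := by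
          rw [QuotientGroup.out_eq']; exact h2
        rw [mul_assoc]
        exact QuotientGroup.eq.1 h3.symm
      · have hy : Commute ((y : centralizer ({c} : Set G)) : G) c :=
          mem_centralizer_singleton_iff.1 (y : centralizer ({c} : Set G)).2
        have := (Commute.conj_iff x.out⁻¹).2 hy
        rw [inv_inv] at this
        exact this
      · have := congrArg Subtype.val e
        exact Subtype.ext (Subtype.ext (mul_left_cancel (mul_right_cancel this)))
    rw [Nat.card_eq_zero.2 (Or.inl hempty)] at hmod
    have hY : Nat.card Y = bad.card := by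
      rw [← Nat.card_eq_finsetCard]
      rfl
    rw [hY] at hmod
    exact Nat.modEq_zero_iff_dvd.1 hmod
  have hgood2 : ¬ 2 ∣ good.card := fun h2 => hF (hFc ▸ dvd_add h2 hbad2)
  have hTc : MonoidHom.transfer ϕ c ≠ 1 := by
    rw [key, ← Nat.div_add_mod good.card 2, show good.card % 2 = 1 by omega, pow_add, pow_mul, hc2,
      one_pow, one_mul, pow_one]
    exact hc
  refine ⟨(MonoidHom.transfer ϕ).ker, inferInstance, ?_⟩
  rw [index_ker]
  rcases (Nat.dvd_prime Nat.prime_two).mp
    (hcard ▸ card_subgroup_dvd_card (MonoidHom.transfer ϕ).range) with h | h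
  · exfalso
    have h' := card_eq_one.mp h
    rw [MonoidHom.range_eq_bot_iff] at h'
    exact hTc (by rw [h']; rfl)
  · exact h

end CfsgLib.AschCrit
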