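import Cfsg.Agent.Lib.Invol.AschCrit.Local
import Cfsg.Agent.Lib.Invol.AschCrit.AffineDef

/-!
Owner: helper11. Aschbacher's criterion, slice D: frames and the statements about them.
See `notes/aschbacher_proof_v3.md`, sections 0 and 1.
-/

set_option autoImplicit false

namespace CfsgLib.AschCrit

variable {G : Type*} [Group G] {Ω : Type*} [MulAction G Ω]

/-- A commutative group whose elements other than one are members at a point centralising `v`. -/
def MemGroup (D : Set G) (v : G) (a : Ω) (E : Subgroup G) : Prop :=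
  (∀ e ∈ E, e ≠ 1 → e ∈ memsC D v a) ∧ ∀ e ∈ E, ∀ f ∈ E, Commute e f

/-- The elements of the point stabiliser normalising `E` and the coset `u E`. -/
def cosetStab (u : G) (a : Ω) (E : Subgroup G) : Set G :=
  {g | g • a = a ∧ (∀ e ∈ E, g * e * g⁻¹ ∈ E ∧ g⁻¹ * e * g ∈ E) ∧ u⁻¹ * (g * u * g⁻¹) ∈ E}

/-- A multi with the largest `E` possible. -/
structure TopFrame (D : Set G) (u : G) (a b : Ω) (E : Subgroup G) (q i : ℕ) : Prop where
  multi : IsMulti Ω u
  data : LData D u a b E q i
  top : ∀ (v : G) (x : Ω) (F : Subgroup G), IsMulti Ω v → v • x = x → MemGroup D v x F → Nat.card F ≤ q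

/-- The elements fixing `a` and `b` that centralise `u` and `E`. -/
def fixGrp (u : G) (a b : Ω) (E : Subgroup G) : Subgroup G :=
  MulAction.stabilizer G a ⊓ MulAction.stabilizer G b ⊓ Subgroup.centralizer (insert u (E : Set G))

/-- A multi with the largest `E` possible and, among those, the largest 2-part of `fixGrp`. -/
structure Frame (D : Set G) (u : G) (a b : Ω) (E : Subgroup G) (q i : ℕ) : Prop
    extends TopFrame D u a b E q i where
  big : ∀ (v : G) (x y : Ω) (F : Subgroup G) (j : ℕ), TopFrame D v x y F q j →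
    2 ^ padicValNat 2 (Nat.card (fixGrp v x y F)) ≤ 2 ^ padicValNat 2 (Nat.card (fixGrp u a b E))

/-- The largest member group bounds the others and can be moved anywhere (consequence of `LData.maximal`). -/
def MemGroupLe (Ω : Type*) [MulAction G Ω] (D : Set G) : Prop :=
  ∀ (v : G) (a b : Ω) (E : Subgroup G) (q i : ℕ), LData D v a b E q i → ∀ F : Subgroup G, MemGroup D v a F →
    Nat.card F ≤ q ∧ (Nat.card F = q → ∃ b' : Ω, LData D v a b' F q i)

/-- Unless every multi is of rank one there is a frame. -/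
def FramesExist (Ω : Type*) [MulAction G Ω] (D : Set G) : Prop :=
  (∃ (u : G) (a : Ω), IsMulti Ω u ∧ u • a = a ∧ ¬ RankOneAt D u a) →
    ∃ (u : G) (a b : Ω) (E : Subgroup G) (q i : ℕ), Frame D u a b E q i

/-- The coset `u E` is one class, and each member centralising `u` gives a conjugate of `u`. -/
def CosetClass (Ω : Type*) [MulAction G Ω] (D : Set G) : Prop :=
  ∀ (u : G) (a b : Ω) (E : Subgroup G) (q i : ℕ), TopFrame D u a b E q i →
    (∀ e ∈ E, ∃ g ∈ cosetStab u a E, g * u * g⁻¹ = u * e) ∧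
    ∀ d ∈ D, Commute d u → ∃ g : G, g * u * g⁻¹ = u * d

/-- The points of the swappers of `a`, `b` commuting with `v`. -/
def swapPoints (D : Set G) (v : G) (a b : Ω) : Set Ω :=
  {x | ∃ s, s ∈ D ∧ s • a = b ∧ Commute s v ∧ s • x = x}

/-- The counting formula: `g` is the number of points of swappers, `c` the fibre of `u`. -/
def Formula (Ω : Type*) [MulAction G Ω] (D : Set G) : Prop :=
  ∀ (u : G) (a b : Ω) (E : Subgroup G) (q i : ℕ), TopFrame D u a b E q i →
    ∀ t ∈ D, Commute t u → t • a = b →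
      ∃ g r c c' : ℕ, g = Nat.card (swapPoints D (u * t) a b) ∧ r * c' = c ∧ Odd g ∧ Odd r ∧
        r ≤ g ∧ g ≤ q ^ i + 1 ∧
        Nat.card (memsC D u a) = (q - 1) * c ∧
        Nat.card (mems D a) = (q - 1) * c * (g * c') ∧
        g * (Nat.card Ω - 1) = q ^ i * (g + (q ^ i + 1) * (q - 1) * r) ∧
        (g = r ↔ ∀ x ∈ mems D a, ¬ 4 ∣ orderOf (u * x))

/-- The translations of `u E`. -/
def Translations (Ω : Type*) [MulAction G Ω] (D : Set G) : Prop :=
  ∀ (u : G) (a b : Ω) (E : Subgroup G) (q i : ℕ), TopFrame D u a b E q i → q ≠ 8 →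
    ∀ w ∈ E, ∃ g : G, g • a = a ∧ (∀ e ∈ E, Commute g e) ∧ g * u * g⁻¹ = u * w

/-- The 2-elements of the centraliser of `u` and `E` are transitive on the other fixed points. -/
def UnipTrans (Ω : Type*) [MulAction G Ω] (D : Set G) : Prop :=
  ∀ (u : G) (a b : Ω) (E : Subgroup G) (q i : ℕ), TopFrame D u a b E q i →
    ∃ Q : Subgroup G, IsPGroup 2 Q ∧ E ≤ Q ∧ (∀ g ∈ Q, g • a = a ∧ Commute g u ∧ ∀ e ∈ E, Commute g e) ∧
      ∀ x : Ω, u • x = x → x ≠ a → ∃ g ∈ Q, g • b = x

/-- A 2-group centralising `E` has on the other points only orbits of length at least its order over the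
2-part of `fixGrp`: its point stabilisers are small. -/
def OrbitBound (Ω : Type*) [MulAction G Ω] (D : Set G) : Prop :=
  ∀ (u : G) (a b : Ω) (E : Subgroup G) (q i : ℕ), Frame D u a b E q i →
    ∀ (K : Subgroup G), IsPGroup 2 K → (∀ g ∈ K, g • a = a ∧ ∀ e ∈ E, Commute g e) →
      (∀ p : Ω, p ≠ a → Nat.card (MulAction.stabilizer K p) ≤ 2 ^ padicValNat 2 (Nat.card (fixGrp u a b E))) ∧
        Nat.card K ∣ (Nat.card Ω - 1) * 2 ^ padicValNat 2 (Nat.card (fixGrp u a b E))

/-- The divisibility from translations. -/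
def OrbitDvd (Ω : Type*) [MulAction G Ω] (D : Set G) : Prop :=
  ∀ (u : G) (a b : Ω) (E : Subgroup G) (q i : ℕ), Frame D u a b E q i → q ≠ 8 →
    q ^ (i + 1) ∣ Nat.card Ω - 1

end CfsgLib.AschCrit
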