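import Cfsg.Agent.Lib.Invol.AschCrit.Open
import Cfsg.Agent.Lib.Invol.AschCrit.Exception
import Cfsg.Agent.Lib.Invol.AschCrit.Pairing.Proof
import Cfsg.Agent.Lib.Invol.AschCrit.EndTwo.Main
import Cfsg.Agent.Lib.Invol.AschCrit.EndThree.Main
import Cfsg.Agent.Lib.Invol.AschCrit.Kernel.Main

/-!
Owner: helper27. Aschbacher's criterion: the main statement.
-/

set_option autoImplicit false

namespace CfsgLib.AschCrit

universe u

/-- Aschbacher's criterion. -/
theorem mainProved : Main.{u} := by
  refine main_of_open fun G _ _ Ω _ D hc hf htop IH hp => ?_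
  have hnp := hc.noPairing hf IH
  refine ⟨hc.noException hf htop IH, hnp, fun hmx => ⟨?_, ?_⟩⟩
  · exact hc.endGame_two hf htop IH hp.dichotomy hp.formula hp.orbitBound hp.suzukiBound hp.torusCent
      hyperplaneProduct extremalTransfer
      (fun u a b E q ht t htD htu hta => hc.suzukiSwap hf IH hp.cosetClass ht htD htu hta)
      hp.unitaryPrimes hmx hnp translationsOrEight
  · exact hc.endGameThree hf IH htop hp.formula hp.orbitBound hp.unitaryPrimes
      (hc.unitaryKernel hf IH hp.formula hp.orbitBound)

end CfsgLib.AschCrit
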