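import Cfsg.Agent.Lib.Invol.AschCrit.ModelQ

/-!
Owner: helper18. Aschbacher's criterion, slice E: the translations on `Q` in unitary type.

* `Crit.exists_zeta_Q`: the element free on `Q / E` normalising `Q`.
* `Crit.norm_Q_three`, `Crit.comm_E_three`: `P` normalises `Q` and fixes `Q / E`.
* `Crit.exists_zeta_P`: such an element normalising `P`; `Crit.cover_three`: `C_P(Q)` covers `P / P0`.
-/

set_option autoImplicit false
set_option linter.unusedSectionVars false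

namespace CfsgLib.AschCrit

open Subgroup MulAction CfsgLib.Lie.RankOne CfsgLib.Lie.RankOneClass

universe u

variable {G : Type u} [Group G] {Ω : Type u} [MulAction G Ω]

/-- An element of odd order free on `Q / E`. -/
structure ZetaOn (u : G) (a b : Ω) (E R Q : Subgroup G) (z : G) : Prop where
  odd : Odd (orderOf z)
  fix : z • a = a ∧ z • b = b
  comm_u : Commute z u
  comm_R : ∀ r ∈ R, Commute z r
  comm_E : ∀ e ∈ E, Commute z e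
  norm_Q : ∀ y ∈ Q, z * y * z⁻¹ ∈ Q
  free : ∀ y ∈ Q, z * y * z⁻¹ * y⁻¹ ∈ E → y ∈ E

variable [Finite G]

namespace ModelSyl

variable {D : Set G} {u : G} {a b : Ω} {E : Subgroup G} {q i : ℕ} {R P0 Q P : Subgroup G}

theorem Q_cGrp (M : ModelSyl D u a b E q i R P0 Q P) {y : G} (hy : y ∈ Q) : y ∈ cGrp D u := ((M.Q_mem y).1 hy).2

/-- A 2-subgroup of `centSub` moves into `P0`. -/
theorem sylow_P0 (M : ModelSyl D u a b E q i R P0 Q P) {K : Subgroup G} (hK : IsPGroup 2 K)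
    (hKc : K ≤ centSub u a E) : ∃ g ∈ centSub u a E, ∀ k ∈ K, g * k * g⁻¹ ∈ P0 := by
  obtain ⟨P1, hP1p, hle, hP1F, -, hmax⟩ := exists_max_two M.two M.sub
  rw [← Subgroup.eq_of_le_of_card_ge hle (M.sylow P1 hP1p hP1F)] at hmax
  exact hmax K hK hKc

/-- An invariant subgroup of `P` over `P0` with an element outside `P0` is all of `P`. -/
theorem top_of_shift (M : ModelSyl D u a b E q i R P0 Q P) {η : G} (T : ModelTorus u a b E R P η) {K : Subgroup G}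
    (hKP : K ≤ P) (hP0 : P0 ≤ K) (hη : ∀ x ∈ K, η * x * η⁻¹ ∈ K) {g e : G} (hg : g ∈ K)
    (hge : g * u * g⁻¹ = u * e) (he1 : e ≠ 1) : P ≤ K := by
  intro x hx
  obtain ⟨f, hf, hxf⟩ := M.exists_shift hx
  rcases eq_or_ne f 1 with hf1 | hf1
  · exact hP0 ((M.shift_one hx hxf).1 hf1)
  obtain ⟨e', he', hge'⟩ := M.exists_shift (hKP hg)
  rw [mul_left_cancel (hge'.symm.trans hge)] at he'
  obtain ⟨j, hj⟩ := T.trans e he' f hf he1 hf1
  have hgj : ∀ n : ℕ, η ^ n * g * (η ^ n)⁻¹ ∈ K := fun n => by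
    induction n with
    | zero => simpa using hg
    | succ n ih =>
      rw [pow_succ', show η * η ^ n * g * (η * η ^ n)⁻¹ = η * (η ^ n * g * (η ^ n)⁻¹) * η⁻¹ by group]
      exact hη _ ih
  set g' := η ^ j * g * (η ^ j)⁻¹ with hg'
  have hg'u : g' * u * g'⁻¹ = u * f := by
    have hcu : Commute (η ^ j) u := T.comm_u.pow_left j
    calc g' * u * g'⁻¹ = η ^ j * g * ((η ^ j)⁻¹ * u * η ^ j) * g⁻¹ * (η ^ j)⁻¹ := by rw [hg']; group
      _ = η ^ j * (g * u * g⁻¹) * (η ^ j)⁻¹ := by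
        rw [show (η ^ j)⁻¹ * u * η ^ j = u by rw [mul_assoc, ← hcu.eq, inv_mul_cancel_left]]; group
      _ = η ^ j * u * ((η ^ j)⁻¹ * (η ^ j * e * (η ^ j)⁻¹)) := by rw [hge]; group
      _ = u * f := by rw [hcu.eq, hj]; group
  have h1 : g'⁻¹ * x ∈ P0 := by
    refine (M.mem_P0 _).2 ⟨mul_mem (inv_mem (hKP (hgj j))) hx, mul_inv_eq_iff_eq_mul.1 ?_⟩
    rw [show g'⁻¹ * x * u * (g'⁻¹ * x)⁻¹ = g'⁻¹ * (x * u * x⁻¹) * g' by group, hxf, ← hg'u]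
    group
  have h3 := mul_mem (hgj j) (hP0 h1)
  rwa [← hg', mul_inv_cancel_left] at h3

/-- An invariant subgroup between `E` and `Q` has order `q`, `q²` or `q³`. -/
theorem card_invariant (M : ModelSyl D u a b E q i R P0 Q P) (hl : LData D u a b E q i) (hi : i = 3)
    (hE2 : ∀ e ∈ E, e * e = 1) {η : G} (T : ModelTorus u a b E R P η) {S : Subgroup G} (hES : E ≤ S) (hSQ : S ≤ Q)
    (hS : ∀ v ∈ S, η * v * η⁻¹ ∈ S) : Nat.card S = q ∨ Nat.card S = q ^ 2 ∨ Nat.card S = q ^ 3 := by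
  obtain ⟨s, hs2, hs⟩ := hl.pow
  have hdvd := card_section_dvd hES (fun v hv => M.Q_sq v (hSQ hv)) (fun v hv => M.Q_sq_one v (hSQ hv))
    (fun v hv e he => M.comm_E (M.Q_P (hSQ hv)) he) hE2 hS T.norm_E T.trans
  have hd1 : Nat.card E ∣ Nat.card S := Subgroup.card_dvd_of_le hES
  have hd2 : Nat.card S ∣ Nat.card Q := Subgroup.card_dvd_of_le hSQ
  rw [M.Q_card, hi, hs, ← pow_mul] at hd2
  rw [hl.card_E, hs] at hd1 hdvd
  obtain ⟨k, hk, hk'⟩ := (Nat.dvd_prime_pow Nat.prime_two).1 hd2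
  rw [hk'] at hd1 hdvd ⊢
  have hsk : s ≤ k := (Nat.pow_dvd_pow_iff_le_right (by norm_num : 1 < 2)).1 hd1
  rw [Nat.pow_div hsk two_pos] at hdvd
  obtain ⟨c, hc⟩ := eq_mul_of_two_pow_dvd (by omega : 1 ≤ s) hdvd
  rw [hs, ← pow_mul, ← pow_mul]
  have hk3 : k = s * (1 + c) := by rw [mul_add, mul_one, ← hc]; omega
  have hc3 : c ≤ 2 := by
    by_contra h
    push Not at h
    have : s * (1 + 3) ≤ s * (1 + c) := Nat.mul_le_mul_left s (by omega)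
    omega
  interval_cases c <;> simp only [hk3] <;> ring_nf <;> simp

/-- A larger invariant subgroup of `Q / V` fixed modulo `V`. -/
theorem exists_fixed_mod (M : ModelSyl D u a b E q i R P0 Q P) (hnorm : ∀ x ∈ P, ∀ y ∈ Q, x * y * x⁻¹ ∈ Q)
    {V : Subgroup G} (hEV : E ≤ V) (hVQ : V ≤ Q) (hV : ∀ x ∈ P, ∀ v ∈ V, x * v * x⁻¹ ∈ V)
    (hlt : Nat.card V < Nat.card Q) : ∃ v ∈ Q, v ∉ V ∧ ∀ x ∈ P, x * v * x⁻¹ * v⁻¹ ∈ V := by
  classical
  haveI := Fact.mk Nat.prime_two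
  set VQ : Subgroup Q := V.subgroupOf Q with hVQd
  let act : P → Q → Q := fun x v => ⟨(x : G) * v * (x : G)⁻¹, hnorm x x.2 v v.2⟩
  letI : MulAction P (Q ⧸ VQ) :=
    { smul := fun x => Quotient.map' (act x) fun v w hvw => by
        rw [QuotientGroup.leftRel_apply] at hvw ⊢
        rw [hVQd, Subgroup.mem_subgroupOf] at hvw ⊢
        have h1 := hV x x.2 _ hvw
        convert h1 using 1
        show ((x : G) * v * (x : G)⁻¹)⁻¹ * ((x : G) * w * (x : G)⁻¹) = (x : G) * ((v : G)⁻¹ * w) * (x : G)⁻¹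
        group
      one_smul := fun c => Quotient.inductionOn' c fun v => congrArg QuotientGroup.mk
        (Subtype.ext (show (1 : G) * v * (1 : G)⁻¹ = v by group))
      mul_smul := fun s t c => Quotient.inductionOn' c fun v => congrArg QuotientGroup.mk
        (Subtype.ext (show ((s : G) * t) * v * ((s : G) * t)⁻¹ = (s : G) * ((t : G) * v * (t : G)⁻¹) * (s : G)⁻¹ by
          group)) }
  have hfix : ((1 : Q) : Q ⧸ VQ) ∈ MulAction.fixedPoints P (Q ⧸ VQ) := fun x =>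
    congrArg QuotientGroup.mk (Subtype.ext (show (x : G) * 1 * (x : G)⁻¹ = 1 by group))
  have hdvd : 2 ∣ Nat.card (Q ⧸ VQ) := by
    obtain ⟨n, hn⟩ := ((M.two.to_le (fun y hy => M.Q_P0 hy)).index VQ)
    rw [← Subgroup.index_eq_card, hn]
    rcases n with _ | n
    · exfalso
      have h1 := Subgroup.card_mul_index VQ
      rw [hn, pow_zero, mul_one, Nat.card_congr (Subgroup.subgroupOfEquivOfLe hVQ).toEquiv] at h1
      omega
    · exact dvd_pow_self 2 n.succ_ne_zero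
  obtain ⟨c, hc, hcne⟩ := M.P_two.exists_fixed_point_of_prime_dvd_card_of_fixed_point _ hdvd hfix
  obtain ⟨v, rfl⟩ := QuotientGroup.mk_surjective c
  refine ⟨v, v.2, fun hv => hcne (QuotientGroup.eq.2 ?_), fun x hx => ?_⟩
  · rw [inv_one, one_mul, hVQd, Subgroup.mem_subgroupOf]; exact hv
  · have h1 : ((act ⟨x, hx⟩ v)⁻¹ * v : Q) ∈ VQ := QuotientGroup.eq.1 (hc ⟨x, hx⟩)
    rw [hVQd, Subgroup.mem_subgroupOf] at h1
    have h1' : (x * (v : G) * x⁻¹)⁻¹ * v ∈ V := h1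
    set c₀ := (x * (v : G) * x⁻¹)⁻¹ * v with hc₀
    have hcQ : c₀ ∈ Q := hVQ h1'
    have hwQ : x * (v : G) * x⁻¹ ∈ Q := hnorm x hx v v.2
    have h3 : x * (v : G) * x⁻¹ * (v : G)⁻¹ =
        (x * (v : G) * x⁻¹ * c₀⁻¹ * (x * (v : G) * x⁻¹)⁻¹ * c₀⁻¹⁻¹) * c₀⁻¹ := by
      rw [hc₀]; group
    rw [h3]
    exact mul_mem (hEV (M.QQ _ hwQ _ (inv_mem hcQ))) (inv_mem h1')

end ModelSyl

namespace Crit

variable {D : Set G} (h : Crit Ω D)
include h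

/-- The element free on `Q / E` normalising `Q`. -/
theorem exists_zeta_Q (hf : Faithful G Ω) (IH : Below.{u, u} (Nat.card G)) {u : G} {a b : Ω} {E : Subgroup G}
    {q : ℕ} (ht : TopFrame D u a b E q 3) {R P0 Q P : Subgroup G} (M : ModelSyl D u a b E q 3 R P0 Q P) :
    ∃ z : G, ZetaOn u a b E R Q z := by
  classical
  haveI := Fact.mk Nat.prime_two
  haveI := h.finite_points
  haveI : FaithfulSMul (cImage Ω D u) (MulAction.fixedBy Ω u) :=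
    faithfulSMul_iff.2 fun g hg => Subtype.ext (Equiv.ext hg)
  have hl := ht.data
  have hu := ht.multi
  obtain ⟨U, hB⟩ := h.bend hf IH hu hl
  haveI := hB.simple
  set a' := fixPt hl.fix_a with ha'
  set b' := fixPt hl.fix_b with hb'
  set π := cProj Ω D u with hπ
  obtain ⟨t₀, ht₀, ht₀a, ht₀c⟩ := h.exists_swapper_centralised hl.ne _
    (isPGroup_sup_involution (IsPGroup.of_bot (p := 2) (G := G)) hu.1
      (fun g hg => by rw [Subgroup.mem_bot.1 hg]; exact Commute.one_left u))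
    (fix_sup (fun g hg => by rw [Subgroup.mem_bot.1 hg]; exact ⟨one_smul _ _, one_smul _ _⟩) hl.fix_a hl.fix_b)
  set t : cGrp D u := ⟨t₀, mem_cGrp ht₀ (ht₀c u (mem_sup_right (mem_zpowers u))).symm⟩ with htd
  have hta : π t • a' = b' := Subtype.ext ht₀a
  have hS := hB.setup (π t) ((h.cImage_crit hu).sq (h.cProj_mem (d := t) ht₀))
    (by rw [hta]; exact fun e => hl.ne (congrArg Subtype.val e).symm)
  have hRm : ∀ {r}, r ∈ R → r • a = a ∧ Commute r u ∧ ∀ e ∈ E, Commute r e := fun hr =>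
    mem_centSub.1 (M.sub (M.R_le hr))
  obtain ⟨z₀, hz₀odd, hz₀a, hz₀b, hz₀c, hz₀u, hz₀R, hz₀E, hz₀free⟩ := h.exists_zeta hf IH hu hl R
    (M.two.to_le M.R_le) (fun g hg => (hRm hg).2.1) (fun g hg => (hRm hg).2.2) M.R_fix
  have hz₀cs : z₀ ∈ centSub u a E := mem_centSub.2 ⟨hz₀a, hz₀u, hz₀E⟩
  -- the preimage of `U`
  set N1 : Subgroup G := centSub u a E ⊓ (U.comap π).map (cGrp D u).subtype with hN1
  have hmemN1 : ∀ {g}, g ∈ centSub u a E → g ∈ cGrp D u → (∃ n : ℕ, g ^ 2 ^ n = 1) → g ∈ N1 := by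
    rintro g hg hgc ⟨n, hn⟩
    refine ⟨hg, ⟨g, hgc⟩, ?_, rfl⟩
    show π ⟨g, hgc⟩ ∈ U
    refine CfsgLib.RankOneInter.TIAuto.mem_Q_of_two_power hS (Subtype.ext (mem_centSub.1 hg).1) (n := n) ?_
    rw [← map_pow, show (⟨g, hgc⟩ : cGrp D u) ^ 2 ^ n = 1 from Subtype.ext hn, map_one]
  have hQp : IsPGroup 2 Q := M.two.to_le fun y hy => M.Q_P0 hy
  have hQ2 : ∀ {y}, y ∈ Q → ∃ n : ℕ, y ^ 2 ^ n = 1 := fun {y} hy => by
    obtain ⟨n, hn⟩ := hQp ⟨y, hy⟩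
    exact ⟨n, congrArg Subtype.val hn⟩
  have hQN : Q ≤ N1 := fun y hy => hmemN1 (M.sub (M.Q_P0 hy)) (M.Q_cGrp hy) (hQ2 hy)
  have hzQ : ∀ y ∈ Q, z₀ * y * z₀⁻¹ ∈ N1 := fun y hy => by
    obtain ⟨n, hn⟩ := hQ2 hy
    exact hmemN1 (mul_mem (mul_mem hz₀cs (M.sub (M.Q_P0 hy))) (inv_mem hz₀cs))
      (conj_mem_cGrp h hz₀u (M.Q_cGrp hy)) ⟨n, by rw [conj_pow, hn, mul_one, mul_inv_cancel]⟩
  have hN1c : ∀ {g}, g ∈ N1 → g ∈ cGrp D u := fun hg => Subgroup.map_subtype_le _ hg.2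
  obtain ⟨S1, hS1p, hQS1, hS1N, -, hS1max⟩ := exists_max_two hQp hQN
  have hS1Q : Q = S1 := by
    obtain ⟨g, hg, hgS⟩ := M.sylow_P0 hS1p (fun x hx => (hS1N hx).1)
    refine Subgroup.eq_of_le_of_card_ge hQS1 ?_
    refine Nat.card_le_card_of_injective (fun s : S1 => (⟨g * s * g⁻¹, (M.Q_mem _).2 ⟨hgS s s.2,
      conj_mem_cGrp h (mem_centSub.1 hg).2.1 (hN1c (hS1N s.2))⟩⟩ : Q))
      fun s s' e => Subtype.ext ((MulAut.conj g).injective (congrArg Subtype.val e :))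
  obtain ⟨k, hk, hkQ⟩ := hS1max (Q.map (MulAut.conj z₀).toMonoidHom) (hQp.map _)
    (by rintro _ ⟨y, hy, rfl⟩; exact hzQ y hy)
  -- move `k` to the two-point stabiliser
  have hku : Commute k u := (mem_centSub.1 hk.1).2.1
  have hub : u • (k • b) = k • b := by rw [← mul_smul, ← hku.eq, mul_smul, hl.fix_b]
  obtain ⟨y₀, hy₀, hy₀b⟩ := M.Q_trans _ hub
    (fun e => hl.ne (smul_left_cancel k (e.trans (mem_centSub.1 hk.1).1.symm)).symm)
  set k₁ := y₀⁻¹ * k with hk₁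
  have hk₁N : k₁ ∈ N1 := mul_mem (inv_mem (hQN hy₀)) hk
  have hk₁b : k₁ • b = b := by rw [hk₁, mul_smul, ← hy₀b, inv_smul_smul]
  have hk₁fix : ∀ p : Ω, u • p = p → k₁ • p = p := by
    obtain ⟨w, hw, hwk⟩ := hk₁N.2
    have hwk' : (w : G) = k₁ := hwk
    have h1 : π w = 1 := by
      refine eq_one_of_fix_ta hS (show π w ∈ U from hw) ?_
      rw [hta]
      exact Subtype.ext (show (w : G) • b = b by rw [hwk']; exact hk₁b)
    intro p hp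
    rw [← hwk']
    exact (cProj_eq_one_iff w).1 h1 p hp
  set z₁ := k₁ * z₀ with hz₁
  have hnorm1 : ∀ y ∈ Q, z₁ * y * z₁⁻¹ ∈ Q := fun y hy => by
    have h1 := hkQ _ ⟨y, hy, rfl⟩
    rw [← hS1Q] at h1
    have h3 := mul_mem (mul_mem (inv_mem hy₀) h1) hy₀
    convert h3 using 1
    simp [hz₁, hk₁, mul_assoc]
  -- a point fixed by `R` in the coset
  set KE : Subgroup G := kerGrp Ω D u ⊓ centSub u a E with hKE
  have hk₁K : k₁ ∈ KE := by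
    refine ⟨mem_kerGrp.2 ⟨hN1c hk₁N, Subtype.ext (Equiv.ext fun p => Subtype.ext ?_)⟩, hk₁N.1⟩
    exact hk₁fix p p.2
  let NK : Subgroup G :=
    { carrier := {s | s ∈ KE ∧ ∀ y ∈ Q, s * y * s⁻¹ ∈ Q}
      one_mem' := ⟨one_mem _, fun y hy => by simpa using hy⟩
      mul_mem' := fun {s s'} hs hs' => ⟨mul_mem hs.1 hs'.1, fun y hy => by
        rw [show s * s' * y * (s * s')⁻¹ = s * (s' * y * s'⁻¹) * s⁻¹ by group]
        exact hs.2 _ (hs'.2 y hy)⟩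
      inv_mem' := fun {s} hs => ⟨inv_mem hs.1, fun y hy => by
        obtain ⟨y', hy', hye⟩ := exists_conj_preimage hs.2 hy
        rw [← hye, show s⁻¹ * (s * y' * s⁻¹) * s⁻¹⁻¹ = y' by group]
        exact hy'⟩ }
  have hRQ : ∀ {r y}, r ∈ R → y ∈ Q → r * y * r⁻¹ = y := fun hr hy => by
    rw [← (M.Q_commute hr hy).eq, mul_inv_cancel_right]
  have hcNK : ∀ {r}, r ∈ R → r * z₁ * r⁻¹ * z₁⁻¹ ∈ NK := by
    intro r hr
    have he : r * z₁ * r⁻¹ * z₁⁻¹ = (r * k₁ * r⁻¹) * k₁⁻¹ := by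
      rw [hz₁, show r * (k₁ * z₀) * r⁻¹ * (k₁ * z₀)⁻¹ = r * k₁ * (z₀ * r⁻¹) * z₀⁻¹ * k₁⁻¹ by group,
        (hz₀R r hr).inv_right.eq]
      group
    have hk₁1 : k₁ ∈ kerGrp Ω D u := hk₁K.1
    have hk₁2 : k₁ ∈ centSub u a E := hk₁K.2
    have hrc : r ∈ centSub u a E := M.sub (M.R_le hr)
    refine ⟨he ▸ mul_mem (Subgroup.mem_inf.2 ⟨h.conj_mem_kerGrp (hRm hr).2.1 hk₁1,
      mul_mem (mul_mem hrc hk₁2) (inv_mem hrc)⟩) (inv_mem hk₁K), fun y hy => ?_⟩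
    obtain ⟨w, hw, rfl⟩ := exists_conj_preimage hnorm1 hy
    rw [show r * z₁ * r⁻¹ * z₁⁻¹ * (z₁ * w * z₁⁻¹) * (r * z₁ * r⁻¹ * z₁⁻¹)⁻¹ =
      r * (z₁ * (r⁻¹ * w * r⁻¹⁻¹) * z₁⁻¹) * r⁻¹ by group, hRQ (inv_mem hr) hw, hRQ hr (hnorm1 w hw)]
    exact hnorm1 w hw
  have hRNK : ∀ {r s}, r ∈ R → s ∈ NK → r * s * r⁻¹ ∈ NK := fun {r s} hr hs =>
    ⟨Subgroup.mem_inf.2 ⟨h.conj_mem_kerGrp (hRm hr).2.1 (Subgroup.mem_inf.1 hs.1).1,
      mul_mem (mul_mem (M.sub (M.R_le hr)) (Subgroup.mem_inf.1 hs.1).2) (inv_mem (M.sub (M.R_le hr)))⟩,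
      fun y hy => by
      rw [show r * s * r⁻¹ * y * (r * s * r⁻¹)⁻¹ = r * (s * (r⁻¹ * y * r⁻¹⁻¹) * s⁻¹) * r⁻¹ by group,
        hRQ (inv_mem hr) hy, hRQ hr (hs.2 y hy)]
      exact hs.2 y hy⟩
  obtain ⟨s, hs, hsR⟩ : ∃ s ∈ NK, ∀ r ∈ R, Commute (s * z₁) r := by
    letI : MulAction R NK :=
      { smul := fun r s => ⟨(r : G) * s * (r : G)⁻¹ * ((r : G) * z₁ * (r : G)⁻¹ * z₁⁻¹),
          mul_mem (hRNK r.2 s.2) (hcNK r.2)⟩
        one_smul := fun s => Subtype.ext (by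
          show (1 : G) * s * (1 : G)⁻¹ * ((1 : G) * z₁ * (1 : G)⁻¹ * z₁⁻¹) = s
          group)
        mul_smul := fun r r' s => Subtype.ext (by
          show ((r : G) * r') * s * ((r : G) * r')⁻¹ * (((r : G) * r') * z₁ * ((r : G) * r')⁻¹ * z₁⁻¹) =
            (r : G) * ((r' : G) * s * (r' : G)⁻¹ * ((r' : G) * z₁ * (r' : G)⁻¹ * z₁⁻¹)) * (r : G)⁻¹ *
              ((r : G) * z₁ * (r : G)⁻¹ * z₁⁻¹)
          group) }
    have hodd : Odd (Nat.card NK) := (h.odd_kerGrp hf IH hu hl).of_dvd_nat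
      (Subgroup.card_dvd_of_le fun x hx => (show x ∈ KE from hx.1).1)
    obtain ⟨s, hs⟩ := (M.two.to_le M.R_le).nonempty_fixed_point_of_prime_not_dvd_card NK
      (Nat.two_dvd_ne_zero.mpr (Nat.odd_iff.mp hodd))
    refine ⟨s, s.2, fun r hr => ?_⟩
    have h1 : r * (s : G) * r⁻¹ * (r * z₁ * r⁻¹ * z₁⁻¹) = s := congrArg Subtype.val (hs ⟨r, hr⟩)
    show (s : G) * z₁ * r = r * ((s : G) * z₁)
    conv_lhs => rw [← h1]
    group
  set z₂ := s * z₁ with hz₂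
  have hsfix : ∀ p : Ω, u • p = p → s • p = p := fun p hp => by
    obtain ⟨hsc, hse⟩ := mem_kerGrp.1 hs.1.1
    exact (cProj_eq_one_iff (⟨s, hsc⟩ : cGrp D u)).1 hse p hp
  have hz₁u : Commute z₁ u := (mem_centSub.1 hk₁N.1).2.1.mul_left hz₀u
  have hz₂cs : z₂ ∈ centSub u a E := mul_mem hs.1.2 (mul_mem hk₁N.1 hz₀cs)
  have hz₂u : Commute z₂ u := (mem_centSub.1 hz₂cs).2.1
  have hz₀pres : ∀ {p : Ω}, u • p = p → u • (z₀ • p) = z₀ • p := fun hp => by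
    rw [← mul_smul, ← hz₀u.eq, mul_smul, hp]
  have hact : ∀ p : Ω, u • p = p → z₂ • p = z₀ • p := fun p hp => by
    rw [hz₂, hz₁, mul_smul, mul_smul, hk₁fix _ (hz₀pres hp), hsfix _ (hz₀pres hp)]
  have hactn : ∀ (n : ℕ) (p : Ω), u • p = p → z₂ ^ n • p = z₀ ^ n • p := by
    intro n
    induction n with
    | zero => intro p _; simp
    | succ n ih =>
      intro p hp
      rw [pow_succ, pow_succ, mul_smul (z₂ ^ n) z₂, mul_smul (z₀ ^ n) z₀, hact p hp, ih _ (hz₀pres hp)]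
  have hnorm2 : ∀ (n : ℕ), ∀ y ∈ Q, z₂ ^ n * y * (z₂ ^ n)⁻¹ ∈ Q := by
    intro n
    induction n with
    | zero => intro y hy; simpa using hy
    | succ n ih =>
      intro y hy
      rw [pow_succ', show z₂ * z₂ ^ n * y * (z₂ * z₂ ^ n)⁻¹ = z₂ * (z₂ ^ n * y * (z₂ ^ n)⁻¹) * z₂⁻¹ by group,
        show ∀ w : G, z₂ * w * z₂⁻¹ = s * (z₁ * w * z₁⁻¹) * s⁻¹ from fun w => by rw [hz₂]; group]
      exact hs.2 _ (hnorm1 _ (ih y hy))
  obtain ⟨k', m, hm, hkm⟩ := Nat.exists_eq_two_pow_mul_odd (orderOf_pos z₂).ne'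
  obtain ⟨l, hl'⟩ := exists_pow_eq_self_of_coprime (n := 2 ^ k') (x := z₀)
    ((Nat.coprime_two_left.2 hz₀odd).pow_left k')
  set N := 2 ^ k' * l with hN
  have hz₀N : z₀ ^ N = z₀ := by rw [hN, pow_mul, hl']
  have hb2 : z₂ • b = b := by rw [hact b hl.fix_b, hz₀b]
  refine ⟨z₂ ^ N, ?_, ⟨pow_mem (show z₂ ∈ stabilizer G a from (mem_centSub.1 hz₂cs).1) _,
    pow_mem (show z₂ ∈ stabilizer G b from hb2) _⟩, hz₂u.pow_left _, fun r hr => (hsR r hr).pow_left _,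
    fun e he => ((mem_centSub.1 hz₂cs).2.2 e he).pow_left _, hnorm2 N, fun y hy hye => ?_⟩
  · refine hm.of_dvd_nat (orderOf_dvd_of_pow_eq_one ?_)
    rw [← pow_mul, show N * m = orderOf z₂ * l by rw [hkm, hN]; ring, pow_mul, pow_orderOf_eq_one, one_pow]
  · obtain ⟨hya, hyu, -⟩ := mem_centSub.1 (M.sub (M.Q_P0 hy))
    have key : ∀ p : Ω, u • p = p → (z₀ * y * z₀⁻¹ * y⁻¹) • p = (z₂ ^ N * y * (z₂ ^ N)⁻¹ * y⁻¹) • p := by
      intro p hp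
      have hinv : ∀ {g}, Commute g u → ∀ {p : Ω}, u • p = p → u • (g • p) = g • p := fun {g} hg {p} hp => by
        rw [← mul_smul, ← hg.eq, mul_smul, hp]
      have hp₁ := hinv hyu.inv_left hp
      have hp₂ : (z₂ ^ N)⁻¹ • (y⁻¹ • p) = z₀⁻¹ • (y⁻¹ • p) := by
        rw [inv_smul_eq_iff, hactn N _ (hinv hz₀u.inv_left hp₁), hz₀N, smul_inv_smul]
      rw [mul_smul, mul_smul, mul_smul, mul_smul, mul_smul, mul_smul, hp₂,
        hactn N _ (hinv hyu (hinv hz₀u.inv_left hp₁)), hz₀N]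
    obtain ⟨e, he, hye'⟩ := hz₀free y hyu hya ⟨_, hye, key⟩
    have h1 := M.Q_free (e⁻¹ * y) (mul_mem (inv_mem (M.E_Q he)) hy) (by rw [mul_smul, hye', inv_smul_smul])
    rw [← inv_mul_eq_one.1 h1]
    exact he

/-- The commutators with `ζ` fill `Q` modulo `E`. -/
theorem zeta_cover {u : G} {a b : Ω} {E : Subgroup G} {q i : ℕ} {R P0 Q P : Subgroup G}
    (M : ModelSyl D u a b E q i R P0 Q P) {z : G} (Z : ZetaOn u a b E R Q z) {v : G} (hv : v ∈ Q) :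
    ∃ y ∈ Q, ∃ e ∈ E, v = z * y * z⁻¹ * y⁻¹ * e := by
  classical
  set EQ : Subgroup Q := E.subgroupOf Q with hEQ
  have hEc : ∀ {g e}, g ∈ Q → e ∈ E → g * e * g⁻¹ = e := fun hg he => by
    rw [(M.comm_E (M.Q_P hg) he).eq, mul_inv_cancel_right]
  have hmul : ∀ y ∈ Q, ∀ w ∈ Q, ∃ e ∈ E,
      z * (y * w) * z⁻¹ * (y * w)⁻¹ = z * y * z⁻¹ * y⁻¹ * (z * w * z⁻¹ * w⁻¹) * e := by
    intro y hy w hw
    set c := z * w * z⁻¹ * w⁻¹ with hc
    have hcQ : c ∈ Q := mul_mem (Z.norm_Q w hw) (inv_mem hw)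
    refine ⟨c⁻¹ * (y * c * y⁻¹ * c⁻¹) * c, ?_, by rw [hc]; group⟩
    have h1 := hEc (inv_mem hcQ) (M.QQ y hy c hcQ)
    rw [inv_inv] at h1
    rw [h1]
    exact M.QQ y hy c hcQ
  let f : Q ⧸ EQ → Q ⧸ EQ := Quotient.lift
    (fun y : Q => ((⟨z * y * z⁻¹ * (y : G)⁻¹, mul_mem (Z.norm_Q y y.2) (inv_mem y.2)⟩ : Q) : Q ⧸ EQ))
    fun y w hyw => by
      have h1 : (y : G)⁻¹ * w ∈ E := Subgroup.mem_subgroupOf.1 (QuotientGroup.leftRel_apply.1 hyw)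
      obtain ⟨e, he, hee⟩ := hmul y y.2 _ (M.E_Q h1)
      rw [mul_inv_cancel_left] at hee
      refine QuotientGroup.eq.2 (Subgroup.mem_subgroupOf.2 ?_)
      show (z * (y : G) * z⁻¹ * (y : G)⁻¹)⁻¹ * (z * (w : G) * z⁻¹ * (w : G)⁻¹) ∈ E
      rw [hee, (Z.comm_E _ h1).eq, mul_inv_cancel_right, mul_inv_cancel, mul_one, inv_mul_cancel_left]
      exact he
  have hinj : Function.Injective f := by
    intro c d hcd
    obtain ⟨y, rfl⟩ := QuotientGroup.mk_surjective c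
    obtain ⟨w, rfl⟩ := QuotientGroup.mk_surjective d
    have h1 : (z * (y : G) * z⁻¹ * (y : G)⁻¹)⁻¹ * (z * (w : G) * z⁻¹ * (w : G)⁻¹) ∈ E :=
      Subgroup.mem_subgroupOf.1 (QuotientGroup.eq.1 hcd)
    obtain ⟨e, he, hee⟩ := hmul y y.2 ((y : G)⁻¹ * w) (mul_mem (inv_mem y.2) w.2)
    rw [mul_inv_cancel_left] at hee
    rw [hee, mul_assoc (z * (y : G) * z⁻¹ * (y : G)⁻¹), inv_mul_cancel_left] at h1
    have h3 := mul_mem h1 (inv_mem he)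
    rw [mul_inv_cancel_right] at h3
    exact QuotientGroup.eq.2 (Subgroup.mem_subgroupOf.2
      (Z.free _ (mul_mem (inv_mem y.2) w.2) h3))
  obtain ⟨c, hc⟩ := Finite.surjective_of_injective hinj ((⟨v, hv⟩ : Q) : Q ⧸ EQ)
  obtain ⟨y, rfl⟩ := QuotientGroup.mk_surjective c
  have h1 : (z * (y : G) * z⁻¹ * (y : G)⁻¹)⁻¹ * v ∈ E := Subgroup.mem_subgroupOf.1 (QuotientGroup.eq.1 hc)
  exact ⟨y, y.2, _, h1, by group⟩

/-- `P` normalises `Q` in unitary type. -/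
theorem norm_Q_three {u : G} {a b : Ω} {E : Subgroup G} {q i : ℕ} {R P0 Q P : Subgroup G}
    (M : ModelSyl D u a b E q i R P0 Q P) {α : G → G → G} (A : ModelAlpha u E R P α) {z : G}
    (Z : ZetaOn u a b E R Q z) {x y : G} (hx : x ∈ P) (hy : y ∈ Q) : x * y * x⁻¹ ∈ Q := by
  classical
  -- reduce to `Q` being contained in its conjugates
  suffices hsub : ∀ {g}, g ∈ P → ∀ v ∈ Q, g⁻¹ * v * g ∈ Q by
    have h1 := hsub (inv_mem hx) y hy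
    rwa [inv_inv] at h1
  clear hx hy x y
  intro x hx
  have hzP0 : ∀ {g}, g ∈ P0 → z * g * z⁻¹ ∈ P0 := fun {g} hg => by
    obtain ⟨r, hr, y, hy, rfl⟩ := M.prod g hg
    rw [show z * (r * y) * z⁻¹ = z * r * z⁻¹ * (z * y * z⁻¹) by group, (Z.comm_R r hr).eq, mul_inv_cancel_right]
    exact mul_mem (M.R_le hr) (M.Q_P0 (Z.norm_Q y hy))
  choose cr hcr cy hcy hce using fun y : Q => M.prod _ (M.conj_P0 hx (M.Q_P0 y.2))
  have hsurj : Function.Surjective fun y : Q => (⟨cy y, hcy y⟩ : Q) := by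
    refine Finite.surjective_of_injective fun y₁ y₂ hyy => ?_
    have e1 : cy y₁ = cy y₂ := congrArg Subtype.val hyy
    set w := (y₁ : G) * (y₂ : G)⁻¹ with hw
    have hwR : x * w * x⁻¹ = cr y₁ * (cr y₂)⁻¹ := by
      calc x * w * x⁻¹ = (x * y₁ * x⁻¹) * (x * y₂ * x⁻¹)⁻¹ := by rw [hw]; group
        _ = _ := by rw [hce y₁, hce y₂, e1]; group
    have hrR := mul_mem (hcr y₁) (inv_mem (hcr y₂))
    have hww : w * w = 1 := by
      have h1 := A.R_sq _ hrR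
      rw [← hwR, show x * w * x⁻¹ * (x * w * x⁻¹) = x * (w * w) * x⁻¹ by group] at h1
      exact conj_eq_one_iff.1 h1
    have hwQ : w ∈ Q := mul_mem y₁.2 (inv_mem y₂.2)
    rw [(M.comm_E hx (M.Q_sq_one w hwQ hww)).eq, mul_inv_cancel_right] at hwR
    exact Subtype.ext (mul_inv_eq_one.1 (M.disj w (hwR ▸ hrR) hwQ))
  let T0 : Subgroup G := Q.comap (MulAut.conj x⁻¹).toMonoidHom
  have hT0 : ∀ {g}, g ∈ T0 ↔ x⁻¹ * g * x ∈ Q := fun {g} => by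
    show x⁻¹ * g * x⁻¹⁻¹ ∈ Q ↔ _
    rw [inv_inv]
  obtain ⟨e₀, he₀, hxe⟩ := M.exists_shift hx
  intro v hv
  obtain ⟨y', hy', e, he, rfl⟩ := h.zeta_cover M Z hv
  rw [← hT0]
  have hET : e ∈ T0 := hT0.2 (by rw [(M.comm_E (inv_mem hx) he).eq, inv_mul_cancel_right]; exact M.E_Q he)
  refine mul_mem ?_ hET
  obtain ⟨y, hye⟩ := hsurj ⟨y', hy'⟩
  have hye' : cy y = y' := congrArg Subtype.val hye
  set g := x * (y : G) * x⁻¹ with hg
  have hgT : g ∈ T0 := hT0.2 (by rw [hg]; simp [mul_assoc])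
  have hzg : z * g * z⁻¹ ∈ T0 := by
    refine hT0.2 ?_
    have hwu : Commute (x⁻¹ * z * x) u := by
      have h1 : Commute z (x * u * x⁻¹) := by rw [hxe]; exact Z.comm_u.mul_right (Z.comm_E e₀ he₀)
      show x⁻¹ * z * x * u = u * (x⁻¹ * z * x)
      calc x⁻¹ * z * x * u = x⁻¹ * (z * (x * u * x⁻¹)) * x := by group
        _ = x⁻¹ * ((x * u * x⁻¹) * z) * x := by rw [h1.eq]
        _ = _ := by group
    refine (M.Q_mem _).2 ⟨?_, ?_⟩
    · have h1 := M.conj_P0 (inv_mem hx) (hzP0 (M.conj_P0 hx (M.Q_P0 y.2)))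
      rwa [inv_inv] at h1
    · have h1 := conj_mem_cGrp h hwu (M.Q_cGrp y.2)
      convert h1 using 1
      rw [hg]
      group
  have h3 := mul_mem hzg (inv_mem hgT)
  rw [hg, hce y, hye', show z * (cr y * y') * z⁻¹ * (cr y * y')⁻¹ =
    (z * cr y * z⁻¹) * (z * y' * z⁻¹ * y'⁻¹) * (cr y)⁻¹ by group, (Z.comm_R _ (hcr y)).eq, mul_inv_cancel_right,
    ← (M.Q_commute (hcr y) (mul_mem (Z.norm_Q y' hy') (inv_mem hy'))).eq, mul_inv_cancel_right] at h3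
  exact h3

/-- The translations fix `Q / E` in unitary type. -/
theorem comm_E_three {u : G} {a b : Ω} {E : Subgroup G} {q : ℕ} (hl : LData D u a b E q 3)
    {R P0 Q P : Subgroup G} (M : ModelSyl D u a b E q 3 R P0 Q P) {η : G} (T : ModelTorus u a b E R P η)
    (hN : ∀ x ∈ P, ∀ y ∈ Q, x * y * x⁻¹ ∈ Q) {x y : G} (hx : x ∈ P) (hy : y ∈ Q) :
    x * y * x⁻¹ * y⁻¹ ∈ E := by
  classical
  have h4 := four_le_q hl
  have hE2 : ∀ e ∈ E, e * e = 1 := fun e he => by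
    rcases eq_or_ne e 1 with h1 | h1
    · rw [h1, one_mul]
    · exact h.sq (hl.mem e he h1).1
  have hEP : ∀ {g e}, g ∈ P → e ∈ E → g * e * g⁻¹ = e := fun hg he => by
    rw [(M.comm_E hg he).eq, mul_inv_cancel_right]
  have hηP : ∀ {g}, g ∈ P → ∃ g' ∈ P, η * g' * η⁻¹ = g := fun hg => exists_conj_preimage T.norm_P hg
  have hQη : ∀ {v}, v ∈ Q → η * v * η⁻¹ ∈ Q := fun {v} hv => by
    obtain ⟨hv0, hvc⟩ := (M.Q_mem _).1 hv
    refine (M.Q_mem _).2 ⟨(M.mem_P0 _).2 ⟨T.norm_P _ ((M.mem_P0 _).1 hv0).1,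
      (T.comm_u.mul_left ((M.mem_P0 _).1 hv0).2).mul_left T.comm_u.inv_left⟩, conj_mem_cGrp h T.comm_u hvc⟩
  have hnormal : ∀ {V : Subgroup G}, E ≤ V → V ≤ Q → ∀ v ∈ V, ∀ w ∈ Q, w * v * w⁻¹ ∈ V := by
    intro V hEV hVQ v hv w hw
    rw [show w * v * w⁻¹ = w * v * w⁻¹ * v⁻¹ * v by group]
    exact mul_mem (hEV (M.QQ w hw v (hVQ hv))) hv
  -- the elements moved into `V` by all translations
  let fixMod : ∀ V : Subgroup G, E ≤ V → V ≤ Q → (∀ g ∈ P, ∀ v ∈ V, g * v * g⁻¹ ∈ V) → Subgroup G :=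
    fun V hEV hVQ hVP =>
    { carrier := {v | v ∈ Q ∧ ∀ g ∈ P, g * v * g⁻¹ * v⁻¹ ∈ V}
      one_mem' := ⟨one_mem _, fun g _ => by simp [one_mem]⟩
      mul_mem' := fun {v w} hv hw => ⟨mul_mem hv.1 hw.1, fun g hg => by
        rw [show g * (v * w) * g⁻¹ * (v * w)⁻¹ = g * v * g⁻¹ * v⁻¹ * (v * (g * w * g⁻¹ * w⁻¹) * v⁻¹) by group]
        exact mul_mem (hv.2 g hg) (hnormal hEV hVQ _ (hw.2 g hg) v hv.1)⟩
      inv_mem' := fun {v} hv => ⟨inv_mem hv.1, fun g hg => by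
        rw [show g * v⁻¹ * g⁻¹ * v⁻¹⁻¹ = v⁻¹ * (g * v * g⁻¹ * v⁻¹)⁻¹ * v⁻¹⁻¹ by group]
        exact hnormal hEV hVQ _ (inv_mem (hv.2 g hg)) _ (inv_mem hv.1)⟩ }
  have hfixη : ∀ {V : Subgroup G} (hEV : E ≤ V) (hVQ : V ≤ Q) (hVP : ∀ g ∈ P, ∀ v ∈ V, g * v * g⁻¹ ∈ V),
      (∀ v ∈ V, η * v * η⁻¹ ∈ V) → ∀ v ∈ fixMod V hEV hVQ hVP, η * v * η⁻¹ ∈ fixMod V hEV hVQ hVP := by
    intro V hEV hVQ hVP hVη v hv
    refine ⟨hQη hv.1, fun g hg => ?_⟩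
    obtain ⟨g', hg', rfl⟩ := hηP hg
    rw [show η * g' * η⁻¹ * (η * v * η⁻¹) * (η * g' * η⁻¹)⁻¹ * (η * v * η⁻¹)⁻¹ =
      η * (g' * v * g'⁻¹ * v⁻¹) * η⁻¹ by group]
    exact hVη _ (hv.2 g' hg')
  have hEfix : ∀ g ∈ P, ∀ v ∈ E, g * v * g⁻¹ ∈ E := fun g hg v hv => (hEP hg hv).symm ▸ hv
  set V0 := fixMod E le_rfl M.E_Q hEfix with hV0
  have hV0Q : V0 ≤ Q := fun v hv => hv.1
  have hEV0 : E ≤ V0 := fun e he => ⟨M.E_Q he, fun g hg => by rw [hEP hg he, mul_inv_cancel]; exact one_mem _⟩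
  have hV0η : ∀ v ∈ V0, η * v * η⁻¹ ∈ V0 := hfixη le_rfl M.E_Q hEfix T.norm_E
  have hQcard : Nat.card Q = q ^ 3 := M.Q_card
  have hlt : q < q ^ 2 ∧ q ^ 2 < q ^ 3 := ⟨by nlinarith, by nlinarith [Nat.mul_le_mul h4 h4]⟩
  have hcard0 : Nat.card V0 ≠ q := by
    obtain ⟨v, hv, hvE, hvfix⟩ := M.exists_fixed_mod hN le_rfl M.E_Q hEfix (by rw [hl.card_E, hQcard]; omega)
    intro hc
    have he := Subgroup.eq_of_le_of_card_ge hEV0 (by rw [hc, hl.card_E])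
    exact hvE (he.symm ▸ (⟨hv, hvfix⟩ : v ∈ V0))
  rcases M.card_invariant hl rfl hE2 T hEV0 hV0Q hV0η with hc | hc | hc
  · exact absurd hc hcard0
  swap
  · have he := Subgroup.eq_of_le_of_card_ge hV0Q (by rw [hc, hQcard])
    exact ((he.symm ▸ hy : y ∈ V0)).2 x hx
  -- the case `|V0| = q²` is impossible
  exfalso
  have hV0P : ∀ g ∈ P, ∀ v ∈ V0, g * v * g⁻¹ ∈ V0 := fun g hg v hv => by
    rw [show g * v * g⁻¹ = g * v * g⁻¹ * v⁻¹ * v by group]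
    exact mul_mem (hEV0 (hv.2 g hg)) hv
  have hd : ∀ g ∈ P, ∀ v ∈ Q, g * v * g⁻¹ * v⁻¹ ∈ V0 := by
    set W := fixMod V0 hEV0 hV0Q hV0P with hW
    have hVW : V0 ≤ W := fun v hv => ⟨hv.1, fun g hg => hEV0 (hv.2 g hg)⟩
    have hWη := hfixη hEV0 hV0Q hV0P hV0η
    obtain ⟨v, hv, hvV, hvfix⟩ := M.exists_fixed_mod hN hEV0 hV0Q hV0P (by rw [hc, hQcard]; omega)
    have hWcard : q ^ 2 < Nat.card W := by
      rw [← hc]
      by_contra hle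
      push Not at hle
      have he := Subgroup.eq_of_le_of_card_ge hVW hle
      exact hvV (he.symm ▸ (⟨hv, hvfix⟩ : v ∈ W))
    rcases M.card_invariant hl rfl hE2 T (hEV0.trans hVW) (fun w hw => hw.1) hWη with h1 | h1 | h1
    · omega
    · omega
    · have he := Subgroup.eq_of_le_of_card_ge (show W ≤ Q from fun w hw => hw.1) (by rw [h1, hQcard])
      exact fun g hg w hw => ((he.symm ▸ hw : w ∈ W)).2 g hg
  have hnotall : ¬ ∀ g ∈ P, ∀ v ∈ Q, g * v * g⁻¹ * v⁻¹ ∈ E := fun hall => by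
    have he := le_antisymm hV0Q (show Q ≤ V0 from fun v hv => ⟨hv, fun g hg => hall g hg v hv⟩)
    rw [he, hQcard] at hc
    omega
  -- `V0` is abelian
  have hV0ab : ∀ l ∈ V0, ∀ l' ∈ V0, Commute l l' := by
    set I := V0 ⊓ Subgroup.centralizer (V0 : Set G) with hI
    have hEI : E ≤ I := fun e he => ⟨hEV0 he, Subgroup.mem_centralizer_iff.2 fun l hl' =>
      (M.comm_E (M.Q_P (hV0Q hl')) he).eq⟩
    have hIη : ∀ w ∈ I, η * w * η⁻¹ ∈ I := fun w hw => ⟨hV0η w hw.1, Subgroup.mem_centralizer_iff.2 fun l hl' => by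
      obtain ⟨l₀, hl₀, rfl⟩ := exists_conj_preimage hV0η hl'
      calc η * l₀ * η⁻¹ * (η * w * η⁻¹) = η * (l₀ * w) * η⁻¹ := by group
        _ = η * (w * l₀) * η⁻¹ := by rw [Subgroup.mem_centralizer_iff.1 hw.2 l₀ hl₀]
        _ = _ := by group⟩
    have hdI : ∀ g ∈ P, ∀ v ∈ Q, g * v * g⁻¹ * v⁻¹ ∈ I := by
      intro g hg v hv
      refine ⟨hd g hg v hv, Subgroup.mem_centralizer_iff.2 fun l hl' => ?_⟩
      set d := g * v * g⁻¹ * v⁻¹ with hdd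
      set e' := g * l * g⁻¹ * l⁻¹ with he'
      have he'E : e' ∈ E := hl'.2 g hg
      have hgv : g * v * g⁻¹ = d * v := by rw [hdd]; group
      have hgl : g * l * g⁻¹ = e' * l := by rw [he']; group
      have hdQ : d ∈ Q := hV0Q (hd g hg v hv)
      have hlQ : l ∈ Q := hV0Q hl'
      have hcm := M.QQ v hv l hlQ
      -- `[d v, l] = [v, l]`
      have h1 : d * v * l * (d * v)⁻¹ * l⁻¹ = v * l * v⁻¹ * l⁻¹ := by
        calc d * v * l * (d * v)⁻¹ * l⁻¹ = (d * v) * (e' * l) * (d * v)⁻¹ * (e' * l)⁻¹ := by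
              have hc' : Commute (d * v) e' := M.comm_E (M.Q_P (mul_mem hdQ hv)) he'E
              have hc'' : Commute l e' := M.comm_E (M.Q_P hlQ) he'E
              rw [← mul_assoc (d * v) e', hc'.eq, mul_inv_rev e', show e' * (d * v) * l * (d * v)⁻¹ * (l⁻¹ * e'⁻¹) =
                e' * ((d * v) * l * (d * v)⁻¹ * l⁻¹) * e'⁻¹ by group,
                ← (M.comm_E (M.Q_P (mul_mem (mul_mem (mul_mem (mul_mem hdQ hv) hlQ) (inv_mem (mul_mem hdQ hv)))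
                  (inv_mem hlQ))) he'E).eq, mul_inv_cancel_right]
          _ = g * (v * l * v⁻¹ * l⁻¹) * g⁻¹ := by rw [← hgv, ← hgl]; group
          _ = _ := hEP hg hcm
      have h3 : d * l * d⁻¹ * l⁻¹ = 1 := by
        have h5 : d * v * l * (d * v)⁻¹ * l⁻¹ = d * (v * l * v⁻¹ * l⁻¹) * d⁻¹ * (d * l * d⁻¹ * l⁻¹) := by group
        rw [h1, hEP (M.Q_P hdQ) hcm] at h5
        exact left_eq_mul.1 h5
      exact (mul_inv_eq_iff_eq_mul.1 (mul_inv_eq_one.1 h3)).symm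
    rcases M.card_invariant hl rfl hE2 T hEI (inf_le_left.trans hV0Q) hIη with h1 | h1 | h1
    · exfalso
      have he := Subgroup.eq_of_le_of_card_ge hEI (by rw [h1, hl.card_E])
      exact hnotall fun g hg v hv => he.symm ▸ hdI g hg v hv
    · have he := Subgroup.eq_of_le_of_card_ge (show I ≤ V0 from inf_le_left) (by rw [h1, hc])
      intro l hl₁ l' hl₂
      exact (Subgroup.mem_centralizer_iff.1 (he.symm ▸ hl₁ : l ∈ I).2 l' hl₂).symm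
    · have := Subgroup.card_le_of_le (show I ≤ V0 from inf_le_left)
      omega
  -- outside `V0` nothing commutes with `V0 - E`
  have hcentl : ∀ l ∈ V0, ∀ v ∈ Q, v ∉ V0 → Commute l v → l ∈ E := by
    intro l hlV v hv hvV hlv
    by_contra hlE
    have hlQ := hV0Q hlV
    let c : Q →* E := MonoidHom.mk' (fun w => ⟨l * w * l⁻¹ * (w : G)⁻¹, M.QQ l hlQ w w.2⟩) fun w w' => Subtype.ext (by
      show l * ((w : G) * w') * l⁻¹ * ((w : G) * w')⁻¹ = l * w * l⁻¹ * (w : G)⁻¹ * (l * w' * l⁻¹ * (w' : G)⁻¹)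
      rw [show l * ((w : G) * w') * l⁻¹ * ((w : G) * w')⁻¹ =
        l * w * l⁻¹ * (w : G)⁻¹ * ((w : G) * (l * w' * l⁻¹ * (w' : G)⁻¹) * (w : G)⁻¹) by group,
        hEP (M.Q_P w.2) (M.QQ l hlQ w' w'.2)])
    have hcs : Function.Surjective c := fun e => by
      obtain ⟨w, hw, hwe⟩ := M.Q_form_three rfl l hlQ hlE e e.2
      exact ⟨⟨w, hw⟩, Subtype.ext hwe⟩
    have hk : Nat.card c.ker = q ^ 2 := by
      have h1 := Subgroup.card_mul_index c.ker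
      rw [Subgroup.index_ker, MonoidHom.range_eq_top.2 hcs, Subgroup.card_top, hl.card_E, hQcard] at h1
      exact Nat.eq_of_mul_eq_mul_right (show 0 < q by omega) (h1.trans (pow_succ q 2))
    have hle : V0.subgroupOf Q ≤ c.ker := fun w hw => MonoidHom.mem_ker.2 (Subtype.ext (by
      show l * (w : G) * l⁻¹ * (w : G)⁻¹ = 1
      rw [(hV0ab l hlV w (Subgroup.mem_subgroupOf.1 hw)).eq, mul_inv_cancel_right, mul_inv_cancel]))
    have he := Subgroup.eq_of_le_of_card_ge hle (by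
      rw [hk, Nat.card_congr (Subgroup.subgroupOfEquivOfLe hV0Q).toEquiv, hc])
    have hvk : (⟨v, hv⟩ : Q) ∈ c.ker := MonoidHom.mem_ker.2 (Subtype.ext (by
      show l * v * l⁻¹ * v⁻¹ = 1
      rw [hlv.eq, mul_inv_cancel_right, mul_inv_cancel]))
    rw [← he] at hvk
    exact hvV (Subgroup.mem_subgroupOf.1 hvk)
  -- an element fixing one `v` modulo `E` fixes all
  have hone : ∀ g ∈ P, ∀ v ∈ Q, v ∉ V0 → g * v * g⁻¹ * v⁻¹ ∈ E → ∀ w ∈ Q, g * w * g⁻¹ * w⁻¹ ∈ E := by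
    intro g hg v hv hvV hgv w hw
    set d := g * w * g⁻¹ * w⁻¹ with hdd
    set e' := g * v * g⁻¹ * v⁻¹ with he'
    have hgw : g * w * g⁻¹ = d * w := by rw [hdd]; group
    have hgv' : g * v * g⁻¹ = e' * v := by rw [he']; group
    have hdQ : d ∈ Q := hV0Q (hd g hg w hw)
    refine hcentl d (hd g hg w hw) v hv hvV ?_
    have hc' : Commute (d * w) e' := M.comm_E (M.Q_P (mul_mem hdQ hw)) hgv
    have hce : Commute ((d * w) * v * (d * w)⁻¹ * v⁻¹) e' :=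
      M.comm_E (M.Q_P (mul_mem (mul_mem (mul_mem (mul_mem hdQ hw) hv) (inv_mem (mul_mem hdQ hw))) (inv_mem hv))) hgv
    have h1 : d * w * v * (d * w)⁻¹ * v⁻¹ = w * v * w⁻¹ * v⁻¹ := by
      calc d * w * v * (d * w)⁻¹ * v⁻¹ = (d * w) * (e' * v) * (d * w)⁻¹ * (e' * v)⁻¹ := by
            rw [← mul_assoc (d * w) e', hc'.eq, mul_inv_rev e', show e' * (d * w) * v * (d * w)⁻¹ * (v⁻¹ * e'⁻¹) =
              e' * ((d * w) * v * (d * w)⁻¹ * v⁻¹) * e'⁻¹ by group, ← hce.eq, mul_inv_cancel_right]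
        _ = g * (w * v * w⁻¹ * v⁻¹) * g⁻¹ := by rw [← hgw, ← hgv']; group
        _ = _ := hEP hg (M.QQ w hw v hv)
    have h5 : d * w * v * (d * w)⁻¹ * v⁻¹ = d * (w * v * w⁻¹ * v⁻¹) * d⁻¹ * (d * v * d⁻¹ * v⁻¹) := by group
    rw [h1, hEP (M.Q_P hdQ) (M.QQ w hw v hv)] at h5
    exact mul_inv_eq_iff_eq_mul.1 (mul_inv_eq_one.1 (left_eq_mul.1 h5))
  -- only `P0` fixes `Q / E`
  let K : Subgroup G :=
    { carrier := {g | g ∈ P ∧ ∀ v ∈ Q, g * v * g⁻¹ * v⁻¹ ∈ E}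
      one_mem' := ⟨one_mem _, fun v _ => by simp [one_mem]⟩
      mul_mem' := fun {g k} hg hk => ⟨mul_mem hg.1 hk.1, fun v hv => by
        rw [show g * k * v * (g * k)⁻¹ * v⁻¹ = g * (k * v * k⁻¹ * v⁻¹) * g⁻¹ * (g * v * g⁻¹ * v⁻¹) by group,
          hEP hg.1 (hk.2 v hv)]
        exact mul_mem (hk.2 v hv) (hg.2 v hv)⟩
      inv_mem' := fun {g} hg => ⟨inv_mem hg.1, fun v hv => by
        rw [show g⁻¹ * v * g⁻¹⁻¹ * v⁻¹ = g⁻¹ * (g * v * g⁻¹ * v⁻¹)⁻¹ * g⁻¹⁻¹ by group,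
          hEP (inv_mem hg.1) (inv_mem (hg.2 v hv))]
        exact inv_mem (hg.2 v hv)⟩ }
  have hKone : ∀ {g e}, g ∈ K → g * u * g⁻¹ = u * e → e = 1 := by
    intro g e hg hge
    by_contra he1
    have hP0K : P0 ≤ K := fun g' hg' => ⟨((M.mem_P0 _).1 hg').1, fun v hv => by
      obtain ⟨r, hr, w, hw, rfl⟩ := M.prod g' hg'
      rw [show r * w * v * (r * w)⁻¹ * v⁻¹ = r * (w * v * w⁻¹ * v⁻¹) * r⁻¹ * (r * v * r⁻¹ * v⁻¹) by group,
        hEP (M.R_P hr) (M.QQ w hw v hv), ← (M.Q_commute hr hv).eq, mul_inv_cancel_right, mul_inv_cancel, mul_one]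
      exact M.QQ w hw v hv⟩
    have htop := M.top_of_shift T (fun w (hw : w ∈ K) => hw.1) hP0K (fun w (hw : w ∈ K) => ⟨T.norm_P w hw.1, fun v hv => by
      obtain ⟨v', hv', rfl⟩ := exists_conj_preimage (fun v'' hv'' => hQη (v := v'') hv'') hv
      rw [show η * w * η⁻¹ * (η * v' * η⁻¹) * (η * w * η⁻¹)⁻¹ * (η * v' * η⁻¹)⁻¹ =
        η * (w * v' * w⁻¹ * v'⁻¹) * η⁻¹ by group]
      exact T.norm_E _ (hw.2 v' hv')⟩) hg hge he1
    exact hnotall fun g' hg' => (htop hg').2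
  -- squares and commutators on `V0`
  have hstar : ∀ v ∈ Q, v ∉ V0 → ∀ l ∈ V0, l * l * (l⁻¹ * v * l * v⁻¹) = 1 := by
    intro v hv hvV
    choose xe hxe hxeu using fun e : E => M.onto e e.2
    set EV : Subgroup V0 := E.subgroupOf V0 with hEV
    let F : E → V0 ⧸ EV := fun e => QuotientGroup.mk ⟨xe e * v * (xe e)⁻¹ * v⁻¹, hd _ (hxe e) v hv⟩
    have hinj : Function.Injective F := by
      intro e f hef
      have h1 : (xe e * v * (xe e)⁻¹ * v⁻¹)⁻¹ * (xe f * v * (xe f)⁻¹ * v⁻¹) ∈ E :=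
        Subgroup.mem_subgroupOf.1 (QuotientGroup.eq.1 hef)
      set g := (xe e)⁻¹ * xe f with hgd
      have hg : g ∈ P := mul_mem (inv_mem (hxe e)) (hxe f)
      set d := xe e * v * (xe e)⁻¹ * v⁻¹ with hdd
      set d' := g * v * g⁻¹ * v⁻¹ with hd'
      set c' := xe e * d' * (xe e)⁻¹ * d'⁻¹ with hc'
      have hd'V : d' ∈ V0 := hd g hg v hv
      have hc'E : c' ∈ E := hd'V.2 _ (hxe e)
      have hfd : xe f * v * (xe f)⁻¹ * v⁻¹ = c' * d' * d := by rw [hc', hd', hdd, hgd]; group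
      rw [hfd, mul_assoc, hV0ab d' hd'V d (hd _ (hxe e) v hv), ← mul_assoc, ← mul_assoc,
        mul_assoc d⁻¹ c', ← (M.comm_E (M.Q_P (hV0Q (hd _ (hxe e) v hv))) hc'E).eq, inv_mul_cancel_left] at h1
      have hd'E : d' ∈ E := by
        have := mul_mem (inv_mem hc'E) h1
        rwa [inv_mul_cancel_left] at this
      have hge : g * u * g⁻¹ = u * ((e : G) * f) := by
        refine shift_mul (fun x hx' => (M.comm_E (hxe e) hx').inv_left) f.2 ?_ (hxeu f)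
        rw [inv_inv]
        have h3 := hxeu e
        have h5 : u = (xe e)⁻¹ * u * xe e * e := by
          calc u = (xe e)⁻¹ * (xe e * u * (xe e)⁻¹) * xe e := by group
            _ = (xe e)⁻¹ * u * (e * xe e) := by rw [h3]; group
            _ = _ := by rw [← (M.comm_E (hxe e) e.2).eq]; group
        calc (xe e)⁻¹ * u * xe e = (xe e)⁻¹ * u * xe e * e * e := by
              rw [mul_assoc ((xe e)⁻¹ * u * xe e), hE2 e e.2, mul_one]
          _ = u * e := by rw [← h5]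
      have h3 := hKone (⟨hg, hone g hg v hv hvV hd'E⟩ : g ∈ K) hge
      exact Subtype.ext ((eq_inv_of_mul_eq_one_left h3).trans (inv_eq_of_mul_eq_one_right (hE2 f f.2)))
    have hcardF : Nat.card E = Nat.card (V0 ⧸ EV) := by
      have h1 := Subgroup.card_eq_card_quotient_mul_card_subgroup EV
      rw [Nat.card_congr (Subgroup.subgroupOfEquivOfLe hEV0).toEquiv, hc, hl.card_E, pow_two] at h1
      rw [hl.card_E]
      exact Nat.eq_of_mul_eq_mul_right (show 0 < q by omega) h1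
    intro l hlV
    obtain ⟨e, he⟩ := ((Nat.bijective_iff_injective_and_card F).2 ⟨hinj, hcardF⟩).2 (QuotientGroup.mk ⟨l, hlV⟩)
    set d := xe e * v * (xe e)⁻¹ * v⁻¹ with hdd
    have hz : d⁻¹ * l ∈ E := Subgroup.mem_subgroupOf.1 (QuotientGroup.eq.1 he)
    have hdv : xe e * v * (xe e)⁻¹ = d * v := by rw [hdd]; group
    have hdQ : d ∈ Q := hV0Q (hd _ (hxe e) v hv)
    have hvv := M.Q_sq v hv
    set C := d⁻¹ * v * d * v⁻¹ with hC
    have hCE : C ∈ E := by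
      have := M.QQ d⁻¹ (inv_mem hdQ) v hv
      rwa [inv_inv] at this
    have h1 : d * d * C * (v * v) = v * v := by
      calc d * d * C * (v * v) = (d * v) * (d * v) := by rw [hC]; group
        _ = xe e * (v * v) * (xe e)⁻¹ := by rw [← hdv]; group
        _ = v * v := hEP (hxe e) hvv
    have h3 : d * d * C = 1 := by rwa [mul_eq_right] at h1
    set z := d⁻¹ * l with hzd
    have hl' : l = d * z := by rw [hzd, mul_inv_cancel_left]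
    have hzv := hEP (M.Q_P hv) hz
    calc l * l * (l⁻¹ * v * l * v⁻¹) = (d * z) * (d * z) * (z⁻¹ * (d⁻¹ * v * d * v⁻¹) * (v * z * v⁻¹)) := by
          rw [hl']; group
      _ = (d * d) * (z * z) * (z⁻¹ * C * z) := by
          rw [hzv, (M.comm_E (M.Q_P hdQ) hz).symm.mul_mul_mul_comm, ← hC]
      _ = 1 := by
          rw [hE2 z hz, mul_one, ← (M.comm_E (inv_mem (M.Q_P (M.E_Q hz))) hCE).symm.eq]
          rw [inv_mul_cancel_right, h3]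
  obtain ⟨v, hv, hvV⟩ : ∃ v ∈ Q, v ∉ V0 := by
    by_contra hc'
    push Not at hc'
    rw [le_antisymm hV0Q hc', hQcard] at hc
    omega
  obtain ⟨v₂, hv₂, hv₂V, hvv₂⟩ : ∃ v₂ ∈ Q, v₂ ∉ V0 ∧ v * v₂ ∉ V0 := by
    by_contra hc'
    push Not at hc'
    have hsub : (Q : Set G) ⊆ (V0 : Set G) ∪ (fun l => v⁻¹ * l) '' V0 := fun w hw => by
      by_cases hwV : w ∈ V0
      · exact Or.inl hwV
      · exact Or.inr ⟨v * w, hc' w hw hwV, inv_mul_cancel_left v w⟩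
    have h1 := (Set.ncard_le_ncard hsub).trans (Set.ncard_union_le _ _)
    have h3 := Set.ncard_image_le (f := fun l => v⁻¹ * l) (Set.toFinite (V0 : Set G))
    have h5 : (Q : Set G).ncard = q ^ 3 := by rw [← Nat.card_coe_set_eq]; exact hQcard
    have h6 : (V0 : Set G).ncard = q ^ 2 := by rw [← Nat.card_coe_set_eq]; exact hc
    rw [h5, h6] at h1
    rw [h6] at h3
    nlinarith
  obtain ⟨l, hlV, hlE⟩ : ∃ l ∈ V0, l ∉ E := by
    by_contra hc'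
    push Not at hc'
    rw [le_antisymm hc' hEV0, hl.card_E] at hcard0
    exact hcard0 rfl
  have hlQ := hV0Q hlV
  refine hlE (M.Q_sq_one l hlQ ?_)
  have e₁ := hstar v hv hvV l hlV
  have e₂ := hstar v₂ hv₂ hv₂V l hlV
  have e₃ := hstar (v * v₂) (mul_mem hv hv₂) hvv₂ l hlV
  have hcl : l⁻¹ * v₂ * l * v₂⁻¹ ∈ E := by
    have := M.QQ l⁻¹ (inv_mem hlQ) v₂ hv₂
    rwa [inv_inv] at this
  rw [show l⁻¹ * (v * v₂) * l * (v * v₂)⁻¹ = l⁻¹ * v * l * v⁻¹ * (v * (l⁻¹ * v₂ * l * v₂⁻¹) * v⁻¹) by group,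
    hEP (M.Q_P hv) hcl, ← mul_assoc (l * l), e₁, one_mul] at e₃
  rwa [e₃, mul_one] at e₂

/-- An element free on `Q / E` normalising `P`. -/
theorem exists_zeta_P {u : G} {a b : Ω} {E : Subgroup G} {q i : ℕ} (hl : LData D u a b E q i)
    {R P0 Q P : Subgroup G} (M : ModelSyl D u a b E q i R P0 Q P) {α : G → G → G} (A : ModelAlpha u E R P α)
    (hN : ∀ x ∈ P, ∀ y ∈ Q, x * y * x⁻¹ ∈ Q) (hC : ∀ x ∈ P, ∀ y ∈ Q, x * y * x⁻¹ * y⁻¹ ∈ E)
    {z : G} (Z : ZetaOn u a b E R Q z) : ∃ z' : G, ZetaOn u a b E R Q z' ∧ ∀ x ∈ P, z' * x * z'⁻¹ ∈ P := by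
  classical
  haveI := Fact.mk Nat.prime_two
  have hzT : z ∈ transSub u a E := ⟨Z.fix.1, Z.comm_E, by
    rw [Z.comm_u.eq, mul_inv_cancel_right, inv_mul_cancel]; exact one_mem _⟩
  let K : Subgroup G :=
    { carrier := {g | g ∈ transSub u a E ∧ ∀ v ∈ Q, g * v * g⁻¹ ∈ Q ∧ g * v * g⁻¹ * v⁻¹ ∈ E}
      one_mem' := ⟨one_mem _, fun v hv => by simpa [one_mem] using hv⟩
      mul_mem' := fun {g k} hg hk => ⟨mul_mem hg.1 hk.1, fun v hv => by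
        refine ⟨?_, ?_⟩
        · rw [show g * k * v * (g * k)⁻¹ = g * (k * v * k⁻¹) * g⁻¹ by group]
          exact (hg.2 _ (hk.2 v hv).1).1
        · rw [show g * k * v * (g * k)⁻¹ * v⁻¹ = g * (k * v * k⁻¹ * v⁻¹) * g⁻¹ * (g * v * g⁻¹ * v⁻¹) by group,
            (hg.1.2.1 _ (hk.2 v hv).2).eq, mul_inv_cancel_right]
          exact mul_mem (hk.2 v hv).2 (hg.2 v hv).2⟩
      inv_mem' := fun {g} hg => ⟨inv_mem hg.1, fun v hv => by
        obtain ⟨v', hv', hve⟩ := exists_conj_preimage (fun w hw => (hg.2 w hw).1) hv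
        have hgv : g⁻¹ * v * g⁻¹⁻¹ = v' := by rw [← hve]; group
        refine ⟨hgv.symm ▸ hv', ?_⟩
        rw [hgv, ← hve, show v' * (g * v' * g⁻¹)⁻¹ = (g * v' * g⁻¹ * v'⁻¹)⁻¹ by group]
        exact inv_mem (hg.2 v' hv').2⟩ }
  have hPK : P ≤ K := fun x hx => ⟨M.P_sub hx, fun v hv => ⟨hN x hx v hv, hC x hx v hv⟩⟩
  obtain ⟨S1, hS1p, hPS1, hS1K, -, hS1max⟩ := exists_max_two M.P_two hPK
  have hS1 : P = S1 := Subgroup.eq_of_le_of_card_ge hPS1 (M.P_sylow S1 hS1p fun x hx => (hS1K hx).1)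
  have hzK : P.map (MulAut.conj z).toMonoidHom ≤ K := by
    rintro _ ⟨x, hx, rfl⟩
    refine ⟨mul_mem (mul_mem hzT (M.P_sub hx)) (inv_mem hzT), fun v hv => ?_⟩
    obtain ⟨v', hv', rfl⟩ := exists_conj_preimage Z.norm_Q hv
    simp only [MulEquiv.coe_toMonoidHom, MulAut.conj_apply]
    rw [show z * x * z⁻¹ * (z * v' * z⁻¹) * (z * x * z⁻¹)⁻¹ = z * (x * v' * x⁻¹) * z⁻¹ by group]
    refine ⟨Z.norm_Q _ (hN x hx v' hv'), ?_⟩
    rw [show z * (x * v' * x⁻¹) * z⁻¹ * (z * v' * z⁻¹)⁻¹ = z * (x * v' * x⁻¹ * v'⁻¹) * z⁻¹ by group,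
      (Z.comm_E _ (hC x hx v' hv')).eq, mul_inv_cancel_right]
    exact hC x hx v' hv'
  obtain ⟨k, hk, hkP⟩ := hS1max _ (M.P_two.map _) hzK
  obtain ⟨p, hp, hpe⟩ := M.onto _ hk.1.2.2
  rw [mul_inv_cancel_left] at hpe
  have hkp : Commute (p⁻¹ * k) u := by
    refine mul_inv_eq_iff_eq_mul.1 ?_
    rw [show p⁻¹ * k * u * (p⁻¹ * k)⁻¹ = p⁻¹ * (k * u * k⁻¹) * p by group, ← hpe]
    group
  have hkpK : p⁻¹ * k ∈ K := mul_mem (inv_mem (hPK hp)) hk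
  have hub : u • ((p⁻¹ * k) • b) = (p⁻¹ * k) • b := by rw [← mul_smul, ← hkp.eq, mul_smul, hl.fix_b]
  obtain ⟨y₀, hy₀, hy₀b⟩ := M.Q_trans _ hub
    (fun e => hl.ne (smul_left_cancel (p⁻¹ * k) (e.trans hkpK.1.1.symm)).symm)
  set m := y₀⁻¹ * (p⁻¹ * k) with hm
  have hmK : m ∈ K := mul_mem (inv_mem (hPK (M.Q_P hy₀))) hkpK
  have hmu : Commute m u := ((mem_centSub.1 (M.sub (M.Q_P0 hy₀))).2.1).inv_left.mul_left hkp
  have hmb : m • b = b := by rw [hm, mul_smul, ← hy₀b, inv_smul_smul]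
  set z₁ := m * z with hz₁
  have hz₁a : z₁ • a = a := by rw [hz₁, mul_smul, Z.fix.1, hmK.1.1]
  have hz₁b : z₁ • b = b := by rw [hz₁, mul_smul, Z.fix.2, hmb]
  have hz₁u : Commute z₁ u := hmu.mul_left Z.comm_u
  have hz₁E : ∀ e ∈ E, Commute z₁ e := fun e he => (hmK.1.2.1 e he).mul_left (Z.comm_E e he)
  have hz₁P : ∀ x ∈ P, z₁ * x * z₁⁻¹ ∈ P := fun x hx => by
    have h1 := hkP _ ⟨x, hx, rfl⟩
    rw [← hS1] at h1
    have hyp : y₀⁻¹ * p⁻¹ ∈ P := mul_mem (inv_mem (M.Q_P hy₀)) (inv_mem hp)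
    have h3 := mul_mem (mul_mem hyp h1) (inv_mem hyp)
    convert h3 using 1
    simp [hz₁, hm, mul_assoc]
  have hz₁Q : ∀ v ∈ Q, z₁ * v * z₁⁻¹ ∈ Q := fun v hv => by
    rw [hz₁, show m * z * v * (m * z)⁻¹ = m * (z * v * z⁻¹) * m⁻¹ by group]
    exact (hmK.2 _ (Z.norm_Q v hv)).1
  have hz₁R : ∀ r ∈ R, Commute z₁ r := by
    intro r hr
    obtain ⟨f, hf, hf1⟩ : ∃ f ∈ E, f ≠ (1 : G) := by
      by_contra hc'
      push Not at hc'
      have h5 := hl.card_E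
      rw [(Subgroup.eq_bot_iff_forall E).2 hc', Subgroup.card_bot] at h5
      have := four_le_q hl
      omega
    have hru : Commute r u := ((M.mem_P0 r).1 (M.R_le hr)).2
    set r' := z₁ * r * z₁⁻¹ with hr'
    have hr'R : r' ∈ R := (M.mem_R _).2 ⟨(M.mem_P0 _).2 ⟨hz₁P r (M.R_P hr),
      (hz₁u.mul_left hru).mul_left hz₁u.inv_left⟩, fun p hp => by
      have hp' : u • (z₁⁻¹ • p) = z₁⁻¹ • p := by rw [← mul_smul, ← hz₁u.inv_left.eq, mul_smul, hp]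
      rw [hr', mul_smul, mul_smul, M.R_fix r hr _ hp', smul_inv_smul]⟩
    obtain ⟨x, hx, hxf⟩ := M.onto f hf
    have h1 : z₁ * x * z₁⁻¹ * u * (z₁ * x * z₁⁻¹)⁻¹ = u * f := by
      calc z₁ * x * z₁⁻¹ * u * (z₁ * x * z₁⁻¹)⁻¹ = z₁ * x * (z₁⁻¹ * u * z₁) * x⁻¹ * z₁⁻¹ := by group
        _ = z₁ * (x * u * x⁻¹) * z₁⁻¹ := by
          rw [show z₁⁻¹ * u * z₁ = u by rw [mul_assoc, ← hz₁u.eq, inv_mul_cancel_left]]; group
        _ = u * f := by rw [hxf, (hz₁u.mul_right (hz₁E f hf)).eq, mul_inv_cancel_right]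
    have h3 := A.conj r' hr'R _ (hz₁P x hx) f hf h1
    have h5 : z₁ * x * z₁⁻¹ * r' * (z₁ * x * z₁⁻¹)⁻¹ = r' * α r f := by
      calc z₁ * x * z₁⁻¹ * r' * (z₁ * x * z₁⁻¹)⁻¹ = z₁ * (x * r * x⁻¹) * z₁⁻¹ := by rw [hr']; group
        _ = r' * (z₁ * α r f * z₁⁻¹) := by rw [A.conj r hr x hx f hf hxf, hr']; group
        _ = _ := by rw [(hz₁E _ (A.mem r hr f hf)).eq, mul_inv_cancel_right]
    have h6 : α (r' * r) f = 1 := by
      rw [A.mul_left r' hr'R r hr f hf, mul_left_cancel (h3.symm.trans h5)]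
      rcases eq_or_ne (α r f) 1 with h7 | h7
      · rw [h7, one_mul]
      · exact h.sq (hl.mem _ (A.mem r hr f hf) h7).1
    refine mul_inv_eq_iff_eq_mul.1 (((A.inj _ (mul_mem hr'R hr) f hf h6).resolve_right hf1 |>
      eq_inv_of_mul_eq_one_left).trans (inv_eq_of_mul_eq_one_right (A.R_sq r hr)))
  have hiter : ∀ n : ℕ, (∀ v ∈ Q, z₁ ^ n * v * (z₁ ^ n)⁻¹ ∈ Q ∧
      (z ^ n * v * (z ^ n)⁻¹) ∈ Q ∧ (z₁ ^ n * v * (z₁ ^ n)⁻¹) * (z ^ n * v * (z ^ n)⁻¹)⁻¹ ∈ E) ∧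
      ∀ x ∈ P, z₁ ^ n * x * (z₁ ^ n)⁻¹ ∈ P := by
    intro n
    induction n with
    | zero => exact ⟨fun v hv => by simpa [one_mem] using hv, fun x hx => by simpa using hx⟩
    | succ n ih =>
      refine ⟨fun v hv => ?_, fun x hx => ?_⟩
      · obtain ⟨h1, h2, h3⟩ := ih.1 v hv
        set w := z₁ ^ n * v * (z₁ ^ n)⁻¹ with hw
        set w' := z ^ n * v * (z ^ n)⁻¹ with hw'
        rw [pow_succ' z₁, pow_succ' z, show z₁ * z₁ ^ n * v * (z₁ * z₁ ^ n)⁻¹ = z₁ * w * z₁⁻¹ by rw [hw]; group,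
          show z * z ^ n * v * (z * z ^ n)⁻¹ = z * w' * z⁻¹ by rw [hw']; group]
        refine ⟨hz₁Q _ h1, Z.norm_Q _ h2, ?_⟩
        rw [show z₁ * w * z₁⁻¹ * (z * w' * z⁻¹)⁻¹ = (z₁ * (w * w'⁻¹) * z₁⁻¹) *
          (m * (z * w' * z⁻¹) * m⁻¹ * (z * w' * z⁻¹)⁻¹) by rw [hz₁]; group, (hz₁E _ h3).eq, mul_inv_cancel_right]
        exact mul_mem h3 (hmK.2 _ (Z.norm_Q _ h2)).2
      · rw [pow_succ' z₁, show z₁ * z₁ ^ n * x * (z₁ * z₁ ^ n)⁻¹ = z₁ * (z₁ ^ n * x * (z₁ ^ n)⁻¹) * z₁⁻¹ by group]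
        exact hz₁P _ (ih.2 x hx)
  obtain ⟨k', m', hm', hkm⟩ := Nat.exists_eq_two_pow_mul_odd (orderOf_pos z₁).ne'
  obtain ⟨l, hl'⟩ := exists_pow_eq_self_of_coprime (n := 2 ^ k') (x := z)
    ((Nat.coprime_two_left.2 Z.odd).pow_left k')
  set N := 2 ^ k' * l with hNd
  have hzN : z ^ N = z := by rw [hNd, pow_mul, hl']
  refine ⟨z₁ ^ N, ⟨?_, ⟨pow_mem (show z₁ ∈ stabilizer G a from hz₁a) _,
    pow_mem (show z₁ ∈ stabilizer G b from hz₁b) _⟩, hz₁u.pow_left _, fun r hr => (hz₁R r hr).pow_left _,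
    fun e he => (hz₁E e he).pow_left _, fun v hv => ((hiter N).1 v hv).1, fun v hv hve => ?_⟩, (hiter N).2⟩
  · refine hm'.of_dvd_nat (orderOf_dvd_of_pow_eq_one ?_)
    rw [← pow_mul, show N * m' = orderOf z₁ * l by rw [hkm, hNd]; ring, pow_mul, pow_orderOf_eq_one, one_pow]
  · refine Z.free v hv ?_
    have h3 := ((hiter N).1 v hv).2.2
    rw [hzN] at h3
    rw [show z * v * z⁻¹ * v⁻¹ = (z₁ ^ N * v * (z₁ ^ N)⁻¹ * (z * v * z⁻¹)⁻¹)⁻¹ *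
      (z₁ ^ N * v * (z₁ ^ N)⁻¹ * v⁻¹) by group]
    exact mul_mem (inv_mem h3) hve

/-- Every element of `P` has a multiple in `P0` centralising `Q` and `ζ`. -/
theorem cover_three {u : G} {a b : Ω} {E : Subgroup G} {q i : ℕ}
    {R P0 Q P : Subgroup G} (M : ModelSyl D u a b E q i R P0 Q P)
    (hC : ∀ x ∈ P, ∀ y ∈ Q, x * y * x⁻¹ * y⁻¹ ∈ E) {z : G} (Z : ZetaOn u a b E R Q z)
    (hzP : ∀ x ∈ P, z * x * z⁻¹ ∈ P) {x : G} (hx : x ∈ P) :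
    ∃ n ∈ P0, Commute z (x * n) ∧ ∀ y ∈ Q, Commute (x * n) y := by
  classical
  haveI := Fact.mk Nat.prime_two
  have hzP0 : ∀ g ∈ P0, z * g * z⁻¹ ∈ P0 := fun g hg =>
    (M.mem_P0 _).2 ⟨hzP g ((M.mem_P0 g).1 hg).1,
      (Z.comm_u.mul_left ((M.mem_P0 g).1 hg).2).mul_left Z.comm_u.inv_left⟩
  obtain ⟨e, he, hxe⟩ := M.exists_shift hx
  have hz' : z * x * z⁻¹ * u * (z * x * z⁻¹)⁻¹ = u * e := by
    calc z * x * z⁻¹ * u * (z * x * z⁻¹)⁻¹ = z * x * (z⁻¹ * u * z) * x⁻¹ * z⁻¹ := by group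
      _ = z * (x * u * x⁻¹) * z⁻¹ := by
        rw [show z⁻¹ * u * z = u by rw [mul_assoc, ← Z.comm_u.eq, inv_mul_cancel_left]]; group
      _ = u * e := by rw [hxe, (Z.comm_u.mul_right (Z.comm_E e he)).eq, mul_inv_cancel_right]
  have hk : x⁻¹ * (z * x * z⁻¹) ∈ P0 := by
    refine (M.mem_P0 _).2 ⟨mul_mem (inv_mem hx) (hzP x hx), mul_inv_eq_iff_eq_mul.1 ?_⟩
    rw [show x⁻¹ * (z * x * z⁻¹) * u * (x⁻¹ * (z * x * z⁻¹))⁻¹ =
      x⁻¹ * (z * x * z⁻¹ * u * (z * x * z⁻¹)⁻¹) * x by group, hz', ← hxe]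
    group
  obtain ⟨n, hn, hc⟩ := exists_fixed_in_coset M.two Z.odd hzP0 hk
  refine ⟨n, hn, hc, fun y hy => ?_⟩
  set g := x * n with hg
  have hgP : g ∈ P := mul_mem hx ((M.mem_P0 n).1 hn).1
  have hmul : ∀ v ∈ Q, ∀ w ∈ Q,
      g * (v * w) * g⁻¹ * (v * w)⁻¹ = g * v * g⁻¹ * v⁻¹ * (g * w * g⁻¹ * w⁻¹) := fun v hv w hw => by
    rw [show g * (v * w) * g⁻¹ * (v * w)⁻¹ = g * v * g⁻¹ * v⁻¹ * (v * (g * w * g⁻¹ * w⁻¹) * v⁻¹) by group,
      (M.comm_E (M.Q_P hv) (hC g hgP w hw)).eq, mul_inv_cancel_right]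
  obtain ⟨y', hy', e', he', rfl⟩ := h.zeta_cover M Z hy
  suffices h0 : g * (z * y' * z⁻¹ * y'⁻¹) * g⁻¹ * (z * y' * z⁻¹ * y'⁻¹)⁻¹ = 1 by
    have hcm : Commute g (z * y' * z⁻¹ * y'⁻¹) := mul_inv_eq_iff_eq_mul.1 (mul_inv_eq_one.1 h0)
    exact hcm.mul_right (M.comm_E hgP he')
  have hzy := Z.norm_Q y' hy'
  rw [hmul _ hzy _ (inv_mem hy')]
  have h1 : g * (z * y' * z⁻¹) * g⁻¹ * (z * y' * z⁻¹)⁻¹ = g * y' * g⁻¹ * y'⁻¹ := by
    calc g * (z * y' * z⁻¹) * g⁻¹ * (z * y' * z⁻¹)⁻¹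
          = (g * z) * y' * (g * z)⁻¹ * (z * y' * z⁻¹)⁻¹ := by group
      _ = (z * g) * y' * (z * g)⁻¹ * (z * y' * z⁻¹)⁻¹ := by rw [hc.eq]
      _ = z * (g * y' * g⁻¹ * y'⁻¹) * z⁻¹ := by group
      _ = _ := by rw [(Z.comm_E _ (hC g hgP y' hy')).eq, mul_inv_cancel_right]
  rw [h1, ← hmul _ hy' _ (inv_mem hy')]
  simp

end Crit

end CfsgLib.AschCrit
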