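import Mathlib
import Cfsg.Agent.Lib.Invol.AschCrit.ToolsDef
import Cfsg.Agent.Lib.ClassSizes.BrauerWielandtFour

/-!
Owner: helper15. Aschbacher's criterion (S1175), slices E and F: four tools of `ToolsDef`
(equivariant forms on a Singer group, 2-groups normalised by a Singer cycle, the fibre formula).
-/

set_option autoImplicit false

namespace CfsgLib.AschCrit

universe v w

section Singer

variable {V : Type v} [AddCommGroup V] {c : V ≃+ V}

theorem singer_iterate_add (c : V ≃+ V) (n : ℕ) (x y : V) :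
    (⇑c)^[n] (x + y) = (⇑c)^[n] x + (⇑c)^[n] y := by
  induction n generalizing x y with
  | zero => rfl
  | succ n ih => rw [Function.iterate_succ_apply, Function.iterate_succ_apply, Function.iterate_succ_apply,
      map_add, ih]

theorem singer_iterate_zero (c : V ≃+ V) (n : ℕ) : (⇑c)^[n] (0 : V) = 0 :=
  Function.iterate_fixed (map_zero c) n

theorem Singer.card_even [Finite V] (hc : Singer c) {x : V} (hx : x ≠ 0) : Even (Nat.card V) := by
  rw [even_iff_two_dvd]
  have h2 : addOrderOf x = 2 := addOrderOf_eq_prime (by rw [two_nsmul]; exact hc.1 x) hx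
  exact h2 ▸ addOrderOf_dvd_natCard x

theorem Singer.period [Finite V] (hc : Singer c) {x : V} (hx : x ≠ 0) :
    Odd (Function.minimalPeriod (⇑c) x) := by
  set p := Function.minimalPeriod (⇑c) x with hp
  have hper : x ∈ Function.periodicPts (⇑c) :=
    Function.Injective.mem_periodicPts c.injective x
  have hpos : 0 < p := Function.minimalPeriod_pos_of_mem_periodicPts hper
  have hne : ∀ j : ℕ, (⇑c)^[j] x ≠ 0 := fun j h =>
    hx (c.injective.iterate j (h.trans (singer_iterate_zero c j).symm))
  have e : Nat.card (Fin p) = Nat.card {y : V // y ≠ 0} := by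
    refine Nat.card_eq_of_bijective (fun j : Fin p => (⟨(⇑c)^[j] x, hne j⟩ : {y : V // y ≠ 0}))
      ⟨fun i j h => ?_, fun y => ?_⟩
    · exact Fin.ext (Function.iterate_injOn_Iio_minimalPeriod i.2 j.2 (congrArg Subtype.val h))
    · obtain ⟨j, hj⟩ := hc.2 x y hx y.2
      exact ⟨⟨j % p, Nat.mod_lt _ hpos⟩,
        Subtype.ext ((Function.iterate_mod_minimalPeriod_eq).trans hj)⟩
  have := Fintype.ofFinite V
  classical
  rw [Nat.card_fin, Nat.card_eq_fintype_card, Fintype.card_subtype_compl,
    Fintype.card_subtype_eq] at e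
  have heven := hc.card_even hx
  rw [Nat.card_eq_fintype_card] at heven
  obtain ⟨k, hk⟩ := heven
  have hone : 0 < Fintype.card V := Fintype.card_pos
  exact ⟨k - 1, by omega⟩

end Singer

theorem equivariantAlternating : EquivariantAlternating.{v} := by
  intro V _ _ c B hc hadd hadd' hdiag hcomm
  have hzero : ∀ y, B 0 y = 0 := fun y => by
    have h := hadd 0 0 y
    rw [add_zero] at h
    exact left_eq_add.1 h
  have hzero' : ∀ y, B y 0 = 0 := fun y => by
    have h := hadd' y 0 0
    rw [add_zero] at h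
    exact left_eq_add.1 h
  have hiter : ∀ (n : ℕ) (x y : V), B ((⇑c)^[n] x) ((⇑c)^[n] y) = (⇑c)^[n] (B x y) := by
    intro n
    induction n with
    | zero => intros; rfl
    | succ n ih => intro x y; rw [Function.iterate_succ_apply', Function.iterate_succ_apply',
        Function.iterate_succ_apply', hcomm, ih]
  -- `c ^ j + 1` is zero or a power of `c`, so `c ^ j` moves through `B`
  have hmove : ∀ (j : ℕ) (x y : V), B ((⇑c)^[j] x) y = B x ((⇑c)^[j] y) := by
    intro j x y
    by_cases hx : x = 0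
    · rw [hx, singer_iterate_zero, hzero, hzero]
    have hd : ∃ d : V → V, (∀ z, d z = (⇑c)^[j] z + z) ∧ B (d x) (d y) = d (B x y) := by
      refine ⟨fun z => (⇑c)^[j] z + z, fun z => rfl, ?_⟩
      by_cases hfix : (⇑c)^[j] x + x = 0
      · have hall : ∀ z, (⇑c)^[j] z + z = 0 := by
          intro z
          by_cases hz : z = 0
          · rw [hz, singer_iterate_zero, add_zero]
          obtain ⟨k, rfl⟩ := hc.2 x z hx hz
          rw [← Function.iterate_add_apply, Nat.add_comm j k, Function.iterate_add_apply,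
            ← singer_iterate_add, hfix, singer_iterate_zero]
        simp only [hall, hzero]
      · obtain ⟨l, hl⟩ := hc.2 x _ hx hfix
        have hall : ∀ z, (⇑c)^[j] z + z = (⇑c)^[l] z := by
          intro z
          by_cases hz : z = 0
          · rw [hz, singer_iterate_zero, singer_iterate_zero, add_zero]
          obtain ⟨k, rfl⟩ := hc.2 x z hx hz
          rw [← Function.iterate_add_apply, Nat.add_comm j k, Function.iterate_add_apply,
            ← singer_iterate_add, ← hl, ← Function.iterate_add_apply, Nat.add_comm k l,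
            Function.iterate_add_apply]
        simp only [hall, hiter]
    obtain ⟨d, hd, h⟩ := hd
    rw [hd, hd, hd, hadd, hadd', hadd', hiter] at h
    have h2 : B ((⇑c)^[j] x) y + B x ((⇑c)^[j] y) = 0 := by
      have : (⇑c)^[j] (B x y) + (B ((⇑c)^[j] x) y + B x ((⇑c)^[j] y)) + B x y =
          (⇑c)^[j] (B x y) + 0 + B x y := by
        rw [add_zero]
        refine Eq.trans ?_ h
        abel
      exact add_left_cancel (add_right_cancel this)
    exact add_right_cancel (h2.trans (hc.1 (B x ((⇑c)^[j] y))).symm)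
  intro x y
  by_cases hx : x = 0
  · rw [hx, hzero]
  by_cases hy : y = 0
  · rw [hy, hzero']
  obtain ⟨m, hm⟩ := hc.period hx
  obtain ⟨k, rfl⟩ := hc.2 x y hx hy
  have hsq : (⇑c)^[k * (m + 1) + k * (m + 1)] x = (⇑c)^[k] x := by
    have hp : Function.IsPeriodicPt (⇑c) (Function.minimalPeriod (⇑c) x * k) x :=
      (Function.isPeriodicPt_minimalPeriod (⇑c) x).mul_const k
    rw [show k * (m + 1) + k * (m + 1) = k + Function.minimalPeriod (⇑c) x * k by rw [hm]; ring,
      Function.iterate_add_apply, hp.eq]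
  rw [← hsq, Function.iterate_add_apply, ← hmove, hdiag]

theorem invariantQuadratic : InvariantQuadratic.{v, w} := by
  intro V _ _ W _ c Q hc hV hW h0 hpolar hinv x
  by_cases hx : x = 0
  · rw [hx, h0]
  have hiter : ∀ (n : ℕ) (z : V), Q ((⇑c)^[n] z) = Q z := by
    intro n
    induction n with
    | zero => intro z; rfl
    | succ n ih => intro z; rw [Function.iterate_succ_apply, ih, hinv]
  have hconst : ∀ z : V, z ≠ 0 → Q z = Q x := fun z hz => by
    obtain ⟨j, rfl⟩ := hc.2 x z hx hz
    exact hiter j x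
  have := Fintype.ofFinite V
  classical
  rw [Nat.card_eq_fintype_card] at hV
  obtain ⟨y, -, hy⟩ := Finset.exists_mem_notMem_of_card_lt_card
    (s := ({0, x} : Finset V)) (t := Finset.univ)
    (by rw [Finset.card_univ]; exact lt_of_le_of_lt Finset.card_le_two (by omega))
  obtain ⟨z, -, hz⟩ := Finset.exists_mem_notMem_of_card_lt_card
    (s := ({0, x, y, x + y} : Finset V)) (t := Finset.univ)
    (by rw [Finset.card_univ]; exact lt_of_le_of_lt Finset.card_le_four (by omega))
  simp only [Finset.mem_insert, Finset.mem_singleton, not_or] at hy hz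
  have heq : ∀ a b : V, a + b = 0 → a = b := fun a b h => add_right_cancel (h.trans (hc.1 b).symm)
  have n1 : x + y ≠ 0 := fun h => hy.2 (heq _ _ h).symm
  have n2 : x + z ≠ 0 := fun h => hz.2.1 (heq _ _ h).symm
  have n3 : y + z ≠ 0 := fun h => hz.2.2.1 (heq _ _ h).symm
  have n4 : x + y + z ≠ 0 := fun h => hz.2.2.2 (heq _ _ h).symm
  have h := hpolar x y z
  rw [hconst _ n4, hconst _ n1, hconst _ n2, hconst _ n3, hconst _ hy.1, hconst _ hz.1] at h
  simpa [hW, add_assoc] using h

theorem unipotentTrivial : UnipotentTrivial.{v} := by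
  intro V _ _ c A hc hA hlin hnorm g hg
  have hgz : ∀ g ∈ A, g 0 = 0 := fun g hg => by
    have h := hlin g hg 0 0
    rw [add_zero] at h
    exact left_eq_add.1 h
  by_cases hV : ∀ x : V, x = 0
  · exact Equiv.ext fun x => (hV _).trans (hV _).symm
  push Not at hV
  obtain ⟨x, hx⟩ := hV
  obtain ⟨v, hv, hv0⟩ : ∃ v : V, v ∈ MulAction.fixedPoints A V ∧ v ≠ 0 := by
    have : Fact (Nat.Prime 2) := ⟨Nat.prime_two⟩
    by_contra! hcon
    have huniq : Nat.card (MulAction.fixedPoints A V) = 1 := by
      rw [Nat.card_eq_one_iff_exists]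
      exact ⟨⟨0, fun g => hgz g g.2⟩, fun y => Subtype.ext (hcon y y.2)⟩
    have hmod := hA.card_modEq_card_fixedPoints V
    rw [huniq, Nat.ModEq, Nat.even_iff.1 (hc.card_even hx)] at hmod
    omega
  -- the conjugates by `c⁻¹` stay inside
  have hback : ∀ g ∈ A, c.toEquiv⁻¹ * g * c.toEquiv ∈ A := by
    intro g hg
    let f : A → A := fun a => ⟨c.toEquiv * a * c.toEquiv⁻¹, hnorm a a.2⟩
    have hf : Function.Injective f := fun a b h =>
      Subtype.ext (mul_left_cancel (mul_right_cancel (congrArg Subtype.val h)))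
    obtain ⟨a, ha⟩ := (Finite.surjective_of_injective hf) ⟨g, hg⟩
    have ha' : c.toEquiv * (a : Equiv.Perm V) * c.toEquiv⁻¹ = g := congrArg Subtype.val ha
    rw [← ha']
    convert a.2 using 1
    group
  have hstep : ∀ z : V, (∀ g ∈ A, g z = z) → ∀ g ∈ A, g (c z) = c z := by
    intro z hz g hg
    exact (c.toEquiv.symm_apply_eq).1 (hz _ (hback g hg))
  have hall : ∀ (j : ℕ), ∀ g ∈ A, g ((⇑c)^[j] v) = (⇑c)^[j] v := by
    intro j
    induction j with
    | zero => exact fun g hg => hv ⟨g, hg⟩
    | succ j ih => rw [Function.iterate_succ_apply']; exact hstep _ ih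
  refine Equiv.ext fun z => ?_
  by_cases hz : z = 0
  · rw [hz]; exact hgz g hg
  obtain ⟨j, rfl⟩ := hc.2 v z hv0 hz
  exact hall j g hg

section Fibre

variable {G : Type v} [Group G]

/-- The order of the centraliser of a set in a subgroup. -/
noncomputable def centNum (X : Subgroup G) (A : Set G) : ℕ :=
  Nat.card {x : G // x ∈ X ∧ ∀ e ∈ A, Commute x e}

theorem centNum_singleton (X : Subgroup G) (e : G) :
    centNum X {e} = Nat.card {x : G // x ∈ X ∧ Commute x e} :=
  Nat.card_congr (Equiv.subtypeEquivRight fun x => by simp)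

variable [Finite G]

theorem bw_pair (X : Subgroup G) (hX : Odd (Nat.card X)) {s t : G} (hs : s * s = 1) (ht : t * t = 1)
    (hst : Commute s t) (hsX : ∀ x ∈ X, s * x * s⁻¹ ∈ X) (htX : ∀ x ∈ X, t * x * t⁻¹ ∈ X) :
    Nat.card X * centNum X {s, t} ^ 2 = centNum X {s} * centNum X {t} * centNum X {s * t} := by
  have hsi : s⁻¹ = s := inv_eq_of_mul_eq_one_left hs
  have hti : t⁻¹ = t := inv_eq_of_mul_eq_one_left ht
  have conj2 : ∀ {g : G}, g * g = 1 → ∀ x : G, g * (g * x * g⁻¹) * g⁻¹ = x := fun {g} hg x => by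
    rw [show g * (g * x * g⁻¹) * g⁻¹ = g * g * x * (g * g)⁻¹ by group, hg]; simp
  let mk : ∀ g : G, g * g = 1 → (∀ x ∈ X, g * x * g⁻¹ ∈ X) → (X ≃* X) := fun g hg hgX =>
    { toFun := fun x => ⟨g * x * g⁻¹, hgX x x.2⟩
      invFun := fun x => ⟨g * x * g⁻¹, hgX x x.2⟩
      left_inv := fun x => Subtype.ext (conj2 hg x)
      right_inv := fun x => Subtype.ext (conj2 hg x)
      map_mul' := fun x y => Subtype.ext (by push_cast; group) }
  have key := CfsgLib.ClassSizes.BWFour.brauer_wielandt hX (mk s hs hsX) (mk t ht htX)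
    (fun x => Subtype.ext (conj2 hs x)) (fun x => Subtype.ext (conj2 ht x))
    (fun x => Subtype.ext (show s * (t * x * t⁻¹) * s⁻¹ = t * (s * x * s⁻¹) * t⁻¹ by
      rw [show s * (t * (x : G) * t⁻¹) * s⁻¹ = s * t * x * (s * t)⁻¹ by group, hst.eq]
      group))
  have hiff : ∀ g x : G, g * x * g⁻¹ = x ↔ Commute x g := fun g x => by
    rw [mul_inv_eq_iff_eq_mul]; exact eq_comm
  have hcard : ∀ (p : X → Prop) (A : Set G), (∀ x : X, p x ↔ ∀ e ∈ A, Commute (x : G) e) →
      Nat.card {x : X // p x} = centNum X A := fun p A hp => Nat.card_congr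
    { toFun := fun x => ⟨x.1, x.1.2, (hp _).1 x.2⟩
      invFun := fun x => ⟨⟨x.1, x.2.1⟩, (hp _).2 x.2.2⟩
      left_inv := fun _ => rfl
      right_inv := fun _ => rfl }
  rw [hcard _ {s, t} fun x => by
      simp only [Subtype.ext_iff, mk, MulEquiv.coe_mk, Equiv.coe_fn_mk, hiff, Set.mem_insert_iff,
        Set.mem_singleton_iff, forall_eq_or_imp, forall_eq],
    hcard _ {s} fun x => by
      simp only [Subtype.ext_iff, mk, MulEquiv.coe_mk, Equiv.coe_fn_mk, hiff, Set.mem_singleton_iff,
        forall_eq],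
    hcard _ {t} fun x => by
      simp only [Subtype.ext_iff, mk, MulEquiv.coe_mk, Equiv.coe_fn_mk, hiff, Set.mem_singleton_iff,
        forall_eq],
    hcard _ {s * t} fun x => by
      simp only [Subtype.ext_iff, mk, MulEquiv.coe_mk, Equiv.coe_fn_mk, Set.mem_singleton_iff,
        forall_eq, ← hiff]
      rw [show s * (t * (x : G) * t⁻¹) * s⁻¹ = s * t * x * (s * t)⁻¹ by group]] at key
  exact key

open Classical in
/-- The product formula for the centralisers of an elementary abelian group acting on an odd group. -/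
theorem centNum_prod (E : Subgroup G) (hinv : ∀ e ∈ E, e * e = 1)
    (hcomm : ∀ e ∈ E, ∀ f ∈ E, Commute e f) :
    ∀ X : Subgroup G, Odd (Nat.card X) → (∀ e ∈ E, ∀ x ∈ X, e * x * e⁻¹ ∈ X) →
      (Nat.card X * centNum X (E : Set G)) ^ Nat.card E =
        (∏ e ∈ (Set.toFinite (E : Set G)).toFinset, centNum X {e}) ^ 2 := by
  have := Fintype.ofFinite G
  let Good : Finset G → Prop := fun A => (∀ a ∈ A, a ∈ E) ∧ 1 ∈ A ∧ (∀ a ∈ A, ∀ b ∈ A, a * b ∈ A) ∧
    ∀ X : Subgroup G, Odd (Nat.card X) → (∀ e ∈ E, ∀ x ∈ X, e * x * e⁻¹ ∈ X) →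
      (Nat.card X * centNum X (A : Set G)) ^ A.card = (∏ e ∈ A, centNum X {e}) ^ 2
  have hgood1 : Good {1} := by
    refine ⟨by simp [E.one_mem], by simp, by simp, fun X _ _ => ?_⟩
    have h1 : centNum X {1} = Nat.card X :=
      Nat.card_congr (Equiv.subtypeEquivRight fun x => by simp)
    rw [Finset.coe_singleton, Finset.card_singleton, Finset.prod_singleton, h1, pow_one, pow_two]
  obtain ⟨A, hA, hmax⟩ := Finset.exists_max_image (Finset.univ.filter Good) Finset.card
    ⟨{1}, Finset.mem_filter.2 ⟨Finset.mem_univ _, hgood1⟩⟩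
  obtain ⟨hAE, hA1, hAmul, hAform⟩ := (Finset.mem_filter.1 hA).2
  suffices hAall : A = (Set.toFinite (E : Set G)).toFinset by
    intro X hX hXE
    have h := hAform X hX hXE
    rw [hAall, Set.Finite.coe_toFinset] at h
    rw [← h]
    congr 1
    exact (Nat.card_coe_set_eq (E : Set G)).trans (Set.ncard_eq_toFinset_card _ _)
  by_contra hne
  obtain ⟨f, hfE, hfA⟩ : ∃ f ∈ E, f ∉ A := by
    by_contra! hcon
    exact hne (Finset.ext fun a => by simpa using ⟨hAE a, hcon a⟩)
  have hf2 := hinv f hfE
  have hdisj : Disjoint A (A.image (· * f)) := by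
    rw [Finset.disjoint_left]
    intro a ha ha'
    obtain ⟨b, hb, rfl⟩ := Finset.mem_image.1 ha'
    refine hfA ?_
    have := hAmul b hb _ ha
    rwa [← mul_assoc, hinv b (hAE b hb), one_mul] at this
  have hnew : Good (A ∪ A.image (· * f)) := by
    refine ⟨?_, Finset.mem_union_left _ hA1, ?_, fun X hX hXE => ?_⟩
    · intro a ha
      rcases Finset.mem_union.1 ha with ha | ha
      · exact hAE a ha
      · obtain ⟨b, hb, rfl⟩ := Finset.mem_image.1 ha
        exact E.mul_mem (hAE b hb) hfE
    · intro a ha b hb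
      simp only [Finset.mem_union, Finset.mem_image] at ha hb ⊢
      rcases ha with ha | ⟨a', ha, rfl⟩ <;> rcases hb with hb | ⟨b', hb, rfl⟩
      · exact Or.inl (hAmul a ha b hb)
      · exact Or.inr ⟨a * b', hAmul a ha b' hb, by rw [mul_assoc]⟩
      · exact Or.inr ⟨a' * b, hAmul a' ha b hb, by
          rw [mul_assoc a' b, (hcomm b (hAE b hb) f hfE).eq, mul_assoc]⟩
      · exact Or.inl (by
          rw [mul_assoc, ← mul_assoc f b', (hcomm f hfE b' (hAE b' hb)).eq, mul_assoc b', hf2, mul_one]
          exact hAmul a' ha b' hb)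
    · -- the subgroup centralising `f`
      set Y : Subgroup G := X ⊓ Subgroup.centralizer ({f} : Set G) with hY
      have hmemY : ∀ x, x ∈ Y ↔ x ∈ X ∧ Commute x f := fun x =>
        ⟨fun h => ⟨h.1, Subgroup.mem_centralizer_singleton_iff.1 h.2⟩,
          fun h => ⟨h.1, Subgroup.mem_centralizer_singleton_iff.2 h.2⟩⟩
      have hYodd : Odd (Nat.card Y) := hX.of_dvd_nat (Subgroup.card_dvd_of_le inf_le_left)
      have hYE : ∀ e ∈ E, ∀ x ∈ Y, e * x * e⁻¹ ∈ Y := fun e he x hx => (hmemY _).2
        ⟨hXE e he x ((hmemY x).1 hx).1,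
          ((hcomm e he f hfE).mul_left ((hmemY x).1 hx).2).mul_left (hcomm e he f hfE).inv_left⟩
      have cardY : Nat.card Y = centNum X {f} :=
        Nat.card_congr (Equiv.subtypeEquivRight fun x => by rw [hmemY]; simp)
      have centY : ∀ e : G, centNum Y {e} = centNum X {e, f} := fun e =>
        Nat.card_congr (Equiv.subtypeEquivRight fun x => by
          simp only [hmemY, Set.mem_singleton_iff, forall_eq, Set.mem_insert_iff, forall_eq_or_imp]
          tauto)
      have centYA : centNum Y (A : Set G) = centNum X ((A ∪ A.image (· * f) : Finset G) : Set G) :=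
        Nat.card_congr (Equiv.subtypeEquivRight fun x => by
          simp only [hmemY, Finset.coe_union, Finset.coe_image, Set.mem_union, Set.mem_image,
            Finset.mem_coe]
          constructor
          · rintro ⟨⟨hxX, hxf⟩, hxA⟩
            refine ⟨hxX, ?_⟩
            rintro e (he | ⟨a, ha, rfl⟩)
            · exact hxA e he
            · exact (hxA a ha).mul_right hxf
          · rintro ⟨hxX, hxA⟩
            refine ⟨⟨hxX, ?_⟩, fun e he => hxA e (Or.inl he)⟩
            simpa using hxA f (Or.inr ⟨1, hA1, one_mul f⟩))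
      have ih := hAform Y hYodd hYE
      rw [cardY, centYA] at ih
      simp only [centY] at ih
      have hbw : ∏ e ∈ A, (Nat.card X * centNum X {e, f} ^ 2) =
          ∏ e ∈ A, (centNum X {e} * centNum X {f} * centNum X {e * f}) :=
        Finset.prod_congr rfl fun e he => bw_pair X hX (hinv e (hAE e he)) hf2
          (hcomm e (hAE e he) f hfE) (hXE e (hAE e he)) (hXE f hfE)
      simp only [Finset.prod_mul_distrib, Finset.prod_const, Finset.prod_pow] at hbw
      rw [← ih] at hbw
      set n := centNum X ((A ∪ A.image (· * f) : Finset G) : Set G)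
      have hpos : 0 < centNum X {f} := by
        rw [← cardY]; exact Nat.card_pos
      have hhalf : (Nat.card X * n) ^ A.card =
          (∏ e ∈ A, centNum X {e}) * ∏ e ∈ A, centNum X {e * f} := by
        refine Nat.eq_of_mul_eq_mul_left (pow_pos hpos A.card) ?_
        refine Eq.trans ?_ (hbw.trans ?_) <;> ring
      rw [Finset.card_union_of_disjoint hdisj, Finset.prod_union hdisj,
        Finset.card_image_of_injective _ (mul_left_injective f),
        Finset.prod_image fun _ _ _ _ h => mul_left_injective f h, pow_add, hhalf]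
      ring
  have := hmax _ (Finset.mem_filter.2 ⟨Finset.mem_univ _, hnew⟩)
  rw [Finset.card_union_of_disjoint hdisj, Finset.card_image_of_injective _ (mul_left_injective f)] at this
  have : 0 < A.card := Finset.card_pos.2 ⟨1, hA1⟩
  omega

end Fibre

theorem hyperplaneProduct : HyperplaneProduct.{v} := by
  intro G _ _ O E h hO hinv hcomm hEO hhO _ htrans e he he1
  classical
  have hiter : ∀ (j : ℕ), ∀ x ∈ O, h ^ j * x * (h ^ j)⁻¹ ∈ O := by
    intro j
    induction j with
    | zero => intro x hx; simpa using hx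
    | succ j ih =>
      intro x hx
      convert hhO _ (ih x hx) using 1
      rw [pow_succ']; group
  have hle : ∀ f ∈ E, ∀ g ∈ E, f ≠ 1 → g ≠ 1 → centNum O {f} ≤ centNum O {g} := by
    intro f hf g hg hf1 hg1
    obtain ⟨j, rfl⟩ := htrans f hf g hg hf1 hg1
    refine Nat.card_le_card_of_injective
      (fun x => ⟨h ^ j * x.1 * (h ^ j)⁻¹, hiter j _ x.2.1, ?_⟩)
      (fun x y hxy => Subtype.ext (mul_left_cancel (mul_right_cancel (congrArg Subtype.val hxy))))
    intro z hz
    rw [Set.mem_singleton_iff] at hz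
    rw [hz]
    have hc : Commute x.1 f := x.2.2 f rfl
    exact (Commute.conj_iff (h ^ j)).2 hc
  set T := (Set.toFinite (E : Set G)).toFinset with hT
  have hcardT : T.card = Nat.card E :=
    ((Nat.card_coe_set_eq (E : Set G)).trans (Set.ncard_eq_toFinset_card _ _)).symm
  have hmain := centNum_prod E hinv hcomm O hO hEO
  rw [← Finset.mul_prod_erase T _ (show (1 : G) ∈ T by simp [hT, E.one_mem]),
    Finset.prod_congr rfl (fun f hf => by
      have hf' : f ≠ 1 ∧ f ∈ E := by simpa [hT] using hf
      exact le_antisymm (hle f hf'.2 e he hf'.1 he1) (hle e he f hf'.2 he1 hf'.1)),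
    Finset.prod_const, Finset.card_erase_of_mem (show (1 : G) ∈ T by simp [hT, E.one_mem]), hcardT,
    show centNum O ({1} : Set G) = Nat.card O from
      Nat.card_congr (Equiv.subtypeEquivRight fun x => by simp)] at hmain
  obtain ⟨m, hm⟩ : 2 ∣ Nat.card E := by
    have h2 : orderOf (⟨e, he⟩ : E) = 2 := by
      rw [Subgroup.orderOf_mk]
      exact orderOf_eq_prime (by rw [pow_two]; exact hinv e he) he1
    exact h2 ▸ orderOf_dvd_natCard _
  have hm0 : m ≠ 0 := by
    rintro rfl
    exact Nat.card_pos.ne' (hm.trans (Nat.mul_zero 2))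
  have hm2 : Nat.card E / 2 = m := by rw [hm]; exact Nat.mul_div_cancel_left m (by norm_num)
  rw [hm2, ← centNum_singleton O e]
  set B := centNum O {e}
  set C := centNum O (E : Set G)
  set A := Nat.card O with hA
  have hBA : B ∣ A := by
    have : B = Nat.card (O ⊓ Subgroup.centralizer ({e} : Set G) : Subgroup G) :=
      Nat.card_congr (Equiv.subtypeEquivRight fun x => by
        simp [Subgroup.mem_centralizer_singleton_iff, commute_iff_eq])
    rw [this]
    exact Subgroup.card_dvd_of_le inf_le_left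
  obtain ⟨k, hk⟩ := hBA
  have hhalf : (A * C) ^ m = A * B ^ (2 * m - 1) := by
    rw [hm, mul_comm 2 m, pow_mul] at hmain
    rw [mul_comm 2 m]
    exact Nat.pow_left_injective (by norm_num : (2 : ℕ) ≠ 0) hmain
  have hsq : (A * C) ^ m = (B * B) ^ m * k := by
    rw [hhalf, hk, mul_right_comm, ← pow_succ', show 2 * m - 1 + 1 = 2 * m by omega, pow_mul, pow_two]
  obtain ⟨y, hy⟩ : B * B ∣ A * C := (Nat.pow_dvd_pow_iff hm0).1 ⟨k, hsq⟩
  have hAy : A = y ^ m * B := by
    have hBpos : 0 < B := by
      by_contra h0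
      have : A = 0 := by rw [hk, Nat.le_zero.1 (Nat.not_lt.1 h0), zero_mul]
      exact (Nat.card_pos (α := O)).ne' this
    rw [hy, mul_pow] at hsq
    rw [Nat.eq_of_mul_eq_mul_left (pow_pos (Nat.mul_pos hBpos hBpos) m) hsq, hk, mul_comm]
  refine ⟨y, hO.of_dvd_nat ?_, hAy⟩
  rw [hAy]
  exact dvd_mul_of_dvd_left (dvd_pow_self y hm0) B

end CfsgLib.AschCrit
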