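import Cfsg.Agent.Lib.Invol.AschCrit.ModelQTwo
import Cfsg.Agent.Lib.Invol.AschCrit.ModelQThree
import Cfsg.Agent.Lib.Invol.AschCrit.ModelField
import Cfsg.Agent.Lib.Invol.AschCrit.ToolsProof

/-!
Owner: helper18. Aschbacher's criterion, slice E: the model of the Sylow group of the translations.

* `ModelSyl.sq_mem_E`: the squares of `P` lie in `E`.
* `Crit.exists_translations`: the translations `X` inside a subgroup covering `P / P0`.
* `Crit.modelExists`: the interface `ModelExists`.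
-/

set_option autoImplicit false
set_option linter.unusedSectionVars false

namespace CfsgLib.AschCrit

open Subgroup MulAction

universe u

variable {G : Type u} [Group G] [Finite G] {Ω : Type u} [MulAction G Ω]

namespace ModelSyl

variable {D : Set G} {u : G} {a b : Ω} {E : Subgroup G} {q i : ℕ} {R P0 Q P : Subgroup G}

/-- If the translations fix `Q` modulo `E`, the squares of `P` lie in `E`. -/
theorem sq_mem_E (M : ModelSyl D u a b E q i R P0 Q P) (hl : LData D u a b E q i) {α : G → G → G}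
    (A : ModelAlpha u E R P α) (hE2 : ∀ e ∈ E, e * e = 1)
    (hC : ∀ x ∈ P, ∀ y ∈ Q, x * y * x⁻¹ * y⁻¹ ∈ E) {x : G} (hx : x ∈ P) : x * x ∈ E := by
  have hP0 : ∀ g ∈ P0, g * g ∈ E := fun g hg => by
    obtain ⟨r, hr, y, hy, rfl⟩ := M.prod g hg
    rw [(M.Q_commute hr hy).mul_mul_mul_comm, A.R_sq r hr, one_mul]
    exact M.Q_sq y hy
  obtain ⟨e, he, hxe⟩ := M.exists_shift hx
  by_cases he1 : e = 1
  · exact hP0 x ((M.shift_one hx hxe).1 he1)
  have hxx : x * x * u * (x * x)⁻¹ = u * 1 := by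
    rw [shift_mul (E := E) (fun f hf => M.comm_E hx hf) he hxe hxe, hE2 e he]
  obtain ⟨r, hr, y, hy, hry⟩ := M.prod _ ((M.shift_one (mul_mem hx hx) hxx).1 rfl)
  -- `x * x` centralises `Q`
  have hQc : ∀ v ∈ Q, Commute (x * x) v := by
    intro v hv
    set d := x * v * x⁻¹ * v⁻¹ with hd
    have hdE := hC x hx v hv
    refine mul_inv_eq_iff_eq_mul.1 ?_
    calc x * x * v * (x * x)⁻¹ = x * d * x⁻¹ * (x * v * x⁻¹) := by rw [hd]; group
      _ = d * (d * v) := by rw [(M.comm_E hx hdE).eq, mul_inv_cancel_right, hd]; group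
      _ = v := by rw [← mul_assoc, hE2 d hdE, one_mul]
  have hyE : y ∈ E := M.centre_Q hl (Crit.four_le_q hl) hy fun v hv => by
    have h1 := (M.Q_commute hr hv).symm.inv_left.mul_left (hQc v hv)
    rwa [hry, inv_mul_cancel_left] at h1
  have hconj : x * r * x⁻¹ = r := by
    rw [show r = x * x * y⁻¹ by rw [hry, mul_inv_cancel_right],
      show x * (x * x * y⁻¹) * x⁻¹ = x * x * (x * y⁻¹ * x⁻¹) by group,
      (M.comm_E hx (inv_mem hyE)).eq, mul_inv_cancel_right]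
  have hα : α r e = 1 := by
    have h1 := A.conj r hr x hx e he hxe
    rw [hconj] at h1
    exact left_eq_mul.1 h1
  rw [hry, (A.inj r hr e he hα).resolve_right he1, one_mul]
  exact hyE

end ModelSyl

namespace Crit

variable {D : Set G} (h : Crit Ω D)
include h

/-- The translations inside a subgroup `W` covering `P / P0`. -/
theorem exists_translations {u : G} {a b : Ω} {E : Subgroup G} {q i : ℕ} (hl : LData D u a b E q i)
    {R P0 Q P : Subgroup G} (M : ModelSyl D u a b E q i R P0 Q P) {α : G → G → G} (A : ModelAlpha u E R P α)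
    {η : G} (T : ModelTorus u a b E R P η) (hC : ∀ x ∈ P, ∀ y ∈ Q, x * y * x⁻¹ * y⁻¹ ∈ E) {W : Subgroup G}
    (hWP : W ≤ P) (hEW : E ≤ W) (hWη : ∀ w ∈ W, η * w * η⁻¹ ∈ W) (hcov : ∀ x ∈ P, ∃ n ∈ P0, x * n ∈ W) :
    ∃ X : Subgroup G, E ≤ X ∧ X ≤ W ∧ (∀ x ∈ X, η * x * η⁻¹ ∈ X) ∧ (∀ x ∈ X, x ∈ P0 → x ∈ E) ∧
      (∀ e ∈ E, ∃ x ∈ X, x * u * x⁻¹ = u * e) ∧ Nat.card X = q * q ∧ (∀ x ∈ X, ∀ x' ∈ X, Commute x x') ∧
      ∀ g ∈ P, ∃ r ∈ R, ∃ x ∈ X, ∃ y ∈ Q, g = r * x * y := by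
  classical
  have hE2 : ∀ e ∈ E, e * e = 1 := fun e he => h.E_sq hl he
  set K : Subgroup G := W ⊓ P0 with hK
  have hEP0 : ∀ {e}, e ∈ E → e ∈ P0 := fun he => M.Q_P0 (M.E_Q he)
  obtain ⟨X, hEX, hXW, hXη, hXK, hWX⟩ := exists_invariant_complement (W := W) (K := K) (E := E)
    (fun e he => ⟨hEW he, hEP0 he⟩) inf_le_left (fun w hw e he => M.comm_E (hWP hw) he)
    (fun w hw => M.sq_mem_E hl A hE2 hC (hWP hw)) T.odd hWη
    (fun w hw => ⟨hWη w hw.1, (M.mem_P0 _).2 ⟨T.norm_P w (hWP hw.1),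
      (T.comm_u.mul_left ((M.mem_P0 w).1 hw.2).2).mul_left T.comm_u.inv_left⟩⟩) T.norm_E
  have hXP : ∀ {x}, x ∈ X → x ∈ P := fun hx => hWP (hXW hx)
  have hX0 : ∀ x ∈ X, x ∈ P0 → x ∈ E := fun x hx hx0 => hXK x hx ⟨hXW hx, hx0⟩
  -- every element of `P` is an element of `X` times one of `P0`
  have hdec : ∀ g ∈ P, ∃ k ∈ P0, ∃ x ∈ X, g = k * x := by
    intro g hg
    obtain ⟨n, hn, hgn⟩ := hcov g hg
    obtain ⟨k, hk, x, hx, hkx⟩ := hWX _ hgn
    refine ⟨k * (x * n⁻¹ * x⁻¹), mul_mem hk.2 (M.conj_P0 (hXP hx) (inv_mem hn)), x, hx, ?_⟩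
    rw [show g = g * n * n⁻¹ by group, hkx]
    group
  have honto : ∀ e ∈ E, ∃ x ∈ X, x * u * x⁻¹ = u * e := by
    intro e he
    obtain ⟨g, hg, hge⟩ := M.onto e he
    obtain ⟨k, hk, x, hx, rfl⟩ := hdec g hg
    obtain ⟨f, hf, hxf⟩ := M.exists_shift (hXP hx)
    refine ⟨x, hx, ?_⟩
    have hku : k * u * k⁻¹ = u * 1 := by rw [((M.mem_P0 k).1 hk).2.eq, mul_inv_cancel_right, mul_one]
    have h1 := shift_mul (E := E) (fun f' hf' => M.comm_E ((M.mem_P0 k).1 hk).1 hf') hf hku hxf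
    rw [hge, one_mul] at h1
    rw [hxf, mul_left_cancel h1]
  let ψ : X →* E := MonoidHom.mk' (fun x => ⟨u⁻¹ * ((x : G) * u * (x : G)⁻¹), (M.P_sub (hXP x.2)).2.2⟩) fun x y =>
    Subtype.ext (by
      show u⁻¹ * ((x : G) * y * u * ((x : G) * y)⁻¹) = u⁻¹ * ((x : G) * u * (x : G)⁻¹) * (u⁻¹ * ((y : G) * u * (y : G)⁻¹))
      rw [show u⁻¹ * ((x : G) * y * u * ((x : G) * y)⁻¹) = u⁻¹ * ((x : G) * u * (x : G)⁻¹) *
        ((x : G) * (u⁻¹ * ((y : G) * u * (y : G)⁻¹)) * (x : G)⁻¹) by group,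
        (M.comm_E (hXP x.2) (M.P_sub (hXP y.2)).2.2).eq, mul_inv_cancel_right])
  have hψval : ∀ x : X, (x : G) * u * (x : G)⁻¹ = u * (ψ x : G) := fun x => (mul_inv_cancel_left _ _).symm
  have hψs : Function.Surjective ψ := fun e => by
    obtain ⟨x, hx, hxe⟩ := honto e e.2
    refine ⟨⟨x, hx⟩, Subtype.ext ?_⟩
    show u⁻¹ * (x * u * x⁻¹) = e
    rw [hxe, inv_mul_cancel_left]
  have hψk : ∀ x : X, ψ x = 1 ↔ (x : G) ∈ E := fun x => by
    constructor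
    · intro h1
      refine hX0 x x.2 ((M.shift_one (hXP x.2) (hψval x)).1 ?_)
      rw [h1]; rfl
    · intro h1
      refine Subtype.ext ?_
      exact (M.shift_one (hXP x.2) (hψval x)).2 (hEP0 h1)
  have hcard : Nat.card X = q * q := by
    have hk : Nat.card ψ.ker = q := by
      rw [← hl.card_E]
      exact Nat.card_congr
        { toFun := fun x => ⟨((x.1 : X) : G), (hψk x.1).1 (MonoidHom.mem_ker.1 x.2)⟩
          invFun := fun e => ⟨⟨e, hEX e.2⟩, MonoidHom.mem_ker.2 ((hψk ⟨e, hEX e.2⟩).2 e.2)⟩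
          left_inv := fun x => rfl
          right_inv := fun e => rfl }
    rw [← Subgroup.card_mul_index ψ.ker, Subgroup.index_ker, MonoidHom.range_eq_top.2 hψs, Subgroup.card_top, hk,
      hl.card_E]
  -- the commutators give an equivariant alternating form
  have hcE : ∀ {x y}, x ∈ X → y ∈ X → x * y * x⁻¹ * y⁻¹ ∈ E := by
    intro x y hx hy
    have hs := fun {g} hg => M.sq_mem_E hl A hE2 hC (x := g) (hXP hg)
    have h1 : x * y * x⁻¹ * y⁻¹ = x * y * (x * y) * (y⁻¹ * (x⁻¹ * x⁻¹) * y) * (y⁻¹ * y⁻¹) := by group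
    rw [h1, mul_assoc (y⁻¹) (x⁻¹ * x⁻¹) y, ← (M.comm_E (hXP hy) (hs (inv_mem hx))).eq, inv_mul_cancel_left]
    exact mul_mem (mul_mem (hs (mul_mem hx hy)) (hs (inv_mem hx))) (hs (inv_mem hy))
  have hEc : ∀ {x e}, x ∈ X → e ∈ E → x * e * x⁻¹ = e := fun hx he => by
    rw [(M.comm_E (hXP hx) he).eq, mul_inv_cancel_right]
  have hmulr : ∀ {x y z}, x ∈ X → y ∈ X → z ∈ X →
      x * (y * z) * x⁻¹ * (y * z)⁻¹ = x * y * x⁻¹ * y⁻¹ * (x * z * x⁻¹ * z⁻¹) := fun {x y z} hx hy hz => by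
    rw [show x * (y * z) * x⁻¹ * (y * z)⁻¹ = x * y * x⁻¹ * y⁻¹ * (y * (x * z * x⁻¹ * z⁻¹) * y⁻¹) by group,
      hEc hy (hcE hx hz)]
  have hswap : ∀ {x y}, x ∈ X → y ∈ X → y * x * y⁻¹ * x⁻¹ = x * y * x⁻¹ * y⁻¹ := fun {x y} hx hy => by
    rw [show y * x * y⁻¹ * x⁻¹ = (x * y * x⁻¹ * y⁻¹)⁻¹ by group]
    exact inv_eq_of_mul_eq_one_right (hE2 _ (hcE hx hy))
  have hmod : ∀ {x y e}, x ∈ X → y ∈ X → e ∈ E →
      x * (y * e) * x⁻¹ * (y * e)⁻¹ = x * y * x⁻¹ * y⁻¹ := fun {x y e} hx hy he => by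
    rw [hmulr hx hy (hEX he), hEc hx he, mul_inv_cancel, mul_one]
  letI : CommGroup E := { (inferInstance : Group E) with
    mul_comm := fun e f => Subtype.ext (hl.comm e e.2 f f.2) }
  choose σ hσ using hψs
  have hσ' : ∀ (x : X) , ∃ e ∈ E, (x : G) = σ (ψ x) * e := fun x => by
    refine ⟨(σ (ψ x) : G)⁻¹ * x, (hψk ((σ (ψ x))⁻¹ * x)).1 ?_, (mul_inv_cancel_left _ _).symm⟩
    rw [map_mul, map_inv, hσ, inv_mul_cancel]
  let B : E → E → E := fun e f => ⟨(σ e : G) * σ f * (σ e : G)⁻¹ * (σ f : G)⁻¹, hcE (σ e).2 (σ f).2⟩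
  have hB : ∀ x y : X, (B (ψ x) (ψ y) : G) = x * y * (x : G)⁻¹ * (y : G)⁻¹ := by
    intro x y
    obtain ⟨e, he, hxe⟩ := hσ' x
    obtain ⟨f, hf, hyf⟩ := hσ' y
    show (σ (ψ x) : G) * σ (ψ y) * (σ (ψ x) : G)⁻¹ * (σ (ψ y) : G)⁻¹ = _
    rw [hxe, hyf, hmod (mul_mem (σ (ψ x)).2 (hEX he)) (σ (ψ y)).2 hf,
      hswap (σ (ψ y)).2 (mul_mem (σ (ψ x)).2 (hEX he)), hmod (σ (ψ y)).2 (σ (ψ x)).2 he,
      hswap (σ (ψ x)).2 (σ (ψ y)).2]
  have hηψ : ∀ x : X, (ψ ⟨η * x * η⁻¹, hXη x x.2⟩ : G) = η * ψ x * η⁻¹ := fun x => by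
    show u⁻¹ * (η * x * η⁻¹ * u * (η * x * η⁻¹)⁻¹) = η * (u⁻¹ * ((x : G) * u * (x : G)⁻¹)) * η⁻¹
    rw [show η * (x : G) * η⁻¹ * u * (η * (x : G) * η⁻¹)⁻¹ = η * x * (η⁻¹ * u * η) * (x : G)⁻¹ * η⁻¹ by group,
      show η⁻¹ * u * η = u by rw [mul_assoc, ← T.comm_u.eq, inv_mul_cancel_left],
      show η * (u⁻¹ * ((x : G) * u * (x : G)⁻¹)) * η⁻¹ = η * u⁻¹ * ((x : G) * u * (x : G)⁻¹) * η⁻¹ by group,
      T.comm_u.inv_right.eq]
    group
  let cη : E ≃* E := MulEquiv.ofBijective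
    (MonoidHom.mk' (fun e : E => (⟨η * e * η⁻¹, T.norm_E e e.2⟩ : E)) fun e f => Subtype.ext (by
      show η * ((e : G) * f) * η⁻¹ = η * e * η⁻¹ * (η * f * η⁻¹)
      group))
    (Finite.injective_iff_bijective.1 fun e f hef =>
      Subtype.ext ((MulAut.conj η).injective (congrArg Subtype.val hef :)))
  have hiter : ∀ (n : ℕ) (e : E),
      (((⇑(MulEquiv.toAdditive cη))^[n] (Additive.ofMul e)).toMul : G) = η ^ n * e * (η ^ n)⁻¹ := by
    intro n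
    induction n with
    | zero => intro e; simp
    | succ n ih =>
      intro e
      rw [Function.iterate_succ_apply']
      show η * (((⇑(MulEquiv.toAdditive cη))^[n] (Additive.ofMul e)).toMul : G) * η⁻¹ = _
      rw [ih, pow_succ']
      group
  have hsinger : Singer (MulEquiv.toAdditive cη) := by
    refine ⟨fun v => congrArg Additive.ofMul (Subtype.ext (hE2 _ v.toMul.2) : v.toMul * v.toMul = 1), fun x y hx hy => ?_⟩
    obtain ⟨n, hn⟩ := T.trans x.toMul x.toMul.2 y.toMul y.toMul.2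
      (fun h1 => hx (congrArg Additive.ofMul (Subtype.ext h1 : x.toMul = 1)))
      (fun h1 => hy (congrArg Additive.ofMul (Subtype.ext h1 : y.toMul = 1)))
    exact ⟨n, congrArg Additive.ofMul (Subtype.ext ((hiter n x.toMul).trans hn) :
      ((⇑(MulEquiv.toAdditive cη))^[n] x).toMul = y.toMul)⟩
  have hBzero := equivariantAlternating (Additive E) (MulEquiv.toAdditive cη)
    (fun v w => Additive.ofMul (B v.toMul w.toMul)) hsinger
    (fun v w z => congrArg Additive.ofMul (Subtype.ext (by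
      obtain ⟨x, hx⟩ : ∃ x, ψ x = v.toMul := ⟨_, hσ _⟩
      obtain ⟨y, hy⟩ : ∃ y, ψ y = w.toMul := ⟨_, hσ _⟩
      obtain ⟨t, ht⟩ : ∃ t, ψ t = z.toMul := ⟨_, hσ _⟩
      show (B (v.toMul * w.toMul) z.toMul : G) = (B v.toMul z.toMul : G) * B w.toMul z.toMul
      rw [← hx, ← hy, ← ht, ← map_mul, hB, hB, hB, Subgroup.coe_mul,
        hswap t.2 (mul_mem x.2 y.2), hmulr t.2 x.2 y.2, hswap x.2 t.2, hswap y.2 t.2]) :
      B (v.toMul * w.toMul) z.toMul = B v.toMul z.toMul * B w.toMul z.toMul))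
    (fun v w z => congrArg Additive.ofMul (Subtype.ext (by
      obtain ⟨x, hx⟩ : ∃ x, ψ x = v.toMul := ⟨_, hσ _⟩
      obtain ⟨y, hy⟩ : ∃ y, ψ y = w.toMul := ⟨_, hσ _⟩
      obtain ⟨t, ht⟩ : ∃ t, ψ t = z.toMul := ⟨_, hσ _⟩
      show (B v.toMul (w.toMul * z.toMul) : G) = (B v.toMul w.toMul : G) * B v.toMul z.toMul
      rw [← hx, ← hy, ← ht, ← map_mul, hB, hB, hB, Subgroup.coe_mul, hmulr x.2 y.2 t.2]) :
      B v.toMul (w.toMul * z.toMul) = B v.toMul w.toMul * B v.toMul z.toMul))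
    (fun v => congrArg Additive.ofMul (Subtype.ext (mul_inv_eq_one.2 (mul_inv_cancel_right _ _)) :
      B v.toMul v.toMul = 1))
    (fun v w => congrArg Additive.ofMul (Subtype.ext (by
      obtain ⟨x, hx⟩ : ∃ x, ψ x = v.toMul := ⟨_, hσ _⟩
      obtain ⟨y, hy⟩ : ∃ y, ψ y = w.toMul := ⟨_, hσ _⟩
      show (B (cη v.toMul) (cη w.toMul) : G) = η * B v.toMul w.toMul * η⁻¹
      have hcx : ∀ z : X, cη (ψ z) = ψ ⟨η * z * η⁻¹, hXη z z.2⟩ := fun z => Subtype.ext (hηψ z).symm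
      rw [← hx, ← hy, hcx, hcx, hB, hB]
      show η * (x : G) * η⁻¹ * (η * y * η⁻¹) * (η * x * η⁻¹)⁻¹ * (η * y * η⁻¹)⁻¹ = _
      group) : B (cη v.toMul) (cη w.toMul) = cη (B v.toMul w.toMul)))
  refine ⟨X, hEX, hXW, hXη, hX0, honto, hcard, fun x hx x' hx' => ?_, fun g hg => ?_⟩
  · have h1 : B (ψ ⟨x, hx⟩) (ψ ⟨x', hx'⟩) = 1 :=
      congrArg Additive.toMul (hBzero (Additive.ofMul (ψ ⟨x, hx⟩)) (Additive.ofMul (ψ ⟨x', hx'⟩)))
    have h3 := (hB ⟨x, hx⟩ ⟨x', hx'⟩).symm.trans (congrArg Subtype.val h1)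
    exact mul_inv_eq_iff_eq_mul.1 (mul_inv_eq_one.1 h3)
  · obtain ⟨k, hk, x, hx, rfl⟩ := hdec g hg
    obtain ⟨r, hr, y, hy, rfl⟩ := M.prod k hk
    refine ⟨r, hr, x, hx, x⁻¹ * y * x, ?_, by group⟩
    have h1 := mul_mem (M.E_Q (hC x⁻¹ (inv_mem (hXP hx)) y hy)) hy
    rwa [inv_mul_cancel_right, inv_inv] at h1

/-- The model exists. -/
theorem modelExists (hf : Faithful G Ω) (IH : Below.{u, u} (Nat.card G)) (hnp : NoPairing Ω D) :
    ModelExists Ω D := by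
  classical
  haveI := Fact.mk Nat.prime_two
  haveI := h.finite_points
  intro u a b E q i hfr htr
  have ht := hfr.toTopFrame
  have hl := ht.data
  have hE2 : ∀ e ∈ E, e * e = 1 := fun e he => h.E_sq hl he
  -- the kernel
  obtain ⟨R, hRp, -, hRF, hRc, -⟩ := exists_max_two (IsPGroup.of_bot (p := 2) (G := G))
    (bot_le : ⊥ ≤ fixGrp u a b E)
  have hR2 : ∀ {r}, r ∈ R → ∃ n : ℕ, r ^ 2 ^ n = 1 := fun {r} hr => by
    obtain ⟨n, hn⟩ := hRp ⟨r, hr⟩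
    exact ⟨n, congrArg Subtype.val hn⟩
  have hRfix : ∀ r ∈ R, ∀ x : Ω, u • x = x → r • x = x := by
    intro r hr
    rcases h.kernelFix hf IH u a b E q i ht r (hRF hr) (hR2 hr) with h1 | ⟨rfl, -⟩
    · exact h1
    · exact h.fixGrp_trivial hf IH ht htr (hRF hr) (hR2 hr)
  obtain ⟨P0, Q, P, M⟩ := h.exists_syl hf IH ht htr R hRp hRF hRc hRfix
  obtain ⟨α, A⟩ := h.exists_alpha hf IH ht M
  obtain ⟨η, T⟩ := h.exists_torus hf IH ht M A
  have hηQ : ∀ v ∈ Q, η * v * η⁻¹ ∈ Q := fun v hv => by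
    obtain ⟨hv0, hvc⟩ := (M.Q_mem _).1 hv
    exact (M.Q_mem _).2 ⟨(M.mem_P0 _).2 ⟨T.norm_P _ ((M.mem_P0 _).1 hv0).1,
      (T.comm_u.mul_left ((M.mem_P0 _).1 hv0).2).mul_left T.comm_u.inv_left⟩, conj_mem_cGrp h T.comm_u hvc⟩
  -- the translations fix `Q / E`; the covering subgroup
  obtain ⟨hC, W, hWP, hEW, hWη, hcov, hW3⟩ :
      (∀ x ∈ P, ∀ y ∈ Q, x * y * x⁻¹ * y⁻¹ ∈ E) ∧ ∃ W : Subgroup G, W ≤ P ∧ E ≤ W ∧
        (∀ w ∈ W, η * w * η⁻¹ ∈ W) ∧ (∀ x ∈ P, ∃ n ∈ P0, x * n ∈ W) ∧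
        (i = 3 → (∀ x ∈ W, ∀ y ∈ Q, Commute x y) ∧
          ∃ z, ZetaOn u a b E R Q z ∧ ∀ x ∈ W, Commute z x) := by
    by_cases hi : i = 3
    · subst hi
      obtain ⟨z₀, Z₀⟩ := h.exists_zeta_Q hf IH ht M
      have hN : ∀ x ∈ P, ∀ y ∈ Q, x * y * x⁻¹ ∈ Q := fun x hx y hy => h.norm_Q_three M A Z₀ hx hy
      have hC : ∀ x ∈ P, ∀ y ∈ Q, x * y * x⁻¹ * y⁻¹ ∈ E := fun x hx y hy => h.comm_E_three hl M T hN hx hy
      obtain ⟨z, Z, hzP⟩ := h.exists_zeta_P hl M A hN hC Z₀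
      refine ⟨hC, P ⊓ Subgroup.centralizer (Q : Set G), inf_le_left, fun e he => ⟨M.Q_P (M.E_Q he),
        Subgroup.mem_centralizer_iff.2 fun y hy => (M.comm_E (M.Q_P hy) he).eq⟩, fun w hw => ⟨T.norm_P w hw.1,
        Subgroup.mem_centralizer_iff.2 fun y hy => ?_⟩, fun x hx => ?_, fun _ => ⟨fun x hx y hy => ?_, z, Z, ?_⟩⟩
      · obtain ⟨y', hy', rfl⟩ := exists_conj_preimage hηQ hy
        calc η * y' * η⁻¹ * (η * w * η⁻¹) = η * (y' * w) * η⁻¹ := by group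
          _ = η * (w * y') * η⁻¹ := by rw [Subgroup.mem_centralizer_iff.1 hw.2 y' hy']
          _ = η * w * η⁻¹ * (η * y' * η⁻¹) := by group
      · obtain ⟨n, hn, -, hc⟩ := h.cover_three M hC Z hzP hx
        exact ⟨n, hn, mul_mem hx ((M.mem_P0 n).1 hn).1,
          Subgroup.mem_centralizer_iff.2 fun y hy => (hc y hy).eq.symm⟩
      · exact (Subgroup.mem_centralizer_iff.1 hx.2 y hy).symm
      · intro x hx
        obtain ⟨n, hn, hzn, hc⟩ := h.cover_three M hC Z hzP hx.1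
        obtain ⟨r, hr, y, hy, rfl⟩ := M.prod n hn
        have hyE : y ∈ E := M.centre_Q hl (four_le_q hl) hy fun v hv => by
          have h1 : Commute x v := (Subgroup.mem_centralizer_iff.1 hx.2 v hv).symm
          have h3 := ((M.Q_commute hr hv).symm.inv_left).mul_left (h1.inv_left.mul_left (hc v hv))
          rwa [inv_mul_cancel_left, inv_mul_cancel_left] at h3
        have hzn' : Commute z (r * y) := (Z.comm_R r hr).mul_right (Z.comm_E y hyE)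
        have h1 := hzn.mul_right hzn'.inv_right
        rwa [mul_inv_cancel_right] at h1
    · exact ⟨fun x hx y hy => h.comm_E_of_le_two hnp hfr htr M A T hi hx hy, P, le_rfl,
        fun e he => M.Q_P (M.E_Q he), T.norm_P, fun x hx => ⟨1, one_mem _, by rwa [mul_one]⟩,
        fun h3 => absurd h3 hi⟩
  obtain ⟨X, hEX, hXW, hXη, hX0, honto, hXc, hXcomm, hgen⟩ :=
    h.exists_translations hl M A T hC hWP hEW hWη hcov
  have hXP : ∀ {x}, x ∈ X → x ∈ P := fun hx => hWP (hXW hx)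
  have hrx : ∀ r ∈ R, ∀ x ∈ X, ∀ e ∈ E, x * u * x⁻¹ = u * e → r * x * r⁻¹ * x⁻¹ = α r e := by
    intro r hr x hx e he hxe
    have hrE := (mem_centSub.1 (M.sub (M.R_le hr))).2.2 _ (inv_mem (A.mem r hr e he))
    rw [show r * x * r⁻¹ * x⁻¹ = r * (x * r * x⁻¹)⁻¹ by group, A.conj r hr x (hXP hx) e he hxe, mul_inv_rev,
      ← mul_assoc, hrE.eq, mul_inv_cancel_right, inv_eq_of_mul_eq_one_right (hE2 _ (A.mem r hr e he))]
  refine ⟨P, R, X, Q, η,
    { two := M.P_two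
      sub := fun g hg => M.P_sub hg
      sylow := fun K hK hKT => M.P_sylow K hK hKT
      R_le := fun r hr => M.R_P hr
      X_le := fun x hx => hXP hx
      Q_le := fun y hy => M.Q_P hy
      E_X := hEX
      E_Q := M.E_Q
      u_mem := M.u_mem
      R_sub := M.R_sub
      R_card := M.R_card
      R_sq := A.R_sq
      R_fix := M.R_fix
      X_card := hXc
      Q_card := M.Q_card
      P_card := M.P_card
      gen := hgen
      X_comm := hXcomm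
      X_sq := fun x hx => M.sq_mem_E hl A hE2 hC (hXP hx)
      RX := fun r hr x hx => by
        obtain ⟨e, he, hxe⟩ := M.exists_shift (hXP hx)
        rw [hrx r hr x hx e he hxe]
        exact A.mem r hr e he
      RX_onto := fun r hr hr1 z hz => by
        obtain ⟨e, he, hez⟩ := A.onto r hr hr1 z hz
        obtain ⟨x, hx, hxe⟩ := honto e he
        exact ⟨x, hx, (hrx r hr x hx e he hxe).trans hez⟩
      RX_ker := fun r hr hr1 x hx hc => by
        obtain ⟨e, he, hxe⟩ := M.exists_shift (hXP hx)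
        have h1 := hrx r hr x hx e he hxe
        rw [hc.eq, mul_inv_cancel_right, mul_inv_cancel] at h1
        exact hX0 x hx ((M.shift_one (hXP hx) hxe).1 ((A.inj r hr e he h1.symm).resolve_left hr1))
      XQ := fun x hx y hy => hC x (hXP hx) y hy
      XQ_three := fun hi x hx y hy => (hW3 hi).1 x (hXW hx) y hy
      Q_cent := fun y hy => ⟨((M.mem_P0 y).1 (M.Q_P0 hy)).2, fun r hr => M.Q_commute hr hy⟩
      Q_trans := M.Q_trans
      QQ := M.QQ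
      Q_sq := M.Q_sq
      Q_sq_one := M.Q_sq_one
      Q_sq_onto := M.Q_sq_onto
      Q_form_two := M.Q_form_two
      Q_form_three := M.Q_form_three
      h_odd := T.odd
      h_fix := T.fix
      h_cent := ⟨T.comm_u, T.comm_R⟩
      h_norm := ⟨T.norm_E, hXη, hηQ⟩
      h_trans := T.trans
      zeta := fun hi => ?_ }⟩
  obtain ⟨-, z, Z, hzW⟩ := hW3 hi
  refine ⟨z, Z.odd, Z.fix.1, Z.fix.2, Z.comm_u, Z.comm_R, Z.comm_E, fun x hx => ?_, Z.norm_Q, Z.free⟩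
  rw [(hzW x (hXW hx)).eq, mul_inv_cancel_right, mul_inv_cancel]
  exact one_mem _

end Crit

end CfsgLib.AschCrit
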