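import Cfsg.Agent.Lib.Invol.AschCrit.ModelTrans
import Cfsg.Agent.Lib.Invol.AschCrit.CentData
import Cfsg.Agent.Lib.Invol.AschCrit.FormulaProof

/-!
Owner: helper18. Aschbacher's criterion, slice E: the translations on the kernel `R`.

* `ModelAlpha`: `x r x⁻¹ = r α(r, e)` for `x` translating `u` by `e`, `α` additive, non-degenerate; `R` elementary.
* `Crit.exists_alpha`: it exists.
* `ModelTorus`, `Crit.exists_torus`: a torus centralising `R` and normalising `P`.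
-/

set_option autoImplicit false
set_option linter.unusedSectionVars false

namespace CfsgLib.AschCrit

open Subgroup MulAction

universe u

variable {G : Type u} [Group G] {Ω : Type u} [MulAction G Ω]

/-- The translations on `R`. -/
structure ModelAlpha (u : G) (E : Subgroup G) (R P : Subgroup G) (α : G → G → G) : Prop where
  R_sq : ∀ r ∈ R, r * r = 1
  mem : ∀ r ∈ R, ∀ e ∈ E, α r e ∈ E
  mul_left : ∀ r ∈ R, ∀ s ∈ R, ∀ e ∈ E, α (r * s) e = α r e * α s e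
  mul_right : ∀ r ∈ R, ∀ e ∈ E, ∀ f ∈ E, α r (e * f) = α r e * α r f
  inj : ∀ r ∈ R, ∀ e ∈ E, α r e = 1 → r = 1 ∨ e = 1
  onto : ∀ r ∈ R, r ≠ 1 → ∀ z ∈ E, ∃ e ∈ E, α r e = z
  conj : ∀ r ∈ R, ∀ x ∈ P, ∀ e ∈ E, x * u * x⁻¹ = u * e → x * r * x⁻¹ = r * α r e

/-- A torus of the frame centralising `R` and normalising `P`. -/
structure ModelTorus (u : G) (a b : Ω) (E R P : Subgroup G) (h : G) : Prop where
  odd : Odd (orderOf h)
  fix : h • a = a ∧ h • b = b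
  comm_u : Commute h u
  comm_R : ∀ r ∈ R, Commute h r
  norm_E : ∀ e ∈ E, h * e * h⁻¹ ∈ E
  norm_P : ∀ x ∈ P, h * x * h⁻¹ ∈ P
  trans : ∀ e ∈ E, ∀ f ∈ E, e ≠ 1 → f ≠ 1 → ∃ j : ℕ, h ^ j * e * (h ^ j)⁻¹ = f

namespace ModelTorus

variable {u : G} {a b : Ω} {E R P : Subgroup G} {h : G}

theorem pow_E (H : ModelTorus u a b E R P h) : ∀ (n : ℕ), ∀ e ∈ E, h ^ n * e * (h ^ n)⁻¹ ∈ E := by
  intro n
  induction n with
  | zero => intro e he; simpa using he
  | succ n ih =>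
    intro e he
    rw [pow_succ', show h * h ^ n * e * (h * h ^ n)⁻¹ = h * (h ^ n * e * (h ^ n)⁻¹) * h⁻¹ by group]
    exact H.norm_E _ (ih e he)

theorem pow_P (H : ModelTorus u a b E R P h) : ∀ (n : ℕ), ∀ x ∈ P, h ^ n * x * (h ^ n)⁻¹ ∈ P := by
  intro n
  induction n with
  | zero => intro e he; simpa using he
  | succ n ih =>
    intro e he
    rw [pow_succ', show h * h ^ n * e * (h * h ^ n)⁻¹ = h * (h ^ n * e * (h ^ n)⁻¹) * h⁻¹ by group]
    exact H.norm_P _ (ih e he)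

end ModelTorus

variable [Finite G]

/-- The image of a subgroup under an endomorphism mapping it into itself injectively is itself. -/
theorem exists_conj_preimage {H : Subgroup G} {g : G} (hg : ∀ x ∈ H, g * x * g⁻¹ ∈ H) {z : G} (hz : z ∈ H) :
    ∃ x ∈ H, g * x * g⁻¹ = z := by
  obtain ⟨⟨x, hx⟩, he⟩ := Finite.surjective_of_injective
    (f := fun x : H => (⟨g * x * g⁻¹, hg x x.2⟩ : H))
    (fun x x' e => Subtype.ext ((MulAut.conj g).injective (congrArg Subtype.val e :))) ⟨z, hz⟩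
  exact ⟨x, hx, congrArg Subtype.val he⟩

namespace Crit

variable {D : Set G} (h : Crit Ω D)
include h

/-- The map `α`. -/
theorem exists_alpha (hf : Faithful G Ω) (IH : Below.{u, u} (Nat.card G)) {u : G} {a b : Ω} {E : Subgroup G}
    {q i : ℕ} (ht : TopFrame D u a b E q i) {R P0 Q P : Subgroup G} (M : ModelSyl D u a b E q i R P0 Q P) :
    ∃ α : G → G → G, ModelAlpha u E R P α := by
  classical
  haveI := h.finite_points
  have hl := ht.data
  have hld := h.localDichotomy hf IH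
  have hkf := h.kernelFix hf IH
  have hut := h.unipTrans hf IH
  have hform := h.formula hf IH (h.cosetClass hf hld)
  have hPE : ∀ {x}, x ∈ P → ∀ e ∈ E, Commute x e := fun hx => (M.P_sub hx).2.1
  have hPa : ∀ {x}, x ∈ P → x • a = a := fun hx => (M.P_sub hx).1
  have hEsq : ∀ e ∈ E, e * e = 1 := fun e he => by
    rcases eq_or_ne e 1 with h1 | h1
    · rw [h1, one_mul]
    · exact h.sq (hl.mem e he h1).1
  have huE : ∀ e ∈ E, Commute u e := fun e he => by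
    rcases eq_or_ne e 1 with h1 | h1
    · rw [h1]; exact Commute.one_right _
    · exact (hl.mem e he h1).2.2.symm
  have hRm : ∀ {r}, r ∈ R → r • a = a ∧ Commute r u ∧ ∀ e ∈ E, Commute r e := fun hr =>
    mem_centSub.1 (M.sub (M.R_le hr))
  have hEfix : ∀ {z}, z ∈ E → ∀ p : Ω, p ≠ a → z • p = p → z = 1 := fun {z} hz p hp hzp =>
    by_contra fun h1 => hp (h.fix_unique z (hl.mem z hz h1).1 p a hzp (hl.mem z hz h1).2.1)
  have hQc : ∀ r ∈ R, ∀ y ∈ Q, Commute y r := fun r hr => M.Q_comm r hr (M.R_fix r hr)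
  -- conjugation by `P` on `P0`
  have hP0c : ∀ {x g}, x ∈ P → g ∈ P0 → x * g * x⁻¹ ∈ P0 := by
    intro x g hx hg
    obtain ⟨hgP, hgu⟩ := (M.mem_P0 g).1 hg
    refine (M.mem_P0 _).2 ⟨mul_mem (mul_mem hx hgP) (inv_mem hx), ?_⟩
    have h1 : u⁻¹ * (x * u * x⁻¹) ∈ E := (M.P_sub hx).2.2
    obtain ⟨e, he, hxe⟩ : ∃ e ∈ E, x * u * x⁻¹ = u * e := ⟨_, h1, (mul_inv_cancel_left _ _).symm⟩
    have h3 : Commute (x * g * x⁻¹) (x * u * x⁻¹) := by
      show x * g * x⁻¹ * (x * u * x⁻¹) = x * u * x⁻¹ * (x * g * x⁻¹)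
      calc x * g * x⁻¹ * (x * u * x⁻¹) = x * (g * u) * x⁻¹ := by group
        _ = x * (u * g) * x⁻¹ := by rw [hgu.eq]
        _ = x * u * x⁻¹ * (x * g * x⁻¹) := by group
    rw [hxe] at h3
    have h4 : Commute (x * g * x⁻¹) e :=
      (((hPE hx e he).mul_left (hPE hgP e he)).mul_left ((hPE hx e he).inv_left))
    have h5 := h3.mul_right h4
    rwa [show u * e * e = u by rw [mul_assoc, hEsq e he, mul_one]] at h5
  -- the `Q`-part of a conjugate of `R` is in `E`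
  have hsplit : ∀ {x r}, x ∈ P → r ∈ R → ∃ r' ∈ R, ∃ z ∈ E, x * r * x⁻¹ = r' * z := by
    intro x r hx hr
    have hex : ∀ g : P0, ∃ y : Q, ∃ r' ∈ R, (g : G) = r' * y := fun g => by
      obtain ⟨r', hr', y, hy, he⟩ := M.prod g g.2
      exact ⟨⟨y, hy⟩, r', hr', he⟩
    choose c rc hrc hc using hex
    have huniq : ∀ (g : P0) (r' y : G), r' ∈ R → y ∈ Q → (g : G) = r' * y → (c g : G) = y := by
      intro g r' y hr' hy he
      have h1 : r'⁻¹ * rc g = y * (c g : G)⁻¹ := by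
        rw [eq_mul_inv_iff_mul_eq, mul_assoc, ← hc g, he, inv_mul_cancel_left]
      have h3 := M.disj _ (mul_mem (inv_mem hr') (hrc g)) (by rw [h1]; exact mul_mem hy (inv_mem (c g).2))
      rw [h3] at h1
      exact (mul_inv_eq_one.1 h1.symm).symm
    have hmul : ∀ g g' : P0, (c (g * g') : G) = c g * c g' := fun g g' =>
      huniq _ (rc g * rc g') _ (mul_mem (hrc g) (hrc g')) (mul_mem (c g).2 (c g').2) (by
        rw [Subgroup.coe_mul, hc g, hc g', mul_assoc (rc g), ← mul_assoc (c g : G), (hQc _ (hrc g') _ (c g).2).eq]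
        group)
    have hQP0 : ∀ {y}, y ∈ Q → y ∈ P0 := fun hy => ((M.Q_mem _).1 hy).1
    let τ : Q → Q := fun y => c ⟨x * y * x⁻¹, hP0c hx (hQP0 y.2)⟩
    have hτsq : ∀ y : Q, (τ y : G) * τ y = y * y := fun y => by
      rw [← hmul]
      refine huniq _ 1 _ (one_mem _) (mul_mem y.2 y.2) ?_
      have h1 : (x * (y : G) * x⁻¹) * (x * y * x⁻¹) = x * ((y : G) * y) * x⁻¹ := by group
      show x * (y : G) * x⁻¹ * (x * y * x⁻¹) = 1 * ((y : G) * y)
      rw [h1, (hPE hx _ (M.Q_sq y y.2)).eq, mul_inv_cancel_right, one_mul]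
    have hτinj : Function.Injective τ := by
      intro y y' hyy
      have h1 : (τ (y⁻¹ * y') : G) = 1 := by
        have h2 : (τ y : G) * τ (y⁻¹ * y') = τ y' := by
          rw [← hmul]
          congr 2
          refine Subtype.ext ?_
          show x * (y : G) * x⁻¹ * (x * ((y : G)⁻¹ * y') * x⁻¹) = x * (y' : G) * x⁻¹
          group
        rw [hyy] at h2
        exact mul_left_cancel (h2.trans (mul_one _).symm)
      have h3 : ((y⁻¹ * y' : Q) : G) * (y⁻¹ * y' : Q) = 1 := by rw [← hτsq, h1, one_mul]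
      have h4 := M.Q_sq_one _ (y⁻¹ * y' : Q).2 h3
      have h5 : (τ (y⁻¹ * y') : G) = (y⁻¹ * y' : Q) := huniq _ 1 _ (one_mem _) (y⁻¹ * y' : Q).2 (by
        show x * ((y⁻¹ * y' : Q) : G) * x⁻¹ = 1 * _
        rw [(hPE hx _ h4).eq, mul_inv_cancel_right, one_mul])
      rw [h1] at h5
      exact inv_mul_eq_one.1 (Subtype.ext h5.symm : (y⁻¹ * y' : Q) = 1)
    have hτs := Finite.surjective_of_injective hτinj
    refine ⟨rc ⟨x * r * x⁻¹, hP0c hx (M.R_le hr)⟩, hrc _, c ⟨x * r * x⁻¹, hP0c hx (M.R_le hr)⟩, ?_, hc ⟨x * r * x⁻¹, hP0c hx (M.R_le hr)⟩⟩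
    set z := c ⟨x * r * x⁻¹, hP0c hx (M.R_le hr)⟩ with hz
    have hcen : ∀ y : Q, Commute (z : G) y := by
      intro y
      obtain ⟨y₀, rfl⟩ := hτs y
      show (z : G) * τ y₀ = τ y₀ * z
      rw [← hmul, ← hmul]
      congr 2
      refine Subtype.ext ?_
      show x * r * x⁻¹ * (x * y₀ * x⁻¹) = x * y₀ * x⁻¹ * (x * r * x⁻¹)
      calc x * r * x⁻¹ * (x * y₀ * x⁻¹) = x * (r * y₀) * x⁻¹ := by group
        _ = x * ((y₀ : G) * r) * x⁻¹ := by rw [(hQc r hr _ y₀.2).eq]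
        _ = x * y₀ * x⁻¹ * (x * r * x⁻¹) := by group
    -- the centre of `Q` is in `E`
    by_contra hzE
    rcases hl.type with hi | hi | hi
    · have he := Subgroup.eq_of_le_of_card_ge M.E_Q (by rw [M.Q_card, hl.card_E, hi, pow_one])
      exact hzE (he.ge z.2)
    · obtain ⟨y₁, hy₁, hy₁'⟩ : ∃ y₁ ∈ Q, ¬ (y₁ ∈ E ∨ y₁ * (z : G)⁻¹ ∈ E) := by
        by_contra hc
        push Not at hc
        have hsub : (Q : Set G) ⊆ (E : Set G) ∪ (fun e => e * (z : G)) '' E := fun y hy => by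
          rcases hc y hy with h1 | h1
          · exact Or.inl h1
          · exact Or.inr ⟨_, h1, inv_mul_cancel_right _ _⟩
        have h3 := (Set.ncard_le_ncard hsub).trans (Set.ncard_union_le _ _)
        have h4 := Set.ncard_image_le (f := fun e => e * (z : G)) (Set.toFinite (E : Set G))
        have h5 : (Q : Set G).ncard = q ^ i := by rw [← Nat.card_coe_set_eq]; exact M.Q_card
        have h6 : (E : Set G).ncard = q := by rw [← Nat.card_coe_set_eq]; exact hl.card_E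
        rw [h5, hi] at h3
        rw [h6] at h4
        have := four_le_q hl
        nlinarith
      exact hy₁' (M.Q_form_two hi z z.2 hzE y₁ hy₁ (hcen ⟨y₁, hy₁⟩))
    · obtain ⟨e, he, he1⟩ : ∃ e ∈ E, e ≠ (1 : G) := by
        by_contra hc
        push Not at hc
        have := four_le_q hl
        rw [← hl.card_E, (Subgroup.eq_bot_iff_forall E).2 hc, Subgroup.card_bot] at this
        omega
      obtain ⟨y', hy', hye⟩ := M.Q_form_three hi z z.2 hzE e he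
      exact he1 (by rw [← hye, (hcen ⟨y', hy'⟩).eq]; group)
  -- `R` meets no translate of itself
  have hinter : ∀ {r x e}, r ∈ R → x ∈ P → e ∈ E → e ≠ 1 → x * u * x⁻¹ = u * e →
      (∀ p : Ω, u • p = p → r • x • p = x • p) → r = 1 := by
    intro r x e hr hx he he1 hxu hfix
    by_contra hr1
    obtain ⟨k, hk⟩ := (M.two.to_le M.R_le) ⟨r, hr⟩
    have hk' : r ^ 2 ^ k = 1 := congrArg Subtype.val hk
    obtain ⟨k', -, hord⟩ := (Nat.dvd_prime_pow Nat.prime_two).1 (orderOf_dvd_of_pow_eq_one hk')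
    rcases k' with _ | k'
    · exact hr1 (orderOf_eq_one_iff.1 (by rw [hord, pow_zero]))
    set w := r ^ 2 ^ k' with hw
    have hwR : w ∈ R := pow_mem hr _
    have hw2 : orderOf w = 2 := by
      rw [hw, orderOf_pow, hord, Nat.gcd_eq_right (pow_dvd_pow 2 (Nat.le_succ k')), pow_succ,
        Nat.mul_div_cancel_left _ (pow_pos Nat.two_pos k')]
    obtain ⟨-, hwu, hwE⟩ := hRm hwR
    refine h.shift_disjoint hld hkf hut hform ht he he1 hxu (hPa hx) hw2 hwu hwE (M.R_fix w hwR) fun p hp => ?_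
    exact mem_stabilizer_iff.1 (pow_mem (mem_stabilizer_iff.2 (hfix p hp)) _)
  have hRsq : ∀ r ∈ R, r * r = 1 := by
    intro r hr
    obtain ⟨e, he, he1⟩ : ∃ e ∈ E, e ≠ (1 : G) := by
      by_contra hc
      push Not at hc
      have := four_le_q hl
      rw [← hl.card_E, (Subgroup.eq_bot_iff_forall E).2 hc, Subgroup.card_bot] at this
      omega
    obtain ⟨x, hx, hxu⟩ := M.onto e he
    obtain ⟨r', hr', z, hz, hze⟩ := hsplit hx hr
    have h1 : x * (r * r) * x⁻¹ = r' * r' := by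
      calc x * (r * r) * x⁻¹ = (x * r * x⁻¹) * (x * r * x⁻¹) := by group
        _ = r' * z * (r' * z) := by rw [hze]
        _ = r' * r' * (z * z) := by rw [((hRm hr').2.2 z hz).symm.mul_mul_mul_comm]
        _ = r' * r' := by rw [hEsq z hz, mul_one]
    have h3 := hinter (mul_mem hr' hr') hx he he1 hxu fun p hp => by
      rw [← h1, mul_smul, mul_smul, inv_smul_smul, M.R_fix _ (mul_mem hr hr) p hp]
    rw [h3] at h1
    exact conj_eq_one_iff.1 h1
  let Twin : G → G → G → Prop := fun r e z => z ∈ E ∧ ∀ p : Ω, (u * e) • p = p → (r * z) • p = p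
  have hxfix : ∀ {x e}, x ∈ P → x * u * x⁻¹ = u * e → ∀ p : Ω, u • p = p → (u * e) • (x • p) = x • p := by
    intro x e _ hxe p hp
    rw [← hxe, mul_smul, mul_smul, inv_smul_smul, hp]
  have huniq : ∀ {r e z z'}, e ∈ E → Twin r e z → Twin r e z' → z = z' := by
    intro r e z z' he hz hz'
    obtain ⟨x, hx, hxe⟩ := M.onto e he
    have hp : (u * e) • (x • b) = x • b := hxfix hx hxe b hl.fix_b
    have h1 := (hz.2 _ hp).trans (hz'.2 _ hp).symm
    rw [mul_smul, mul_smul] at h1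
    refine inv_mul_eq_one.1 (hEfix (mul_mem (inv_mem hz.1) hz'.1) (x • b)
      (fun e1 => hl.ne (smul_left_cancel x (e1.trans (hPa hx).symm)).symm) ?_)
    rw [mul_smul, inv_smul_eq_iff]
    exact (smul_left_cancel r h1).symm
  have hconj : ∀ {x r e}, x ∈ P → r ∈ R → x * u * x⁻¹ = u * e →
      ∃ r' ∈ R, ∃ z, x * r * x⁻¹ = r' * z ∧ Twin r' e z := by
    intro x r e hx hr hxe
    obtain ⟨r', hr', z, hz, hze⟩ := hsplit hx hr
    refine ⟨r', hr', z, hze, hz, fun p hp => ?_⟩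
    have h1 : u • (x⁻¹ • p) = x⁻¹ • p := by
      rw [← hxe, mul_smul, mul_smul] at hp
      exact smul_left_cancel x (hp.trans (smul_inv_smul x p).symm)
    rw [← hze, mul_smul, mul_smul, M.R_fix r hr _ h1, smul_inv_smul]
  have htwin : ∀ r ∈ R, ∀ e ∈ E, ∃ z, Twin r e z := by
    intro r hr e he
    rcases eq_or_ne e 1 with h1 | h1
    · exact ⟨1, one_mem _, fun p hp => by rw [mul_one]; exact M.R_fix r hr p (by rwa [h1, mul_one] at hp)⟩
    obtain ⟨x, hx, hxe⟩ := M.onto e he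
    choose f hf' z hz htz using fun r₀ : R => hconj hx r₀.2 hxe
    obtain ⟨r₀, hr₀⟩ := Finite.surjective_of_injective (f := fun r₀ : R => (⟨f r₀, hf' r₀⟩ : R))
      (fun s s' hss => by
        have e1 : f s = f s' := congrArg Subtype.val hss
        have e2 := huniq he (htz s) (e1 ▸ htz s')
        refine Subtype.ext ((MulAut.conj x).injective ?_)
        show x * (s : G) * x⁻¹ = x * s' * x⁻¹
        rw [hz s, hz s', e1, e2]) ⟨r, hr⟩
    have e1 : f r₀ = r := congrArg Subtype.val hr₀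
    exact ⟨z r₀, e1 ▸ htz r₀⟩
  let α : G → G → G := fun r e => if H : ∃ z, Twin r e z then H.choose else 1
  have hα : ∀ r ∈ R, ∀ e ∈ E, Twin r e (α r e) := fun r hr e he => by
    simp only [α, dif_pos (htwin r hr e he)]
    exact (htwin r hr e he).choose_spec
  have hαu : ∀ {r e z}, r ∈ R → e ∈ E → Twin r e z → α r e = z := fun hr he hz => huniq he (hα _ hr _ he) hz
  have hαl : ∀ r ∈ R, ∀ s ∈ R, ∀ e ∈ E, α (r * s) e = α r e * α s e := fun r hr s hs e he =>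
    hαu (mul_mem hr hs) he ⟨mul_mem (hα r hr e he).1 (hα s hs e he).1, fun p hp => by
      rw [show r * s * (α r e * α s e) = r * α r e * (s * α s e) by
        rw [mul_assoc r s, ← mul_assoc s, ((hRm hs).2.2 _ (hα r hr e he).1).eq]; group,
        mul_smul, (hα s hs e he).2 p hp, (hα r hr e he).2 p hp]⟩
  have hαinj : ∀ r ∈ R, ∀ e ∈ E, α r e = 1 → r = 1 ∨ e = 1 := fun r hr e he h1 => by
    refine or_iff_not_imp_right.2 fun he1 => ?_
    obtain ⟨x, hx, hxe⟩ := M.onto e he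
    have h3 := (hα r hr e he).2
    rw [h1, mul_one] at h3
    exact hinter hr hx he he1 hxe fun p hp => h3 _ (hxfix hx hxe p hp)
  obtain ⟨y, -, hya, -, hyu, -, hyR, hyE, hytr⟩ := h.torusCent_aux hf IH ht.multi hl R (M.two.to_le M.R_le)
    (fun g hg => ⟨(hRm hg).1, M.R_fix g hg b hl.fix_b⟩) (fun g hg => (hRm hg).2.1)
    (fun g hg e he => by rw [((hRm hg).2.2 e he).eq, mul_inv_cancel_right]; exact he)
  have hyE' : ∀ n : ℕ, ∀ e ∈ E, y ^ n * e * (y ^ n)⁻¹ ∈ E := fun n => by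
    induction n with
    | zero => intro e he; simpa using he
    | succ n ih =>
      intro e he
      rw [pow_succ', show y * y ^ n * e * (y * y ^ n)⁻¹ = y * (y ^ n * e * (y ^ n)⁻¹) * y⁻¹ by group]
      exact hyE _ (ih e he)
  have hαy : ∀ r ∈ R, ∀ (n : ℕ), ∀ e ∈ E, α r (y ^ n * e * (y ^ n)⁻¹) = y ^ n * α r e * (y ^ n)⁻¹ := by
    intro r hr n e he
    refine hαu hr (hyE' n e he) ⟨hyE' n _ (hα r hr e he).1, fun p hp => ?_⟩
    have hn : Commute (y ^ n) r := (hyR r hr).pow_left n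
    have hnu : Commute (y ^ n) u := hyu.pow_left n
    have h1 : (u * e) • ((y ^ n)⁻¹ • p) = (y ^ n)⁻¹ • p := by
      conv_rhs => rw [← hp]
      rw [← mul_smul, ← mul_smul]
      congr 1
      rw [show (y ^ n)⁻¹ * (u * (y ^ n * e * (y ^ n)⁻¹)) = (y ^ n)⁻¹ * (u * y ^ n) * e * (y ^ n)⁻¹ by group,
        ← hnu.eq]
      group
    calc (r * (y ^ n * α r e * (y ^ n)⁻¹)) • p = (y ^ n * (r * α r e)) • ((y ^ n)⁻¹ • p) := by
          rw [← mul_smul]; congr 1; rw [← mul_assoc r, ← mul_assoc r, ← hn.eq]; group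
      _ = p := by rw [mul_smul, (hα r hr e he).2 _ h1, smul_inv_smul]
  have hscal : ∀ r ∈ R, r ≠ 1 → ∃ n : ℕ, ∀ e ∈ E, α r e = y ^ n * e * (y ^ n)⁻¹ := by
    intro r hr hr1
    obtain ⟨e₀, he₀, he₀1⟩ : ∃ e ∈ E, e ≠ (1 : G) := by
      by_contra hc
      push Not at hc
      have := four_le_q hl
      rw [← hl.card_E, (Subgroup.eq_bot_iff_forall E).2 hc, Subgroup.card_bot] at this
      omega
    have hcomm : ∀ {e f}, e ∈ E → f ∈ E → ∀ g ∈ R, Commute g e ∧ Commute g f := fun he hf' g hg =>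
      ⟨(hRm hg).2.2 _ he, (hRm hg).2.2 _ hf'⟩
    obtain ⟨k, hk⟩ := hytr e₀ he₀ _ (hα r hr e₀ he₀).1 he₀1
      (fun h1 => (hαinj r hr e₀ he₀ h1).elim hr1 he₀1) (hcomm he₀ (hα r hr e₀ he₀).1)
    refine ⟨k, fun e he => ?_⟩
    rcases eq_or_ne e 1 with rfl | he1
    · rw [mul_one, mul_inv_cancel]
      exact hαu hr he ⟨one_mem _, fun p hp => by rw [mul_one] at hp ⊢; exact M.R_fix r hr p hp⟩
    obtain ⟨j, hj⟩ := hytr e₀ he₀ e he he₀1 he1 (hcomm he₀ he)
    rw [← hj, hαy r hr j e₀ he₀, ← hk]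
    have hc : Commute (y ^ j) (y ^ k) := (Commute.refl y).pow_pow j k
    calc y ^ j * (y ^ k * e₀ * (y ^ k)⁻¹) * (y ^ j)⁻¹ = y ^ j * y ^ k * e₀ * (y ^ j * y ^ k)⁻¹ := by group
      _ = y ^ k * (y ^ j * e₀ * (y ^ j)⁻¹) * (y ^ k)⁻¹ := by rw [hc.eq]; group
  have hα1 : ∀ e ∈ E, α 1 e = 1 := fun e he =>
    hαu (one_mem _) he ⟨one_mem _, fun p _ => by rw [one_mul, one_smul]⟩
  have hαr : ∀ r ∈ R, ∀ e ∈ E, ∀ f ∈ E, α r (e * f) = α r e * α r f := by
    intro r hr e he f hf'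
    rcases eq_or_ne r 1 with rfl | hr1
    · rw [hα1 _ (mul_mem he hf'), hα1 e he, hα1 f hf', one_mul]
    obtain ⟨n, hn⟩ := hscal r hr hr1
    rw [hn _ (mul_mem he hf'), hn e he, hn f hf']
    group
  refine ⟨α, hRsq, fun r hr e he => (hα r hr e he).1, hαl, hαr, hαinj, fun r hr hr1 z hz => ?_,
    fun r hr x hx e he hxe => ?_⟩
  · obtain ⟨n, hn⟩ := hscal r hr hr1
    obtain ⟨e, he, hee⟩ := exists_conj_preimage (hyE' n) hz
    exact ⟨e, he, (hn e he).trans hee⟩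
  · obtain ⟨r', hr', z, hz, htz⟩ := hconj hx hr hxe
    have hz' : α r' e = z := hαu hr' he htz
    suffices hrr : r' = r by rw [hz, ← hz', hrr]
    obtain ⟨f, hf', hf1⟩ : ∃ f ∈ E, f ≠ (1 : G) := by
      by_contra hc
      push Not at hc
      have := four_le_q hl
      rw [← hl.card_E, (Subgroup.eq_bot_iff_forall E).2 hc, Subgroup.card_bot] at this
      omega
    obtain ⟨x', hx', hx'f⟩ := M.onto f hf'
    have h1 : α r' (e * f) = z * α r f := by
      refine hαu hr' (mul_mem he hf') ⟨mul_mem htz.1 (hα r hr f hf').1, fun p hp => ?_⟩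
      have hk : x * (u * f) * x⁻¹ = u * (e * f) := by
        rw [show x * (u * f) * x⁻¹ = x * u * x⁻¹ * (x * f * x⁻¹) by group, hxe, (hPE hx f hf').eq,
          mul_inv_cancel_right, mul_assoc]
      have h3 : (u * f) • (x⁻¹ • p) = x⁻¹ • p := by
        rw [← hk, mul_smul, mul_smul] at hp
        exact smul_left_cancel x (hp.trans (smul_inv_smul x p).symm)
      have hk' : x * (r * α r f) * x⁻¹ = r' * (z * α r f) := by
        rw [show x * (r * α r f) * x⁻¹ = x * r * x⁻¹ * (x * α r f * x⁻¹) by group, hz,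
          (hPE hx _ (hα r hr f hf').1).eq, mul_inv_cancel_right, mul_assoc]
      calc (r' * (z * α r f)) • p = (x * (r * α r f)) • (x⁻¹ • p) := by rw [← mul_smul, hk']
        _ = p := by rw [mul_smul, (hα r hr f hf').2 _ h3, smul_inv_smul]
    rw [hαr r' hr' e he f hf', ← hz'] at h1
    have h4 : α r' f = α r f := mul_left_cancel h1
    have h5 : α (r' * r) f = 1 := by rw [hαl r' hr' r hr f hf', h4, hEsq _ (hα r hr f hf').1]
    rcases hαinj _ (mul_mem hr' hr) f hf' h5 with h6 | h6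
    · exact (eq_inv_of_mul_eq_one_left h6).trans (inv_eq_of_mul_eq_one_right (hRsq r hr))
    · exact absurd h6 hf1

/-- The torus. -/
theorem exists_torus (hf : Faithful G Ω) (IH : Below.{u, u} (Nat.card G)) {u : G} {a b : Ω} {E : Subgroup G}
    {q i : ℕ} (ht : TopFrame D u a b E q i) {R P0 Q P : Subgroup G} (M : ModelSyl D u a b E q i R P0 Q P)
    {α : G → G → G} (A : ModelAlpha u E R P α) : ∃ η : G, ModelTorus u a b E R P η := by
  classical
  haveI := Fact.mk Nat.prime_two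
  haveI := h.finite_points
  have hl := ht.data
  have hRm : ∀ {r}, r ∈ R → r • a = a ∧ Commute r u ∧ ∀ e ∈ E, Commute r e := fun hr =>
    mem_centSub.1 (M.sub (M.R_le hr))
  have hEsq : ∀ e ∈ E, e * e = 1 := fun e he => by
    rcases eq_or_ne e 1 with h1 | h1
    · rw [h1, one_mul]
    · exact h.sq (hl.mem e he h1).1
  have hEfix : ∀ {z}, z ∈ E → ∀ p : Ω, p ≠ a → z • p = p → z = 1 := fun {z} hz p hp hzp =>
    by_contra fun h1 => hp (h.fix_unique z (hl.mem z hz h1).1 p a hzp (hl.mem z hz h1).2.1)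
  obtain ⟨y, hyodd, hya, hyb, hyu, -, hyR, hyE, hytr⟩ := h.torusCent_aux hf IH ht.multi hl R
    (M.two.to_le M.R_le) (fun g hg => ⟨(hRm hg).1, M.R_fix g hg b hl.fix_b⟩) (fun g hg => (hRm hg).2.1)
    (fun g hg e he => by rw [((hRm hg).2.2 e he).eq, mul_inv_cancel_right]; exact he)
  have hyT : ∀ {g}, g ∈ transSub u a E → y * g * y⁻¹ ∈ transSub u a E := by
    rintro g ⟨hga, hgE, hgu⟩
    refine ⟨by rw [mul_smul, mul_smul, inv_smul_eq_iff.2 hya.symm, hga, hya], fun e he => ?_, ?_⟩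
    · obtain ⟨e', he', rfl⟩ := exists_conj_preimage hyE he
      show y * g * y⁻¹ * (y * e' * y⁻¹) = y * e' * y⁻¹ * (y * g * y⁻¹)
      calc y * g * y⁻¹ * (y * e' * y⁻¹) = y * (g * e') * y⁻¹ := by group
        _ = y * (e' * g) * y⁻¹ := by rw [(hgE e' he').eq]
        _ = _ := by group
    · have h1 := hyE _ hgu
      rwa [show y * (u⁻¹ * (g * u * g⁻¹)) * y⁻¹ = u⁻¹ * (y * g * y⁻¹ * u * (y * g * y⁻¹)⁻¹) by
        rw [show y * g * y⁻¹ * u * (y * g * y⁻¹)⁻¹ = y * g * (y⁻¹ * u * y) * g⁻¹ * y⁻¹ by group,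
          show y⁻¹ * u * y = u by rw [mul_assoc, ← hyu.eq, inv_mul_cancel_left],
          show y * (u⁻¹ * (g * u * g⁻¹)) * y⁻¹ = y * u⁻¹ * (g * u * g⁻¹) * y⁻¹ by group, hyu.inv_right.eq]
        group] at h1
  -- Frattini
  obtain ⟨P', hP'p, -, hP'F, hP'c, hP'max⟩ := exists_max_two M.P_two M.P_sub
  obtain ⟨g₁, hg₁, hg₁P⟩ := hP'max P M.P_two M.P_sub
  obtain ⟨g₂, hg₂, hg₂P⟩ := hP'max (P.map (MulAut.conj y).toMonoidHom) (M.P_two.map _)
    (by rintro _ ⟨x, hx, rfl⟩; exact hyT (M.P_sub hx))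
  have hPP' : Nat.card P' = Nat.card P := le_antisymm (M.P_sylow P' hP'p hP'F)
    (Nat.card_le_card_of_injective (fun x : P => (⟨g₁ * x * g₁⁻¹, hg₁P x x.2⟩ : P'))
      fun k k' e => Subtype.ext ((MulAut.conj g₁).injective (congrArg Subtype.val e :)))
  have hback : ∀ z ∈ P', g₁⁻¹ * z * g₁ ∈ P := fun z hz => by
    obtain ⟨⟨x, hx⟩, he⟩ := ((Nat.bijective_iff_injective_and_card
      (fun x : P => (⟨g₁ * x * g₁⁻¹, hg₁P x x.2⟩ : P'))).2
      ⟨fun k k' e => Subtype.ext ((MulAut.conj g₁).injective (congrArg Subtype.val e :)), hPP'.symm⟩).2 ⟨z, hz⟩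
    have he' : g₁ * x * g₁⁻¹ = z := congrArg Subtype.val he
    rw [← he', show g₁⁻¹ * (g₁ * x * g₁⁻¹) * g₁ = x by group]
    exact hx
  have hc : g₁⁻¹ * g₂ ∈ transSub u a E := mul_mem (inv_mem hg₁) hg₂
  set c := g₁⁻¹ * g₂ with hcdef
  have hcP : ∀ x ∈ P, c * (y * x * y⁻¹) * c⁻¹ ∈ P := fun x hx => by
    have h1 := hback _ (hg₂P _ ⟨x, hx, rfl⟩)
    convert h1 using 1
    simp [hcdef, mul_assoc]
  -- move `c` to the two-point stabiliser
  obtain ⟨x₀, hx₀, hx₀e⟩ := M.onto _ hc.2.2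
  rw [mul_inv_cancel_left] at hx₀e
  have hc0u : Commute (x₀⁻¹ * c) u := by
    refine mul_inv_eq_iff_eq_mul.1 ?_
    rw [show x₀⁻¹ * c * u * (x₀⁻¹ * c)⁻¹ = x₀⁻¹ * (c * u * c⁻¹) * x₀ by group, ← hx₀e]
    group
  have hx₀c : x₀⁻¹ * c ∈ transSub u a E := mul_mem (inv_mem (M.P_sub hx₀)) hc
  have hub : u • ((x₀⁻¹ * c) • b) = (x₀⁻¹ * c) • b := by
    rw [← mul_smul, ← hc0u.eq, mul_smul, hl.fix_b]
  obtain ⟨y₀, hy₀, hy₀b⟩ := M.Q_trans _ hub
    (fun e1 => hl.ne (smul_left_cancel (x₀⁻¹ * c) (e1.trans hx₀c.1.symm)).symm)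
  have hy₀P : y₀ ∈ P := ((M.mem_P0 y₀).1 ((M.Q_mem y₀).1 hy₀).1).1
  obtain ⟨hy₀a, hy₀u, hy₀E⟩ := mem_centSub.1 (M.sub ((M.Q_mem y₀).1 hy₀).1)
  set d := y₀⁻¹ * (x₀⁻¹ * c) with hd
  have hdF : d ∈ transSub u a E := mul_mem (inv_mem (M.P_sub hy₀P)) hx₀c
  set η₀ := d * y with hη₀
  have hη₀a : η₀ • a = a := by rw [hη₀, mul_smul, hya, hdF.1]
  have hη₀b : η₀ • b = b := by
    rw [hη₀, mul_smul, hyb, hd, mul_smul, ← hy₀b, inv_smul_smul]
  have hη₀u : Commute η₀ u := (hy₀u.inv_left.mul_left hc0u).mul_left hyu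
  have hη₀E : ∀ e ∈ E, η₀ * e * η₀⁻¹ = y * e * y⁻¹ := fun e he => by
    rw [show η₀ * e * η₀⁻¹ = d * (y * e * y⁻¹) * d⁻¹ by rw [hη₀]; group, (hdF.2.1 _ (hyE e he)).eq,
      mul_inv_cancel_right]
  have hη₀P : ∀ x ∈ P, η₀ * x * η₀⁻¹ ∈ P := fun x hx => by
    have h1 := mul_mem (mul_mem (inv_mem (mul_mem hx₀ hy₀P)) (hcP x hx)) (mul_mem hx₀ hy₀P)
    convert h1 using 1
    rw [hη₀, hd]
    group
  have hη₀R : ∀ r ∈ R, η₀ * r * η₀⁻¹ ∈ R := fun r hr => by
    refine (M.mem_R _).2 ⟨(M.mem_P0 _).2 ⟨hη₀P r ((M.mem_P0 r).1 (M.R_le hr)).1,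
      ((hη₀u.mul_left (hRm hr).2.1).mul_left hη₀u.inv_left)⟩, fun p hp => ?_⟩
    have hp' : u • (η₀⁻¹ • p) = η₀⁻¹ • p := by rw [← mul_smul, ← hη₀u.inv_left.eq, mul_smul, hp]
    rw [mul_smul, mul_smul, M.R_fix r hr _ hp', smul_inv_smul]
  have hη₀c : ∀ r ∈ R, Commute η₀ r := by
    intro r hr
    obtain ⟨f, hf', hf1⟩ : ∃ f ∈ E, f ≠ (1 : G) := by
      by_contra hc'
      push Not at hc'
      have := four_le_q hl
      rw [← hl.card_E, (Subgroup.eq_bot_iff_forall E).2 hc', Subgroup.card_bot] at this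
      omega
    obtain ⟨x, hx, hxf⟩ := M.onto f hf'
    set r' := η₀ * r * η₀⁻¹ with hr'
    -- the images of `x`
    have hfy : y * f * y⁻¹ ∈ E := hyE f hf'
    have h1 : η₀ * x * η₀⁻¹ * u * (η₀ * x * η₀⁻¹)⁻¹ = u * (y * f * y⁻¹) := by
      calc η₀ * x * η₀⁻¹ * u * (η₀ * x * η₀⁻¹)⁻¹ = η₀ * x * (η₀⁻¹ * u * η₀) * x⁻¹ * η₀⁻¹ := by group
        _ = η₀ * (x * u * x⁻¹) * η₀⁻¹ := by
          rw [show η₀⁻¹ * u * η₀ = u by rw [mul_assoc, ← hη₀u.eq, inv_mul_cancel_left]]; group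
        _ = η₀ * u * (η₀⁻¹ * (η₀ * f * η₀⁻¹)) := by rw [hxf]; group
        _ = u * (y * f * y⁻¹) := by rw [hη₀u.eq, hη₀E f hf']; group
    have h3 := A.conj r' (hη₀R r hr) _ (hη₀P x hx) _ hfy h1
    have h4 : η₀ * x * η₀⁻¹ * r' * (η₀ * x * η₀⁻¹)⁻¹ = r' * (y * α r f * y⁻¹) := by
      rw [← hη₀E _ (A.mem r hr f hf')]
      calc η₀ * x * η₀⁻¹ * r' * (η₀ * x * η₀⁻¹)⁻¹ = η₀ * (x * r * x⁻¹) * η₀⁻¹ := by rw [hr']; group
        _ = r' * (η₀ * α r f * η₀⁻¹) := by rw [A.conj r hr x hx f hf' hxf, hr']; group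
    have h5 : α r' (y * f * y⁻¹) = y * α r f * y⁻¹ := mul_left_cancel (h3.symm.trans h4)
    -- `y` commutes with `α r`
    have hz : y * α r f * y⁻¹ = α r (y * f * y⁻¹) := by
      obtain ⟨x', hx', hx'f⟩ : ∃ x' ∈ transSub u a E, x' * u * x'⁻¹ = u * (y * f * y⁻¹) ∧
          x' * r * x'⁻¹ = r * (y * α r f * y⁻¹) := by
        refine ⟨y * x * y⁻¹, hyT (M.P_sub hx), ?_, ?_⟩
        · calc y * x * y⁻¹ * u * (y * x * y⁻¹)⁻¹ = y * x * (y⁻¹ * u * y) * x⁻¹ * y⁻¹ := by group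
            _ = y * (x * u * x⁻¹) * y⁻¹ := by
              rw [show y⁻¹ * u * y = u by rw [mul_assoc, ← hyu.eq, inv_mul_cancel_left]]; group
            _ = y * u * (y⁻¹ * (y * f * y⁻¹)) := by rw [hxf]; group
            _ = u * (y * f * y⁻¹) := by rw [hyu.eq]; group
        · calc y * x * y⁻¹ * r * (y * x * y⁻¹)⁻¹ = y * x * (y⁻¹ * r * y) * x⁻¹ * y⁻¹ := by group
            _ = y * (x * r * x⁻¹) * y⁻¹ := by
              rw [show y⁻¹ * r * y = r by rw [mul_assoc, ← (hyR r hr).eq, inv_mul_cancel_left]]; group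
            _ = y * r * (y⁻¹ * (y * α r f * y⁻¹)) := by rw [A.conj r hr x hx f hf' hxf]; group
            _ = r * (y * α r f * y⁻¹) := by rw [(hyR r hr).eq]; group
      obtain ⟨x'', hx'', hx''e⟩ := M.onto _ hfy
      have h6 := A.conj r hr x'' hx'' _ hfy hx''e
      -- both move the fixed points of `u` to the same set, fixed by both conjugates of `r`
      have hp : (x' * r * x'⁻¹) • (x'' • b) = x'' • b := by
        have hb' : u • ((x'⁻¹ * x'') • b) = (x'⁻¹ * x'') • b := by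
          have hc' : Commute (x'⁻¹ * x'') u := by
            refine mul_inv_eq_iff_eq_mul.1 ?_
            rw [show x'⁻¹ * x'' * u * (x'⁻¹ * x'')⁻¹ = x'⁻¹ * (x'' * u * x''⁻¹) * x' by group, hx''e,
              ← hx'f.1]
            group
          rw [← mul_smul, ← hc'.eq, mul_smul, hl.fix_b]
        rw [mul_smul, mul_smul, ← mul_smul x'⁻¹ x'', M.R_fix r hr _ hb', mul_smul, smul_inv_smul]
      have hp' : (x'' * r * x''⁻¹) • (x'' • b) = x'' • b := by
        rw [mul_smul, mul_smul, inv_smul_smul, M.R_fix r hr b hl.fix_b]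
      rw [hx'f.2, mul_smul] at hp
      rw [h6, mul_smul] at hp'
      refine inv_mul_eq_one.1 (hEfix (mul_mem (inv_mem (hyE _ (A.mem r hr f hf'))) (A.mem r hr _ hfy)) (x'' • b)
        (fun e1 => hl.ne (smul_left_cancel x'' (e1.trans (M.P_sub hx'').1.symm)).symm) ?_)
      rw [mul_smul, inv_smul_eq_iff]
      exact smul_left_cancel r (hp'.trans hp.symm)
    have h7 : α (r' * r) (y * f * y⁻¹) = 1 := by
      rw [A.mul_left r' (hη₀R r hr) r hr _ hfy, h5, hz, hEsq _ (A.mem r hr _ hfy)]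
    rcases A.inj _ (mul_mem (hη₀R r hr) hr) _ hfy h7 with h8 | h8
    · have h9 : r' = r := (eq_inv_of_mul_eq_one_left h8).trans (inv_eq_of_mul_eq_one_right (A.R_sq r hr))
      exact mul_inv_eq_iff_eq_mul.1 h9
    · exact absurd (conj_eq_one_iff.1 h8) hf1
  -- the odd part
  obtain ⟨k, m, hm, hkm⟩ := Nat.exists_eq_two_pow_mul_odd (orderOf_pos η₀).ne'
  have hE0 : ∀ e ∈ E, η₀ * e * η₀⁻¹ ∈ E := fun e he => hη₀E e he ▸ hyE e he
  have hpow : ∀ (n : ℕ), (∀ e ∈ E, η₀ ^ n * e * (η₀ ^ n)⁻¹ = y ^ n * e * (y ^ n)⁻¹) ∧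
      (∀ e ∈ E, y ^ n * e * (y ^ n)⁻¹ ∈ E) ∧ ∀ x ∈ P, η₀ ^ n * x * (η₀ ^ n)⁻¹ ∈ P := by
    intro n
    induction n with
    | zero => exact ⟨fun e _ => by simp, fun e he => by simpa using he, fun x hx => by simpa using hx⟩
    | succ n ih =>
      refine ⟨fun e he => ?_, fun e he => ?_, fun x hx => ?_⟩
      · rw [pow_succ', show η₀ * η₀ ^ n * e * (η₀ * η₀ ^ n)⁻¹ = η₀ * (η₀ ^ n * e * (η₀ ^ n)⁻¹) * η₀⁻¹ by group,
          ih.1 e he, hη₀E _ (ih.2.1 e he), pow_succ']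
        group
      · rw [pow_succ', show y * y ^ n * e * (y * y ^ n)⁻¹ = y * (y ^ n * e * (y ^ n)⁻¹) * y⁻¹ by group]
        exact hyE _ (ih.2.1 e he)
      · rw [pow_succ', show η₀ * η₀ ^ n * x * (η₀ * η₀ ^ n)⁻¹ = η₀ * (η₀ ^ n * x * (η₀ ^ n)⁻¹) * η₀⁻¹ by group]
        exact hη₀P _ (ih.2.2 x hx)
  obtain ⟨l, hl'⟩ := exists_pow_eq_self_of_coprime (n := 2 ^ k) (x := y)
    ((Nat.coprime_two_left.2 hyodd).pow_left k)
  refine ⟨η₀ ^ 2 ^ k, ⟨?_, ⟨pow_mem (show η₀ ∈ stabilizer G a from hη₀a) _,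
    pow_mem (show η₀ ∈ stabilizer G b from hη₀b) _⟩, hη₀u.pow_left _, fun r hr => (hη₀c r hr).pow_left _,
    fun e he => (hpow _).1 e he ▸ (hpow _).2.1 e he, (hpow _).2.2, fun e he f hf' he1 hf1 => ?_⟩⟩
  · refine hm.of_dvd_nat (orderOf_dvd_of_pow_eq_one ?_)
    rw [← pow_mul, ← hkm, pow_orderOf_eq_one]
  · obtain ⟨j, hj⟩ := hytr e he f hf' he1 hf1 fun g hg => ⟨(hRm hg).2.2 e he, (hRm hg).2.2 f hf'⟩
    refine ⟨l * j, ?_⟩
    rw [← pow_mul, (hpow _).1 e he, pow_mul, pow_mul, hl', hj]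

end Crit

end CfsgLib.AschCrit
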