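import Mathlib
import Cfsg.Agent.Lib.Core.Coprime

/-!
Owner: helper18. Aschbacher's criterion, slice E: tools for the Sylow group of the translations.

* `exists_invariant_complement`: a complement invariant under an element of odd order in an elementary section.
* `exists_fixed_in_coset`: a coset of a 2-group fixed by an element of odd order has a fixed element.
-/

set_option autoImplicit false
set_option linter.unusedSectionVars false

namespace CfsgLib.AschCrit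

variable {G : Type*} [Group G] [Finite G]

/-- A complement of `K / E` in the elementary abelian `W / E` invariant under an element `g` of odd order. -/
theorem exists_invariant_complement {W K E : Subgroup G} (hEK : E ≤ K) (hKW : K ≤ W)
    (hEc : ∀ w ∈ W, ∀ e ∈ E, Commute w e) (hsq : ∀ w ∈ W, w * w ∈ E) {g : G} (hg : Odd (orderOf g))
    (hgW : ∀ w ∈ W, g * w * g⁻¹ ∈ W) (hgK : ∀ w ∈ K, g * w * g⁻¹ ∈ K) (hgE : ∀ w ∈ E, g * w * g⁻¹ ∈ E) :
    ∃ X : Subgroup G, E ≤ X ∧ X ≤ W ∧ (∀ x ∈ X, g * x * g⁻¹ ∈ X) ∧ (∀ x ∈ X, x ∈ K → x ∈ E) ∧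
      ∀ w ∈ W, ∃ k ∈ K, ∃ x ∈ X, w = k * x := by
  classical
  set EW : Subgroup W := E.subgroupOf W with hEW
  haveI : EW.Normal := ⟨fun e he w => by
    rw [hEW, Subgroup.mem_subgroupOf] at he ⊢
    show (w : G) * e * (w : G)⁻¹ ∈ E
    rw [(hEc w w.2 _ he).eq, mul_inv_cancel_right]
    exact he⟩
  have hsq' : ∀ v : W ⧸ EW, v * v = 1 := fun v => by
    obtain ⟨w, rfl⟩ := QuotientGroup.mk_surjective v
    rw [← QuotientGroup.mk_mul, QuotientGroup.eq_one_iff, hEW, Subgroup.mem_subgroupOf]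
    exact hsq w w.2
  letI : CommGroup (W ⧸ EW) := { (inferInstance : Group (W ⧸ EW)) with
    mul_comm := fun a b => by
      rw [← inv_eq_of_mul_eq_one_right (hsq' (a * b)), mul_inv_rev, inv_eq_of_mul_eq_one_right (hsq' a),
        inv_eq_of_mul_eq_one_right (hsq' b)] }
  letI : Module (ZMod 2) (Additive (W ⧸ EW)) := AddCommGroup.zmodModule fun v => by
    rw [two_nsmul]; exact hsq' v.toMul
  -- the action of `<g>`
  set C : Subgroup G := Subgroup.zpowers g with hC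
  have hmem : ∀ (S : Subgroup G), (∀ w ∈ S, g * w * g⁻¹ ∈ S) → ∀ s ∈ C, ∀ w ∈ S, s * w * s⁻¹ ∈ S := by
    intro S hS s hs w hw
    obtain ⟨n, rfl⟩ := (isOfFinOrder_of_finite g).mem_powers_iff_mem_zpowers.2 hs
    show g ^ n * w * (g ^ n)⁻¹ ∈ S
    induction n with
    | zero => simpa using hw
    | succ n ih =>
      rw [pow_succ', show g * g ^ n * w * (g * g ^ n)⁻¹ = g * (g ^ n * w * (g ^ n)⁻¹) * g⁻¹ by group]
      exact hS _ (ih (pow_mem (Subgroup.mem_zpowers g) n))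
  let ψ : C → (W ⧸ EW →* W ⧸ EW) := fun s => QuotientGroup.map EW EW
    (MonoidHom.mk' (fun w : W => (⟨(s : G) * w * (s : G)⁻¹, hmem W hgW s s.2 w w.2⟩ : W)) fun a b => Subtype.ext (by
      show (s : G) * ((a : G) * b) * (s : G)⁻¹ = (s : G) * a * (s : G)⁻¹ * ((s : G) * b * (s : G)⁻¹)
      group))
    fun w hw => by
      rw [hEW, Subgroup.mem_subgroupOf] at hw
      rw [Subgroup.mem_comap, hEW, Subgroup.mem_subgroupOf]
      exact hmem E hgE s s.2 w hw
  have hψmul : ∀ (s t : C) (v : W ⧸ EW), ψ (s * t) v = ψ s (ψ t v) := fun s t v => by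
    obtain ⟨w, rfl⟩ := QuotientGroup.mk_surjective v
    refine congrArg (QuotientGroup.mk (s := EW)) (Subtype.ext ?_)
    show ((s : G) * t) * w * ((s : G) * t)⁻¹ = (s : G) * ((t : G) * w * (t : G)⁻¹) * (s : G)⁻¹
    group
  have hψone : ∀ v : W ⧸ EW, ψ 1 v = v := fun v => by
    obtain ⟨w, rfl⟩ := QuotientGroup.mk_surjective v
    refine congrArg (QuotientGroup.mk (s := EW)) (Subtype.ext ?_)
    show (1 : G) * w * (1 : G)⁻¹ = w
    group
  let T : C → (Additive (W ⧸ EW) →+ Additive (W ⧸ EW)) := fun s => MonoidHom.toAdditive (ψ s)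
  have hTmul : ∀ (s t : C) v, T (s * t) v = T s (T t v) := fun s t v => hψmul s t v.toMul
  -- the image of `K`
  let K' : Submodule (ZMod 2) (Additive (W ⧸ EW)) := AddSubgroup.toZModSubmodule 2
    (Subgroup.toAddSubgroup ((K.subgroupOf W).map (QuotientGroup.mk' EW)))
  have hK' : ∀ w : W, Additive.ofMul (QuotientGroup.mk w : W ⧸ EW) ∈ K' ↔ (w : G) ∈ K := by
    intro w
    constructor
    · rintro ⟨k, hk, he⟩
      have h1 : (k : W)⁻¹ * w ∈ EW := QuotientGroup.eq.1 he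
      rw [hEW, Subgroup.mem_subgroupOf] at h1
      have h3 := mul_mem (Subgroup.mem_subgroupOf.1 hk) (hEK h1)
      simpa using h3
    · exact fun hw => ⟨w, Subgroup.mem_subgroupOf.2 hw, rfl⟩
  have hTK : ∀ (s : C), ∀ v ∈ K', T s v ∈ K' := by
    intro s v hv
    obtain ⟨w, hw⟩ := QuotientGroup.mk_surjective v.toMul
    have hv' : v = Additive.ofMul (QuotientGroup.mk w : W ⧸ EW) := by rw [hw]; rfl
    rw [hv'] at hv ⊢
    exact (hK' (⟨(s : G) * w * (s : G)⁻¹, hmem W hgW s s.2 w w.2⟩ : W)).2 (hmem K hgK s s.2 w ((hK' w).1 hv))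
  obtain ⟨C', hcompl⟩ := Submodule.exists_isCompl K'
  let π₀ : Additive (W ⧸ EW) →+ Additive (W ⧸ EW) :=
    (K'.subtype.comp (K'.linearProjOfIsCompl C' hcompl)).toAddMonoidHom
  have hπmem : ∀ v, π₀ v ∈ K' := fun v => (K'.linearProjOfIsCompl C' hcompl v).2
  have hπid : ∀ v ∈ K', π₀ v = v := fun v hv =>
    congrArg Subtype.val (Submodule.linearProjOfIsCompl_apply_left hcompl ⟨v, hv⟩)
  haveI := Fintype.ofFinite C
  let π : Additive (W ⧸ EW) →+ Additive (W ⧸ EW) := ∑ s : C, (T s).comp (π₀.comp (T s⁻¹))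
  have hπ : ∀ v, π v = ∑ s : C, T s (π₀ (T s⁻¹ v)) := fun v => by
    simp only [π, AddMonoidHom.finsetSum_apply, AddMonoidHom.comp_apply]
  have hπK : ∀ v, π v ∈ K' := fun v => by
    rw [hπ]; exact K'.sum_mem fun s _ => hTK s _ (hπmem _)
  have hodd : Odd (Fintype.card C) := by
    rw [← Nat.card_eq_fintype_card, hC, Nat.card_zpowers]; exact hg
  have hπfix : ∀ v ∈ K', π v = v := fun v hv => by
    rw [hπ, Finset.sum_congr rfl fun s _ => show T s (π₀ (T s⁻¹ v)) = v by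
      rw [hπid _ (hTK s⁻¹ v hv), ← hTmul, mul_inv_cancel]; exact hψone v.toMul]
    rw [Finset.sum_const, Finset.card_univ]
    obtain ⟨n, hn⟩ := hodd
    have h2 : (2 : ℕ) • v = 0 := by rw [two_nsmul]; exact hsq' v.toMul
    rw [hn, add_smul, one_smul, mul_comm, mul_smul, h2, smul_zero, zero_add]
  have hπT : ∀ (t : C) v, π (T t v) = T t (π v) := fun t v => by
    rw [hπ, hπ, map_sum]
    refine (Fintype.sum_equiv (Equiv.mulLeft t) _ _ fun s => ?_).symm
    show T t (T s (π₀ (T s⁻¹ v))) = T (t * s) (π₀ (T (t * s)⁻¹ (T t v)))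
    rw [hTmul, ← hTmul (t * s)⁻¹ t v, mul_inv_rev, inv_mul_cancel_right]
  let ρ : W →* W ⧸ EW := (AddMonoidHom.toMultiplicative π).comp (QuotientGroup.mk' EW)
  have hρ : ∀ w : W, Additive.ofMul (ρ w) = π (Additive.ofMul (QuotientGroup.mk w : W ⧸ EW)) := fun w => rfl
  refine ⟨ρ.ker.map W.subtype, fun e he => ⟨⟨e, hKW (hEK he)⟩, ?_, rfl⟩, Subgroup.map_subtype_le _, ?_, ?_, ?_⟩
  · refine MonoidHom.mem_ker.2 (Additive.ofMul.injective ?_)
    rw [hρ, show (QuotientGroup.mk (⟨e, hKW (hEK he)⟩ : W) : W ⧸ EW) = 1 from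
      (QuotientGroup.eq_one_iff _).2 (Subgroup.mem_subgroupOf.2 he)]
    exact map_zero π
  · rintro _ ⟨w, hw, rfl⟩
    refine ⟨⟨g * w * g⁻¹, hgW w w.2⟩, MonoidHom.mem_ker.2 (Additive.ofMul.injective ?_), rfl⟩
    rw [hρ]
    have h1 := hπT (⟨g, Subgroup.mem_zpowers g⟩ : C) (Additive.ofMul (QuotientGroup.mk w : W ⧸ EW))
    rw [← hρ w, MonoidHom.mem_ker.1 hw] at h1
    exact h1.trans (map_zero (T _))
  · rintro _ ⟨w, hw, rfl⟩ hwK
    have h1 := hπfix _ ((hK' w).2 hwK)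
    rw [← hρ w, MonoidHom.mem_ker.1 hw] at h1
    exact Subgroup.mem_subgroupOf.1 ((QuotientGroup.eq_one_iff w).1 (Additive.ofMul.injective h1.symm))
  · intro w hw
    obtain ⟨k, hk, hke⟩ : ∃ k : W, (k : G) ∈ K ∧ (QuotientGroup.mk k : W ⧸ EW) = ρ ⟨w, hw⟩ := by
      obtain ⟨k, hk⟩ := QuotientGroup.mk_surjective (ρ ⟨w, hw⟩)
      refine ⟨k, (hK' k).1 ?_, hk⟩
      rw [hk, hρ]; exact hπK _
    refine ⟨k, hk, (k : G)⁻¹ * w, ⟨k⁻¹ * ⟨w, hw⟩, ?_, rfl⟩, (mul_inv_cancel_left _ _).symm⟩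
    have h1 := hπfix _ ((hK' k).2 hk)
    rw [← hρ k] at h1
    show ρ (k⁻¹ * ⟨w, hw⟩) = 1
    rw [map_mul, map_inv, show ρ k = (QuotientGroup.mk k : W ⧸ EW) from Additive.ofMul.injective h1, ← hke,
      inv_mul_cancel]

/-- A coset of a normalised 2-group fixed modulo it has a fixed element. -/
theorem exists_fixed_in_coset {N : Subgroup G} (hN : IsPGroup 2 N) {z : G} (hz : Odd (orderOf z))
    (hzN : ∀ n ∈ N, z * n * z⁻¹ ∈ N) {k : G} (hk : k⁻¹ * (z * k * z⁻¹) ∈ N) :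
    ∃ n ∈ N, Commute z (k * n) := by
  haveI := Fact.mk Nat.prime_two
  obtain ⟨e, he⟩ := hN.exists_card_eq
  have hnorm : z ∈ Subgroup.normalizer (N : Set G) := by
    rw [Subgroup.mem_normalizer_iff]
    refine fun y => ⟨hzN y, fun hy => ?_⟩
    obtain ⟨⟨n, hn⟩, hne⟩ := Finite.surjective_of_injective
      (f := fun n : N => (⟨z * n * z⁻¹, hzN n n.2⟩ : N))
      (fun n n' h => Subtype.ext ((MulAut.conj z).injective (congrArg Subtype.val h :))) ⟨_, hy⟩
    have h1 : z * n * z⁻¹ = z * y * z⁻¹ := congrArg Subtype.val hne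
    rwa [← mul_left_cancel (mul_right_cancel h1)]
  obtain ⟨n, hn, hc⟩ := CfsgLib.Core.exists_centralizing_in_coset (A := Subgroup.zpowers z) (N := N) (k := k)
    (Subgroup.zpowers_le.2 hnorm) (by rw [Nat.card_zpowers, he]; exact (Nat.coprime_two_right.2 hz).pow_right e)
    (Or.inl inferInstance) (fun a ha => by
      obtain ⟨j, rfl⟩ := (isOfFinOrder_of_finite z).mem_powers_iff_mem_zpowers.2 ha
      show k⁻¹ * (z ^ j * k * (z ^ j)⁻¹) ∈ N
      clear ha
      induction j with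
      | zero => simp [one_mem]
      | succ j ih =>
        rw [pow_succ', show k⁻¹ * (z * z ^ j * k * (z * z ^ j)⁻¹) =
          k⁻¹ * (z * k * z⁻¹) * (z * (k⁻¹ * (z ^ j * k * (z ^ j)⁻¹)) * z⁻¹) by group]
        exact mul_mem hk (hzN _ ih))
  exact ⟨n, hn, Subgroup.mem_centralizer_iff.1 hc z (Subgroup.mem_zpowers z)⟩

end CfsgLib.AschCrit
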