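import Cfsg.Agent.Lib.Invol.AschCrit.ModelGraph
import Cfsg.Agent.Lib.Invol.AschCrit.ModelTools

/-!
Owner: helper18. Aschbacher's criterion, slice E: the translations on `Q`, basic facts.

* `ModelSyl.conj_P0`, `ModelSyl.centre_Q`: `P` normalises `P0`; the centre of `Q` is in `E`.
* `ModelSyl.comm_mod_of_le_two`: for `i ≤ 2` the translations fix `Q` modulo `R E`.
* `card_section_dvd`: the torus has long orbits on an invariant section `S / E`.
-/

set_option autoImplicit false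
set_option linter.unusedSectionVars false

namespace CfsgLib.AschCrit

open Subgroup MulAction

universe u

variable {G : Type u} [Group G] [Finite G] {Ω : Type u} [MulAction G Ω]

/-- The orbits of `g` on the non-trivial cosets of an invariant section over `E` are multiples of `|E| - 1`. -/
theorem card_section_dvd {S E : Subgroup G} (hES : E ≤ S) (hsq : ∀ v ∈ S, v * v ∈ E)
    (hsq1 : ∀ v ∈ S, v * v = 1 → v ∈ E) (hEc : ∀ v ∈ S, ∀ e ∈ E, Commute v e) (hE2 : ∀ e ∈ E, e * e = 1)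
    {g : G} (hgS : ∀ v ∈ S, g * v * g⁻¹ ∈ S) (hgE : ∀ v ∈ E, g * v * g⁻¹ ∈ E)
    (htr : ∀ e ∈ E, ∀ f ∈ E, e ≠ 1 → f ≠ 1 → ∃ j : ℕ, g ^ j * e * (g ^ j)⁻¹ = f) :
    Nat.card E - 1 ∣ Nat.card S / Nat.card E - 1 := by
  classical
  set C : Subgroup G := Subgroup.zpowers g with hC
  have hmem : ∀ (W : Subgroup G), (∀ w ∈ W, g * w * g⁻¹ ∈ W) → ∀ s ∈ C, ∀ w ∈ W, s * w * s⁻¹ ∈ W := by
    intro W hW s hs w hw
    obtain ⟨n, rfl⟩ := (isOfFinOrder_of_finite g).mem_powers_iff_mem_zpowers.2 hs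
    show g ^ n * w * (g ^ n)⁻¹ ∈ W
    clear hs
    induction n with
    | zero => simpa using hw
    | succ n ih =>
      rw [pow_succ', show g * g ^ n * w * (g * g ^ n)⁻¹ = g * (g ^ n * w * (g ^ n)⁻¹) * g⁻¹ by group]
      exact hW _ ih
  set ES : Subgroup S := E.subgroupOf S with hESd
  letI : MulAction C {e : G // e ∈ E ∧ e ≠ 1} :=
    { smul := fun s e => ⟨(s : G) * e.1 * (s : G)⁻¹, hmem E hgE s s.2 _ e.2.1, fun h => e.2.2 (conj_eq_one_iff.1 h)⟩
      one_smul := fun e => Subtype.ext (show (1 : G) * e.1 * (1 : G)⁻¹ = e.1 by group)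
      mul_smul := fun s t e => Subtype.ext (show ((s : G) * t) * e.1 * ((s : G) * t)⁻¹ =
        (s : G) * ((t : G) * e.1 * (t : G)⁻¹) * (s : G)⁻¹ by group) }
  let act : C → S → S := fun s v => ⟨(s : G) * v * (s : G)⁻¹, hmem S hgS s s.2 v v.2⟩
  letI : MulAction C (S ⧸ ES) :=
    { smul := fun s => Quotient.map' (act s) fun v w hvw => by
        rw [QuotientGroup.leftRel_apply] at hvw ⊢
        rw [hESd, Subgroup.mem_subgroupOf] at hvw ⊢
        have h1 := hmem E hgE s s.2 _ hvw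
        convert h1 using 1
        show ((s : G) * v * (s : G)⁻¹)⁻¹ * ((s : G) * w * (s : G)⁻¹) = (s : G) * ((v : G)⁻¹ * w) * (s : G)⁻¹
        group
      one_smul := fun c => Quotient.inductionOn' c fun v => congrArg QuotientGroup.mk
        (Subtype.ext (show (1 : G) * v * (1 : G)⁻¹ = v by group))
      mul_smul := fun s t c => Quotient.inductionOn' c fun v => congrArg QuotientGroup.mk
        (Subtype.ext (show ((s : G) * t) * v * ((s : G) * t)⁻¹ = (s : G) * ((t : G) * v * (t : G)⁻¹) * (s : G)⁻¹ by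
          group)) }
  let X := {c : S ⧸ ES // c ≠ ((1 : S) : S ⧸ ES)}
  have hfix : ∀ s : C, s • ((1 : S) : S ⧸ ES) = ((1 : S) : S ⧸ ES) := fun s =>
    congrArg QuotientGroup.mk (Subtype.ext (show (s : G) * 1 * (s : G)⁻¹ = 1 by group))
  letI : MulAction C X :=
    { smul := fun s c => ⟨s • c.1, fun h => c.2 (smul_left_cancel s (h.trans (hfix s).symm))⟩
      one_smul := fun c => Subtype.ext (one_smul C c.1)
      mul_smul := fun s t c => Subtype.ext (mul_smul s t c.1) }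
  have horb : ∀ x : X, Nat.card E - 1 ∣ Nat.card (orbit C x) := by
    rintro ⟨c, hc⟩
    obtain ⟨v, rfl⟩ := QuotientGroup.mk_surjective c
    have hvE : (v : G) ∉ E := fun h => hc (QuotientGroup.eq.2 (by
      rw [mul_one, hESd, Subgroup.mem_subgroupOf]; exact inv_mem h))
    let e₀ : {e : G // e ∈ E ∧ e ≠ 1} := ⟨(v : G) * v, hsq v v.2, fun h => hvE (hsq1 v v.2 h)⟩
    have horbe : Nat.card (orbit C e₀) = Nat.card E - 1 := by
      have huniv : orbit C e₀ = Set.univ := Set.eq_univ_iff_forall.2 fun f => by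
        obtain ⟨j, hj⟩ := htr e₀.1 e₀.2.1 f.1 f.2.1 e₀.2.2 f.2.2
        exact ⟨⟨g ^ j, pow_mem (Subgroup.mem_zpowers g) j⟩, Subtype.ext hj⟩
      have h1 : Nat.card {e : G // e ∈ E ∧ e ≠ 1} = Nat.card E - 1 := by
        have h3 := Set.ncard_sdiff_singleton_of_mem (one_mem E : (1 : G) ∈ (E : Set G))
        rw [← Nat.card_coe_set_eq, ← Nat.card_coe_set_eq] at h3
        exact h3
      rw [huniv, Nat.card_congr (Equiv.Set.univ _), h1]
    have hle : stabilizer C (⟨((v : S) : S ⧸ ES), hc⟩ : X) ≤ stabilizer C e₀ := by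
      intro s hs
      have h1 : (act s v)⁻¹ * v ∈ ES :=
        QuotientGroup.eq.1 (congrArg Subtype.val (mem_stabilizer_iff.1 hs))
      rw [hESd, Subgroup.mem_subgroupOf] at h1
      set w := (s : G) * v * (s : G)⁻¹ with hw
      set z := w⁻¹ * (v : G) with hz
      have hzE : z ∈ E := h1
      refine mem_stabilizer_iff.2 (Subtype.ext ?_)
      show (s : G) * ((v : G) * v) * (s : G)⁻¹ = (v : G) * v
      have hv' : (v : G) = w * z := by rw [hz, mul_inv_cancel_left]
      have hwz : Commute w z := hEc w (hmem S hgS s s.2 v v.2) z hzE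
      calc (s : G) * ((v : G) * v) * (s : G)⁻¹ = w * w := by rw [hw]; group
        _ = w * w * (z * z) := by rw [hE2 z hzE, mul_one]
        _ = w * z * (w * z) := by rw [hwz.symm.mul_mul_mul_comm]
        _ = (v : G) * v := by rw [← hv']
    rw [← horbe, Nat.card_coe_set_eq, ← index_stabilizer, Nat.card_coe_set_eq, ← index_stabilizer]
    exact Subgroup.index_dvd_of_le hle
  have hX : Nat.card E - 1 ∣ Nat.card X := by
    haveI : Fintype (orbitRel.Quotient C X) := Fintype.ofFinite _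
    rw [Nat.card_congr (selfEquivSigmaOrbits C X), Nat.card_sigma]
    exact Finset.dvd_sum fun c _ => horb _
  have hXcard : Nat.card X = Nat.card S / Nat.card E - 1 := by
    have h1 : Nat.card S / Nat.card E = Nat.card (S ⧸ ES) := by
      rw [Subgroup.card_eq_card_quotient_mul_card_subgroup ES,
        Nat.card_congr (Subgroup.subgroupOfEquivOfLe hES).toEquiv, Nat.mul_div_cancel _ Nat.card_pos]
    have h3 := Set.ncard_sdiff_singleton_of_mem (Set.mem_univ (((1 : S) : S ⧸ ES)))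
    rw [Set.ncard_univ, ← Nat.card_coe_set_eq] at h3
    rw [h1, ← h3]
    exact Nat.card_congr (Equiv.subtypeEquivRight fun c => by simp)
  rwa [hXcard] at hX

namespace ModelSyl

variable {D : Set G} {u : G} {a b : Ω} {E : Subgroup G} {q i : ℕ} {R P0 Q P : Subgroup G}

theorem Q_P0 (M : ModelSyl D u a b E q i R P0 Q P) {y : G} (hy : y ∈ Q) : y ∈ P0 := ((M.Q_mem y).1 hy).1

theorem Q_P (M : ModelSyl D u a b E q i R P0 Q P) {y : G} (hy : y ∈ Q) : y ∈ P := ((M.mem_P0 y).1 (M.Q_P0 hy)).1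

theorem R_P (M : ModelSyl D u a b E q i R P0 Q P) {r : G} (hr : r ∈ R) : r ∈ P := ((M.mem_P0 r).1 (M.R_le hr)).1

theorem Q_commute (M : ModelSyl D u a b E q i R P0 Q P) {r y : G} (hr : r ∈ R) (hy : y ∈ Q) : Commute y r :=
  M.Q_comm r hr (M.R_fix r hr) y hy

theorem comm_E (M : ModelSyl D u a b E q i R P0 Q P) {x e : G} (hx : x ∈ P) (he : e ∈ E) : Commute x e :=
  (M.P_sub hx).2.1 e he

theorem exists_shift (M : ModelSyl D u a b E q i R P0 Q P) {x : G} (hx : x ∈ P) :
    ∃ e ∈ E, x * u * x⁻¹ = u * e :=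
  ⟨_, (M.P_sub hx).2.2, (mul_inv_cancel_left _ _).symm⟩

/-- The translation of an element of `P` is trivial exactly on `P0`. -/
theorem shift_one (M : ModelSyl D u a b E q i R P0 Q P) {x e : G} (hx : x ∈ P) (hxe : x * u * x⁻¹ = u * e) :
    e = 1 ↔ x ∈ P0 := by
  rw [M.mem_P0]
  constructor
  · rintro rfl
    exact ⟨hx, mul_inv_eq_iff_eq_mul.1 (hxe.trans (mul_one u))⟩
  · rintro ⟨-, hc⟩
    rw [hc.eq, mul_inv_cancel_right] at hxe
    exact left_eq_mul.1 hxe

/-- `P` normalises `P0`. -/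
theorem conj_P0 (M : ModelSyl D u a b E q i R P0 Q P) {x g : G} (hx : x ∈ P) (hg : g ∈ P0) :
    x * g * x⁻¹ ∈ P0 := by
  obtain ⟨hgP, hgu⟩ := (M.mem_P0 g).1 hg
  obtain ⟨e, he, hxe⟩ := M.exists_shift hx
  refine (M.mem_P0 _).2 ⟨mul_mem (mul_mem hx hgP) (inv_mem hx), ?_⟩
  have h3 : Commute (x * g * x⁻¹) (x * u * x⁻¹) := by
    show x * g * x⁻¹ * (x * u * x⁻¹) = x * u * x⁻¹ * (x * g * x⁻¹)
    calc x * g * x⁻¹ * (x * u * x⁻¹) = x * (g * u) * x⁻¹ := by group
      _ = x * (u * g) * x⁻¹ := by rw [hgu.eq]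
      _ = x * u * x⁻¹ * (x * g * x⁻¹) := by group
  rw [hxe] at h3
  have h4 : Commute (x * g * x⁻¹) e :=
    ((M.comm_E hx he).mul_left (M.comm_E hgP he)).mul_left (M.comm_E hx he).inv_left
  have h5 := h3.mul_right h4.inv_right
  rwa [mul_inv_cancel_right] at h5

/-- The decomposition `P0 = R Q` is unique. -/
theorem decomp_unique (M : ModelSyl D u a b E q i R P0 Q P) {r r' y y' : G} (hr : r ∈ R) (hr' : r' ∈ R)
    (hy : y ∈ Q) (hy' : y' ∈ Q) (h : r * y = r' * y') : r = r' ∧ y = y' := by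
  have h1 : r'⁻¹ * r = y' * y⁻¹ := by
    rw [eq_mul_inv_iff_mul_eq, mul_assoc, h, inv_mul_cancel_left]
  have h3 := M.disj _ (mul_mem (inv_mem hr') hr) (by rw [h1]; exact mul_mem hy' (inv_mem hy))
  have h4 := (inv_mul_eq_one.1 h3).symm
  exact ⟨h4, mul_left_cancel (h4 ▸ h)⟩

/-- The centre of `Q` is in `E`. -/
theorem centre_Q (M : ModelSyl D u a b E q i R P0 Q P) (hl : LData D u a b E q i) (h4 : 4 ≤ q) {z : G}
    (hz : z ∈ Q) (hc : ∀ y ∈ Q, Commute z y) : z ∈ E := by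
  by_contra hzE
  rcases hl.type with hi | hi | hi
  · have he := Subgroup.eq_of_le_of_card_ge M.E_Q (by rw [M.Q_card, hl.card_E, hi, pow_one])
    exact hzE (he.ge hz)
  · have hsub : (Q : Set G) ⊆ (E : Set G) ∪ (fun e => e * z) '' E := fun y hy =>
      (M.Q_form_two hi z hz hzE y hy (hc y hy)).elim Or.inl fun h1 => Or.inr ⟨_, h1, inv_mul_cancel_right _ _⟩
    have h3 := (Set.ncard_le_ncard hsub).trans (Set.ncard_union_le _ _)
    have h4' := Set.ncard_image_le (f := fun e => e * z) (Set.toFinite (E : Set G))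
    have h5 : (Q : Set G).ncard = q ^ i := by rw [← Nat.card_coe_set_eq]; exact M.Q_card
    have h6 : (E : Set G).ncard = q := by rw [← Nat.card_coe_set_eq]; exact hl.card_E
    rw [h5, hi] at h3
    rw [h6] at h4'
    nlinarith
  · obtain ⟨e, he, he1⟩ : ∃ e ∈ E, e ≠ (1 : G) := by
      by_contra hc'
      push Not at hc'
      have h5 := hl.card_E
      rw [(Subgroup.eq_bot_iff_forall E).2 hc', Subgroup.card_bot] at h5
      omega
    obtain ⟨y', hy', hye⟩ := M.Q_form_three hi z hz hzE e he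
    exact he1 (by rw [← hye, (hc y' hy').eq]; group)

/-- In Suzuki type the square is injective modulo `E`. -/
theorem sq_inj_two (M : ModelSyl D u a b E q i R P0 Q P) (hl : LData D u a b E q i) (hi : i = 2)
    (hE2 : ∀ e ∈ E, e * e = 1) {y y' : G} (hy : y ∈ Q) (hy' : y' ∈ Q) (h : y * y = y' * y') :
    y⁻¹ * y' ∈ E := by
  classical
  set EQ : Subgroup Q := E.subgroupOf Q
  let f : Q ⧸ EQ → E := Quotient.lift (fun v : Q => (⟨(v : G) * v, M.Q_sq v v.2⟩ : E)) fun v w hvw => by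
    have h1 : (v : G)⁻¹ * w ∈ E := Subgroup.mem_subgroupOf.1 (QuotientGroup.leftRel_apply.1 hvw)
    refine Subtype.ext ?_
    set z := (v : G)⁻¹ * w with hz
    have hvz : Commute (v : G) z := M.comm_E (M.Q_P v.2) h1
    show (v : G) * v = (w : G) * w
    rw [show (w : G) = (v : G) * z by rw [hz, mul_inv_cancel_left], hvz.symm.mul_mul_mul_comm, hE2 z h1, mul_one]
  have hs : Function.Surjective f := fun e => by
    obtain ⟨v, hv, hve⟩ := M.Q_sq_onto (by omega) e e.2
    exact ⟨QuotientGroup.mk (⟨v, hv⟩ : Q), Subtype.ext hve⟩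
  have hcard : Nat.card (Q ⧸ EQ) = Nat.card E := by
    have h1 := Subgroup.card_eq_card_quotient_mul_card_subgroup EQ
    rw [Nat.card_congr (Subgroup.subgroupOfEquivOfLe M.E_Q).toEquiv, M.Q_card, hi, pow_two] at h1
    rw [hl.card_E] at h1 ⊢
    exact Nat.eq_of_mul_eq_mul_right (by rw [← hl.card_E]; exact Nat.card_pos) h1.symm
  have hinj : Function.Injective f := ((Nat.bijective_iff_surjective_and_card f).2 ⟨hs, hcard⟩).1
  exact Subgroup.mem_subgroupOf.1 (QuotientGroup.eq.1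
    (@hinj (QuotientGroup.mk (⟨y, hy⟩ : Q)) (QuotientGroup.mk (⟨y', hy'⟩ : Q)) (Subtype.ext h)))

/-- For `i ≤ 2` the translations fix `Q` modulo `R E`. -/
theorem comm_mod_of_le_two (M : ModelSyl D u a b E q i R P0 Q P) {α : G → G → G} (A : ModelAlpha u E R P α)
    (hl : LData D u a b E q i) (hi : i ≠ 3) (hE2 : ∀ e ∈ E, e * e = 1) {x y : G} (hx : x ∈ P) (hy : y ∈ Q) :
    ∃ r ∈ R, ∃ z ∈ E, x * y * x⁻¹ = r * y * z := by
  rcases hl.type with h1 | h1 | h1
  · have he := Subgroup.eq_of_le_of_card_ge M.E_Q (by rw [M.Q_card, hl.card_E, h1, pow_one])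
    refine ⟨1, one_mem _, 1, one_mem _, ?_⟩
    rw [(M.comm_E hx (he.ge hy)).eq, mul_inv_cancel_right, one_mul, mul_one]
  · obtain ⟨r, hr, y', hy', he⟩ := M.prod _ (M.conj_P0 hx (M.Q_P0 hy))
    refine ⟨r, hr, y⁻¹ * y', M.sq_inj_two hl h1 hE2 hy hy' ?_, ?_⟩
    · calc y * y = x * (y * y) * x⁻¹ := by
            rw [(M.comm_E hx (M.Q_sq y hy)).eq, mul_inv_cancel_right]
        _ = (x * y * x⁻¹) * (x * y * x⁻¹) := by group
        _ = r * y' * (r * y') := by rw [he]
        _ = r * r * (y' * y') := (M.Q_commute hr hy').mul_mul_mul_comm _ _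
        _ = y' * y' := by rw [A.R_sq r hr, one_mul]
    · rw [he]; group
  · exact absurd h1 hi

end ModelSyl

end CfsgLib.AschCrit
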