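import Cfsg.Agent.Lib.Invol.AschCrit.ModelQ
import Cfsg.Agent.Lib.Invol.AschCrit.ModelDef

/-!
Owner: helper18. Aschbacher's criterion, slice E: for `i ≤ 2` the translations fix `Q` modulo `E`.

With a kernel of order two this is a count, otherwise the exceptional pairing has to be excluded (`NoPairing`).
-/

set_option autoImplicit false
set_option linter.unusedSectionVars false

namespace CfsgLib.AschCrit

open Subgroup MulAction

universe u

variable {G : Type u} [Group G] [Finite G] {Ω : Type u} [MulAction G Ω]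

namespace Crit

variable {D : Set G} (h : Crit Ω D)
include h

/-- For `i ≤ 2` the translations fix `Q` modulo `E`. -/
theorem comm_E_of_le_two (hnp : NoPairing Ω D) {u : G} {a b : Ω} {E : Subgroup G} {q i : ℕ}
    (hfr : Frame D u a b E q i) (htr : HasTrans u a E) {R P0 Q P : Subgroup G}
    (M : ModelSyl D u a b E q i R P0 Q P) {α : G → G → G} (A : ModelAlpha u E R P α) {η : G}
    (T : ModelTorus u a b E R P η) (hi : i ≠ 3) {x y : G} (hx : x ∈ P) (hy : y ∈ Q) :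
    x * y * x⁻¹ * y⁻¹ ∈ E := by
  classical
  haveI := Fact.mk Nat.prime_two
  have hl := hfr.data
  have h4 := four_le_q hl
  have hE2 : ∀ e ∈ E, e * e = 1 := fun e he => by
    rcases eq_or_ne e 1 with h1 | h1
    · rw [h1, one_mul]
    · exact h.sq (hl.mem e he h1).1
  have hEP : ∀ {g e}, g ∈ P → e ∈ E → g * e * g⁻¹ = e := fun hg he => by
    rw [(M.comm_E hg he).eq, mul_inv_cancel_right]
  by_contra hbad
  have hi2 : i = 2 := by
    rcases hl.type with h1 | h1 | h1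
    · exfalso
      have he := Subgroup.eq_of_le_of_card_ge M.E_Q (by rw [M.Q_card, hl.card_E, h1, pow_one])
      exact hbad (by rw [hEP hx (he.ge hy), mul_inv_cancel]; exact one_mem _)
    · exact h1
    · exact absurd h1 hi
  have hmod : ∀ {g v}, g ∈ P → v ∈ Q → ∃ r ∈ R, ∃ z ∈ E, g * v * g⁻¹ = r * v * z :=
    fun hg hv => M.comm_mod_of_le_two A hl hi hE2 hg hv
  -- the elements fixing `Q` modulo `E`
  let K : Subgroup G :=
    { carrier := {g | g ∈ P ∧ ∀ v ∈ Q, g * v * g⁻¹ * v⁻¹ ∈ E}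
      one_mem' := ⟨one_mem _, fun v _ => by simp [one_mem]⟩
      mul_mem' := fun {g k} ⟨hg, hgv⟩ ⟨hk, hkv⟩ => ⟨mul_mem hg hk, fun v hv => by
        rw [show g * k * v * (g * k)⁻¹ * v⁻¹ = g * (k * v * k⁻¹ * v⁻¹) * g⁻¹ * (g * v * g⁻¹ * v⁻¹) by group,
          hEP hg (hkv v hv)]
        exact mul_mem (hkv v hv) (hgv v hv)⟩
      inv_mem' := fun {g} ⟨hg, hgv⟩ => ⟨inv_mem hg, fun v hv => by
        rw [show g⁻¹ * v * g⁻¹⁻¹ * v⁻¹ = g⁻¹ * (g * v * g⁻¹ * v⁻¹)⁻¹ * g⁻¹⁻¹ by group,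
          hEP (inv_mem hg) (inv_mem (hgv v hv))]
        exact inv_mem (hgv v hv)⟩ }
  have hP0K : ∀ {g}, g ∈ P0 → g ∈ K := by
    intro g hg
    refine ⟨((M.mem_P0 g).1 hg).1, fun v hv => ?_⟩
    obtain ⟨r, hr, w, hw, rfl⟩ := M.prod g hg
    rw [show r * w * v * (r * w)⁻¹ * v⁻¹ = r * (w * v * w⁻¹ * v⁻¹) * r⁻¹ * (r * v * r⁻¹ * v⁻¹) by group,
      hEP (M.R_P hr) (M.QQ w hw v hv), ← (M.Q_commute hr hv).eq, mul_inv_cancel_right, mul_inv_cancel, mul_one]
    exact M.QQ w hw v hv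
  have hQη : ∀ {v}, v ∈ Q → η * v * η⁻¹ ∈ Q := fun hv => by
    obtain ⟨hv0, hvc⟩ := (M.Q_mem _).1 hv
    refine (M.Q_mem _).2 ⟨(M.mem_P0 _).2 ⟨T.norm_P _ ((M.mem_P0 _).1 hv0).1,
      (T.comm_u.mul_left ((M.mem_P0 _).1 hv0).2).mul_left T.comm_u.inv_left⟩, conj_mem_cGrp h T.comm_u hvc⟩
  have hKη : ∀ {g}, g ∈ K → η * g * η⁻¹ ∈ K := fun {g} hg => ⟨T.norm_P g hg.1, fun v hv => by
    obtain ⟨w, hw, rfl⟩ := exists_conj_preimage (fun z hz => hQη (v := z) hz) hv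
    rw [show η * g * η⁻¹ * (η * w * η⁻¹) * (η * g * η⁻¹)⁻¹ * (η * w * η⁻¹)⁻¹ =
      η * (g * w * g⁻¹ * w⁻¹) * η⁻¹ by group]
    exact T.norm_E _ (hg.2 w hw)⟩
  -- only `P0` fixes `Q` modulo `E`
  have hKone : ∀ {g e}, g ∈ K → g * u * g⁻¹ = u * e → e = 1 := by
    intro g e hg hge
    by_contra he1
    obtain ⟨e', he', hge'⟩ := M.exists_shift hg.1
    have hee : e' = e := mul_left_cancel (hge'.symm.trans hge)
    rw [hee] at he'
    refine hbad ?_
    obtain ⟨f, hf, hxf⟩ := M.exists_shift hx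
    rcases eq_or_ne f 1 with hf1 | hf1
    · exact (hP0K ((M.shift_one hx hxf).1 hf1)).2 y hy
    obtain ⟨j, hj⟩ := T.trans e he' f hf he1 hf1
    have hgj : ∀ n : ℕ, η ^ n * g * (η ^ n)⁻¹ ∈ K := fun n => by
      induction n with
      | zero => simpa using hg
      | succ n ih =>
        rw [pow_succ', show η * η ^ n * g * (η * η ^ n)⁻¹ = η * (η ^ n * g * (η ^ n)⁻¹) * η⁻¹ by group]
        exact hKη ih
    set g' := η ^ j * g * (η ^ j)⁻¹ with hg'
    have hg'u : g' * u * g'⁻¹ = u * f := by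
      have hcu : Commute (η ^ j) u := T.comm_u.pow_left j
      calc g' * u * g'⁻¹ = η ^ j * g * ((η ^ j)⁻¹ * u * η ^ j) * g⁻¹ * (η ^ j)⁻¹ := by rw [hg']; group
        _ = η ^ j * (g * u * g⁻¹) * (η ^ j)⁻¹ := by
          rw [show (η ^ j)⁻¹ * u * η ^ j = u by rw [mul_assoc, ← hcu.eq, inv_mul_cancel_left]]; group
        _ = η ^ j * u * ((η ^ j)⁻¹ * (η ^ j * e * (η ^ j)⁻¹)) := by rw [hge]; group
        _ = u * f := by rw [hcu.eq, hj]; group
    have h1 : g'⁻¹ * x ∈ P0 := by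
      refine (M.mem_P0 _).2 ⟨mul_mem (inv_mem (hgj j).1) hx, mul_inv_eq_iff_eq_mul.1 ?_⟩
      rw [show g'⁻¹ * x * u * (g'⁻¹ * x)⁻¹ = g'⁻¹ * (x * u * x⁻¹) * g' by group, hxf, ← hg'u]
      group
    have h3 := mul_mem (hgj j) (hP0K h1)
    rw [← hg', mul_inv_cancel_left] at h3
    exact h3.2 y hy
  -- every element outside `P0` moves some `v` by an element of `R`
  have hmove : ∀ {g e}, g ∈ P → g * u * g⁻¹ = u * e → e ≠ 1 →
      ∃ v ∈ Q, ∃ r ∈ R, r ≠ 1 ∧ ∃ z ∈ E, g * v * g⁻¹ = r * v * z := by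
    intro g e hg hge he1
    by_contra hno
    push Not at hno
    refine he1 (hKone ⟨hg, fun v hv => ?_⟩ hge)
    obtain ⟨r, hr, z, hz, heq⟩ := hmod hg hv
    have hr1 : r = 1 := by_contra fun hr1 => hno v hv r hr hr1 z hz heq
    rw [heq, hr1, one_mul, ((M.comm_E (M.Q_P hv) hz)).eq, mul_inv_cancel_right]
    exact hz
  have hsquare : ∀ {g e}, g ∈ P → e ∈ E → g * u * g⁻¹ = u * e → ∀ {v r z}, v ∈ Q → r ∈ R → z ∈ E →
      g * v * g⁻¹ = r * v * z → g * g * v * (g * g)⁻¹ = v * α r e := by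
    intro g e hg he hge v r z hv hr hz heq
    have hα := A.mem r hr e he
    calc g * g * v * (g * g)⁻¹ = g * (g * v * g⁻¹) * g⁻¹ := by group
      _ = g * (r * v * z) * g⁻¹ := by rw [heq]
      _ = (g * r * g⁻¹) * (g * v * g⁻¹) * (g * z * g⁻¹) := by group
      _ = r * α r e * (r * v * z) * z := by rw [A.conj r hr g hg e he hge, heq, hEP hg hz]
      _ = r * α r e * (r * v) * (z * z) := by group
      _ = r * (α r e * r) * v := by rw [hE2 z hz, mul_one]; group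
      _ = r * r * (α r e * v) := by rw [← (M.comm_E (M.R_P hr) hα).eq]; group
      _ = v * α r e := by rw [A.R_sq r hr, one_mul, (M.comm_E (M.Q_P hv) hα).eq]
  have hne : ∀ {g e}, g ∈ P → g * u * g⁻¹ = u * e → e ∈ E → e ≠ 1 → g * g ≠ 1 := by
    intro g e hg hge he he1 hgg
    obtain ⟨v, hv, r, hr, hr1, z, hz, heq⟩ := hmove hg hge he1
    have h1 := hsquare hg he hge hv hr hz heq
    rw [hgg, one_mul, inv_one, mul_one, left_eq_mul] at h1
    exact (A.inj r hr e he h1).elim hr1 he1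
  by_cases hR4 : 4 ≤ 2 ^ padicValNat 2 (Nat.card (fixGrp u a b E))
  · subst hi2
    refine hnp u a b E q P hfr htr M.P_two (fun g hg => M.P_sub hg)
      (fun K' hK' hK'F => M.P_sylow K' hK' hK'F) hR4 fun g hg hgg => ?_
    obtain ⟨e, he, hge⟩ := M.exists_shift hg
    have he1 : e = 1 := by_contra fun he1 => hne hg hge he he1 hgg
    exact mul_inv_eq_iff_eq_mul.1 (by rw [hge, he1, mul_one])
  -- `R` has order two
  have hRu : ∀ r ∈ R, r = 1 ∨ r = u := by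
    intro r hr
    by_contra hc
    push Not at hc
    refine hR4 ?_
    have hc3 : 3 ≤ Nat.card R := by
      have hsub : ({1, u, r} : Set G) ⊆ R := by
        simp only [Set.insert_subset_iff, Set.singleton_subset_iff, SetLike.mem_coe]
        exact ⟨one_mem _, M.u_mem, hr⟩
      have h1 := Set.ncard_le_ncard hsub
      have hu1 : u ≠ 1 := fun e => by have := hfr.multi.1; rw [e, orderOf_one] at this; omega
      rw [Set.ncard_insert_of_notMem (by simp [hu1.symm, Ne.symm hc.1]), Set.ncard_pair (Ne.symm hc.2),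
        ← Nat.card_coe_set_eq] at h1
      exact h1
    rw [M.R_card] at hc3
    rcases Nat.lt_or_ge (padicValNat 2 (Nat.card (fixGrp u a b E))) 2 with hlt | hge
    · interval_cases hv : padicValNat 2 (Nat.card (fixGrp u a b E)) <;> norm_num at hc3
    · exact le_trans (by norm_num) (Nat.pow_le_pow_right two_pos hge)
  obtain ⟨e, he, hxe⟩ := M.exists_shift hx
  have he1 : e ≠ 1 := fun he1 => hbad ((hP0K ((M.shift_one hx hxe).1 he1)).2 y hy)
  obtain ⟨r₁, hr₁, z₁, hz₁, heq₁⟩ := hmod hx hy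
  have hx2 : x * x ∈ P0 := by
    refine (M.shift_one (mul_mem hx hx) (shift_mul (fun f hf => M.comm_E hx hf) he hxe hxe)).1 ?_
    exact hE2 e he
  obtain ⟨r₀, hr₀, z₀, hz₀, hxx⟩ := M.prod _ hx2
  have hcom : ∀ v ∈ Q, z₀ * v * z₀⁻¹ * v⁻¹ = 1 ∨ z₀ * v * z₀⁻¹ * v⁻¹ = e := by
    intro v hv
    obtain ⟨r, hr, z, hz, heq⟩ := hmod hx hv
    have h1 := hsquare hx he hxe hv hr hz heq
    rw [hxx, show r₀ * z₀ * v * (r₀ * z₀)⁻¹ = r₀ * (z₀ * v * z₀⁻¹) * r₀⁻¹ by group,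
      ← (M.Q_commute hr₀ (mul_mem (mul_mem hz₀ hv) (inv_mem hz₀))).eq, mul_inv_cancel_right] at h1
    rw [h1, (M.comm_E (M.Q_P hv) (A.mem r hr e he)).eq, mul_inv_cancel_right]
    rcases hRu r hr with h3 | h3
    · left
      have h5 : α (1 * 1) e = α 1 e * α 1 e := A.mul_left 1 (one_mem _) 1 (one_mem _) e he
      rw [one_mul, hE2 _ (A.mem 1 (one_mem _) e he)] at h5
      rw [h3, h5]
    · right
      -- `α u e = e`
      have hu := A.conj u M.u_mem x hx e he hxe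
      rw [hxe] at hu
      rw [h3]
      exact (mul_left_cancel hu).symm
  have hz₀E : z₀ ∉ E := fun hzE => by
    obtain ⟨v, hv, r, hr, hr1, z, hz, heq⟩ := hmove hx hxe he1
    have h1 := hsquare hx he hxe hv hr hz heq
    rw [hxx, show r₀ * z₀ * v * (r₀ * z₀)⁻¹ = r₀ * (z₀ * v * z₀⁻¹) * r₀⁻¹ by group,
      (M.comm_E (M.Q_P hv) hzE).symm.eq, mul_inv_cancel_right, ← (M.Q_commute hr₀ hv).eq, mul_inv_cancel_right,
      left_eq_mul] at h1
    exact (A.inj r hr e he h1).elim hr1 he1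
  -- an element not commuting with `z₀`
  have hker : ∀ v ∈ Q, Commute z₀ v → v ∈ E ∨ v * z₀⁻¹ ∈ E := fun v hv hc => M.Q_form_two hi2 z₀ hz₀ hz₀E v hv hc
  obtain ⟨y₁, hy₁, hy₁c⟩ : ∃ v ∈ Q, ¬ Commute z₀ v := by
    by_contra hc
    push Not at hc
    exact hz₀E (M.centre_Q hl h4 hz₀ hc)
  have hy₁e : z₀ * y₁ * z₀⁻¹ * y₁⁻¹ = e := (hcom y₁ hy₁).resolve_left fun h1 =>
    hy₁c (mul_inv_eq_iff_eq_mul.1 (mul_inv_eq_one.1 h1))
  have hq4 : q = 4 := by
    have hsub : (Q : Set G) ⊆ ((E : Set G) ∪ (fun f => f * z₀) '' E) ∪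
        ((fun f => f * y₁) '' E ∪ (fun f => f * z₀ * y₁) '' E) := by
      intro v hv
      rcases hcom v hv with h1 | h1
      · exact Or.inl ((hker v hv (mul_inv_eq_iff_eq_mul.1 (mul_inv_eq_one.1 h1))).elim Or.inl
          fun h3 => Or.inr ⟨_, h3, inv_mul_cancel_right _ _⟩)
      · have hc : Commute z₀ (v * y₁⁻¹) := by
          refine mul_inv_eq_iff_eq_mul.1 ?_
          calc z₀ * (v * y₁⁻¹) * z₀⁻¹ = (z₀ * v * z₀⁻¹ * v⁻¹) * v * y₁⁻¹ * (z₀ * y₁ * z₀⁻¹ * y₁⁻¹)⁻¹ := by group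
            _ = (e * (v * y₁⁻¹)) * e⁻¹ := by rw [h1, hy₁e]; group
            _ = v * y₁⁻¹ := by
              rw [← (M.comm_E (M.Q_P (mul_mem hv (inv_mem hy₁))) he).eq, mul_inv_cancel_right]
        refine Or.inr ((hker _ (mul_mem hv (inv_mem hy₁)) hc).elim
          (fun h3 => Or.inl ⟨_, h3, inv_mul_cancel_right _ _⟩) fun h3 => Or.inr ⟨_, h3, ?_⟩)
        simp only [inv_mul_cancel_right]
    have hE : (E : Set G).ncard = q := by rw [← Nat.card_coe_set_eq]; exact hl.card_E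
    have hQc : (Q : Set G).ncard = q ^ i := by rw [← Nat.card_coe_set_eq]; exact M.Q_card
    have h5 := (Set.ncard_le_ncard hsub).trans
      ((Set.ncard_union_le _ _).trans (Nat.add_le_add (Set.ncard_union_le _ _) (Set.ncard_union_le _ _)))
    have h6 : ∀ f : G → G, (f '' (E : Set G)).ncard ≤ q := fun f => hE ▸ Set.ncard_image_le (Set.toFinite _)
    have h7 := h6 fun f => f * z₀
    have h8 := h6 fun f => f * y₁
    have h9 := h6 fun f => f * z₀ * y₁
    rw [hQc, hE, hi2] at h5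
    nlinarith
  -- three squares in a group of order four
  have hy₁E : y₁ ∉ E := fun hc => hy₁c (M.comm_E (M.Q_P hz₀) hc)
  have hwE : y₁ * z₀ ∉ E := fun hc => by
    refine hy₁c ?_
    have h1 : Commute z₀ (y₁ * z₀) := M.comm_E (M.Q_P hz₀) hc
    have h3 := h1.mul_right ((Commute.refl z₀).inv_right)
    rwa [mul_inv_cancel_right] at h3
  have hsq1 : ∀ {v}, v ∈ Q → v ∉ E → v * v ≠ 1 := fun hv hvE hvv => hvE (M.Q_sq_one _ hv hvv)
  set e₁ := y₁ * y₁ with he₁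
  set e₂ := z₀ * z₀ with he₂
  set e₃ := (y₁ * z₀) * (y₁ * z₀) with he₃
  have h12 : e₁ ≠ e₂ := fun h1 => by
    refine hy₁c ?_
    have h3 := M.sq_inj_two hl hi2 hE2 hy₁ hz₀ h1
    have h5 : Commute y₁ (y₁⁻¹ * z₀) := M.comm_E (M.Q_P hy₁) h3
    have h6 := (Commute.refl y₁).mul_right h5
    rw [mul_inv_cancel_left] at h6
    exact h6.symm
  have h3eq : e₃ = e₁ * e₂ * e := by
    have he1' : z₀ * y₁ = e * y₁ * z₀ := by rw [← hy₁e]; group
    calc e₃ = y₁ * (z₀ * y₁) * z₀ := by rw [he₃]; group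
      _ = y₁ * e * (y₁ * z₀ * z₀) := by rw [he1']; group
      _ = e * y₁ * (y₁ * z₀ * z₀) := by rw [(M.comm_E (M.Q_P hy₁) he).eq]
      _ = e * (e₁ * e₂) := by rw [he₁, he₂]; group
      _ = e₁ * e₂ * e := by
        rw [(M.comm_E (M.Q_P (mul_mem (mul_mem hy₁ hy₁) (mul_mem hz₀ hz₀))) he).eq]
  have hall : ∀ f ∈ E, f = 1 ∨ f = e₁ ∨ f = e₂ ∨ f = e₁ * e₂ := by
    intro f hf
    by_contra hc
    push Not at hc
    have hne1 := hsq1 hy₁ hy₁E
    have hne2 := hsq1 hz₀ hz₀E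
    have hne3 : e₁ * e₂ ≠ 1 := fun h1 => h12 ((eq_inv_of_mul_eq_one_left h1).trans
      (inv_eq_of_mul_eq_one_right (hE2 _ (M.Q_sq _ hz₀))))
    have hsub : ({1, e₁, e₂, e₁ * e₂, f} : Set G) ⊆ E := by
      simp only [Set.insert_subset_iff, Set.singleton_subset_iff, SetLike.mem_coe]
      exact ⟨one_mem _, M.Q_sq _ hy₁, M.Q_sq _ hz₀, mul_mem (M.Q_sq _ hy₁) (M.Q_sq _ hz₀), hf⟩
    have h6 := Set.ncard_le_ncard hsub
    have hp13 : e₁ * e₂ ≠ e₁ := fun h1 => hne2 (left_eq_mul.1 h1.symm)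
    have hp23 : e₁ * e₂ ≠ e₂ := fun h1 => hne1 (mul_eq_right.1 h1)
    rw [Set.ncard_insert_of_notMem (by
          simp only [Set.mem_insert_iff, Set.mem_singleton_iff, not_or]
          exact ⟨fun k => hne1 k.symm, fun k => hne2 k.symm, fun k => hne3 k.symm, fun k => hc.1 k.symm⟩),
      Set.ncard_insert_of_notMem (by
          simp only [Set.mem_insert_iff, Set.mem_singleton_iff, not_or]
          exact ⟨h12, fun k => hp13 k.symm, fun k => hc.2.1 k.symm⟩),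
      Set.ncard_insert_of_notMem (by
          simp only [Set.mem_insert_iff, Set.mem_singleton_iff, not_or]
          exact ⟨fun k => hp23 k.symm, fun k => hc.2.2.1 k.symm⟩),
      Set.ncard_pair (fun k => hc.2.2.2 k.symm), ← Nat.card_coe_set_eq,
      show Nat.card (E : Set G) = q from hl.card_E, hq4] at h6
    omega
  have hw : y₁ * z₀ ∈ Q := mul_mem hy₁ hz₀
  rcases hall e₃ (M.Q_sq _ hw) with h1 | h1 | h1 | h1
  · exact hsq1 hw hwE h1
  · refine hz₀E ?_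
    have h3 := M.sq_inj_two hl hi2 hE2 hy₁ hw (show y₁ * y₁ = _ from h1.symm)
    rwa [inv_mul_cancel_left] at h3
  · refine hy₁E ?_
    have h3 := M.sq_inj_two hl hi2 hE2 hz₀ hw (show z₀ * z₀ = _ from h1.symm)
    have h5 := mul_mem h3 (M.QQ z₀ hz₀ y₁ hy₁)
    rw [hy₁e] at h5
    have h6 : z₀⁻¹ * (y₁ * z₀) = y₁ * e := by
      have he' : y₁ * z₀ = e⁻¹ * (z₀ * y₁) := by rw [← hy₁e]; group
      rw [he', inv_eq_of_mul_eq_one_right (hE2 e he), ← mul_assoc, (M.comm_E (M.Q_P hz₀) he).inv_left.eq]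
      group
      rw [(M.comm_E (M.Q_P hy₁) he).eq]
    rw [h6] at h3
    have h7 := mul_mem h3 (inv_mem he)
    rwa [mul_inv_cancel_right] at h7
  · rw [h3eq, mul_eq_left] at h1
    exact he1 h1

end Crit

end CfsgLib.AschCrit
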