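import Cfsg.Agent.Lib.Invol.AschCrit.ModelBase

/-!
Owner: helper18. Aschbacher's criterion, slice E: the Sylow group of the translations over `R Q`.

* `transSub`: the group `transGrp`; `shift_mul`: the translation is multiplicative.
* `ModelSyl`: a Sylow group `P` of it over `P0 = R Q`, with `R` the part fixing the fixed points of `u`.
* `Crit.exists_syl`: it exists.
* `Crit.shift_disjoint`: no involution fixes the fixed points of `u` and those of `u e`, `e` in `E` not one.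
-/

set_option autoImplicit false
set_option linter.unusedSectionVars false

namespace CfsgLib.AschCrit

open Subgroup MulAction

universe u

variable {G : Type u} [Group G] {Ω : Type u} [MulAction G Ω]

/-- `transGrp` as a subgroup. -/
def transSub (u : G) (a : Ω) (E : Subgroup G) : Subgroup G where
  carrier := transGrp u a E
  one_mem' := ⟨one_smul _ _, fun e _ => Commute.one_left e, by simp [one_mem]⟩
  mul_mem' := by
    rintro g k ⟨hga, hgE, hgu⟩ ⟨hka, hkE, hku⟩
    refine ⟨by rw [mul_smul, hka, hga], fun e he => (hgE e he).mul_left (hkE e he), ?_⟩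
    rw [show u⁻¹ * (g * k * u * (g * k)⁻¹) = u⁻¹ * (g * u * g⁻¹) * (g * (u⁻¹ * (k * u * k⁻¹)) * g⁻¹) by group,
      (hgE _ hku).eq, mul_inv_cancel_right]
    exact mul_mem hgu hku
  inv_mem' := by
    rintro g ⟨hga, hgE, hgu⟩
    refine ⟨inv_smul_eq_iff.2 hga.symm, fun e he => (hgE e he).inv_left, ?_⟩
    rw [show u⁻¹ * (g⁻¹ * u * g⁻¹⁻¹) = g⁻¹ * (u⁻¹ * (g * u * g⁻¹))⁻¹ * g by group,
      mul_assoc, ← (hgE _ (inv_mem hgu)).eq, inv_mul_cancel_left]
    exact inv_mem hgu

theorem mem_transSub {u : G} {a : Ω} {E : Subgroup G} {g : G} :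
    g ∈ transSub u a E ↔ g ∈ transGrp u a E := Iff.rfl

/-- The translation is multiplicative. -/
theorem shift_mul {u : G} {E : Subgroup G} {g k e f : G} (hgE : ∀ x ∈ E, Commute g x) (hf : f ∈ E)
    (hg : g * u * g⁻¹ = u * e) (hk : k * u * k⁻¹ = u * f) : g * k * u * (g * k)⁻¹ = u * (e * f) := by
  calc g * k * u * (g * k)⁻¹ = g * (k * u * k⁻¹) * g⁻¹ := by group
    _ = g * u * g⁻¹ * (g * f * g⁻¹) := by rw [hk]; group
    _ = u * (e * f) := by rw [hg, (hgE f hf).eq, mul_inv_cancel_right, mul_assoc]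

/-- A Sylow group `P` of the translations over `P0 = R Q`. -/
structure ModelSyl (D : Set G) (u : G) (a b : Ω) (E : Subgroup G) (q i : ℕ) (R P0 Q P : Subgroup G) : Prop
    extends ModelBase D u a b E q i R P0 Q where
  P_two : IsPGroup 2 P
  P_sub : P ≤ transSub u a E
  P_sylow : ∀ K : Subgroup G, IsPGroup 2 K → K ≤ transSub u a E → Nat.card K ≤ Nat.card P
  mem_P0 : ∀ g, g ∈ P0 ↔ g ∈ P ∧ Commute g u
  P_card : Nat.card P = q ^ (i + 1) * Nat.card R
  onto : ∀ e ∈ E, ∃ x ∈ P, x * u * x⁻¹ = u * e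
  u_mem : u ∈ R
  R_fix : ∀ r ∈ R, ∀ x : Ω, u • x = x → r • x = x
  mem_R : ∀ g, g ∈ R ↔ g ∈ P0 ∧ ∀ x : Ω, u • x = x → g • x = x

variable [Finite G]

namespace Crit

variable {D : Set G} (h : Crit Ω D)
include h

/-- A Sylow group of the translations. -/
theorem exists_syl (hf : Faithful G Ω) (IH : Below.{u, u} (Nat.card G)) {u : G} {a b : Ω} {E : Subgroup G}
    {q i : ℕ} (ht : TopFrame D u a b E q i) (htr : HasTrans u a E) (R : Subgroup G) (hRp : IsPGroup 2 R)
    (hR : R ≤ fixGrp u a b E) (hRc : Nat.card R = 2 ^ padicValNat 2 (Nat.card (fixGrp u a b E)))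
    (hRfix : ∀ r ∈ R, ∀ x : Ω, u • x = x → r • x = x) :
    ∃ P0 Q P : Subgroup G, ModelSyl D u a b E q i R P0 Q P := by
  classical
  haveI := Fact.mk Nat.prime_two
  have hl := ht.data
  obtain ⟨P0, Q, hB⟩ := h.exists_base hf IH ht.multi hl R hRp hR hRc
  have hle : centSub u a E ≤ transSub u a E := fun g hg => by
    obtain ⟨h1, h2, h3⟩ := mem_centSub.1 hg
    exact ⟨h1, h3, by rw [h2.eq, mul_inv_cancel_right, inv_mul_cancel]; exact one_mem _⟩
  obtain ⟨P, hPp, hP0P, hPF, hPc, hPmax⟩ := exists_max_two hB.two (hB.sub.trans hle)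
  let ψ : transSub u a E →* E := MonoidHom.mk' (fun g => ⟨u⁻¹ * ((g : G) * u * (g : G)⁻¹), g.2.2.2⟩) fun g k =>
    Subtype.ext (by
      show u⁻¹ * ((g : G) * k * u * ((g : G) * k)⁻¹) = u⁻¹ * ((g : G) * u * (g : G)⁻¹) * (u⁻¹ * ((k : G) * u * (k : G)⁻¹))
      rw [show u⁻¹ * ((g : G) * k * u * ((g : G) * k)⁻¹) = u⁻¹ * ((g : G) * u * (g : G)⁻¹) *
        ((g : G) * (u⁻¹ * ((k : G) * u * (k : G)⁻¹)) * (g : G)⁻¹) by group, (g.2.2.1 _ k.2.2.2).eq,
        mul_inv_cancel_right])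
  have hψs : Function.Surjective ψ := fun e => by
    obtain ⟨g, hga, hgE, hge⟩ := htr e e.2
    refine ⟨⟨g, hga, hgE, by rw [hge, inv_mul_cancel_left]; exact e.2⟩, Subtype.ext ?_⟩
    show u⁻¹ * (g * u * g⁻¹) = e
    rw [hge, inv_mul_cancel_left]
  have hψker : ∀ g : transSub u a E, ψ g = 1 ↔ (g : G) ∈ centSub u a E := fun g => by
    rw [mem_centSub, Subtype.ext_iff]
    show u⁻¹ * ((g : G) * u * (g : G)⁻¹) = 1 ↔ _
    constructor
    · intro h1
      exact ⟨g.2.1, mul_inv_eq_iff_eq_mul.1 (inv_mul_eq_one.1 h1).symm, g.2.2.1⟩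
    · rintro ⟨-, h1, -⟩
      rw [h1.eq, mul_inv_cancel_right, inv_mul_cancel]
  have hcard : Nat.card (transSub u a E) = q * Nat.card (centSub u a E) := by
    rw [← Subgroup.card_mul_index ψ.ker, Subgroup.index_ker, MonoidHom.range_eq_top.2 hψs, Subgroup.card_top,
      hl.card_E, mul_comm]
    congr 1
    exact Nat.card_congr
      { toFun := fun g => ⟨((g.1 : transSub u a E) : G), (hψker _).1 g.2⟩
        invFun := fun g => ⟨⟨g, hle g.2⟩, (hψker _).2 g.2⟩
        left_inv := fun g => rfl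
        right_inv := fun g => rfl }
  obtain ⟨s, -, hs⟩ := hl.pow
  have hP0eq : Nat.card P0 = 2 ^ padicValNat 2 (Nat.card (centSub u a E)) := by
    obtain ⟨P1, hP1p, -, hP1F, hP1c, hP1max⟩ := exists_max_two hB.two hB.sub
    refine le_antisymm ?_ (hP1c ▸ hB.sylow P1 hP1p hP1F)
    obtain ⟨g, -, hg⟩ := hP1max P0 hB.two hB.sub
    rw [← hP1c]
    exact Nat.card_le_card_of_injective (fun k : P0 => (⟨g * k * g⁻¹, hg k k.2⟩ : P1))
      fun k k' e => Subtype.ext ((MulAut.conj g).injective (congrArg Subtype.val e :))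
  have hPcard : Nat.card P = q ^ (i + 1) * Nat.card R := by
    rw [hPc, hcard, padicValNat.mul (show q ≠ 0 by have := four_le_q hl; omega) Nat.card_pos.ne', pow_add, ← hP0eq,
      hB.P0_card, hs, padicValNat.prime_pow]
    ring
  have hmemP0 : ∀ g, g ∈ P0 ↔ g ∈ P ∧ Commute g u := by
    intro g
    refine ⟨fun hg => ⟨hP0P hg, (mem_centSub.1 (hB.sub hg)).2.1⟩, fun ⟨hg, hgu⟩ => ?_⟩
    set K : Subgroup G := P ⊓ centSub u a E with hK
    have hP0K : P0 ≤ K := fun x hx => ⟨hP0P hx, hB.sub hx⟩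
    have heq : P0 = K := Subgroup.eq_of_le_of_card_ge hP0K
      (hB.sylow K (hPp.to_le inf_le_left) inf_le_right)
    rw [heq]
    exact ⟨hg, mem_centSub.2 ⟨(hPF hg).1, hgu, (hPF hg).2.1⟩⟩
  let f : P →* E := ψ.comp (Subgroup.inclusion hPF)
  have hfs : Function.Surjective f := by
    have hk : Nat.card f.ker = Nat.card P0 := Nat.card_congr
      { toFun := fun g => ⟨((g.1 : P) : G), (hmemP0 _).2 ⟨(g.1).2,
          (mem_centSub.1 ((hψker _).1 g.2)).2.1⟩⟩
        invFun := fun g => ⟨⟨g, hP0P g.2⟩, (hψker ⟨(g : G), hPF (hP0P g.2)⟩).2 (hB.sub g.2)⟩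
        left_inv := fun g => rfl
        right_inv := fun g => rfl }
    have h1 := Subgroup.card_mul_index f.ker
    rw [Subgroup.index_ker, hk, hB.P0_card, hPcard, pow_succ] at h1
    have h3 : Nat.card f.range = q := by
      refine Nat.eq_of_mul_eq_mul_left (Nat.mul_pos (pow_pos (show 0 < q by have := four_le_q hl; omega) i)
        (Nat.card_pos (α := R))) ?_
      rw [h1]; ring
    exact MonoidHom.range_eq_top.1 (Subgroup.eq_top_of_card_eq _ (h3.trans hl.card_E.symm))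
  have hmemR : ∀ g, g ∈ R ↔ g ∈ P0 ∧ ∀ x : Ω, u • x = x → g • x = x := by
    refine fun g => ⟨fun hg => ⟨hB.R_le hg, hRfix g hg⟩, fun ⟨hg, hfix⟩ => ?_⟩
    obtain ⟨r, hr, y, hy, rfl⟩ := hB.prod g hg
    have hy1 : y = 1 := hB.Q_free y hy (by
      have h1 := hfix b hl.fix_b
      rw [mul_smul] at h1
      exact smul_left_cancel r (h1.trans (hRfix r hr b hl.fix_b).symm))
    rw [hy1, mul_one]
    exact hr
  have huR : u ∈ R := by
    -- `u` is central in `P0`
    have huu : u ∈ centSub u a E := mem_centSub.2 ⟨hl.fix_a, Commute.refl u, fun e he => by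
      rcases eq_or_ne e 1 with h1 | h1
      · rw [h1]; exact Commute.one_right _
      · exact (hl.mem e he h1).2.2.symm⟩
    refine (hmemR u).2 ⟨?_, fun x hx => hx⟩
    have hu2 : orderOf u = 2 := ht.multi.1
    have hc : ∀ x ∈ P0, Commute x u := fun x hx => (mem_centSub.1 (hB.sub hx)).2.1
    set K : Subgroup G := P0 ⊔ zpowers u with hK
    have hKp : IsPGroup 2 K := isPGroup_sup_involution hB.two hu2 hc
    have hKle : K ≤ centSub u a E := sup_le hB.sub (zpowers_le.2 huu)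
    have heq : P0 = K := Subgroup.eq_of_le_of_card_ge le_sup_left (hB.sylow K hKp hKle)
    rw [heq]
    exact mem_sup_right (mem_zpowers u)
  refine ⟨P0, Q, P, ⟨hB, hPp, hPF, fun K hK hKF => ?_, hmemP0, hPcard, fun e he => ?_, huR, hRfix, hmemR⟩⟩
  · obtain ⟨g, -, hg⟩ := hPmax K hK hKF
    exact Nat.card_le_card_of_injective (fun k : K => (⟨g * k * g⁻¹, hg k k.2⟩ : P))
      fun k k' e => Subtype.ext ((MulAut.conj g).injective (congrArg Subtype.val e :))
  · obtain ⟨x, hx⟩ := hfs ⟨e, he⟩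
    refine ⟨x, x.2, ?_⟩
    have h1 : u⁻¹ * ((x : G) * u * (x : G)⁻¹) = e := congrArg Subtype.val hx
    rw [← h1, mul_inv_cancel_left]

/-- No involution fixes the fixed points of `u` and of `u e`. -/
theorem shift_disjoint (hld : LocalDichotomy Ω D) (hkf : KernelFix Ω D) (hut : UnipTrans Ω D) (hform : Formula Ω D) {u : G}
    {a b : Ω} {E : Subgroup G} {q i : ℕ} (ht : TopFrame D u a b E q i) {x e w : G} (he : e ∈ E) (he1 : e ≠ 1)
    (hx : x * u * x⁻¹ = u * e) (hxa : x • a = a) (hw2 : orderOf w = 2) (hwu : Commute w u)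
    (hwE : ∀ f ∈ E, Commute w f) (h1 : ∀ p : Ω, u • p = p → w • p = p)
    (h2 : ∀ p : Ω, u • p = p → w • (x • p) = x • p) : False := by
  classical
  haveI := h.finite_points
  have hl := ht.data
  have hwa : w • a = a := h1 a hl.fix_a
  have hwb : w • b = b := h1 b hl.fix_b
  have hwm : IsMulti Ω w := ⟨hw2, a, b, hl.ne, hwa, hwb⟩
  have hEm : MemGroup D w a E :=
    ⟨fun f hf hf1 => ⟨(hl.mem f hf hf1).1, (hl.mem f hf hf1).2.1, (hwE f hf).symm⟩, hl.comm⟩
  obtain ⟨b₁, E₁, q₁, j, hl₁⟩ := h.exists_lData_of_memGroup hld hwm hwa hEm (hl.card_E ▸ four_le_q hl)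
  obtain ⟨hle, hmove⟩ := h.memGroupLe _ _ _ _ _ _ hl₁ E hEm
  have hq₁ : q₁ = q := le_antisymm (hl₁.card_E ▸ ht.top w a E₁ hwm hwa ⟨hl₁.mem, hl₁.comm⟩) (hl.card_E ▸ hle)
  obtain ⟨b₂, hl₂⟩ := hmove (hl.card_E.trans hq₁.symm)
  rw [hq₁] at hl₂
  have htw : TopFrame D w a b₂ E q j := ⟨hwm, hl₂, ht.top⟩
  -- `x b` is fixed by `w` and not by `u`
  have hxb : u • (x • b) ≠ x • b := fun e1 => by
    have h3 : (u * e) • (x • b) = x • b := by
      rw [← hx, mul_smul, mul_smul, inv_smul_smul, hl.fix_b]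
    have h4 : e • (x • b) = x • b := by
      rw [mul_smul] at h3
      exact smul_left_cancel u (h3.trans e1.symm)
    have h5 := h.fix_unique e (hl.mem e he he1).1 _ a h4 (hl.mem e he he1).2.1
    exact hl.ne (smul_left_cancel x (h5.trans hxa.symm)).symm
  have hsub : {p : Ω | u • p = p} ⊆ {p : Ω | w • p = p} := fun p hp => h1 p hp
  have hlt : q ^ i < q ^ j := by
    have h3 : {p : Ω | u • p = p}.ncard < {p : Ω | w • p = p}.ncard :=
      Set.ncard_lt_ncard (Set.ssubset_iff_of_subset hsub |>.2 ⟨x • b, h2 b hl.fix_b, hxb⟩)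
    rw [← Nat.card_coe_set_eq, ← Nat.card_coe_set_eq] at h3
    have h4 : Nat.card ({p : Ω | u • p = p} : Set Ω) = q ^ i + 1 := hl.card_fix
    have h5 : Nat.card ({p : Ω | w • p = p} : Set Ω) = q ^ j + 1 := hl₂.card_fix
    omega
  -- `u` acts on the fixed points of `w`
  have hu2 : u * u = 1 := by rw [← pow_two, ← ht.multi.1, pow_orderOf_eq_one]
  -- move the second point of `w` to `b`
  obtain ⟨Qw, -, -, hQw, hQwt⟩ := hut w a b₂ E q j htw
  obtain ⟨y, hy, hyb⟩ := hQwt b hwb hl.ne.symm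
  obtain ⟨hya, hyw, hyE⟩ := hQw y hy
  have hl' : LData D w a b E q j := by
    have h4 := h.lData_conj hl₂ y
    have hEy : E.map (MulAut.conj y).toMonoidHom = E := by
      ext f
      constructor
      · rintro ⟨f', hf', rfl⟩
        show y * f' * y⁻¹ ∈ E
        rw [(hyE f' hf').eq, mul_inv_cancel_right]
        exact hf'
      · intro hf'
        exact ⟨f, hf', show y * f * y⁻¹ = f by rw [(hyE f hf').eq, mul_inv_cancel_right]⟩
    rwa [hyw.eq, mul_inv_cancel_right, hya, hyb, hEy] at h4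
  have huE : ∀ f ∈ E, Commute u f := fun f hf => by
    rcases eq_or_ne f 1 with h1 | h1
    · rw [h1]; exact Commute.one_right _
    · exact (hl.mem f hf h1).2.2.symm
  rcases hkf w a b E q j ⟨hwm, hl', ht.top⟩ u
      (mem_fixGrp.2 ⟨mem_centSub.2 ⟨hl.fix_a, hwu.symm, huE⟩, hl.fix_b⟩) ⟨1, by rw [pow_one, pow_two, hu2]⟩
    with h6 | ⟨hj, h6⟩
  · exact hxb (h6 _ (h2 b hl.fix_b))
  · have hi : i = 1 := by
      have h7 : Nat.card {p : Ω // w • p = p ∧ u • p = p} = Nat.card {p : Ω // u • p = p} :=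
        Nat.card_congr (Equiv.subtypeEquivRight fun p => ⟨fun e => e.2, fun e => ⟨h1 p e, e⟩⟩)
      rw [h6, hl.card_fix] at h7
      refine Nat.pow_right_injective (a := q) (by have := four_le_q hl; omega) ?_
      show q ^ i = q ^ 1
      rw [pow_one]; omega
    subst hi hj
    -- both counting formulas
    obtain ⟨t, htD, hta, htc⟩ := h.exists_swapper_centralised hl.ne (zpowers u)
      (IsPGroup.of_card (n := 1) (by rw [Nat.card_zpowers, pow_one, ht.multi.1]))
      (fun z hz => by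
        obtain ⟨k, rfl⟩ := hz
        exact ⟨(zpow_mem (show u ∈ stabilizer G a from hl.fix_a) k), (zpow_mem (show u ∈ stabilizer G b from hl.fix_b) k)⟩)
    obtain ⟨g, r, c, c', -, -, hgo, -, hrg, hgle, -, -, hn, -⟩ :=
      hform u a b E q 1 ht t htD (htc u (mem_zpowers u)).symm hta
    obtain ⟨t', ht'D, ht'a, ht'c⟩ := h.exists_swapper_centralised hl'.ne (zpowers w)
      (IsPGroup.of_card (n := 1) (by rw [Nat.card_zpowers, pow_one, hw2]))
      (fun z hz => by
        obtain ⟨k, rfl⟩ := hz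
        exact ⟨(zpow_mem (show w ∈ stabilizer G a from hwa) k), (zpow_mem (show w ∈ stabilizer G b from hwb) k)⟩)
    obtain ⟨g', r', d, d', -, -, hgo', hro', -, -, -, -, hn', -⟩ :=
      hform w a b E q 3 ⟨hwm, hl', ht.top⟩ t' ht'D (ht'c w (mem_zpowers w)).symm ht'a
    have hq := four_le_q hl
    have hn1 : Nat.card Ω - 1 ≤ q ^ 3 := by
      refine Nat.le_of_mul_le_mul_left ?_ hgo.pos
      rw [hn]
      have h8 : (q ^ 1 + 1) * (q - 1) * r ≤ (q ^ 1 + 1) * (q - 1) * g := Nat.mul_le_mul_left _ hrg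
      have h9 : g + (q ^ 1 + 1) * (q - 1) * g = g * q ^ 2 := by
        obtain ⟨q', rfl⟩ : ∃ q', q = q' + 1 := ⟨q - 1, by omega⟩
        simp only [Nat.add_sub_cancel]
        ring
      calc q ^ 1 * (g + (q ^ 1 + 1) * (q - 1) * r) ≤ q ^ 1 * (g * q ^ 2) :=
            Nat.mul_le_mul_left _ (by omega)
        _ = g * q ^ 3 := by ring
    have h8 : q ^ 3 * (g' + (q ^ 3 + 1) * (q - 1) * r') ≤ q ^ 3 * g' := by
      rw [← hn', mul_comm _ g']
      exact Nat.mul_le_mul_left g' hn1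
    have h9 : 0 < (q ^ 3 + 1) * (q - 1) * r' := Nat.mul_pos (Nat.mul_pos (by positivity) (by omega)) hro'.pos
    have := Nat.le_of_mul_le_mul_left h8 (by positivity)
    omega

end Crit

end CfsgLib.AschCrit
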