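import Cfsg.Agent.Lib.Invol.AschCrit.FrameBasic
import Mathlib.GroupTheory.GroupAction.SubMulAction

/-!
Owner: helper29. Aschbacher's criterion, slice D: the orbit lemma and the translations.

* `Crit.orbitBound`: a 2-group centralising `E` has small point stabilisers.
* `Crit.translations`: the translations of `u E`, from the affine lemma.
* `Crit.orbitDvd`: `q ^ (i + 1)` divides the number of the other points.
-/

set_option autoImplicit false
set_option linter.unusedSectionVars false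

namespace CfsgLib.AschCrit

open Subgroup MulAction

universe u v

variable {G : Type u} [Group G] [Finite G] {Ω : Type v} [MulAction G Ω]

/-- `cosetStab` as a subgroup. -/
def cosetGrp (u : G) (a : Ω) (E : Subgroup G) : Subgroup G where
  carrier := cosetStab u a E
  one_mem' := ⟨one_smul _ _, fun e he => by simp [he], by simp [one_mem]⟩
  mul_mem' := by
    rintro g k ⟨hga, hgE, hgu⟩ ⟨hka, hkE, hku⟩
    refine ⟨by rw [mul_smul, hka, hga], fun e he => ⟨?_, ?_⟩, ?_⟩
    · rw [show g * k * e * (g * k)⁻¹ = g * (k * e * k⁻¹) * g⁻¹ by group]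
      exact (hgE _ (hkE e he).1).1
    · rw [show (g * k)⁻¹ * e * (g * k) = k⁻¹ * (g⁻¹ * e * g) * k by group]
      exact (hkE _ (hgE e he).2).2
    · rw [show u⁻¹ * (g * k * u * (g * k)⁻¹) = u⁻¹ * (g * u * g⁻¹) * (g * (u⁻¹ * (k * u * k⁻¹)) * g⁻¹) by group]
      exact mul_mem hgu (hgE _ hku).1
  inv_mem' := by
    rintro g ⟨hga, hgE, hgu⟩
    refine ⟨inv_smul_eq_iff.2 hga.symm, fun e he => ?_, ?_⟩
    · rw [inv_inv]; exact (hgE e he).symm
    · rw [show u⁻¹ * (g⁻¹ * u * g⁻¹⁻¹) = g⁻¹ * (u⁻¹ * (g * u * g⁻¹))⁻¹ * g by group]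
      exact (hgE _ (inv_mem hgu)).2

namespace Crit

variable {D : Set G} (h : Crit Ω D)
include h

/-- A 2-group centralising `E` has small point stabilisers. -/
theorem orbitBound (hld : LocalDichotomy Ω D) (hut : UnipTrans Ω D) : OrbitBound Ω D := by
  classical
  haveI := Fact.mk Nat.prime_two
  haveI := h.finite_points
  intro u a b E q i hF K hK hKE
  set R := 2 ^ padicValNat 2 (Nat.card (fixGrp u a b E)) with hR
  have hstab : ∀ p : Ω, p ≠ a → Nat.card (MulAction.stabilizer K p) ≤ R := by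
    intro p hp
    set S : Subgroup G := (MulAction.stabilizer K p).map K.subtype with hS
    rw [show Nat.card (MulAction.stabilizer K p) = Nat.card S from
      (Subgroup.card_map_of_injective K.subtype_injective).symm]
    have hSp : IsPGroup 2 S := (hK.to_subgroup _).map _
    have hSmem : ∀ g ∈ S, g • a = a ∧ g • p = p ∧ ∀ e ∈ E, Commute g e := by
      rintro _ ⟨g, hg, rfl⟩
      exact ⟨(hKE g g.2).1, hg, (hKE g g.2).2⟩
    by_cases hbot : S = ⊥
    · rw [hbot, Subgroup.card_bot]; exact Nat.one_le_two_pow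
    haveI : Nontrivial S := (Subgroup.nontrivial_iff_ne_bot S).2 hbot
    haveI := hSp.center_nontrivial
    obtain ⟨z, hz⟩ := exists_prime_orderOf_dvd_card' (G := Subgroup.center S) 2 (by
      obtain ⟨n, hn, e⟩ := (hSp.to_subgroup (Subgroup.center S)).nontrivial_iff_card.1 inferInstance
      exact e ▸ dvd_pow_self 2 hn.ne')
    set w : G := ((z : S) : G) with hw
    have hw2 : orderOf w = 2 := by rw [hw, Subgroup.orderOf_coe, Subgroup.orderOf_coe, hz]
    obtain ⟨hwa, hwp, hwE⟩ := hSmem w (z : S).2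
    have hwm : IsMulti Ω w := ⟨hw2, a, p, fun e => hp e.symm, hwa, hwp⟩
    have hl0 := hF.data
    have hEm : MemGroup D w a E := ⟨fun e he he1 =>
      ⟨(hl0.mem e he he1).1, (hl0.mem e he he1).2.1, (hwE e he).symm⟩, hl0.comm⟩
    obtain ⟨b₁, E₁, q₁, i₁, hl₁⟩ := h.exists_lData_of_memGroup hld hwm hwa hEm (hl0.card_E ▸ four_le_q hl0)
    obtain ⟨hle, hmove⟩ := h.memGroupLe _ _ _ _ _ _ hl₁ E hEm
    have hq₁ : q₁ = q := le_antisymm (hl₁.card_E ▸ hF.top w a E₁ hwm hwa ⟨hl₁.mem, hl₁.comm⟩) (hl0.card_E ▸ hle)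
    obtain ⟨b₂, hl₂⟩ := hmove (by rw [hl0.card_E, hq₁])
    rw [hq₁] at hl₂
    obtain ⟨Q, -, -, hQ, hQt⟩ := hut w a b₂ E q i₁ ⟨hwm, hl₂, hF.top⟩
    obtain ⟨g, hg, hgb⟩ := hQt p hwp hp
    obtain ⟨hga, hgw, hgE⟩ := hQ g hg
    have hl₃ : LData D w a p E q i₁ := by
      have h1 := h.lData_conj hl₂ g
      rw [hgb, hga, show g * w * g⁻¹ = w by rw [hgw.eq, mul_inv_cancel_right]] at h1
      convert h1 using 1
      ext e
      refine ⟨fun he => ⟨e, he, by simp [(hgE e he).eq]⟩, ?_⟩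
      rintro ⟨f, hf, rfl⟩
      simpa [(hgE f hf).eq] using hf
    refine le_trans ?_ (hF.big w a p E i₁ ⟨hwm, hl₃, hF.top⟩)
    have hsub : S ≤ fixGrp w a p E := fun x hx => by
      obtain ⟨hxa, hxp, hxE⟩ := hSmem x hx
      refine ⟨⟨hxa, hxp⟩, Subgroup.mem_centralizer_iff.2 fun y hy => ?_⟩
      rcases hy with rfl | hy
      · exact congrArg Subtype.val ((Subgroup.mem_center_iff.1 (z : Subgroup.center S).2 ⟨x, hx⟩).symm)
      · exact (hxE y hy).eq.symm
    obtain ⟨n, hn⟩ := hSp.exists_card_eq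
    rw [hn]
    refine Nat.pow_le_pow_right two_pos ((padicValNat_dvd_iff_le Nat.card_pos.ne').1 ?_)
    exact hn ▸ Subgroup.card_dvd_of_le hsub
  refine ⟨hstab, ?_⟩
  let S' : SubMulAction K Ω :=
    { carrier := {p | p ≠ a}
      smul_mem' := fun g p hp e => hp (smul_left_cancel g (e.trans ((hKE g g.2).1).symm)) }
  have hcard : Nat.card S' = Nat.card Ω - 1 := by
    show Set.ncard {p : Ω | p ≠ a} = _
    rw [show {p : Ω | p ≠ a} = ({a} : Set Ω)ᶜ from rfl, Set.ncard_compl, Set.ncard_singleton]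
  haveI : Fintype (MulAction.orbitRel.Quotient K S') := Fintype.ofFinite _
  rw [← hcard, Nat.card_congr (MulAction.selfEquivSigmaOrbits K S'), Nat.card_sigma, Finset.sum_mul]
  refine Finset.dvd_sum fun ω _ => ?_
  set p : S' := ω.out with hp
  have hidx := Subgroup.index_mul_card (MulAction.stabilizer K p)
  rw [MulAction.index_stabilizer, ← Nat.card_coe_set_eq] at hidx
  rw [← hidx]
  refine Nat.mul_dvd_mul_left _ ?_
  have hst : MulAction.stabilizer K p = MulAction.stabilizer K (p : Ω) := by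
    ext g; simp [Subtype.ext_iff]
  obtain ⟨n, hn⟩ := (hK.to_subgroup (MulAction.stabilizer K p)).exists_card_eq
  have := hstab p p.2
  rw [← hst, hn] at this
  rw [hn]
  exact pow_dvd_pow 2 ((Nat.pow_le_pow_iff_right one_lt_two).1 this)

omit h in
/-- The action of `cosetGrp` on the coset, read on `E`. -/
theorem exists_cosetHom {u : G} {a : Ω} {E : Subgroup G} :
    ∃ σ : cosetGrp u a E →* Equiv.Perm E,
      ∀ (g : cosetGrp u a E) (x : E),
        ((σ g x : E) : G) = u⁻¹ * ((g : G) * u * (g : G)⁻¹) * ((g : G) * x * (g : G)⁻¹) := by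
  let f : cosetGrp u a E → E → E := fun g x =>
    ⟨u⁻¹ * ((g : G) * u * (g : G)⁻¹) * ((g : G) * x * (g : G)⁻¹), mul_mem g.2.2.2 (g.2.2.1 _ x.2).1⟩
  letI : MulAction (cosetGrp u a E) E :=
    { smul := f
      one_smul := fun x => Subtype.ext (by show u⁻¹ * ((1 : G) * u * (1 : G)⁻¹) * ((1 : G) * x * (1 : G)⁻¹) = x; group)
      mul_smul := fun g k x => Subtype.ext (by
        show u⁻¹ * ((g : G) * k * u * ((g : G) * k)⁻¹) * ((g : G) * k * x * ((g : G) * k)⁻¹) =
          u⁻¹ * ((g : G) * u * (g : G)⁻¹) * ((g : G) * (u⁻¹ * ((k : G) * u * (k : G)⁻¹) * ((k : G) * x * (k : G)⁻¹)) *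
            (g : G)⁻¹)
        group) }
  exact ⟨MulAction.toPermHom _ _, fun g x => rfl⟩

/-- The translations of `u E`. -/
theorem translations (haf : TranslationsOrEight.{u}) (hcc : CosetClass Ω D) : Translations Ω D := by
  classical
  intro u a b E q i ht hq8 w hw
  have hl := ht.data
  letI : CommGroup E := { (inferInstance : Group E) with
    mul_comm := fun x y => Subtype.ext (hl.comm x x.2 y y.2) }
  have hsq : ∀ x : E, x * x = 1 := fun x => by
    rcases eq_or_ne x 1 with e | e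
    · rw [e, one_mul]
    · exact Subtype.ext (h.sq (hl.mem x x.2 fun e1 => e (Subtype.ext e1)).1)
  obtain ⟨σ, hσ⟩ := exists_cosetHom (u := u) (a := a) (E := E)
  let σ' : cosetGrp u a E →* Equiv.Perm (Additive E) := σ
  have happly : ∀ (g : cosetGrp u a E) (x : E), Commute (g : G) u → ((σ g x : E) : G) = (g : G) * x * (g : G)⁻¹ :=
    fun g x hgu => by rw [hσ, hgu.eq, mul_inv_cancel_right, inv_mul_cancel, one_mul]
  obtain ⟨t, hto, htu, hta, htb, htE, htr, hnorm⟩ := hl.torus
  have htE' : ∀ e ∈ E, t⁻¹ * e * t ∈ E := fun e he => by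
    obtain ⟨⟨f, hf⟩, hf'⟩ := Finite.surjective_of_injective
      (f := fun f : E => (⟨t * f * t⁻¹, htE f f.2⟩ : E))
      (fun f f' e' => Subtype.ext ((MulAut.conj t).injective (congrArg Subtype.val e' :))) ⟨e, he⟩
    rw [← show t * f * t⁻¹ = e from congrArg Subtype.val hf', show t⁻¹ * (t * f * t⁻¹) * t = f by group]
    exact hf
  let τ : cosetGrp u a E := ⟨t, hta, fun e he => ⟨htE e he, htE' e he⟩, by
    rw [htu.eq, mul_inv_cancel_right, inv_mul_cancel]; exact one_mem _⟩
  have hτ : ∀ j : ℕ, Commute (((τ ^ j : cosetGrp u a E)) : G) u := fun j => by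
    rw [SubgroupClass.coe_pow]; exact htu.pow_left j
  rcases haf (Additive E) σ'.range (fun x => hsq x) (by
      rintro _ ⟨g, rfl⟩ x y
      show σ g (x.toMul * y.toMul) = σ g x.toMul * σ g y.toMul * σ g 1
      apply Subtype.ext
      simp only [Subgroup.coe_mul, hσ, Subgroup.coe_one, mul_one, mul_inv_cancel]
      set c := u⁻¹ * ((g : G) * u * (g : G)⁻¹) with hc
      set X := (g : G) * (x.toMul : G) * (g : G)⁻¹ with hX
      set Y := (g : G) * (y.toMul : G) * (g : G)⁻¹ with hY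
      have hXY : (g : G) * ((x.toMul : G) * y.toMul) * (g : G)⁻¹ = X * Y := by rw [hX, hY]; group
      have hcE : c ∈ E := g.2.2.2
      rw [hXY]
      exact congrArg Subtype.val (show (⟨c, hcE⟩ : E) * (⟨X, (g.2.2.1 _ x.toMul.2).1⟩ * ⟨Y, (g.2.2.1 _ y.toMul.2).1⟩) =
        ⟨c, hcE⟩ * ⟨X, (g.2.2.1 _ x.toMul.2).1⟩ * (⟨c, hcE⟩ * ⟨Y, (g.2.2.1 _ y.toMul.2).1⟩) * ⟨c, hcE⟩ by
          conv_rhs => rw [mul_mul_mul_comm, hsq, one_mul, mul_comm]))
    (fun x => by
      obtain ⟨g, hg, hgu⟩ := (hcc u a b E q i ht).1 _ x.toMul.2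
      refine ⟨_, ⟨⟨g, hg⟩, rfl⟩, Subtype.ext ?_⟩
      show ((σ ⟨g, hg⟩ (1 : E) : E) : G) = _
      rw [hσ, hgu, Subgroup.coe_one, mul_one, mul_inv_cancel, mul_one, inv_mul_cancel_left]
      rfl)
    (by
      refine ⟨σ' τ, ⟨τ, rfl⟩, ?_, fun x y hx hy => ?_, ?_⟩
      · apply Subtype.ext
        show ((σ τ (1 : E) : E) : G) = 1
        rw [happly τ 1 htu, Subgroup.coe_one, mul_one, mul_inv_cancel]
      · obtain ⟨j, hj⟩ := htr _ x.toMul.2 _ y.toMul.2 (fun e => hx (Subtype.ext e)) (fun e => hy (Subtype.ext e))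
        refine ⟨j, Subtype.ext ?_⟩
        rw [← map_pow]
        show ((σ (τ ^ j) x.toMul : E) : G) = _
        rw [happly _ _ (hτ j), SubgroupClass.coe_pow]
        exact hj
      · rintro _ ⟨g, rfl⟩ hg0
        have hgu : Commute (g : G) u := by
          have e : ((σ g (1 : E) : E) : G) = ((1 : E) : G) := congrArg (fun z : E => (z : G)) (hg0 : σ g (1 : E) = 1)
          rw [hσ, Subgroup.coe_one, mul_one, mul_inv_cancel, mul_one] at e
          exact mul_inv_eq_iff_eq_mul.1 (inv_mul_eq_one.1 e).symm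
        obtain ⟨j, hj⟩ := hnorm g hgu g.2.1 (fun e he => (g.2.2.1 e he).1)
        refine ⟨j, ?_⟩
        show σ' τ ^ (j : ℤ) = _
        rw [zpow_natCast, ← map_pow, ← map_inv, ← map_mul, ← map_mul]
        refine Equiv.ext fun x => Additive.toMul.injective (Subtype.ext ?_)
        show ((σ (τ ^ j) x.toMul : E) : G) = ((σ (g * τ * g⁻¹) x.toMul : E) : G)
        rw [happly _ _ (hτ j), happly _ _ (by
          show Commute ((g : G) * t * (g : G)⁻¹) u
          exact (hgu.mul_left htu).mul_left hgu.inv_left), SubgroupClass.coe_pow]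
        exact (hj x.toMul x.toMul.2).symm)
    with htrans | h8
  · obtain ⟨g, hg⟩ := htrans (Additive.ofMul ⟨w, hw⟩)
    have hval : ∀ x : E, ((σ g x : E) : G) = (x : G) * w := fun x =>
      congrArg (fun z : E => (z : G)) (Equiv.congr_fun hg x)
    have h0 : u⁻¹ * ((g : G) * u * (g : G)⁻¹) = w := by
      have := hval 1
      simpa [hσ] using this
    refine ⟨g, g.2.1, fun e he => ?_, by rw [← h0, mul_inv_cancel_left]⟩
    have := hval ⟨e, he⟩
    rw [hσ, h0, ← (hl.comm w hw e he).eq] at this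
    exact mul_inv_eq_iff_eq_mul.1 (mul_left_cancel this)
  · exact absurd ((Nat.card_congr Additive.ofMul).trans h8 ▸ hl.card_E : 8 = q).symm hq8

/-- `q ^ (i + 1)` divides the number of the other points. -/
theorem orbitDvd (hob : OrbitBound Ω D) (htr : Translations Ω D) (hut : UnipTrans Ω D) : OrbitDvd Ω D := by
  classical
  haveI := Fact.mk Nat.prime_two
  haveI := h.finite_points
  intro u a b E q i hF hq8
  have hl := hF.data
  obtain ⟨σ, hσ⟩ := exists_cosetHom (u := u) (a := a) (E := E)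
  set A : Subgroup G := cosetGrp u a E ⊓ Subgroup.centralizer (E : Set G) with hA
  set C : Subgroup G := MulAction.stabilizer G a ⊓ Subgroup.centralizer (insert u (E : Set G)) with hC
  have hCmem : ∀ {g : G}, g ∈ C ↔ g • a = a ∧ Commute g u ∧ ∀ e ∈ E, Commute g e := fun {g} => by
    simp only [hC, Subgroup.mem_inf, Subgroup.mem_centralizer_iff, MulAction.mem_stabilizer_iff,
      Set.forall_mem_insert, Commute, SemiconjBy, SetLike.mem_coe]
    exact ⟨fun ⟨h1, h2, h3⟩ => ⟨h1, h2.symm, fun e he => (h3 e he).symm⟩,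
      fun ⟨h1, h2, h3⟩ => ⟨h1, h2.symm, fun e he => (h3 e he).symm⟩⟩
  -- the coset
  letI : MulAction A E := MulAction.compHom E (σ.comp (Subgroup.inclusion (inf_le_left : A ≤ cosetGrp u a E)))
  have hAsmul : ∀ g : A, ((g • (1 : E) : E) : G) = u⁻¹ * ((g : G) * u * (g : G)⁻¹) := fun g => by
    show ((σ _ (1 : E) : E) : G) = _
    rw [hσ, Subgroup.coe_one, mul_one, mul_inv_cancel, mul_one]
    rfl
  have hCA : C ≤ A := fun g hg => by
    obtain ⟨hga, hgu, hgE⟩ := hCmem.1 hg
    refine ⟨⟨hga, fun e he => ⟨?_, ?_⟩, ?_⟩, Subgroup.mem_centralizer_iff.2 fun e he => (hgE e he).eq.symm⟩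
    · rw [(hgE e he).eq, mul_inv_cancel_right]; exact he
    · rw [mul_assoc, ← (hgE e he).eq, inv_mul_cancel_left]; exact he
    · rw [hgu.eq, mul_inv_cancel_right, inv_mul_cancel]; exact one_mem _
  have horb : MulAction.orbit A (1 : E) = Set.univ := by
    refine Set.eq_univ_of_forall fun x => ?_
    obtain ⟨g, hga, hgE, hgu⟩ := htr u a b E q i hF.toTopFrame hq8 x x.2
    refine ⟨⟨g, ⟨hga, fun e he => ⟨?_, ?_⟩, ?_⟩, Subgroup.mem_centralizer_iff.2 fun e he => (hgE e he).eq.symm⟩,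
      Subtype.ext ?_⟩
    · rw [(hgE e he).eq, mul_inv_cancel_right]; exact he
    · rw [mul_assoc, ← (hgE e he).eq, inv_mul_cancel_left]; exact he
    · rw [hgu, inv_mul_cancel_left]; exact x.2
    · show ((_ • (1 : E) : E) : G) = x
      rw [hAsmul]
      show u⁻¹ * (g * u * g⁻¹) = x
      rw [hgu, inv_mul_cancel_left]
  have hstA : (MulAction.stabilizer A (1 : E)).map A.subtype = C := by
    ext g
    constructor
    · rintro ⟨g, hg, rfl⟩
      refine hCmem.2 ⟨g.2.1.1, ?_, fun e he => (Subgroup.mem_centralizer_iff.1 g.2.2 e he).symm⟩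
      have := congrArg (fun z : E => (z : G)) (hg : g • (1 : E) = 1)
      simp only [hAsmul, Subgroup.coe_one] at this
      exact mul_inv_eq_iff_eq_mul.1 (inv_mul_eq_one.1 this).symm
    · intro hg
      refine ⟨⟨g, hCA hg⟩, Subtype.ext ?_, rfl⟩
      rw [hAsmul]
      show u⁻¹ * (g * u * g⁻¹) = 1
      rw [(hCmem.1 hg).2.1.eq, mul_inv_cancel_right, inv_mul_cancel]
  have hAcard : Nat.card A = q * Nat.card C := by
    rw [← hstA, Subgroup.card_map_of_injective A.subtype_injective,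
      ← Subgroup.index_mul_card (MulAction.stabilizer A (1 : E)), MulAction.index_stabilizer, horb,
      Set.ncard_univ, hl.card_E]
  -- the fixed points
  obtain ⟨Q, -, -, hQ, hQt⟩ := hut u a b E q i hF.toTopFrame
  have horbC : MulAction.orbit C b = {x : Ω | u • x = x} \ {a} := by
    ext x
    constructor
    · rintro ⟨g, rfl⟩
      obtain ⟨hga, hgu, -⟩ := hCmem.1 g.2
      refine ⟨?_, fun e => hl.ne (smul_left_cancel (g : G) (hga.trans (e : (g : G) • b = a).symm))⟩
      show u • ((g : G) • b) = (g : G) • b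
      rw [← mul_smul, ← hgu.eq, mul_smul, hl.fix_b]
    · rintro ⟨hx, hxa⟩
      obtain ⟨g, hg, hgb⟩ := hQt x hx hxa
      exact ⟨⟨g, hCmem.2 (hQ g hg)⟩, hgb⟩
  have hCcard : Nat.card C = q ^ i * Nat.card (fixGrp u a b E) := by
    have hst : (MulAction.stabilizer C b).map C.subtype = fixGrp u a b E := by
      ext g
      constructor
      · rintro ⟨g, hg, rfl⟩
        exact ⟨⟨g.2.1, hg⟩, g.2.2⟩
      · rintro ⟨⟨hga, hgb⟩, hgc⟩
        exact ⟨⟨g, hga, hgc⟩, hgb, rfl⟩
    rw [← hst, Subgroup.card_map_of_injective C.subtype_injective,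
      ← Subgroup.index_mul_card (MulAction.stabilizer C b), MulAction.index_stabilizer, horbC,
      Set.ncard_sdiff_singleton_of_mem (show a ∈ {x : Ω | u • x = x} from hl.fix_a),
      show {x : Ω | u • x = x}.ncard = q ^ i + 1 from hl.card_fix, Nat.add_sub_cancel]
  -- a Sylow group of `A`
  obtain ⟨s, -, hs⟩ := hl.pow
  set R := padicValNat 2 (Nat.card (fixGrp u a b E)) with hR
  have hdvd : 2 ^ (s * (i + 1) + R) ∣ Nat.card A := by
    rw [hAcard, hCcard, ← mul_assoc, ← pow_succ', hs, ← pow_mul, pow_add]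
    exact Nat.mul_dvd_mul_left _ pow_padicValNat_dvd
  obtain ⟨K, hK⟩ := Sylow.exists_subgroup_card_pow_prime (G := A) 2 hdvd
  have hK' : Nat.card (K.map A.subtype) = 2 ^ (s * (i + 1) + R) := by
    rw [Subgroup.card_map_of_injective A.subtype_injective, hK]
  have := ((hob u a b E q i hF) (K.map A.subtype) (IsPGroup.of_card hK') (by
    rintro _ ⟨g, -, rfl⟩
    exact ⟨g.2.1.1, fun e he => (Subgroup.mem_centralizer_iff.1 g.2.2 e he).symm⟩)).2
  rw [hK', pow_add, pow_mul, ← hs] at this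
  exact Nat.dvd_of_mul_dvd_mul_right (by positivity) this

end Crit

end CfsgLib.AschCrit
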