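import Cfsg.Agent.Lib.Invol.AschCrit.SwapPrimes
import Cfsg.Agent.Lib.Lie.Suzuki.Solvable
import Cfsg.Agent.Lib.OddLocal.Final.OddOrder
import Cfsg.Agent.Lib.ThreePrime.Sz.Facts

/-!
Owner: helper8. Aschbacher's criterion, slice F: the swappers' points in Suzuki type.

* `odd_dvd_torus`: the order of an odd subgroup of `Sz(q)` divides the order of a torus.
* `odd_dvd_setup`: the same in a simple rank one setup with `|U| = q ^ 2`.
* `Crit.suzukiSwap`: the number of swappers' points divides `q - 1`, `q + w + 1` or `q - w + 1`;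
  `Crit.suzukiBound`: the interface `SuzukiBound`.
-/

set_option autoImplicit false
set_option linter.unusedSectionVars false
set_option linter.style.haveILetI false

namespace CfsgLib.AschCrit

open Subgroup MulAction CfsgLib.Lie.RankOne CfsgLib.Lie.RankOneClass

section Model

open CfsgLib.Lie.Suzuki

variable {F : Type*} [Field F] [CharP F 2] [Fintype F] {m : ℕ}
  (hF : Fintype.card F = 2 ^ (2 * m + 1))

include hF in
/-- The order of an odd subgroup of a Suzuki group divides the order of a torus. -/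
theorem odd_dvd_torus (hm : 1 ≤ m) (H : Subgroup (Cfsg.Sz F m)) (hH : Odd (Nat.card H)) :
    Nat.card H ∣ 2 ^ (2 * m + 1) - 1 ∨ Nat.card H ∣ 2 ^ (2 * m + 1) + 2 ^ (m + 1) + 1 ∨
      Nat.card H ∣ 2 ^ (2 * m + 1) - 2 ^ (m + 1) + 1 := by
  have h2 : (Nat.card H).Coprime 2 := Nat.coprime_two_right.2 hH
  rcases solvable_cases hF hm H (CfsgLib.OddLocal.FTFinal.odd_solvable_all _ hH) with ⟨p, hp⟩ | ⟨a, ha, hle⟩
  · refine Or.inl ?_
    have h1 : Nat.card H ∣ Fintype.card F ^ 2 * (Fintype.card F - 1) := by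
      rw [← card_stab hF hm p]
      exact card_dvd_of_le fun y hy => hp y hy
    rw [hF] at h1
    exact ((h2.pow_right _).pow_right 2).dvd_of_dvd_mul_left h1
  · set C := Subgroup.centralizer ({a} : Set (Cfsg.Sz F m)) with hC
    have h1 : Nat.card H ∣ Nat.card (Subgroup.normalizer (C : Set (Cfsg.Sz F m))) := card_dvd_of_le hle
    have hcard : Nat.card C = 2 ^ (2 * m + 1) - 1 ∨ Nat.card C = 2 ^ (2 * m + 1) + 2 ^ (m + 1) + 1 ∨
        Nat.card C = 2 ^ (2 * m + 1) - 2 ^ (m + 1) + 1 := by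
      rcases ha.2 with h | ⟨h, hh⟩
      · exact Or.inr (free_card_cases hF hm h)
      · exact Or.inl (by rw [hC, centralizer_eq_cj_tSub hF hm hh ha.1, card_cj, card_tSub, hF])
    have h3 : Nat.card H ∣ Nat.card C := by
      rcases semi_normalizer_card hF hm ha with ⟨-, e⟩ | ⟨-, e⟩ <;> rw [← hC] at e <;> rw [e] at h1
      · exact (show (Nat.card H).Coprime 4 by simpa using h2.pow_right 2).dvd_of_dvd_mul_right h1
      · exact h2.dvd_of_dvd_mul_right h1
    rcases hcard with e | e | e <;> rw [e] at h3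
    · exact Or.inl h3
    · exact Or.inr (Or.inl h3)
    · exact Or.inr (Or.inr h3)

end Model

section Setup

variable {L : Type*} [Group L] [Finite L] {Ω : Type*} [MulAction L Ω] [FaithfulSMul L Ω]
  {a : Ω} {t : L} {U : Subgroup L}

/-- In Suzuki shape the order of an odd subgroup divides the order of a torus. -/
theorem odd_dvd_setup [IsSimpleGroup L] (hS : Cfsg.IsRankOneSetup L Ω a t U)
    (h2 : ∃ x y : L, x ≠ 1 ∧ y ≠ 1 ∧ x ≠ y ∧ x * x = 1 ∧ y * y = 1 ∧ x * y = y * x)
    (hcard : Nat.card U = qq L a ^ 2) :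
    ∃ w : ℕ, w * w = 2 * qq L a ∧ w ≤ qq L a ∧ ∀ H : Subgroup L, Odd (Nat.card H) →
      Nat.card H ∣ qq L a - 1 ∨ Nat.card H ∣ qq L a + w + 1 ∨ Nat.card H ∣ qq L a - w + 1 := by
  have hpow : ∀ {k l : ℕ}, qq L a ^ k = qq L a ^ l → k = l := fun e =>
    Nat.pow_right_injective (le_trans (by norm_num) (four_le_qq hS h2)) e
  have hV : Vg a t = ⊥ := by
    rcases CfsgLib.RankOneInter.TIAuto.shape_cases hS h2 with h | ⟨h, -⟩ | ⟨h, -⟩
    · exact absurd (hpow ((hcard.symm.trans h).trans (pow_one _).symm)) (by norm_num)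
    · exact h
    · exact absurd (hpow (hcard.symm.trans h)) (by norm_num)
  obtain ⟨F, _, _, m, hm, hF, ⟨iso⟩⟩ : Cfsg.Lie.IsoSuzuki L := by
    rcases shape_of_Vg_bot hS h2 hV with h | ⟨-, -, h⟩
    · exact absurd (hpow ((hcard.symm.trans h).trans (pow_one _).symm)) (by norm_num)
    · exact h
  haveI : CharP F 2 := CfsgLib.Lie.Suzuki.charTwo_of_card hF
  set θ : L ≃* Cfsg.Sz F m := iso.trans (CfsgLib.Lie.Suzuki.equivLie hm hF).symm with hθ
  have hq : qq L a = 2 ^ (2 * m + 1) := by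
    rw [← hF]
    refine CfsgLib.ThreePrime.Sz.q_eq hm hF θ.symm ?_
    rw [card_group hS, card_D hS, hV, Subgroup.card_bot, one_mul, hcard, qq, Nat.add_sub_cancel]
    ring
  refine ⟨2 ^ (m + 1), by rw [hq]; ring, ?_, fun H hH => ?_⟩
  · rw [hq]; exact Nat.pow_le_pow_right (by norm_num) (by omega)
  have he : Nat.card (H.map θ.toMonoidHom) = Nat.card H := card_map_of_injective θ.injective
  rw [hq, ← he]
  exact odd_dvd_torus hF hm _ (he ▸ hH)

end Setup

namespace Crit

universe u v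

variable {G : Type u} [Group G] [Finite G] {Ω : Type v} [MulAction G Ω] {D : Set G} (h : Crit Ω D)
include h

/-- In Suzuki type the number of swappers' points divides the order of a torus. -/
theorem suzukiSwap (hf : Faithful G Ω) (IH : Below.{v, v} (Nat.card G)) (hcc : CosetClass Ω D)
    {u : G} {a b : Ω} {E : Subgroup G} {q : ℕ} (ht : TopFrame D u a b E q 2) {t : G} (htD : t ∈ D)
    (htu : Commute t u) (hta : t • a = b) :
    ∃ w : ℕ, w * w = 2 * q ∧ (Nat.card (swapPoints D (u * t) a b) ∣ q - 1 ∨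
      Nat.card (swapPoints D (u * t) a b) ∣ q + w + 1 ∨ Nat.card (swapPoints D (u * t) a b) + w ≤ q + 1) := by
  classical
  haveI := h.finite_points
  have hl := ht.data
  obtain ⟨g, hg⟩ := (hcc u a b E q 2 ht).2 t htD htu
  have hl' := h.lData_conj hl g
  rw [hg] at hl'
  set w := u * t with hw
  have hwm : IsMulti Ω w := h.mulMulti hf u ht.multi t htD htu.symm
  have htw : Commute t w := htu.mul_right (Commute.refl t)
  have hab := hl.ne
  obtain ⟨x, htx⟩ := h.fix_exists t htD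
  have hwx : w • x = x := h.fix_of_commute' htD htw.symm htx
  set Y := pairCore (G := G) a b ⊓ centralizer ({w} : Set G) ⊓ cGrp D w with hY
  have htt := h.sq htD
  have hti : t⁻¹ = t := inv_eq_of_mul_eq_one_right htt
  have hYw : ∀ {y : G}, y ∈ Y → Commute y w := fun hy => mem_centralizer_singleton_iff.1 hy.1.2
  -- the swappers' points are an orbit
  have horbit : swapPoints D w a b = MulAction.orbit Y x := by
    ext c
    constructor
    · rintro ⟨s, hs, hsa, hsw, hsc⟩
      have hmem := h.mul_mem_pairCore hf hab htD hs hta hsa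
      have hyY : s * t ∈ Y := mem_inf.2 ⟨mem_inf.2 ⟨hmem, mem_centralizer_singleton_iff.2 (hsw.mul_left htw).eq⟩,
        mul_mem (mem_cGrp hs hsw) (mem_cGrp htD htw)⟩
      obtain ⟨k, hk, hkt⟩ := exists_conj_of_inverted htt ((odd_pairCore a b).of_dvd_nat (by
        rw [← Subgroup.orderOf_mk (s * t) hmem]; exact orderOf_dvd_natCard _)) (by
        rw [mul_inv_rev, hti, inv_eq_of_mul_eq_one_right (h.sq hs)]
        simp only [mul_assoc, htt, mul_one])
      rw [mul_assoc s, htt, mul_one] at hkt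
      exact ⟨⟨k, zpowers_le.2 hyY hk⟩, h.fix_unique s hs _ _
        (by show s • k • x = k • x; rw [← hkt, mul_smul, mul_smul, inv_smul_smul, htx]) hsc⟩
    · rintro ⟨⟨y, hy⟩, rfl⟩
      have hyp := pairCore_le a b hy.1.1
      refine ⟨y * t * y⁻¹, h.conj t htD y, ?_, ?_, ?_⟩
      · rw [mul_smul, mul_smul, inv_smul_eq_iff.2 (show y • a = a from hyp.1).symm, hta]
        exact hyp.2
      · exact ((hYw hy).mul_left htw).mul_left (hYw hy).inv_left
      · show (y * t * y⁻¹) • y • x = y • x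
        rw [mul_smul, mul_smul, inv_smul_smul, htx]
  -- in the Bender group on the fixed points of `w`
  obtain ⟨U, hB⟩ := h.bend hf IH hwm hl'
  haveI := hB.simple
  haveI : FaithfulSMul (cImage Ω D w) (MulAction.fixedBy Ω w) :=
    faithfulSMul_iff.2 fun g hg => Subtype.ext (Equiv.ext hg)
  set A' := fixPt hl'.fix_a with hA'
  set B'' := fixPt hl'.fix_b with hB''
  have hAB : B'' ≠ A' := fun e => hl'.ne (congrArg Subtype.val e).symm
  set π := cProj Ω D w with hπ
  obtain ⟨t₀, ht₀, ht₀a, ht₀c⟩ := h.exists_swapper_centralised hl'.ne (zpowers w)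
    (IsPGroup.of_card (n := 1) (by rw [Nat.card_zpowers, pow_one]; exact hwm.1))
    (fun z hz => ⟨zpowers_le.2 (show w ∈ stabilizer G (g • a) from hl'.fix_a) hz,
      zpowers_le.2 (show w ∈ stabilizer G (g • b) from hl'.fix_b) hz⟩)
  set T : cGrp D w := ⟨t₀, mem_cGrp ht₀ (ht₀c w (mem_zpowers w)).symm⟩ with hT
  have hTa : π T • A' = B'' := Subtype.ext ht₀a
  have hS := hB.setup (π T) ((h.cImage_crit hwm).sq (h.cProj_mem ht₀)) (by rw [hTa]; exact hAB)
  obtain ⟨v, hv, hvq, hdvd⟩ := odd_dvd_setup hS hB.rank (by rw [hB.card_U, hB.qq_eq])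
  rw [hB.qq_eq] at hv hvq hdvd
  set Yc := (Y.subgroupOf (cGrp D w)).map π with hYc
  have hodd : Odd (Nat.card Yc) := by
    refine ((odd_pairCore (G := G) a b).of_dvd_nat ((card_dvd_of_le (inf_le_left.trans inf_le_left :
      Y ≤ pairCore a b)))).of_dvd_nat ((card_map_dvd _ π).trans ?_)
    rw [Nat.card_congr (subgroupOfEquivOfLe (inf_le_right : Y ≤ cGrp D w)).toEquiv]
  set x' : MulAction.fixedBy Ω w := ⟨x, hwx⟩ with hx'
  have himage : MulAction.orbit Y x = Subtype.val '' MulAction.orbit Yc x' := by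
    ext c
    constructor
    · rintro ⟨⟨y, hy⟩, rfl⟩
      exact ⟨_, ⟨⟨π ⟨y, hy.2⟩, ⟨⟨y, hy.2⟩, hy, rfl⟩⟩, rfl⟩, rfl⟩
    · rintro ⟨_, ⟨⟨_, ⟨y, hy, rfl⟩⟩, rfl⟩, rfl⟩
      exact ⟨⟨(y : G), hy⟩, rfl⟩
  have hgdvd : Nat.card (swapPoints D w a b) ∣ Nat.card Yc := by
    rw [horbit, himage, Nat.card_image_of_injective Subtype.val_injective, Nat.card_coe_set_eq,
      ← MulAction.index_stabilizer]
    exact Subgroup.index_dvd_card _
  refine ⟨v, hv, ?_⟩
  rcases hdvd Yc hodd with h1 | h1 | h1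
  · exact Or.inl (hgdvd.trans h1)
  · exact Or.inr (Or.inl (hgdvd.trans h1))
  · refine Or.inr (Or.inr ?_)
    have := Nat.le_of_dvd (Nat.succ_pos _) (hgdvd.trans h1)
    omega

/-- The interface `SuzukiBound`. -/
theorem suzukiBound (hf : Faithful G Ω) (IH : Below.{v, v} (Nat.card G)) (hcc : CosetClass Ω D) :
    SuzukiBound Ω D := by
  intro u a b E q ht t htD htu hta
  obtain ⟨w, hw, h1⟩ := h.suzukiSwap hf IH hcc ht htD htu hta
  refine ⟨w, hw, ?_⟩
  rcases h1 with h1 | h1 | h1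
  · have := Nat.le_of_dvd (by have := four_le_q ht.data; omega) h1
    omega
  · exact Nat.le_of_dvd (Nat.succ_pos _) h1
  · omega

end Crit

end CfsgLib.AschCrit
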