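import Cfsg.Agent.Lib.Invol.AschCrit.Model
import Cfsg.Agent.Lib.Invol.AschCrit.CentTorusTools
import Cfsg.Agent.Lib.Invol.AschCrit.FrameBasic
import Cfsg.Agent.Lib.Invol.AschCrit.FormulaSwap

/-!
Owner: helper11. Aschbacher's criterion, slice F: the primes of the number of swappers' points in unitary type.

* `prime_dvd_of_mul`: in a unitary setup the product of two involutions with different fixed points, if of prime
  power order, has its prime dividing `q ^ 2 - 1`: it commutes with an element of `Wg` with `q + 1` fixed points.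
* `Crit.unitaryPrimes`: the interface `UnitaryPrimes`.
-/

set_option autoImplicit false
set_option linter.unusedSectionVars false

namespace CfsgLib.AschCrit

open Subgroup MulAction CfsgLib.Lie.RankOne CfsgLib.Lie.RankOneClass
open CfsgLib.OddTransitive.RankOne (involutionGroup exists_cyclic)

section Setup

variable {L : Type*} [Group L] [Finite L] {Ω : Type*} [MulAction L Ω] [FaithfulSMul L Ω]
  {a : Ω} {t : L} {U : Subgroup L}

/-- An element of `Wg` free on `U` modulo the involutions fixes `q + 1` points. -/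
theorem card_fix_Wg (hS : Cfsg.IsRankOneSetup L Ω a t U)
    (h2 : ∃ x y : L, x ≠ 1 ∧ y ≠ 1 ∧ x ≠ y ∧ x * x = 1 ∧ y * y = 1 ∧ x * y = y * x) {w : L} (hw : w ∈ Wg a t)
    (hW : ∀ y ∈ U, w * y = y * w → y = 1 ∨ y ∈ Cfsg.involutionsIn (stabilizer L a : Set L)) :
    Nat.card (MulAction.fixedBy Ω w) = qq L a + 1 := by
  classical
  haveI := (card_points hS).1
  obtain ⟨hwD, hwJ⟩ := mem_Wg.1 hw
  have hwa : w • a = a := (mem_D.1 hwD).1
  have hwb : w • t • a = t • a := (mem_D.1 hwD).2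
  have hne : t • a ≠ a := hS.not_mem
  have hcomm : ∀ z ∈ involutionGroup hS h2, w * z = z * w := by
    intro z hz
    rcases hz with h | h
    · rw [show z = 1 from h, mul_one, one_mul]
    · exact hwJ z h
  have hZU : ∀ z ∈ involutionGroup hS h2, z ∈ U := by
    intro z hz
    rcases hz with h | h
    · rw [show z = 1 from h]; exact one_mem _
    · exact J_mem_Q hS h
  let f : Option (involutionGroup hS h2) → MulAction.fixedBy Ω w := fun o =>
    o.elim ⟨a, hwa⟩ fun z => ⟨(z : L) • t • a, by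
      show w • (z : L) • t • a = (z : L) • t • a
      rw [← mul_smul, hcomm z z.2, mul_smul, hwb]⟩
  rw [← card_involutionGroup hS h2, ← Finite.card_option]
  refine (Nat.card_eq_of_bijective f ⟨?_, ?_⟩).symm
  · have hza : ∀ z : involutionGroup hS h2, (z : L) • t • a ≠ a := fun z e =>
      hne (smul_left_cancel (z : L) (e.trans (show (z : L) • a = a from hS.le (hZU z z.2)).symm))
    intro o o' e
    rcases o with _ | z <;> rcases o' with _ | z'
    · rfl
    · exact absurd (congrArg Subtype.val e : a = _).symm (hza z')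
    · exact absurd (congrArg Subtype.val e :) (hza z)
    · obtain ⟨x, -, huniq⟩ := existsUnique_smul hS (t • a) ((z : L) • t • a) hne (hza z)
      have h1 := huniq ⟨z, hZU z z.2⟩ rfl
      have h2' := huniq ⟨z', hZU z' z'.2⟩ (congrArg Subtype.val e : (z : L) • t • a = _).symm
      rw [← h2'] at h1
      exact congrArg some (Subtype.ext (congrArg Subtype.val h1 :))
  · rintro ⟨c, hc⟩
    by_cases hca : c = a
    · exact ⟨none, Subtype.ext hca.symm⟩
    obtain ⟨⟨x, hx⟩, hxc, huniq⟩ := existsUnique_smul hS (t • a) c hne hca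
    have hxc' : x • t • a = c := hxc
    have hconj : w * x * w⁻¹ = x := congrArg Subtype.val (huniq ⟨w * x * w⁻¹, hS.conj_mem w hwa x hx⟩ (by
      show (w * x * w⁻¹) • t • a = c
      rw [mul_smul, mul_smul, inv_smul_eq_iff.2 hwb.symm, hxc']
      exact hc))
    have hz : x ∈ involutionGroup hS h2 := by
      rcases hW x hx (mul_inv_eq_iff_eq_mul.1 hconj) with h | h
      · exact Or.inl h
      · exact Or.inr h
    exact ⟨some ⟨x, hz⟩, Subtype.ext hxc'⟩

/-- The product of an involution at `a` and one at `t • a`, if of prime power order. -/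
theorem prime_dvd_of_mul (h2 : ∃ x y : L, x ≠ 1 ∧ y ≠ 1 ∧ x ≠ y ∧ x * x = 1 ∧ y * y = 1 ∧ x * y = y * x)
    (hset : ∀ t' : L, t' * t' = 1 → t' • a ≠ a → Cfsg.IsRankOneSetup L Ω a t' U)
    (hS : Cfsg.IsRankOneSetup L Ω a t U) {w : L} (hw : w ∈ Wg a t)
    (hW : ∀ y ∈ U, w * y = y * w → y = 1 ∨ y ∈ Cfsg.involutionsIn (stabilizer L a : Set L))
    {j₁ j₂ : L} (h1 : j₁ ∈ Cfsg.involutionsIn (stabilizer L a : Set L))
    (h2' : t * j₂ * t ∈ Cfsg.involutionsIn (stabilizer L a : Set L))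
    {p k : ℕ} [hp : Fact p.Prime] (hpow : orderOf (j₂ * j₁) = p ^ k) (hne1 : j₂ * j₁ ≠ 1) :
    p ∣ qq L a + 1 ∨ p ∣ qq L a - 1 := by
  classical
  haveI := (card_points hS).1
  set z := j₂ * j₁ with hz
  have htt : t * t = 1 := hS.mul_self
  have hta : t • a ≠ a := hS.not_mem
  have hwt : Commute w t := (mem_Vg.1 (Wg_le_Vg hS hw)).2
  have hwj₂ : Commute w j₂ := by
    have e : j₂ = t * (t * j₂ * t) * t := by
      rw [mul_assoc t j₂ t, ← mul_assoc t t, htt, one_mul, mul_assoc, htt, mul_one]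
    rw [e]
    exact (hwt.mul_right ((mem_Wg.1 hw).2 _ h2')).mul_right hwt
  have hwz : Commute w z := hwj₂.mul_right ((mem_Wg.1 hw).2 _ h1)
  by_cases hd : p ∣ qq L a + 1
  · exact Or.inl hd
  refine Or.inr ?_
  letI : MulAction (zpowers z) (MulAction.fixedBy Ω w) :=
    { smul := fun g c => ⟨(g : L) • (c : Ω), by
        obtain ⟨i, hi⟩ := g.2
        show w • (g : L) • (c : Ω) = (g : L) • (c : Ω)
        rw [← mul_smul, show w * (g : L) = g * w from (hi ▸ hwz.zpow_right i : Commute w (g : L)).eq, mul_smul]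
        exact congrArg _ c.2⟩
      one_smul := fun c => Subtype.ext (one_smul L (c : Ω))
      mul_smul := fun g g' c => Subtype.ext (mul_smul (g : L) (g' : L) (c : Ω)) }
  have hpg : IsPGroup p (zpowers z) := IsPGroup.of_card (n := k) (by rw [Nat.card_zpowers, hpow])
  obtain ⟨⟨c, hc⟩, hfix⟩ := hpg.nonempty_fixed_point_of_prime_not_dvd_card (MulAction.fixedBy Ω w)
    (by rwa [card_fix_Wg hS h2 hw hW])
  have hzc : z • c = c := congrArg Subtype.val (hfix ⟨z, mem_zpowers z⟩)
  have hJfix : ∀ {j : L}, j ∈ Cfsg.involutionsIn (stabilizer L a : Set L) → ∀ c : Ω, j • c = c → c = a :=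
    fun hj c e => (fix_iff hS (J_mem_Q hS hj) hj.2.1).1 e
  have hj₁a : j₁ • a = a := h1.1
  have hca : c ≠ a := by
    intro hca'
    have e : j₂ • a = a := by
      rw [hca', hz, mul_smul, hj₁a] at hzc; exact hzc
    refine hta (hJfix h2' (t • a) ?_)
    rw [mul_smul, mul_smul, ← mul_smul t t, htt, one_smul, e]
  have hj₁c : j₁ • c ≠ c := fun e => hca (hJfix h1 c e)
  haveI := hS.two_transitive
  haveI : IsPretransitive L Ω := MulAction.isPretransitive_of_is_two_pretransitive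
  obtain ⟨m, hm⟩ := exists_smul_eq L c a
  set t' := m * j₁ * m⁻¹ with ht'
  have ht'2 : t' * t' = 1 := by
    rw [ht', show m * j₁ * m⁻¹ * (m * j₁ * m⁻¹) = m * (j₁ * j₁) * m⁻¹ by group, h1.2.2, mul_one, mul_inv_cancel]
  have ht'a : t' • a = m • j₁ • c := by
    rw [ht', mul_smul, mul_smul, ← hm, inv_smul_smul]
  have hne' : t' • a ≠ a := by
    rw [ht'a, ← hm]
    exact fun e => hj₁c (smul_left_cancel m e)
  have hS' := hset t' ht'2 hne'
  obtain ⟨C, hC, -, -⟩ := exists_cyclic hS' h2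
  have hcard : Nat.card C = qq L a - 1 := by
    rw [qq, Nat.add_sub_cancel, ← card_K hS']
    exact Nat.card_congr (Equiv.setCongr hC)
  have hj₂2 : j₂ * j₂ = 1 := by
    have e := h2'.2.2
    rw [show t * j₂ * t * (t * j₂ * t) = t * j₂ * (t * t) * j₂ * t by group, htt, mul_one] at e
    calc j₂ * j₂ = t * t * (j₂ * j₂) * (t * t) := by rw [htt, one_mul, mul_one]
      _ = t * (t * j₂ * j₂ * t) * t := by group
      _ = t * 1 * t := by rw [e]
      _ = 1 := by rw [mul_one, htt]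
  have hzinv : j₁ * z * j₁⁻¹ = z⁻¹ := by
    rw [hz, mul_inv_rev, inv_eq_of_mul_eq_one_right h1.2.2, inv_eq_of_mul_eq_one_right hj₂2,
      show j₁ * (j₂ * j₁) * j₁ = j₁ * j₂ * (j₁ * j₁) by group, h1.2.2, mul_one]
  have hzc' : z • j₁ • c = j₁ • c := by
    have e : z * j₁ = j₁ * z⁻¹ := by
      rw [← hzinv, show j₁ * (j₁ * z * j₁⁻¹) = j₁ * j₁ * z * j₁⁻¹ by group, h1.2.2, one_mul,
        inv_eq_of_mul_eq_one_right h1.2.2]
    rw [← mul_smul, e, mul_smul, inv_smul_eq_iff.2 hzc.symm]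
  have hmem : m * z * m⁻¹ ∈ C := by
    rw [← SetLike.mem_coe, hC]
    refine ⟨Subgroup.mem_inf.2 ⟨?_, ?_⟩, ?_⟩
    · show (m * z * m⁻¹) • a = a
      rw [mul_smul, mul_smul, ← hm, inv_smul_smul, hzc]
    · show (m * z * m⁻¹) • t' • a = t' • a
      rw [ht'a, mul_smul, mul_smul, inv_smul_smul, hzc']
    · rw [ht', show m * j₁ * m⁻¹ * (m * z * m⁻¹) * (m * j₁ * m⁻¹)⁻¹ = m * (j₁ * z * j₁⁻¹) * m⁻¹ by group, hzinv]
      group
  have h5 : orderOf z ∣ qq L a - 1 := by
    rw [← CfsgLib.Signalizer.orderOf_conj m z, ← hcard, ← Subgroup.orderOf_mk _ hmem]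
    exact orderOf_dvd_natCard _
  refine dvd_trans ?_ h5
  rw [hpow]
  refine dvd_pow_self p fun hk => hne1 ?_
  rw [hk, pow_zero, orderOf_eq_one_iff] at hpow
  exact hpow

end Setup

namespace Crit

universe u v

variable {G : Type u} [Group G] [Finite G] {Ω : Type v} [MulAction G Ω] {D : Set G} (h : Crit Ω D)
include h

/-- In an odd group normalised by a swapper, some inverted element of a given prime power order moves the
point of the swapper, if the prime divides the number of points. -/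
theorem exists_inverted_moving {X : Subgroup G} (hX : Odd (Nat.card X)) {t : G} (ht : t ∈ D)
    (htX : t ∈ normalizer (X : Set G)) {x : Ω} (htx : t • x = x) {p : ℕ} [hp : Fact p.Prime]
    (hdvd : p ∣ (MulAction.stabilizer X x).index) :
    ∃ y ∈ X, t * y * t⁻¹ = y⁻¹ ∧ y • x ≠ x ∧ ∃ k : ℕ, orderOf y = p ^ k := by
  obtain ⟨R, hR, -⟩ := exists_sylow_pair (p := p) hX (h.sq ht) htX
  have hnot : ¬ (R : Subgroup X) ≤ MulAction.stabilizer X x := fun hle =>
    R.not_dvd_index (hdvd.trans (Subgroup.index_dvd_of_le hle))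
  obtain ⟨⟨g, hgX⟩, hgR, hgx⟩ := SetLike.not_le_iff_exists.1 hnot
  replace hgx : g • x ≠ x := hgx
  set R' := (R : Subgroup X).map X.subtype with hR'
  have hR'X : R' ≤ X := map_subtype_le _
  have hgR' : g ∈ R' := ⟨⟨g, hgX⟩, hgR, rfl⟩
  have htt := h.sq ht
  have hti : t⁻¹ = t := inv_eq_of_mul_eq_one_right htt
  set c := g * (t * g * t⁻¹)⁻¹ with hc
  have hcR : c ∈ R' := mul_mem hgR' (inv_mem ((mem_normalizer_iff.1 hR g).1 hgR'))
  have hcinv : t * c * t⁻¹ = c⁻¹ := by
    have e : t * (t * g * t⁻¹) * t⁻¹ = g := by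
      calc t * (t * g * t⁻¹) * t⁻¹ = t * t * g * (t * t)⁻¹ := by group
        _ = g := by rw [htt, one_mul, inv_one, mul_one]
    calc t * c * t⁻¹ = t * g * t⁻¹ * (t * (t * g * t⁻¹) * t⁻¹)⁻¹ := by rw [hc]; group
      _ = c⁻¹ := by rw [e, hc]; group
  obtain ⟨m, hm⟩ : Odd (orderOf c) := hX.of_dvd_nat (by
    rw [← Subgroup.orderOf_mk c (hR'X hcR)]; exact orderOf_dvd_natCard _)
  set y := c ^ (m + 1) with hy
  have hyR : y ∈ R' := pow_mem hcR _
  have hyinv : t * y * t⁻¹ = y⁻¹ := by rw [hy, ← conj_pow, hcinv, inv_pow]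
  have hyy : y * y = c := by
    rw [hy, ← pow_add, show m + 1 + (m + 1) = orderOf c + 1 by omega, pow_succ, pow_orderOf_eq_one, one_mul]
  refine ⟨y, hR'X hyR, hyinv, fun e => hgx ?_, ?_⟩
  · have hfix : Commute (y⁻¹ * g) t := by
      have h1 : t * g * t⁻¹ = c⁻¹ * g := by rw [hc]; group
      refine (mul_inv_eq_iff_eq_mul.1 ?_).symm
      calc t * (y⁻¹ * g) * t⁻¹ = (t * y * t⁻¹)⁻¹ * (t * g * t⁻¹) := by group
        _ = y * (y * y)⁻¹ * g := by rw [hyinv, h1, inv_inv, hyy]; group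
        _ = y⁻¹ * g := by group
    have h2 := h.fix_of_commute' ht hfix htx
    rw [mul_smul, inv_smul_eq_iff, e] at h2
    exact h2
  · obtain ⟨r, hr, hry⟩ := hyR
    obtain ⟨k, hk⟩ := IsPGroup.iff_orderOf.1 R.2 ⟨r, hr⟩
    refine ⟨k, ?_⟩
    rw [← hry]
    simpa using hk

/-- The interface `UnitaryPrimes`. -/
theorem unitaryPrimes (hf : Faithful G Ω) (IH : Below.{v, v} (Nat.card G)) (hcc : CosetClass Ω D) :
    UnitaryPrimes Ω D := by
  classical
  intro u a b E q ht t htD htu hta p hp hdvd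
  haveI := Fact.mk hp
  haveI := h.finite_points
  have hl := ht.data
  obtain ⟨g, hg⟩ := (hcc u a b E q 3 ht).2 t htD htu
  have hl' := h.lData_conj hl g
  rw [hg] at hl'
  set w := u * t with hw
  have hwm : IsMulti Ω w := h.mulMulti hf u ht.multi t htD htu.symm
  have htw : Commute t w := htu.mul_right (Commute.refl t)
  have hab := hl.ne
  obtain ⟨x, htx⟩ := h.fix_exists t htD
  have hwx : w • x = x := h.fix_of_commute' htD htw.symm htx
  set Y := pairCore (G := G) a b ⊓ centralizer ({w} : Set G) with hY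
  have hYodd : Odd (Nat.card Y) := (odd_pairCore a b).of_dvd_nat (card_dvd_of_le inf_le_left)
  have htt := h.sq htD
  have hti : t⁻¹ = t := inv_eq_of_mul_eq_one_right htt
  have hYw : ∀ {y : G}, y ∈ Y → Commute y w := fun hy => mem_centralizer_singleton_iff.1 hy.2
  have htY : t ∈ normalizer (Y : Set G) := by
    have hN := mem_normalizer_pairCore (a := a) (b := b) (g := t) (Or.inr ⟨hta, h.swap_back' htD hta⟩)
    refine mem_normalizer_iff.2 fun y => ?_
    rw [hY, mem_inf, mem_inf, mem_centralizer_singleton_iff, mem_centralizer_singleton_iff]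
    refine and_congr (mem_normalizer_iff.1 hN y) ?_
    show Commute y w ↔ Commute (t * y * t⁻¹) w
    conv_rhs => rw [show w = t * w * t⁻¹ by rw [htw.eq, mul_inv_cancel_right], Commute.conj_iff]
  -- the swappers' points are an orbit
  have horbit : swapPoints D w a b = MulAction.orbit Y x := by
    ext c
    constructor
    · rintro ⟨s, hs, hsa, hsw, hsc⟩
      have hmem := h.mul_mem_pairCore hf hab htD hs hta hsa
      have hyY : s * t ∈ Y := ⟨hmem, mem_centralizer_singleton_iff.2 (hsw.mul_left htw).eq⟩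
      obtain ⟨k, hk, hkt⟩ := exists_conj_of_inverted htt ((odd_pairCore a b).of_dvd_nat (by
        rw [← Subgroup.orderOf_mk (s * t) hmem]; exact orderOf_dvd_natCard _)) (by
        rw [mul_inv_rev, hti, inv_eq_of_mul_eq_one_right (h.sq hs)]
        simp only [mul_assoc, htt, mul_one])
      rw [mul_assoc s, htt, mul_one] at hkt
      exact ⟨⟨k, zpowers_le.2 hyY hk⟩, h.fix_unique s hs _ _
        (by show s • k • x = k • x; rw [← hkt, mul_smul, mul_smul, inv_smul_smul, htx]) hsc⟩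
    · rintro ⟨⟨y, hy⟩, rfl⟩
      have hyp := pairCore_le a b hy.1
      refine ⟨y * t * y⁻¹, h.conj t htD y, ?_, ?_, ?_⟩
      · rw [mul_smul, mul_smul, inv_smul_eq_iff.2 (show y • a = a from hyp.1).symm, hta]
        exact hyp.2
      · exact ((hYw hy).mul_left htw).mul_left (hYw hy).inv_left
      · show (y * t * y⁻¹) • y • x = y • x
        rw [mul_smul, mul_smul, inv_smul_smul, htx]
  rw [horbit, Nat.card_coe_set_eq, ← MulAction.index_stabilizer] at hdvd
  obtain ⟨y, hyY, hyinv, hyx, k, hyk⟩ := h.exists_inverted_moving hYodd htD htY htx hdvd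
  set s := y * t * y⁻¹ with hs
  have hsD : s ∈ D := h.conj t htD y
  have hsw : Commute s w := ((hYw hyY).mul_left htw).mul_left (hYw hyY).inv_left
  have hsx : s • y • x = y • x := by rw [hs, mul_smul, mul_smul, inv_smul_smul, htx]
  have hst : s * t = y * y := by
    rw [hs, show y * t * y⁻¹ * t = y * (t * y⁻¹ * t⁻¹) * (t * t) by group, htt, mul_one, ← conj_inv, hyinv,
      inv_inv]
  -- in the Bender group on the fixed points of `w`
  set A := g • a with hA
  set B := g • b with hB'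
  obtain ⟨U, hB⟩ := h.bend hf IH hwm hl'
  haveI := hB.simple
  haveI : FaithfulSMul (cImage Ω D w) (MulAction.fixedBy Ω w) :=
    faithfulSMul_iff.2 fun g hg => Subtype.ext (Equiv.ext hg)
  set A' := fixPt hl'.fix_a with hA'
  set B'' := fixPt hl'.fix_b with hB''
  have hAB : B'' ≠ A' := fun e => hl'.ne (congrArg Subtype.val e).symm
  set π := cProj Ω D w with hπ
  obtain ⟨t₀, ht₀, ht₀a, ht₀c⟩ := h.exists_swapper_centralised hl'.ne (zpowers w)
    (IsPGroup.of_card (n := 1) (by rw [Nat.card_zpowers, pow_one]; exact hwm.1))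
    (fun z hz => ⟨zpowers_le.2 (show w ∈ stabilizer G A from hl'.fix_a) hz,
      zpowers_le.2 (show w ∈ stabilizer G B from hl'.fix_b) hz⟩)
  set T : cGrp D w := ⟨t₀, mem_cGrp ht₀ (ht₀c w (mem_zpowers w)).symm⟩ with hT
  have hTa : π T • A' = B'' := Subtype.ext ht₀a
  have hS := hB.setup (π T) ((h.cImage_crit hwm).sq (h.cProj_mem ht₀)) (by rw [hTa]; exact hAB)
  have h2 := hB.rank
  obtain ⟨w₀, hw₀, hW⟩ : ∃ w₀ ∈ Wg A' (π T), ∀ y ∈ U, w₀ * y = y * w₀ → y = 1 ∨
      y ∈ Cfsg.involutionsIn (stabilizer (cImage Ω D w) A' : Set (cImage Ω D w)) := by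
    have h4 := four_le_q hl
    have hpow : ∀ {m n : ℕ}, q ^ m = q ^ n → m = n := fun e => Nat.pow_right_injective (by omega) e
    rcases CfsgLib.RankOneInter.TIAuto.shape_cases hS h2 with h1 | ⟨-, h1⟩ | ⟨-, ⟨w₀, hw₀, hne⟩, hW⟩
    · rw [hB.card_U, hB.qq_eq] at h1
      exact absurd (hpow (h1.trans (pow_one q).symm)) (by norm_num)
    · rw [hB.card_U, hB.qq_eq] at h1
      exact absurd (hpow h1) (by norm_num)
    · exact ⟨w₀, hw₀, hW w₀ hw₀ hne⟩
  set tc : cGrp D w := ⟨t, mem_cGrp htD htw⟩ with htc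
  set sc : cGrp D w := ⟨s, mem_cGrp hsD hsw⟩ with hsc
  set x' : MulAction.fixedBy Ω w := ⟨x, hwx⟩ with hx'
  set y' : MulAction.fixedBy Ω w := ⟨y • x, h.fix_of_commute' hsD hsw.symm hsx⟩ with hy'
  have hxy : x' ≠ y' := fun e => hyx (congrArg Subtype.val e).symm
  obtain ⟨l, hlx, hly⟩ := (MulAction.is_two_pretransitive_iff.1 hS.two_transitive) hxy hAB.symm
  have hJ : ∀ (d : cGrp D w) (c : MulAction.fixedBy Ω w), (d : G) ∈ D → π d • c = c → l • c = A' →
      l * π d * l⁻¹ ∈ Cfsg.involutionsIn (stabilizer (cImage Ω D w) A' : Set (cImage Ω D w)) := by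
    intro d c hd hdc hlc
    have hmem := h.cProj_mem (Ω := Ω) (u := w) hd
    refine ⟨?_, fun e => (h.cImage_crit hwm).ne_one' hmem (conj_eq_one_iff.1 e), ?_⟩
    · show (l * π d * l⁻¹) • A' = A'
      rw [← hlc, mul_smul, mul_smul, inv_smul_smul, hdc]
    · rw [show l * π d * l⁻¹ * (l * π d * l⁻¹) = l * (π d * π d) * l⁻¹ by group,
        (h.cImage_crit hwm).sq hmem, mul_one, mul_inv_cancel]
  have hj₂ : π T * (l * π sc * l⁻¹) * π T ∈
      Cfsg.involutionsIn (stabilizer (cImage Ω D w) A' : Set (cImage Ω D w)) := by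
    have hTT : π T * π T = 1 := hS.mul_self
    have hTi : (π T)⁻¹ = π T := inv_eq_of_mul_eq_one_right hTT
    have hsc' : π sc • y' = y' := Subtype.ext hsx
    have hmem := h.cProj_mem (Ω := Ω) (u := w) (d := sc) hsD
    refine ⟨?_, fun e => (h.cImage_crit hwm).ne_one' hmem ?_, ?_⟩
    · show (π T * (l * π sc * l⁻¹) * π T) • A' = A'
      rw [mul_smul, mul_smul, hTa, ← hly, mul_smul, mul_smul, inv_smul_smul, hsc', hly, ← hTa, ← mul_smul, hTT,
        one_smul]
    · have h' : π T * (l * π sc * l⁻¹) * (π T)⁻¹ = 1 := by rw [hTi]; exact e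
      exact conj_eq_one_iff.1 (conj_eq_one_iff.1 h')
    · calc π T * (l * π sc * l⁻¹) * π T * (π T * (l * π sc * l⁻¹) * π T)
          = π T * (l * π sc * l⁻¹) * (π T * π T) * (l * π sc * l⁻¹) * π T := by group
        _ = π T * (l * (π sc * π sc) * l⁻¹) * π T := by rw [hTT]; group
        _ = 1 := by rw [(h.cImage_crit hwm).sq hmem, mul_one, mul_inv_cancel, mul_one, hTT]
  have hconj : l * π sc * l⁻¹ * (l * π tc * l⁻¹) = l * π (sc * tc) * l⁻¹ := by rw [map_mul]; group
  have hne1 : l * π sc * l⁻¹ * (l * π tc * l⁻¹) ≠ 1 := by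
    rw [hconj]
    intro e
    have h1 := (cProj_eq_one_iff (sc * tc)).1 (conj_eq_one_iff.1 e) x hwx
    refine hyx (h.fix_unique s hsD _ _ hsx ?_)
    have h1' : (s * t) • x = x := h1
    rwa [mul_smul, htx] at h1'
  obtain ⟨j, -, hj⟩ : ∃ j ≤ k, orderOf (l * π sc * l⁻¹ * (l * π tc * l⁻¹)) = p ^ j := by
    refine (Nat.dvd_prime_pow hp).1 ?_
    rw [hconj, CfsgLib.Signalizer.orderOf_conj]
    refine (orderOf_map_dvd π _).trans ?_
    rw [← Subgroup.orderOf_coe, ← hyk]
    show orderOf (s * t) ∣ orderOf y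
    rw [hst, ← pow_two]
    exact orderOf_pow_dvd 2
  have hfin := prime_dvd_of_mul h2 hB.setup hS hw₀ hW (hJ tc x' htD (Subtype.ext htx) hlx) hj₂ hj hne1
  rw [hB.qq_eq] at hfin
  refine dvd_mul_of_dvd_right ?_ 3
  have he : q ^ 2 - 1 = (q + 1) * (q - 1) := by
    simpa using Nat.sq_sub_sq q 1
  rw [he]
  rcases hfin with h1 | h1
  · exact dvd_mul_of_dvd_left h1 _
  · exact dvd_mul_of_dvd_right h1 _

end Crit

end CfsgLib.AschCrit
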