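import Cfsg.Agent.Lib.Invol.AschCrit.Assembly
import Cfsg.Agent.Lib.Invol.AschCrit.AffineProof
import Cfsg.Agent.Lib.Invol.AschCrit.ToolsProof
import Cfsg.Agent.Lib.Invol.AschCrit.ExtremalTransferProof
import Cfsg.Agent.Lib.Invol.AschCrit.FormulaProof
import Cfsg.Agent.Lib.Invol.AschCrit.OrbitProof
import Cfsg.Agent.Lib.Invol.AschCrit.SwapPrimes
import Cfsg.Agent.Lib.Invol.AschCrit.SwapBound
import Cfsg.Agent.Lib.Invol.AschCrit.ModelBuild
import Cfsg.Agent.Lib.Invol.AschCrit.CentTorus
import Cfsg.Agent.Lib.Invol.AschCrit.EndOne.Main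

/-!
Owner: helper11. Aschbacher's criterion: the proved slices plugged into the assembly.

`OpenSlices` lists what is still open; each gets every proved interface as a hypothesis.
-/

set_option autoImplicit false
set_option linter.unusedSectionVars false

namespace CfsgLib.AschCrit

universe u

/-- The interfaces that are proved for a minimal counterexample. -/
structure Proved {G : Type u} [Group G] [Finite G] (Ω : Type u) [MulAction G Ω] (D : Set G) : Prop where
  dichotomy : LocalDichotomy Ω D
  cosetClass : CosetClass Ω D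
  unipTrans : UnipTrans Ω D
  memGroupLe : MemGroupLe Ω D
  formula : Formula Ω D
  orbitBound : OrbitBound Ω D
  orbitDvd : OrbitDvd Ω D
  translations : Translations Ω D
  kernelFix : KernelFix Ω D
  torusCent : TorusCent Ω D
  unitaryPrimes : UnitaryPrimes Ω D
  suzukiBound : SuzukiBound Ω D

/-- What is still open. -/
def OpenSlices : Prop :=
  ∀ (G : Type u) [Group G] [Finite G] (Ω : Type u) [MulAction G Ω] (D : Set G),
    Crit Ω D → Faithful G Ω → Subgroup.closure D = ⊤ → Below.{u, u} (Nat.card G) → Proved Ω D →
      NoException Ω D ∧ NoPairing Ω D ∧ (ModelExists Ω D → EndGame Ω D 2 ∧ EndGame Ω D 3)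

theorem Crit.proved {G : Type u} [Group G] [Finite G] {Ω : Type u} [MulAction G Ω] {D : Set G} (h : Crit Ω D)
    (hf : Faithful G Ω) (IH : Below.{u, u} (Nat.card G)) : Proved Ω D := by
  have hld := h.localDichotomy hf IH
  have hcc := h.cosetClass hf hld
  have hut := h.unipTrans hf IH
  have htr := h.translations translationsOrEight hcc
  have hob := h.orbitBound hld hut
  exact ⟨hld, hcc, hut, h.memGroupLe, h.formula hf IH hcc, hob, h.orbitDvd hob htr hut, htr, h.kernelFix hf IH,
    h.torusCent hf IH, h.unitaryPrimes hf IH hcc, h.suzukiBound hf IH hcc⟩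

/-- The criterion from the open slices. -/
theorem main_of_open (hopen : OpenSlices.{u}) : Main.{u} := by
  refine main_of_slices fun G _ _ Ω _ D hc hf htop IH => ?_
  have hp := hc.proved hf IH
  obtain ⟨hexc, hnp, hend⟩ := hopen G Ω D hc hf htop IH hp
  have hmod := hc.modelExists hf IH hnp
  obtain ⟨h2, h3⟩ := hend hmod
  exact ⟨hp.translations, hexc, hmod,
    hc.endGame_one hf htop IH hp.dichotomy hp.formula hp.orbitBound hp.suzukiBound hp.torusCent hyperplaneProduct
      extremalTransfer, h2, h3⟩

end CfsgLib.AschCrit
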