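import Cfsg.Agent.Lib.TwoGroups.CyclicNormalAbelian
import Cfsg.Agent.Lib.Transfer.NormalAbelian
import Cfsg.Agent.Lib.Core.Nilpotent
import Cfsg.Agent.Lib.PGroups.Basic

/-!
Owner: helper7. Aschbacher's criterion, rank one: the 2-group argument.

`B` is the set of members in a Sylow 2-subgroup `P`, `U` the set of multis, `z` the central member.

* `Pair.exists_good`: a subgroup of index two free of multis, or one meeting `B` only in `z`.
* `Pair.sq_eq`: in the second case a member which is a square is `z`.
* `Pair.exists_free`: if moreover no element centralising a member `e ≠ z` squares to `z`, some subgroup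
  of index two is free of multis.
-/

set_option autoImplicit false

namespace CfsgLib.AschCrit.RankOneBranch

open Subgroup

variable {P : Type*} [Group P]

/-- Members `B` and multis `U` in a 2-group with central member `z`: a multi centralises only `z`. -/
structure Pair (B U : Set P) (z : P) : Prop where
  pgroup : IsPGroup 2 P
  cases : ∀ x : P, x * x = 1 → x ≠ 1 → x ∈ B ∨ x ∈ U
  sqB : ∀ x ∈ B, x * x = 1 ∧ x ≠ 1
  sqU : ∀ x ∈ U, x * x = 1 ∧ x ≠ 1
  conjB : ∀ x ∈ B, ∀ g : P, g * x * g⁻¹ ∈ B
  central : ∀ g : P, Commute z g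
  single : ∀ v ∈ U, ∀ f ∈ B, Commute v f → f = z
  memz : z ∈ B
  existsB : ∃ e ∈ B, e ≠ z
  existsU : ∃ u : P, u ∈ U

variable [Finite P]

namespace Pair

variable {B U : Set P} {z : P}

theorem normal_elementary_or_index_two_cyclic (h : Pair B U z) :
    (∃ V : Subgroup P, V.Normal ∧ Nat.card V = 4 ∧ (∀ v ∈ V, v * v = 1) ∧
      (centralizer (V : Set P)).index ≤ 2) ∨
    ∃ a : P, (zpowers a).index = 2 ∧ ¬ IsMulCommutative (⊤ : Subgroup P) := by
  haveI := Fact.mk Nat.prime_two
  obtain ⟨e, heB, hez⟩ := h.existsB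
  by_cases hn : ∀ A : Subgroup P, A.Normal → IsMulCommutative A → IsCyclic A
  · have hm : ∃ C : Subgroup P, IsMulCommutative C ∧ ¬ IsCyclic C := by
      refine ⟨closure {z, e}, Subgroup.isMulCommutative_closure ?_, ?_⟩
      · rintro x (rfl | rfl) y (rfl | rfl)
        exacts [rfl, (h.central _).eq, (h.central _).eq.symm, rfl]
      · intro hc
        haveI := Fintype.ofFinite (closure ({z, e} : Set P))
        classical
        have h3 : ({⟨1, one_mem _⟩, ⟨z, subset_closure (Set.mem_insert _ _)⟩,
            ⟨e, subset_closure (Set.mem_insert_of_mem _ rfl)⟩} :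
            Finset (closure ({z, e} : Set P))).card = 3 := by
          rw [Finset.card_insert_of_notMem, Finset.card_pair]
          · exact fun hh => hez (congrArg Subtype.val hh).symm
          · simp only [Finset.mem_insert, Finset.mem_singleton, not_or]
            exact ⟨fun hh => (h.sqB z h.memz).2 (congrArg Subtype.val hh).symm,
              fun hh => (h.sqB e heB).2 (congrArg Subtype.val hh).symm⟩
        have h2 := IsCyclic.card_pow_eq_one_le (α := closure ({z, e} : Set P)) (n := 2) two_pos
        have : ({⟨1, one_mem _⟩, ⟨z, subset_closure (Set.mem_insert _ _)⟩,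
            ⟨e, subset_closure (Set.mem_insert_of_mem _ rfl)⟩} :
            Finset (closure ({z, e} : Set P))) ⊆ Finset.univ.filter (fun x => x ^ 2 = 1) := by
          intro x hx
          simp only [Finset.mem_insert, Finset.mem_singleton] at hx
          refine Finset.mem_filter.2 ⟨Finset.mem_univ _, Subtype.ext ?_⟩
          rcases hx with rfl | rfl | rfl
          · simp
          · simpa [pow_two] using (h.sqB z h.memz).1
          · simpa [pow_two] using (h.sqB e heB).1
        have := Finset.card_le_card this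
        omega
    have hnab : ¬ IsMulCommutative (⊤ : Subgroup P) := by
      intro ht
      haveI := hn ⊤ inferInstance ht
      obtain ⟨C, -, hC⟩ := hm
      exact hC ((Subgroup.isCyclic_iff_exists_zpowers_eq_top C).2 (by
        haveI : IsCyclic P := isCyclic_of_surjective (topEquiv : (⊤ : Subgroup P) ≃* P).toMonoidHom
          topEquiv.surjective
        exact (Subgroup.isCyclic_iff_exists_zpowers_eq_top C).1 inferInstance))
    refine Or.inr ?_
    suffices ∃ a : P, 2 * orderOf a = Nat.card P by
      obtain ⟨a, ha⟩ := this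
      refine ⟨a, ?_, hnab⟩
      have := (zpowers a).card_mul_index
      rw [Nat.card_zpowers, ← ha, mul_comm 2] at this
      exact Nat.eq_of_mul_eq_mul_left (orderOf_pos a) this
    obtain ⟨-, ⟨n, ⟨φ⟩⟩ | ⟨n, hn8, ⟨φ⟩⟩ | ⟨n, -, hcard, a, y, ha, -, -⟩⟩ :=
      CfsgLib.TwoGroups.CycNA.classification 2 h.pgroup hn hm
    · haveI : Finite (QuaternionGroup n) := Finite.of_equiv P φ.toEquiv
      haveI : NeZero n := ⟨by
        rintro rfl
        haveI : Finite (ZMod (2 * 0)) := Finite.of_injective (fun i : ZMod (2 * 0) => QuaternionGroup.a i)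
          (fun i j hij => by simpa using hij)
        haveI : Finite ℤ := this
        exact not_finite ℤ⟩
      refine ⟨φ.symm (QuaternionGroup.a 1), ?_⟩
      rw [MulEquiv.orderOf_eq, QuaternionGroup.orderOf_a_one, Nat.card_congr φ.toEquiv,
        Nat.card_eq_fintype_card, QuaternionGroup.card]
      ring
    · haveI : NeZero n := ⟨by omega⟩
      refine ⟨φ.symm (DihedralGroup.r 1), ?_⟩
      rw [MulEquiv.orderOf_eq, DihedralGroup.orderOf_r_one, Nat.card_congr φ.toEquiv, DihedralGroup.nat_card]
    · exact ⟨a, by rw [hcard, ha, pow_succ, mul_comm]⟩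
  · push Not at hn
    obtain ⟨A, hAn, hAc, hA⟩ := hn
    haveI := hAn
    haveI := hAc
    obtain ⟨q, hq, E, hEA, hexp, hcard⟩ := CfsgLib.Core.exists_elementary_of_not_isCyclic A hA
    have hq2 : q = 2 := by
      have hne : E ≠ ⊥ := fun e0 => by
        rw [e0, card_bot] at hcard
        nlinarith [hq.two_le]
      obtain ⟨⟨x, hx⟩, hx1⟩ := ne_bot_iff_exists_ne_one.mp hne
      haveI := Fact.mk hq
      have hox : orderOf x = q := orderOf_eq_prime (hexp x hx) fun e0 => hx1 (Subtype.ext e0)
      obtain ⟨i, hi⟩ := IsPGroup.iff_orderOf.mp h.pgroup x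
      exact (Nat.prime_dvd_prime_iff_eq hq Nat.prime_two).1
        (hq.dvd_of_dvd_pow (n := i) (hi ▸ hox ▸ dvd_rfl))
    subst hq2
    let O : Subgroup P :=
      { carrier := {x | x ∈ A ∧ x * x = 1}
        one_mem' := ⟨one_mem _, one_mul 1⟩
        mul_mem' := fun {x y} hx hy => ⟨mul_mem hx.1 hy.1, by
          have hc : Commute x y := setLike_mul_comm hx.1 hy.1
          rw [← pow_two, hc.mul_pow, pow_two, pow_two, hx.2, hy.2, one_mul]⟩
        inv_mem' := fun {x} hx => ⟨inv_mem hx.1, by rw [← mul_inv_rev, hx.2, inv_one]⟩ }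
    haveI hOn : O.Normal := ⟨fun x hx g => ⟨hAn.conj_mem x hx.1 g, by
      rw [show g * x * g⁻¹ * (g * x * g⁻¹) = g * (x * x) * g⁻¹ by group, hx.2]; group⟩⟩
    have hEO : E ≤ O := fun x hx => ⟨hEA hx, by rw [← pow_two]; exact hexp x hx⟩
    obtain ⟨V, hVn, hVO, hVc, hVi⟩ :=
      CfsgLib.Transfer.exists_normal_card h.pgroup O 2 (hcard.trans (card_le_of_le hEO))
    exact Or.inl ⟨V, hVn, by simpa using hVc, fun v hv => (hVO hv).2, by simpa using hVi⟩

/-- A subgroup of index two without multis, or one containing no member but `z`. -/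
theorem exists_good (h : Pair B U z) :
    (∃ Q : Subgroup P, Q.index = 2 ∧ ∀ v ∈ Q, v ∉ U) ∨
      ∃ K : Subgroup P, K.index = 2 ∧ ∀ k ∈ K, k ∈ B → k = z := by
  obtain ⟨e, heB, hez⟩ := h.existsB
  obtain ⟨u, hu⟩ := h.existsU
  rcases h.normal_elementary_or_index_two_cyclic with ⟨V, hVn, hVc, hVsq, hVi⟩ | ⟨a, ha, hnab⟩
  · obtain ⟨w, hwV, hw1, hwz⟩ : ∃ w ∈ V, w ≠ 1 ∧ w ≠ z := by
      by_contra hno
      push Not at hno
      have hle : (V : Set P) ⊆ {1, z} := fun v hv => by
        rcases eq_or_ne v 1 with rfl | hv1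
        · exact Or.inl rfl
        · exact Or.inr (hno v hv hv1)
      have h2 := Set.ncard_le_ncard hle (Set.toFinite _)
      have h3 : ({1, z} : Set P).ncard ≤ 2 := (Set.ncard_insert_le _ _).trans (by simp)
      rw [← Nat.card_coe_set_eq] at h2
      have : Nat.card ((V : Set P)) = 4 := hVc
      omega
    have hcw : ∀ c ∈ centralizer (V : Set P), Commute w c := fun c hc => mem_centralizer_iff.1 hc w hwV
    have hi0 : (centralizer (V : Set P)).index ≠ 1 := fun e1 => by
      have hc := fun c => hcw c (Subgroup.index_eq_one.1 e1 ▸ mem_top c)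
      rcases h.cases w (hVsq w hwV) hw1 with hwB | hwU
      · exact hwz (h.single u hu w hwB (hc u).symm)
      · exact hez (h.single w hwU e heB (hc e))
    have hi : (centralizer (V : Set P)).index = 2 := by
      have := Subgroup.index_ne_zero_of_finite (H := centralizer (V : Set P))
      omega
    rcases h.cases w (hVsq w hwV) hw1 with hwB | hwU
    · exact Or.inl ⟨_, hi, fun v hv hvU => hwz (h.single v hvU w hwB (hcw v hv).symm)⟩
    · exact Or.inr ⟨_, hi, fun k hk hkB => h.single w hwU k hkB (hcw k hk)⟩
  · refine Or.inr ⟨_, ha, fun k hk hkB => ?_⟩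
    haveI := Subgroup.normal_of_index_eq_two ha
    refine h.single u hu k hkB (Commute.symm ?_)
    have hord : ∀ x : P, x * x = 1 → x ≠ 1 → orderOf x = 2 := fun x hx hx1 =>
      orderOf_eq_prime (by rw [pow_two, hx]) hx1
    have key : ∀ g : P, g * k * g⁻¹ = k := fun g => by
      classical
      haveI := Fintype.ofFinite (zpowers a)
      by_contra hne
      set k' : zpowers a := ⟨g * k * g⁻¹, Subgroup.Normal.conj_mem inferInstance k hk g⟩
      have h2 := IsCyclic.card_pow_eq_one_le (α := zpowers a) (n := 2) two_pos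
      have hsub : ({1, ⟨k, hk⟩, k'} : Finset (zpowers a)) ⊆ Finset.univ.filter (fun x => x ^ 2 = 1) := by
        intro x hx
        simp only [Finset.mem_insert, Finset.mem_singleton] at hx
        refine Finset.mem_filter.2 ⟨Finset.mem_univ _, Subtype.ext ?_⟩
        rcases hx with rfl | rfl | rfl
        · simp
        · simpa [pow_two] using (h.sqB k hkB).1
        · simpa [k', pow_two] using (h.sqB _ (h.conjB k hkB g)).1
      have h3 : ({1, ⟨k, hk⟩, k'} : Finset (zpowers a)).card = 3 := by
        rw [Finset.card_insert_of_notMem, Finset.card_pair]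
        · exact fun hh => hne (congrArg Subtype.val hh).symm
        · simp only [Finset.mem_insert, Finset.mem_singleton, not_or]
          exact ⟨fun hh => (h.sqB k hkB).2 (congrArg Subtype.val hh).symm,
            fun hh => (h.sqB _ (h.conjB k hkB g)).2 (congrArg Subtype.val hh).symm⟩
      have := Finset.card_le_card hsub
      omega
    calc k * u = u * k * u⁻¹ * u := by rw [key u]
      _ = u * k := by rw [inv_mul_cancel_right]

omit [Finite P] in
/-- With `K` as above a member which is a square is `z`. -/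
theorem sq_eq {K : Subgroup P} (hK : K.index = 2) (hKB : ∀ k ∈ K, k ∈ B → k = z) {y : P}
    (hy : y * y ∈ B) : y * y = z :=
  hKB _ (mul_self_mem_of_index_two hK y) hy

theorem centralizer_small (h : Pair B U z) {K : Subgroup P} (hK : K.index = 2)
    (hKB : ∀ k ∈ K, k ∈ B → k = z) {e : P} (heB : e ∈ B) (hez : e ≠ z)
    (hsq : ∀ y : P, Commute y e → y * y ≠ z) {x : P} (hxK : x ∈ K) (hxe : Commute x e) :
    x = 1 ∨ x = z := by
  haveI := Fact.mk Nat.prime_two
  have hinv : ∀ w ∈ K, Commute w e → w * w = 1 → w ≠ 1 → w = z := fun w hwK hwe hw hw1 => by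
    rcases h.cases w hw hw1 with hwB | hwU
    · exact hKB w hwK hwB
    · exact absurd (h.single w hwU e heB hwe) hez
  obtain ⟨n, hn⟩ := IsPGroup.iff_orderOf.1 h.pgroup x
  rcases n with _ | _ | m
  · exact Or.inl (orderOf_eq_one_iff.1 (by simpa using hn))
  · refine Or.inr (hinv x hxK hxe ?_ fun e1 => by simp [e1] at hn)
    rw [← pow_two]
    exact orderOf_dvd_iff_pow_eq_one.1 (by rw [hn]; norm_num)
  · exfalso
    set y := x ^ 2 ^ m with hy
    have ho : orderOf (y * y) = 2 := by
      rw [hy, ← pow_add, orderOf_pow' x (by positivity), hn]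
      have : 2 ^ m + 2 ^ m = 2 ^ (m + 1) := by ring
      rw [this, Nat.gcd_eq_right (pow_dvd_pow 2 (by omega)), Nat.pow_div (by omega) two_pos]
      simp
    refine hsq y (hxe.pow_left _) (hinv _ (mul_mem (pow_mem hxK _) (pow_mem hxK _))
      ((hxe.pow_left _).mul_left (hxe.pow_left _)) ?_ fun e1 => by simp [e1] at ho)
    rw [← pow_two, ← ho, pow_orderOf_eq_one]

/-- If no element centralising `e` squares to `z`, a subgroup of index two is free of multis. -/
theorem exists_free (h : Pair B U z) {K : Subgroup P} (hK : K.index = 2)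
    (hKB : ∀ k ∈ K, k ∈ B → k = z) {e : P} (heB : e ∈ B) (hez : e ≠ z)
    (hsq : ∀ y : P, Commute y e → y * y ≠ z) :
    ∃ Q : Subgroup P, Q.index = 2 ∧ ∀ v ∈ Q, v ∉ U := by
  classical
  haveI := Fact.mk Nat.prime_two
  haveI := Fintype.ofFinite P
  haveI := Subgroup.normal_of_index_eq_two hK
  obtain ⟨he2, he1⟩ := h.sqB e heB
  have heK : e ∉ K := fun hh => hez (hKB e hh heB)
  have hC : ∀ x : P, Commute x e → x ∈ ({1, z, e, z * e} : Finset P) := by
    intro x hx
    simp only [Finset.mem_insert, Finset.mem_singleton]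
    by_cases hxK : x ∈ K
    · rcases h.centralizer_small hK hKB heB hez hsq hxK hx with rfl | rfl <;> simp
    · have hxe : x * e ∈ K := (mul_mem_iff_of_index_two hK).2 (iff_of_false hxK heK)
      have e2 : x = x * e * e := by rw [mul_assoc, he2, mul_one]
      rcases h.centralizer_small hK hKB heB hez hsq hxe (hx.mul_left (Commute.refl e)) with h1 | h1
      · rw [h1, one_mul] at e2
        simp [e2]
      · rw [h1] at e2
        simp [e2]
  obtain hbot | ⟨M, hM, hle⟩ := eq_top_or_exists_le_coatom (zpowers e)
  · exfalso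
    have h2 : Nat.card P = 2 := by
      rw [← card_top (G := P), ← hbot, Nat.card_zpowers, orderOf_eq_prime (by rw [pow_two, he2]) he1]
    have h3 : ({1, z, e} : Finset P).card = 3 := by
      rw [Finset.card_insert_of_notMem, Finset.card_pair hez.symm]
      simp only [Finset.mem_insert, Finset.mem_singleton, not_or]
      exact ⟨fun hh => (h.sqB z h.memz).2 hh.symm, fun hh => he1 hh.symm⟩
    have := Finset.card_le_univ ({1, z, e} : Finset P)
    rw [Nat.card_eq_fintype_card] at h2
    omega
  have hMi : M.index = 2 := CfsgLib.PGroups.index_of_isCoatom h.pgroup hM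
  haveI := Subgroup.normal_of_index_eq_two hMi
  have heM : e ∈ M := hle (mem_zpowers e)
  -- the part of `M` outside `K` is the class of `e`
  set A : Finset P := Finset.univ.filter (fun x => x ∈ M ∧ x ∉ K) with hA
  set A' : Finset P := Finset.univ.filter (fun x => x ∈ M ∧ x ∈ K) with hA'
  have hAA : A.card = A'.card := by
    refine Finset.card_bij' (fun x _ => e * x) (fun x _ => e * x) ?_ ?_ ?_ ?_
    · intro x hx
      simp only [hA, hA', Finset.mem_filter, Finset.mem_univ, true_and] at hx ⊢
      exact ⟨mul_mem heM hx.1, (mul_mem_iff_of_index_two hK).2 (iff_of_false heK hx.2)⟩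
    · intro x hx
      simp only [hA, hA', Finset.mem_filter, Finset.mem_univ, true_and] at hx ⊢
      exact ⟨mul_mem heM hx.1, fun hh => heK (((mul_mem_iff_of_index_two hK).1 hh).2 hx.2)⟩
    · intro x _
      simp only [← mul_assoc, he2, one_mul]
    · intro x _
      simp only [← mul_assoc, he2, one_mul]
  have hM2 : A.card + A'.card = Nat.card M := by
    rw [hA, hA', ← Finset.filter_filter, ← Finset.filter_filter, add_comm,
      Finset.card_filter_add_card_filter_not, Nat.card_eq_fintype_card, Fintype.card_subtype]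
  have h4 : 4 * A.card = Fintype.card P := by
    have := M.card_mul_index
    rw [hMi, ← Nat.card_eq_fintype_card (α := P)] at *
    omega
  set f : P → P := fun g => g * e * g⁻¹ with hf
  have hsub : Finset.univ.image f ⊆ A := by
    intro x hx
    obtain ⟨g, -, rfl⟩ := Finset.mem_image.1 hx
    simp only [hA, Finset.mem_filter, Finset.mem_univ, true_and, hf]
    refine ⟨Subgroup.Normal.conj_mem inferInstance e heM g, fun hh => heK ?_⟩
    have := Subgroup.Normal.conj_mem (H := K) inferInstance _ hh g⁻¹
    simpa [mul_assoc] using this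
  have hfib : Fintype.card P ≤ 4 * (Finset.univ.image f).card := by
    refine Finset.card_le_mul_card_image Finset.univ 4 fun b hb => ?_
    obtain ⟨g, -, rfl⟩ := Finset.mem_image.1 hb
    refine le_trans (Finset.card_le_card (t := ({1, z, e, z * e} : Finset P).image (g * ·)) ?_)
      (le_trans Finset.card_image_le Finset.card_le_four)
    intro x hx
    simp only [Finset.mem_filter, Finset.mem_univ, true_and, hf] at hx
    refine Finset.mem_image.2 ⟨g⁻¹ * x, hC _ ?_, by group⟩
    show g⁻¹ * x * e = e * (g⁻¹ * x)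
    calc g⁻¹ * x * e = g⁻¹ * (x * e * x⁻¹) * x := by group
      _ = g⁻¹ * (g * e * g⁻¹) * x := by rw [hx]
      _ = _ := by group
  have heq : Finset.univ.image f = A := Finset.eq_of_subset_of_card_le hsub (by omega)
  have hmem : ∀ x ∈ M, x ∉ K → x ∈ B := fun x hxM hxK => by
    have : x ∈ Finset.univ.image f := by rw [heq]; simp [hA, hxM, hxK]
    obtain ⟨g, -, rfl⟩ := Finset.mem_image.1 this
    exact h.conjB e heB g
  refine ⟨M, hMi, fun v hvM hvU => ?_⟩
  obtain ⟨hv2, -⟩ := h.sqU v hvU
  by_cases hvK : v ∈ K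
  · have hev := hmem (e * v) (mul_mem heM hvM) fun hh =>
      heK (((mul_mem_iff_of_index_two hK).1 hh).2 hvK)
    refine hez (h.single v hvU e heB ?_)
    have h1 := inv_eq_of_mul_eq_one_right (h.sqB _ hev).1
    rw [mul_inv_rev, inv_eq_of_mul_eq_one_right he2, inv_eq_of_mul_eq_one_right hv2] at h1
    exact h1
  · have := h.single v hvU v (hmem v hvM hvK) (Commute.refl v)
    exact hez (h.single z (this ▸ hvU) e heB (h.central e))

end Pair

end CfsgLib.AschCrit.RankOneBranch
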