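import Mathlib.GroupTheory.GroupAction.Blocks
import Mathlib.GroupTheory.Sylow
import Mathlib.GroupTheory.SpecificGroups.Cyclic

/-!
Owner: helper11. Aschbacher's criterion (S1175): the setting and the interface of the slices.
See `notes/aschbacher_endgame_helper11.md`.

`G` acts transitively on `Ω`, `D` is a class of involutions, each fixing exactly one point, one of them
central in a Sylow 2-subgroup, and the product of two commuting members is centralised only inside the
stabiliser of their point.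
-/

set_option autoImplicit false

namespace CfsgLib.AschCrit

variable {G : Type*} [Group G] (Ω : Type*) [MulAction G Ω]

/-- The hypotheses of the criterion. -/
structure Crit (D : Set G) : Prop where
  trans : ∀ x y : Ω, ∃ g : G, g • x = y
  exists_ne : ∀ x : Ω, ∃ y : Ω, y ≠ x
  inv : ∀ d ∈ D, orderOf d = 2
  conj : ∀ d ∈ D, ∀ g : G, g * d * g⁻¹ ∈ D
  one_class : ∀ d ∈ D, ∀ e ∈ D, ∃ g : G, g * d * g⁻¹ = e
  fix_exists : ∀ d ∈ D, ∃ x : Ω, d • x = x
  fix_unique : ∀ d ∈ D, ∀ x y : Ω, d • x = x → d • y = y → x = y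
  central : ∃ d ∈ D, ∃ S : Sylow 2 G, d ∈ (S : Subgroup G) ∧ ∀ s ∈ (S : Subgroup G), Commute d s
  cent : ∀ d ∈ D, ∀ e ∈ D, d ≠ e → Commute d e → ∀ g : G, Commute g (d * e) →
    ∀ x : Ω, d • x = x → g • x = x

/-- Only the identity fixes all points. -/
def Faithful (G : Type*) [Group G] (Ω : Type*) [MulAction G Ω] : Prop :=
  ∀ g : G, (∀ x : Ω, g • x = x) → g = 1

/-- An involution fixing two points. -/
def IsMulti (u : G) : Prop :=
  orderOf u = 2 ∧ ∃ x y : Ω, x ≠ y ∧ u • x = x ∧ u • y = y

/-- The members of `D` at a point. -/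
def mems {Ω : Type*} [MulAction G Ω] (D : Set G) (x : Ω) : Set G := {d | d ∈ D ∧ d • x = x}

/-- The members of `D` at a point centralising `u`. -/
def memsC {Ω : Type*} [MulAction G Ω] (D : Set G) (u : G) (x : Ω) : Set G :=
  {d | d ∈ D ∧ d • x = x ∧ Commute d u}

/-! ### Interface of slice A (used as hypotheses by the other slices) -/

/-- Two members with a product of even order have the same point. -/
def EvenSame (D : Set G) : Prop :=
  ∀ d ∈ D, ∀ e ∈ D, Even (orderOf (d * e)) → ∀ x : Ω, d • x = x → e • x = x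

/-- An involution which is not a member and has a fixed point is a multi. -/
def SingleMem (D : Set G) : Prop :=
  ∀ t : G, orderOf t = 2 → (∃ x : Ω, t • x = x) → t ∉ D → IsMulti Ω t

/-- The product of a multi and a member commuting with it is a multi. -/
def MulMulti (D : Set G) : Prop :=
  ∀ u : G, IsMulti Ω u → ∀ d ∈ D, Commute u d → IsMulti Ω (u * d)

/-- The product of two different commuting members is a member. -/
def CommMul (D : Set G) : Prop :=
  ∀ d ∈ D, ∀ e ∈ D, d ≠ e → Commute d e → d * e ∈ D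

/-! ### Interface of slice C -/

/-- The members whose point a multi moves are paired with `(d', e)`, `d'` commuting with `u` and `e` with `u * d'`,
at another point: `k (n - f) = ∑ (f_v - 1) k_v`. -/
def MovedCount (D : Set G) : Prop :=
  ∀ u : G, IsMulti Ω u →
    Nat.card {d : G // d ∈ D ∧ ∀ x : Ω, d • x = x → u • x ≠ x} =
      Nat.card {p : G × G // (p.1 ∈ D ∧ Commute p.1 u) ∧ (p.2 ∈ D ∧ Commute p.2 (u * p.1)) ∧
        ∀ x : Ω, p.1 • x = x → p.2 • x ≠ x}

/-- The members at a fixed point of a multi: `k = k_u c + #{4 ∣ o(u x)}`. -/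
def FixedCount (D : Set G) : Prop :=
  ∀ (u : G) (a : Ω), IsMulti Ω u → u • a = a →
    Nat.card (mems D a) =
      Nat.card {x : G // x ∈ mems D a ∧ 4 ∣ orderOf (u * x)} +
      Nat.card {p : G × G // p.1 ∈ memsC D u a ∧ p.2 ∈ memsC D (u * p.1) a ∧ Odd (orderOf (p.2 * p.1))}

/-- The congruence `k = -1` modulo an elementary group of members without a non-commuting pair. -/
def MemCongr (D : Set G) : Prop :=
  ∀ (a : Ω) (E : Subgroup G), (∀ e ∈ E, e ≠ 1 → e ∈ mems D a) →
    (∀ e ∈ E, ∀ f ∈ E, Commute e f) →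
    (∀ d ∈ mems D a, ∀ e ∈ E, d * e * d⁻¹ * e⁻¹ ∈ E → Commute (d * e * d⁻¹ * e⁻¹) d → Commute d e) →
    Nat.card E ∣ Nat.card (mems D a) + 1

end CfsgLib.AschCrit
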