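import Cfsg.Agent.Lib.Invol.AschCrit.CentMulti
import Mathlib.GroupTheory.GroupAction.Quotient
import Mathlib.GroupTheory.Subgroup.Simple

/-!
Owner: helper8. Aschbacher's criterion: the hypotheses of S1175 give the setting.
-/

set_option autoImplicit false

namespace CfsgLib.AschCrit

universe u

/-- The statement to prove: the criterion rules out multis. -/
def Main : Prop :=
  ∀ (G : Type u) [Group G] [Finite G] (Ω : Type u) [MulAction G Ω] (D : Set G),
    Crit Ω D → Faithful G Ω → Subgroup.closure D = ⊤ → NoMulti G Ω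

/-- In a simple group the subgroup of the criterion is itself strongly embedded. -/
theorem stronglyEmbedded_of_main (hmain : Main.{u}) {G : Type u} [Group G] [Finite G] [IsSimpleGroup G]
    (M : Subgroup G) (hM : M ≠ ⊤) (z : G) (hz : orderOf z = 2) (hzM : z ∈ M)
    (h1 : ∃ S : Sylow 2 G, z ∈ S ∧ ∀ s ∈ S, Commute s z) (h2 : ∀ g : G, g * z * g⁻¹ ∈ M → g ∈ M)
    (h3 : ∀ g : G, Commute z (g * z * g⁻¹) → g * z * g⁻¹ ≠ z →
      Subgroup.centralizer ({z * (g * z * g⁻¹)} : Set G) ≤ M) :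
    Cfsg.IsStronglyEmbedded M := by
  classical
  set D : Set G := {d | ∃ g : G, g * z * g⁻¹ = d} with hD
  have hfix : ∀ g x : G, (g * z * g⁻¹) • (x : G ⧸ M) = (x : G ⧸ M) ↔ (g : G ⧸ M) = (x : G ⧸ M) := by
    intro g x
    rw [MulAction.Quotient.smul_coe, smul_eq_mul, QuotientGroup.eq, QuotientGroup.eq]
    constructor
    · intro h
      have h' : (x⁻¹ * g) * z * (x⁻¹ * g)⁻¹ ∈ M := by
        have := inv_mem h
        simpa [mul_assoc] using this
      have h4 := inv_mem (h2 _ h')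
      simpa using h4
    · intro h
      have h' := mul_mem (mul_mem (inv_mem h) (inv_mem hzM)) h
      simpa [mul_assoc] using h'
  have hne : ∃ g : G, g ∉ M := by
    by_contra hno
    push Not at hno
    exact hM (eq_top_iff.mpr fun g _ => hno g)
  have hnr : ∀ N : Subgroup G, N.Normal → N ≤ M → N = ⊥ := fun N hN hle =>
    (IsSimpleGroup.eq_bot_or_eq_top_of_normal N hN).resolve_right fun e =>
      hM (top_le_iff.mp (e ▸ hle))
  have hc : Crit (G ⧸ M) D := by
    refine
      { trans := fun x y => MulAction.exists_smul_eq G x y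
        exists_ne := fun x => ?_
        inv := ?_
        conj := ?_
        one_class := ?_
        fix_exists := ?_
        fix_unique := ?_
        central := ?_
        cent := ?_ }
    · obtain ⟨a, rfl⟩ := QuotientGroup.mk_surjective x
      obtain ⟨g, hg⟩ := hne
      exact ⟨((a * g : G) : G ⧸ M), fun e => hg (by simpa using QuotientGroup.eq.mp e.symm)⟩
    · rintro d ⟨g, rfl⟩
      rw [← hz]
      exact (MulAut.conj g).orderOf_eq z
    · rintro d ⟨g, rfl⟩ x
      exact ⟨x * g, by group⟩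
    · rintro d ⟨g, rfl⟩ e ⟨g', rfl⟩
      exact ⟨g' * g⁻¹, by group⟩
    · rintro d ⟨g, rfl⟩
      exact ⟨_, (hfix g g).mpr rfl⟩
    · rintro d ⟨g, rfl⟩ x y hx hy
      obtain ⟨a, rfl⟩ := QuotientGroup.mk_surjective x
      obtain ⟨b, rfl⟩ := QuotientGroup.mk_surjective y
      exact ((hfix g a).mp hx).symm.trans ((hfix g b).mp hy)
    · obtain ⟨S, hzS, hS⟩ := h1
      exact ⟨z, ⟨1, by simp⟩, S, hzS, fun s hs => (hS s hs).symm⟩
    · rintro d ⟨g, rfl⟩ e ⟨g', rfl⟩ hne' hc c hcc x hx
      obtain ⟨a, rfl⟩ := QuotientGroup.mk_surjective x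
      rw [← (hfix g a).mp hx]
      have e1 : (g⁻¹ * g') * z * (g⁻¹ * g')⁻¹ = g⁻¹ * (g' * z * g'⁻¹) * g := by group
      have hc' : Commute z ((g⁻¹ * g') * z * (g⁻¹ * g')⁻¹) := by
        rw [e1]
        show z * (g⁻¹ * (g' * z * g'⁻¹) * g) = g⁻¹ * (g' * z * g'⁻¹) * g * z
        calc z * (g⁻¹ * (g' * z * g'⁻¹) * g)
            = g⁻¹ * ((g * z * g⁻¹) * (g' * z * g'⁻¹)) * g := by group
          _ = g⁻¹ * ((g' * z * g'⁻¹) * (g * z * g⁻¹)) * g := by rw [hc.eq]
          _ = _ := by group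
      have hn : (g⁻¹ * g') * z * (g⁻¹ * g')⁻¹ ≠ z := fun e => hne' (by
        calc g * z * g⁻¹ = g * ((g⁻¹ * g') * z * (g⁻¹ * g')⁻¹) * g⁻¹ := by rw [e]
          _ = g' * z * g'⁻¹ := by group)
      have hmem := h3 _ hc' hn (x := g⁻¹ * c * g) (Subgroup.mem_centralizer_singleton_iff.mpr (by
        rw [e1]
        calc g⁻¹ * c * g * (z * (g⁻¹ * (g' * z * g'⁻¹) * g))
            = g⁻¹ * (c * ((g * z * g⁻¹) * (g' * z * g'⁻¹))) * g := by group
          _ = g⁻¹ * ((g * z * g⁻¹) * (g' * z * g'⁻¹) * c) * g := by rw [hcc.eq]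
          _ = _ := by group))
      rw [MulAction.Quotient.smul_coe, smul_eq_mul, QuotientGroup.eq]
      have := inv_mem hmem
      simpa [mul_assoc] using this
  have hf : Faithful G (G ⧸ M) := by
    intro g hg
    have hcore : g ∈ M.normalCore := fun x => by
      have h4 := inv_mem (QuotientGroup.eq.mp (hg ((x⁻¹ : G) : G ⧸ M)))
      simpa [mul_assoc] using h4
    rw [hnr _ inferInstance (Subgroup.normalCore_le M), Subgroup.mem_bot] at hcore
    exact hcore
  have htop : Subgroup.closure D = ⊤ := by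
    have hnorm : (Subgroup.closure D).Normal := by
      refine ⟨fun x hx g => ?_⟩
      induction hx using Subgroup.closure_induction with
      | mem y hy =>
        obtain ⟨g', rfl⟩ := hy
        exact Subgroup.subset_closure ⟨g * g', by group⟩
      | one => simp
      | mul y y' _ _ h h' =>
        rw [show g * (y * y') * g⁻¹ = (g * y * g⁻¹) * (g * y' * g⁻¹) by group]
        exact mul_mem h h'
      | inv y _ h =>
        rw [show g * y⁻¹ * g⁻¹ = (g * y * g⁻¹)⁻¹ by group]
        exact inv_mem h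
    refine (IsSimpleGroup.eq_bot_or_eq_top_of_normal _ hnorm).resolve_left fun e => ?_
    have : z ∈ Subgroup.closure D := Subgroup.subset_closure ⟨1, by simp⟩
    rw [e, Subgroup.mem_bot] at this
    rw [this, orderOf_one] at hz
    omega
  have hse := hc.stronglyEmbedded (hmain G (G ⧸ M) D hc hf htop) ((1 : G) : G ⧸ M)
  rwa [MulAction.stabilizer_quotient] at hse

/-- S1175 from the main statement. -/
theorem criterion_of_main (hmain : Main.{u}) {G : Type u} [Group G] [Finite G] [IsSimpleGroup G]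
    (M : Subgroup G) (hM : M ≠ ⊤) (z : G) (hz : orderOf z = 2) (hzM : z ∈ M)
    (h1 : ∃ S : Sylow 2 G, z ∈ S ∧ ∀ s ∈ S, Commute s z) (h2 : ∀ g : G, g * z * g⁻¹ ∈ M → g ∈ M)
    (h3 : ∀ g : G, Commute z (g * z * g⁻¹) → g * z * g⁻¹ ≠ z →
      Subgroup.centralizer ({z * (g * z * g⁻¹)} : Set G) ≤ M) :
    ∃ H : Subgroup G, Cfsg.IsStronglyEmbedded H :=
  ⟨M, stronglyEmbedded_of_main hmain M hM z hz hzM h1 h2 h3⟩

end CfsgLib.AschCrit
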